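import Groth.Agent.FF.RR

/-! Degree one places, steps of linear systems, Clifford, rationality, strong approximation. -/

set_option autoImplicit false
set_option linter.style.haveILetI false
set_option linter.unusedSectionVars false

open FunFld WithZero IntermediateField
open scoped Pointwise

namespace Groth.Agent.FF

variable {k K : Type*} [Field k] [Field K] [Algebra k K]

variable (hK : IsFunctionField k K)

include hK

lemma deg_eq_one [IsAlgClosed k] (P : Place k K) : P.deg = 1 := by
  haveI := finiteDimensional_residueField hK P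
  haveI : Algebra.IsIntegral k (IsLocalRing.ResidueField P.O) :=
    @Algebra.IsIntegral.of_finite k _ _ _ _ (finiteDimensional_residueField hK P)
  refine finrank_eq_one (1 : IsLocalRing.ResidueField P.O) one_ne_zero fun y => ?_
  obtain ⟨c, hc⟩ := (IsAlgClosed.algebraMap_bijective_of_isIntegral (k := k)).2 y
  exact ⟨c, by rw [← hc, Algebra.algebraMap_eq_smul_one]; rfl⟩

/-- Removing a place lowers `ℓ` by at most its degree. -/
lemma ell_sub_single_le (D : Divisor k K) (P : Place k K) :
    ell (D - Finsupp.single P 1) ≤ ell D ∧ ell D ≤ ell (D - Finsupp.single P 1) + P.deg := by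
  obtain ⟨h1, h2, -⟩ := relDim_L_ell hK (D₁ := D - Finsupp.single P 1) (D₂ := D)
    (sub_le_self _ (Finsupp.single_nonneg.2 zero_le_one))
  refine ⟨h1, ?_⟩
  rw [deg_sub, deg_single] at h2
  omega

omit hK in
lemma mem_L_sub_single {D : Divisor k K} {P : Place k K} {n : ℤ} {x : K} (hn : 0 ≤ n) :
    x ∈ L (D - Finsupp.single P n) ↔ x ∈ L D ∧ P.1 x ≤ exp (D P - n) := by
  classical
  refine ⟨fun h => ⟨L_mono (sub_le_self _ (Finsupp.single_nonneg.2 hn)) h, ?_⟩, fun h Q => ?_⟩
  · simpa using h P
  · rw [Finsupp.sub_apply, Finsupp.single_apply]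
    split_ifs with e
    · subst e; exact h.2
    · simpa using h.1 Q

lemma ell_lt_iff_exists (D : Divisor k K) (P : Place k K) :
    ell (D - Finsupp.single P 1) < ell D ↔ ∃ x : K, x ∈ L D ∧ P.1 x = exp (D P) := by
  haveI := finiteDimensional_L hK D
  have hle : L (D - Finsupp.single P 1) ≤ L D :=
    L_mono (sub_le_self _ (Finsupp.single_nonneg.2 zero_le_one))
  constructor
  · intro h
    obtain ⟨x, hx, hx'⟩ : ∃ x ∈ L D, x ∉ L (D - Finsupp.single P 1) := by
      by_contra! hc
      have : L (D - Finsupp.single P 1) = L D := le_antisymm hle hc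
      simp only [ell] at h
      rw [this] at h
      exact lt_irrefl _ h
    refine ⟨x, hx, le_antisymm (hx P) (not_lt.1 fun hlt => hx' ?_)⟩
    exact (mem_L_sub_single zero_le_one).2 ⟨hx, (lt_exp_iff _ _).1 hlt⟩
  · rintro ⟨x, hx, hxP⟩
    refine Submodule.finrank_lt_finrank_of_lt (lt_of_le_of_ne hle fun e => ?_)
    rw [← e] at hx
    have h1 := ((mem_L_sub_single zero_le_one).1 hx).2
    rw [hxP, exp_le_exp] at h1
    omega

/-- Number of jumps. -/
lemma card_jumps {P : Place k K} (hP : P.deg = 1) (D : Divisor k K) (n : ℕ) :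
    (((Finset.range n).filter fun j : ℕ =>
      ell (D - Finsupp.single P ((j : ℤ) + 1)) < ell (D - Finsupp.single P (j : ℤ))).card : ℤ) =
      ell D - ell (D - Finsupp.single P (n : ℤ)) := by
  induction n with
  | zero => simp
  | succ n ih =>
    have h := ell_sub_single_le hK (D - Finsupp.single P (n : ℤ)) P
    have e : D - Finsupp.single P (n : ℤ) - Finsupp.single P 1 =
        D - Finsupp.single P ((n : ℤ) + 1) := by rw [Finsupp.single_add]; abel
    rw [e, hP] at h
    rw [Finset.range_add_one, Finset.filter_insert]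
    push_cast
    split_ifs with hj
    · rw [Finset.card_insert_of_notMem (by simp)]
      push_cast
      omega
    · omega

/-- `ℓ(A) + ℓ(B) ≤ ℓ(A + B) + 1` when both are nonzero and a place of degree one exists. -/
lemma ell_add_ell_le {P : Place k K} (hP : P.deg = 1) {A B : Divisor k K} (hA : 0 < ell A)
    (hB : 0 < ell B) : ell A + ell B ≤ ell (A + B) + 1 := by
  classical
  let J : Divisor k K → ℕ → Finset ℕ := fun D n => (Finset.range n).filter fun j : ℕ =>
      ell (D - Finsupp.single P ((j : ℤ) + 1)) < ell (D - Finsupp.single P (j : ℤ))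
  have hJ : ∀ (D : Divisor k K) (n : ℕ), D.deg < (n : ℤ) → (J D n).card = ell D := by
    intro D n hn
    have h := card_jumps hK hP D n
    rw [ell_eq_zero_of_deg_neg hK (D := D - Finsupp.single P (n : ℤ))
      (by rw [deg_sub, deg_single, hP]; push_cast; omega)] at h
    simp only [J]
    omega
  set a := A.deg.toNat + 1
  set b := B.deg.toNat + 1
  have hadd : J A a + J B b ⊆ J (A + B) (a + b) := by
    intro m hm
    obtain ⟨i, hi, j, hj, rfl⟩ := Finset.mem_add.1 hm
    simp only [J, Finset.mem_filter, Finset.mem_range] at hi hj ⊢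
    refine ⟨by omega, ?_⟩
    have key : ∀ (D : Divisor k K) (j : ℕ), D - Finsupp.single P ((j : ℤ) + 1) =
        D - Finsupp.single P (j : ℤ) - Finsupp.single P 1 := fun D j => by
      rw [Finsupp.single_add]; abel
    rw [key] at hi hj ⊢
    rw [ell_lt_iff_exists hK] at hi hj ⊢
    obtain ⟨x, hx, hx'⟩ := hi.2
    obtain ⟨y, hy, hy'⟩ := hj.2
    refine ⟨x * y, fun Q => ?_, ?_⟩
    · rw [map_mul]
      refine (mul_le_mul' (hx Q) (hy Q)).trans_eq ?_
      rw [← exp_add]; congr 1
      simp only [Finsupp.sub_apply, Finsupp.add_apply, Finsupp.single_apply]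
      split_ifs <;> push_cast <;> ring
    · rw [map_mul, hx', hy', ← exp_add]; congr 1
      simp only [Finsupp.sub_apply, Finsupp.add_apply, Finsupp.single_eq_same]
      push_cast; ring
  have h1 := hJ A a (by omega)
  have h2 := hJ B b (by omega)
  have h3 := hJ (A + B) (a + b) (by rw [deg_add]; omega)
  have h4 := Finset.card_le_card hadd
  have h5 := cauchy_davenport_add_of_linearOrder_isCancelAdd (s := J A a) (t := J B b)
    (Finset.card_pos.1 (by omega)) (Finset.card_pos.1 (by omega))
  omega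

/-- Clifford. -/
lemma clifford {P : Place k K} (hP : P.deg = 1) {D : Divisor k K}
    (h0 : 0 ≤ D.deg) (h : D.deg ≤ 2 * (genus k K : ℤ)) : 2 * (ell D : ℤ) ≤ D.deg + 2 := by
  obtain ⟨C, hC⟩ := exists_canonical hK
  have hrr := riemann_roch hK hC D
  rcases Nat.eq_zero_or_pos (ell D) with h1 | h1
  · rw [h1]; push_cast; omega
  rcases Nat.eq_zero_or_pos (ell (C - D)) with h2 | h2
  · rw [h2] at hrr; push_cast at hrr; omega
  have h3 := ell_add_ell_le hK hP h1 h2
  rw [add_sub_cancel, ell_canonical hK hC] at h3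
  omega

lemma eq_top_of_finrank_eq_one {x : K} (h : Module.finrank k⟮x⟯ K = 1) :
    k⟮x⟯ = (⊤ : IntermediateField k K) := by
  refine eq_top_iff.2 fun y _ => ?_
  obtain ⟨c, hc⟩ := (finrank_eq_one_iff_of_nonzero' (1 : K) one_ne_zero).1 h y
  rw [← hc, IntermediateField.smul_def, smul_eq_mul, mul_one]
  exact c.2

omit hK in
lemma finrank_top_eq_one {x : K} (h : k⟮x⟯ = (⊤ : IntermediateField k K)) :
    Module.finrank k⟮x⟯ K = 1 := by
  refine finrank_eq_one (1 : K) one_ne_zero fun y => ⟨⟨y, by rw [h]; trivial⟩, ?_⟩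
  rw [IntermediateField.smul_def, smul_eq_mul, mul_one]

lemma transcendental_of_adjoin_eq_top {x : K} (h : k⟮x⟯ = (⊤ : IntermediateField k K)) :
    Transcendental k x := by
  refine transcendental_of_notMem hK fun ⟨c, hc⟩ => ?_
  obtain ⟨y, hy⟩ := exists_transcendental hK.1
  have hb : k⟮x⟯ = ⊥ := by
    rw [← hc]; exact adjoin_simple_eq_bot_iff.2 (IntermediateField.algebraMap_mem _ c)
  have hy' : y ∈ (⊥ : IntermediateField k K) := by rw [← hb, h]; trivial
  obtain ⟨d, rfl⟩ := IntermediateField.mem_bot.1 hy'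
  exact hy (isAlgebraic_algebraMap d)

lemma finrank_adjoin_eq_neg_ord_mul {x : K} (hx : Transcendental k x) {P : Place k K}
    (hP : P.ord x < 0) (h : ∀ Q : Place k K, Q ≠ P → 0 ≤ Q.ord x) :
    (Module.finrank k⟮x⟯ K : ℤ) = -(P.ord x) * P.deg := by
  classical
  have hx' : Transcendental k x⁻¹ := fun e => hx (by simpa using e.inv)
  have he : k⟮x⁻¹⟯ = k⟮x⟯ := by
    apply le_antisymm <;> rw [adjoin_simple_le_iff]
    · exact inv_mem (mem_adjoin_simple_self k x)
    · have := inv_mem (mem_adjoin_simple_self k x⁻¹)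
      rwa [inv_inv] at this
  have hz := deg_zeroDiv hK hx'
  rw [he] at hz
  have hd : zeroDiv (k := k) x⁻¹ = Finsupp.single P (-(P.ord x)) := by
    ext Q
    simp only [zeroDiv, Finsupp.sup_apply, div_apply hK.1, ord_inv, Finsupp.coe_zero, Pi.zero_apply,
      Finsupp.single_apply]
    split_ifs with e
    · subst e; omega
    · have := h Q (Ne.symm e); omega
  rw [← hz, hd, deg_single]

lemma genus_eq_zero_of_simple_pole {x : K} {P : Place k K} (hdeg : P.deg = 1) (hP : P.ord x = -1)
    (h : ∀ Q : Place k K, Q ≠ P → 0 ≤ Q.ord x) : genus k K = 0 := by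
  classical
  have hx0 : x ≠ 0 := fun e => by simp [e] at hP
  have hxt : Transcendental k x := transcendental_of_notMem hK fun ⟨c, hc⟩ => by
    rw [← hc, ord_const] at hP; omega
  obtain ⟨N, hN⟩ := riemann hK
  set l : ℕ := N.toNat
  set D : Divisor k K := Finsupp.single P (l : ℤ)
  have hmem : ∀ j : Fin (l + 1), x ^ (j : ℕ) ∈ L D := by
    intro j Q
    rw [val_le_exp_iff Q (pow_ne_zero _ hx0), ord_pow]
    simp only [D, Finsupp.single_apply]
    split_ifs with e
    · subst e; rw [hP]; omega
    · have := h Q (Ne.symm e)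
      have h2 : 0 ≤ ((j : ℕ) : ℤ) * Q.ord x := mul_nonneg (by omega) this
      omega
  have hli : LinearIndependent k fun j : Fin (l + 1) => x ^ (j : ℕ) := by
    rw [Fintype.linearIndependent_iff]
    intro g hg
    have h1 : (∑ j : Fin (l + 1), Polynomial.C (g j) * Polynomial.X ^ (j : ℕ)) = 0 := by
      by_contra hne
      exact hxt ⟨_, hne, by simpa [Algebra.smul_def] using hg⟩
    intro j
    have := congrArg (Polynomial.coeff · (j : ℕ)) h1
    simpa [Polynomial.coeff_X_pow, Fin.val_inj] using this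
  have hcard : l + 1 ≤ ell D := by
    haveI := finiteDimensional_L hK D
    have hli' : LinearIndependent k fun j : Fin (l + 1) => (⟨x ^ (j : ℕ), hmem j⟩ : L D) :=
      LinearIndependent.of_comp (L D).subtype hli
    simpa [ell] using hli'.fintype_card_le_finrank
  have hd : D.deg = l := by simp only [D, deg_single, hdeg]; push_cast; ring
  have := hN D (by rw [hd]; exact Int.self_le_toNat N)
  rw [spec, hd] at this
  omega

lemma rational_of_simple_pole {x : K} {P : Place k K} (hdeg : P.deg = 1) (hP : P.ord x = -1)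
    (h : ∀ Q : Place k K, Q ≠ P → 0 ≤ Q.ord x) : k⟮x⟯ = (⊤ : IntermediateField k K) := by
  have hxt : Transcendental k x := transcendental_of_notMem hK fun ⟨c, hc⟩ => by
    rw [← hc, ord_const] at hP; omega
  have := finrank_adjoin_eq_neg_ord_mul hK hxt (P := P) (by omega) h
  rw [hP, hdeg] at this
  exact eq_top_of_finrank_eq_one hK (by omega)

lemma exists_simple_pole_of_rational {x : K} (h : k⟮x⟯ = (⊤ : IntermediateField k K)) :
    ∃ P : Place k K, P.deg = 1 ∧ P.ord x = -1 ∧ ∀ Q : Place k K, Q ≠ P → 0 ≤ Q.ord x := by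
  classical
  have hxt := transcendental_of_adjoin_eq_top hK h
  have hx0 : x ≠ 0 := fun e => hxt (e ▸ isAlgebraic_zero)
  have hx' : Transcendental k x⁻¹ := fun e => hxt (by simpa using e.inv)
  obtain ⟨P, hP⟩ := exists_zero hK hx'
  have hPo : P.ord x ≤ -1 := by
    have := (val_lt_one_iff P (inv_ne_zero hx0)).1 hP
    rw [ord_inv] at this
    omega
  have he : k⟮x⁻¹⟯ = (⊤ : IntermediateField k K) := by
    refine eq_top_iff.2 ?_
    rw [← h, adjoin_simple_le_iff]
    have := inv_mem (mem_adjoin_simple_self k x⁻¹)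
    rwa [inv_inv] at this
  have hz := deg_zeroDiv hK hx'
  rw [finrank_top_eq_one he] at hz
  have hle : Finsupp.single P (-(P.ord x)) ≤ zeroDiv (k := k) x⁻¹ := by
    intro Q
    simp only [zeroDiv, Finsupp.sup_apply, div_apply hK.1, ord_inv, Finsupp.coe_zero, Pi.zero_apply,
      Finsupp.single_apply]
    split_ifs with e
    · subst e; omega
    · omega
  have hrest := sub_nonneg.2 hle
  have hd := deg_nonneg hrest
  rw [deg_sub, deg_single, hz] at hd
  have hdp := deg_pos hK P
  have h1 : (P.deg : ℤ) ≤ -(P.ord x) * P.deg := le_mul_of_one_le_left (by omega) (by omega)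
  have hP1 : P.deg = 1 := by omega
  rw [hP1] at hd h1
  refine ⟨P, hP1, by omega, fun Q hQ => ?_⟩
  by_contra hneg
  have hle2 : Finsupp.single Q 1 ≤ zeroDiv (k := k) x⁻¹ - Finsupp.single P (-(P.ord x)) := by
    intro R
    rw [Finsupp.single_apply]
    split_ifs with e
    · subst e
      simp only [zeroDiv, Finsupp.sub_apply, Finsupp.sup_apply, div_apply hK.1, ord_inv,
        Finsupp.coe_zero, Pi.zero_apply, Finsupp.single_eq_of_ne hQ]
      omega
    · exact hrest R
  have := deg_mono hle2
  rw [deg_sub, deg_single, deg_single, hz, hP1] at this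
  have := deg_pos hK Q
  omega

lemma genus_eq_zero_of_rational {x : K} (h : k⟮x⟯ = (⊤ : IntermediateField k K)) :
    genus k K = 0 := by
  obtain ⟨P, h1, h2, h3⟩ := exists_simple_pole_of_rational hK h
  exact genus_eq_zero_of_simple_pole hK h1 h2 h3

lemma exists_simple_pole_iff_ell {P : Place k K} (_hdeg : P.deg = 1) :
    (∃ x : K, P.ord x = -1 ∧ ∀ Q : Place k K, Q ≠ P → 0 ≤ Q.ord x) ↔
      1 < ell (Finsupp.single P 1) := by
  classical
  have h1 := ell_lt_iff_exists hK (Finsupp.single P 1) P
  rw [sub_self, ell_zero hK] at h1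
  rw [h1]
  refine exists_congr fun x => ⟨fun ⟨hx1, hx2⟩ => ?_, fun ⟨hx1, hx2⟩ => ?_⟩
  · have hx0 : x ≠ 0 := fun e => by simp [e] at hx1
    refine ⟨fun Q => ?_, by rw [val_eq_exp_ord P hx0, hx1, Finsupp.single_eq_same]; rfl⟩
    rw [val_le_exp_iff Q hx0, Finsupp.single_apply]
    split_ifs with e
    · subst e; omega
    · have := hx2 Q (Ne.symm e); omega
  · rw [Finsupp.single_eq_same] at hx2
    refine ⟨by rw [ord_of_val_eq P hx2], fun Q hQ => ?_⟩
    have := hx1 Q
    rw [Finsupp.single_eq_of_ne hQ, exp_zero, val_le_one_iff] at this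
    exact this

lemma ell_single_one (hg : 0 < genus k K) {P : Place k K} (hdeg : P.deg = 1) :
    ell (Finsupp.single P 1) = 1 := by
  have h1 := (ell_sub_single_le hK (Finsupp.single P 1) P).1
  rw [sub_self, ell_zero hK] at h1
  by_contra hne
  obtain ⟨x, hx1, hx2⟩ := (exists_simple_pole_iff_ell hK hdeg).2 (by omega)
  have := genus_eq_zero_of_simple_pole hK hdeg hx1 hx2
  omega

/-- Strong approximation. -/
lemma strong_approx {P₀ : Place k K} (s : Finset (Place k K)) (hs : P₀ ∉ s) (x : Place k K → K)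
    (n : Place k K → ℤ) :
    ∃ y : K, (∀ P ∈ s, P.1 (y - x P) ≤ exp (n P)) ∧
      ∀ Q : Place k K, Q ≠ P₀ → Q ∉ s → Q.1 y ≤ 1 := by
  classical
  obtain ⟨N, hN⟩ := riemann hK
  let D' : Divisor k K := ∑ P ∈ s, Finsupp.single P (n P)
  have hdp : (1 : ℤ) ≤ P₀.deg := by exact_mod_cast deg_pos hK P₀
  obtain ⟨m, hm⟩ : ∃ m : ℤ, N - D'.deg ≤ m * P₀.deg := ⟨((N - D'.deg).toNat : ℤ), by
    exact (Int.self_le_toNat _).trans (le_mul_of_one_le_right (by omega) hdp)⟩
  set D : Divisor k K := D' + Finsupp.single P₀ m with hD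
  have hDP : ∀ P, D P = (if P ∈ s then n P else 0) + (if P₀ = P then m else 0) := fun P => by
    simp [hD, D', Finsupp.single_apply]
  let a : Place k K → K := fun P => if P ∈ s then x P else 0
  have ha : a ∈ adele k K := by
    refine mem_adele.2 (s.finite_toSet.subset fun P hP => ?_)
    by_contra h
    simp only [Finset.mem_coe] at h
    simp [a, h] at hP
  have hmem := adele_le_of_spec_eq hK (hN D (by rw [hD, deg_add, deg_single]; omega)) ha
  obtain ⟨b, hb, r, ⟨y, rfl⟩, hby⟩ := Submodule.mem_sup.1 hmem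
  have hy : ∀ P, a P - y = b P := fun P => by
    rw [← hby]; simp [diag]
  refine ⟨y, fun P hP => ?_, fun Q hQ hQs => ?_⟩
  · have h1 := hb P
    rw [← hy, hDP, if_pos hP, if_neg (fun e : P₀ = P => hs (e ▸ hP)), add_zero] at h1
    simp only [a, if_pos hP] at h1
    rwa [← Valuation.map_neg, neg_sub]
  · have h1 := hb Q
    rw [← hy, hDP, if_neg hQs, if_neg (Ne.symm hQ), add_zero, exp_zero] at h1
    simp only [a, if_neg hQs, zero_sub, Valuation.map_neg] at h1
    exact h1

end Groth.Agent.FF
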