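import Groth.Agent.FF.Linear

/-! Elements with distinct orders; multiples of a rational point in genus one. -/

set_option autoImplicit false
set_option linter.style.haveILetI false
set_option linter.unusedSectionVars false

open FunFld WithZero IntermediateField

namespace Groth.Agent.FF

variable {k K : Type*} [Field k] [Field K] [Algebra k K]

lemma linearIndependent_of_ord_injective (P : Place k K) {ι : Type*} (f : ι → K) (hf : ∀ i, f i ≠ 0)
    (hinj : Function.Injective fun i => P.ord (f i)) : LinearIndependent k f := by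
  classical
  rw [linearIndependent_iff']
  intro s g hg i hi
  by_contra hne
  obtain ⟨j, hj, hmin⟩ := (s.filter fun i => g i ≠ 0).exists_min_image (fun i => P.ord (f i))
    ⟨i, by simp [hi, hne]⟩
  rw [Finset.mem_filter] at hj
  rw [← Finset.add_sum_erase _ _ hj.1] at hg
  have h1 : P.1 (g j • f j) = exp (-(P.ord (f j))) := by
    rw [val_smul P hj.2, val_eq_exp_ord P (hf j)]
  have h2 := congrArg P.1 hg
  rw [map_zero, Valuation.map_add_eq_of_lt_left, h1] at h2
  · exact exp_ne_zero h2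
  · rw [h1]
    refine Valuation.map_sum_lt _ exp_ne_zero fun l hl => ?_
    rw [Finset.mem_erase] at hl
    rcases eq_or_ne (g l) 0 with h0 | h0
    · simp [h0]
    · rw [val_smul P h0, val_eq_exp_ord P (hf l), exp_lt_exp, neg_lt_neg_iff]
      exact lt_of_le_of_ne (hmin l (by simp [hl.2, h0])) fun e => hl.1 (hinj e).symm

variable (hK : IsFunctionField k K)

include hK

lemma eq_single_of_deg_one {E : Divisor k K} (hE : 0 ≤ E) (hd : E.deg = 1) :
    ∃ P : Place k K, P.deg = 1 ∧ E = Finsupp.single P 1 := by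
  classical
  obtain ⟨P, hP⟩ : ∃ P, 0 < E P := by
    by_contra! h
    have : E = 0 := le_antisymm h hE
    rw [this, deg_zero'] at hd
    exact zero_ne_one hd
  have hle : Finsupp.single P 1 ≤ E := by
    intro Q
    rw [Finsupp.single_apply]
    split_ifs with e
    · subst e; omega
    · exact hE Q
  have h1 := deg_mono hle
  have h2 := deg_pos hK P
  rw [deg_single, hd, one_mul] at h1
  have hP1 : P.deg = 1 := by omega
  refine ⟨P, hP1, le_antisymm ?_ hle⟩
  have h0 : (E - Finsupp.single P 1).deg = 0 := by rw [deg_sub, deg_single, hd, hP1]; simp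
  intro Q
  by_contra hQ
  have hle' : Finsupp.single Q 1 ≤ E - Finsupp.single P 1 := by
    intro R
    rw [Finsupp.single_apply]
    split_ifs with e
    · subst e; simp only [Finsupp.sub_apply]; omega
    · exact sub_nonneg.2 hle R
  have h3 := deg_mono hle'
  rw [deg_single, h0] at h3
  have := deg_pos hK Q
  omega

lemma eq_of_div_eq_single_sub (hg : 0 < genus k K) {P P' : Place k K} (hP' : P'.deg = 1)
    {x : K} (hx : x ≠ 0) (h : Finsupp.single P 1 - Finsupp.single P' 1 = div k x) : P = P' := by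
  classical
  by_contra hne
  have hord : ∀ Q, Q.ord x = (Finsupp.single P 1 - Finsupp.single P' 1 : Divisor k K) Q := fun Q => by
    rw [h, div_apply hK]
  have h1 : P'.ord x = -1 := by
    rw [hord, Finsupp.sub_apply, Finsupp.single_eq_same, Finsupp.single_eq_of_ne (Ne.symm hne)]
    simp
  have := genus_eq_zero_of_simple_pole hK hP' h1 fun Q hQ => by
    rw [hord, Finsupp.sub_apply, Finsupp.single_eq_of_ne hQ, sub_zero, Finsupp.single_apply]
    split_ifs <;> omega
  omega

lemma existsUnique_point (hg : genus k K = 1) {P₀ : Place k K} (hP : P₀.deg = 1)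
    (D : Divisor k K) (hD : D.deg = 0) :
    ∃! P : Place k K, P.deg = 1 ∧
      ∃ x : K, x ≠ 0 ∧ D = Finsupp.single P 1 - Finsupp.single P₀ 1 + div k x := by
  have hdeg : (D + Finsupp.single P₀ 1).deg = 1 := by rw [deg_add, deg_single, hD, hP]; simp
  have hl : 0 < ell (D + Finsupp.single P₀ 1) := by
    have := ell_eq_of_deg_ge hK (D := D + Finsupp.single P₀ 1) (by omega)
    omega
  obtain ⟨z, hz, hz0⟩ := exists_nonneg_equiv hK hl
  obtain ⟨P, hP1, hE⟩ := eq_single_of_deg_one hK hz0 (by rw [deg_add, hdeg, deg_div hK]; simp)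
  have hPD : D = Finsupp.single P 1 - Finsupp.single P₀ 1 + div k z⁻¹ := by
    rw [← hE, div_inv hK]; abel
  refine ⟨P, ⟨hP1, z⁻¹, inv_ne_zero hz, hPD⟩, ?_⟩
  rintro Q ⟨hQ, x, hx, hQD⟩
  refine eq_of_div_eq_single_sub hK (by omega) hP1 (x := z⁻¹ / x) (div_ne_zero (inv_ne_zero hz) hx) ?_
  rw [div_eq_mul_inv, div_mul hK (inv_ne_zero hz) (inv_ne_zero hx), div_inv hK x]
  rw [hQD] at hPD
  rw [show div k z⁻¹ = (Finsupp.single Q 1 - Finsupp.single P₀ 1 + div k x) -
    (Finsupp.single P 1 - Finsupp.single P₀ 1) by rw [hPD]; abel]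
  abel

lemma ell_nsmul_point (hg : genus k K = 1) {P : Place k K} (hP : P.deg = 1) {n : ℕ} (hn : 1 ≤ n) :
    ell (Finsupp.single P (n : ℤ)) = n := by
  have := ell_eq_of_deg_ge hK (D := Finsupp.single P (n : ℤ)) (by rw [deg_single, hP]; omega)
  rw [deg_single, hP] at this
  omega

/-- In genus one, `1, x, …` together with `y, x y, …` form a basis of `L(nP)`. -/
lemma basis_weierstrass (hg : genus k K = 1) {P : Place k K} (hP : P.deg = 1) {f g : K}
    (hf : f ∈ L (Finsupp.single P 2)) (hf2 : P.ord f = -2)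
    (hgm : g ∈ L (Finsupp.single P 3)) (hg3 : P.ord g = -3) {n : ℕ} (hn : 2 ≤ n) :
    LinearIndependent k
        (Sum.elim (fun i : Fin (n / 2 + 1) => f ^ (i : ℕ)) (fun i : Fin ((n - 1) / 2) => f ^ (i : ℕ) * g)) ∧
      Submodule.span k (Set.range
        (Sum.elim (fun i : Fin (n / 2 + 1) => f ^ (i : ℕ)) (fun i : Fin ((n - 1) / 2) => f ^ (i : ℕ) * g))) =
        L (Finsupp.single P (n : ℤ)) := by
  classical
  have hf0 : f ≠ 0 := fun e => by simp [e] at hf2
  have hg0 : g ≠ 0 := fun e => by simp [e] at hg3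
  have hfQ : ∀ Q : Place k K, Q ≠ P → 0 ≤ Q.ord f := fun Q hQ => by
    have := hf Q
    rwa [Finsupp.single_eq_of_ne hQ, exp_zero, val_le_one_iff] at this
  have hgQ : ∀ Q : Place k K, Q ≠ P → 0 ≤ Q.ord g := fun Q hQ => by
    have := hgm Q
    rwa [Finsupp.single_eq_of_ne hQ, exp_zero, val_le_one_iff] at this
  set b := Sum.elim (fun i : Fin (n / 2 + 1) => f ^ (i : ℕ))
    (fun i : Fin ((n - 1) / 2) => f ^ (i : ℕ) * g)
  have hb0 : ∀ i, b i ≠ 0 := by rintro (i | i) <;> simp [b, hf0, hg0]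
  have hord : ∀ i, P.ord (b i) = Sum.elim (fun i : Fin (n / 2 + 1) => -(2 * (i : ℤ)))
      (fun i : Fin ((n - 1) / 2) => -(2 * (i : ℤ) + 3)) i := by
    rintro (i | i)
    · simp [b, ord_pow, hf2]; ring
    · simp [b, ord_mul P (pow_ne_zero _ hf0) hg0, ord_pow, hf2, hg3]; ring
  have hli : LinearIndependent k b := by
    refine linearIndependent_of_ord_injective P b hb0 fun i j h => ?_
    simp only [hord] at h
    rcases i with i | i <;> rcases j with j | j <;>
      simp only [Sum.elim_inl, Sum.elim_inr, Sum.inl.injEq, Sum.inr.injEq, Fin.ext_iff] at h ⊢ <;> omega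
  have hle : Submodule.span k (Set.range b) ≤ L (Finsupp.single P (n : ℤ)) := by
    rw [Submodule.span_le]
    rintro _ ⟨i, rfl⟩ Q
    rw [val_le_exp_iff Q (hb0 i), Finsupp.single_apply]
    split_ifs with e
    · subst e
      rw [hord]
      rcases i with i | i <;> simp only [Sum.elim_inl, Sum.elim_inr] <;> omega
    · rw [neg_zero]
      rcases i with i | i
      · simp only [b, Sum.elim_inl, ord_pow]
        exact mul_nonneg (by omega) (hfQ Q (Ne.symm e))
      · simp only [b, Sum.elim_inr, ord_mul Q (pow_ne_zero _ hf0) hg0, ord_pow]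
        exact add_nonneg (mul_nonneg (by omega) (hfQ Q (Ne.symm e))) (hgQ Q (Ne.symm e))
  refine ⟨hli, ?_⟩
  haveI := finiteDimensional_L hK (Finsupp.single P (n : ℤ))
  refine Submodule.eq_of_le_of_finrank_eq hle ?_
  rw [finrank_span_eq_card hli, Fintype.card_sum, Fintype.card_fin, Fintype.card_fin]
  change _ = ell (Finsupp.single P (n : ℤ))
  rw [ell_nsmul_point hK hg hP (by omega)]
  omega

lemma exists_pole_order (hg : genus k K = 1) {P : Place k K} (hP : P.deg = 1) {n : ℕ} (hn : 2 ≤ n) :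
    ∃ x : K, x ∈ L (Finsupp.single P (n : ℤ)) ∧ P.ord x = -(n : ℤ) := by
  have h := (ell_lt_iff_exists hK (Finsupp.single P (n : ℤ)) P).1 (by
    rw [← Finsupp.single_sub, ell_nsmul_point hK hg hP (by omega : 1 ≤ n)]
    have := ell_nsmul_point hK hg hP (n := n - 1) (by omega)
    rw [show ((n - 1 : ℕ) : ℤ) = (n : ℤ) - 1 by omega] at this
    omega)
  obtain ⟨x, hx, hx'⟩ := h
  rw [Finsupp.single_eq_same] at hx'
  exact ⟨x, hx, ord_of_val_eq P hx'⟩

lemma adjoin_eq_top_of_orders {P : Place k K} (hP : P.deg = 1) {x y : K}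
    (hx : x ∈ L (Finsupp.single P 2)) (hx2 : P.ord x = -2)
    (hy : y ∈ L (Finsupp.single P 3)) (hy3 : P.ord y = -3) :
    k⟮x, y⟯ = (⊤ : IntermediateField k K) := by
  have key : ∀ (z : K) (m : ℤ), z ∈ L (Finsupp.single P m) → P.ord z = -m → 0 < m →
      (Module.finrank k⟮z⟯ K : ℤ) = m := by
    intro z m hz hzm hm
    have hzt : Transcendental k z := transcendental_of_notMem hK fun ⟨c, hc⟩ => by
      rw [← hc, ord_const] at hzm; omega
    rw [finrank_adjoin_eq_neg_ord_mul hK hzt (P := P) (by omega) fun Q hQ => by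
      have := hz Q
      rwa [Finsupp.single_eq_of_ne hQ, exp_zero, val_le_one_iff] at this]
    rw [hzm, hP]; simp
  have h2 := key x 2 hx hx2 (by omega)
  have h3 := key y 3 hy hy3 (by omega)
  have dvd : ∀ (z : K), z ∈ k⟮x, y⟯ → Module.finrank k⟮x, y⟯ K ∣ Module.finrank k⟮z⟯ K := by
    intro z hz
    have hle : k⟮z⟯ ≤ k⟮x, y⟯ := adjoin_simple_le_iff.2 hz
    letI : Algebra k⟮z⟯ k⟮x, y⟯ := (IntermediateField.inclusion hle).toRingHom.toAlgebra
    haveI : IsScalarTower k⟮z⟯ k⟮x, y⟯ K := IsScalarTower.of_algebraMap_eq fun _ => rfl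
    rw [← Module.finrank_mul_finrank k⟮z⟯ k⟮x, y⟯ K]
    exact dvd_mul_left _ _
  have d2 := dvd x (subset_adjoin k _ (Or.inl rfl))
  have d3 := dvd y (subset_adjoin k _ (Or.inr rfl))
  rw [show Module.finrank k⟮x⟯ K = 2 by omega] at d2
  rw [show Module.finrank k⟮y⟯ K = 3 by omega] at d3
  have h1 : Module.finrank k⟮x, y⟯ K = 1 := Nat.dvd_one.1 ((Nat.dvd_sub d3 d2).trans (by norm_num))
  refine eq_top_iff.2 fun z _ => ?_
  obtain ⟨c, hc⟩ := (finrank_eq_one_iff_of_nonzero' (1 : K) one_ne_zero).1 h1 z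
  rw [← hc, IntermediateField.smul_def, smul_eq_mul, mul_one]
  exact c.2

/-- Weierstrass relation. -/
lemma weierstrass_relation (hg : genus k K = 1) {P : Place k K} (hP : P.deg = 1) {x y : K}
    (hx : x ∈ L (Finsupp.single P 2)) (hx2 : P.ord x = -2)
    (hy : y ∈ L (Finsupp.single P 3)) (hy3 : P.ord y = -3) :
    ∃ f g : Polynomial k, f.natDegree ≤ 1 ∧ g.natDegree = 3 ∧
      y ^ 2 + Polynomial.aeval x f * y + Polynomial.aeval x g = 0 := by
  classical
  obtain ⟨hli, hspan⟩ := basis_weierstrass hK hg hP hx hx2 hy hy3 (n := 6) (by omega)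
  have hy0 : y ≠ 0 := fun e => by simp [e] at hy3
  have hx0 : x ≠ 0 := fun e => by simp [e] at hx2
  have hy2 : y ^ 2 ∈ L (Finsupp.single P ((6 : ℕ) : ℤ)) := fun Q => by
    rw [map_pow]
    refine (pow_le_pow_left₀ zero_le (hy Q) 2).trans_eq ?_
    rw [← exp_nsmul]; congr 1
    simp only [Finsupp.single_apply]
    split_ifs <;> simp
  rw [← hspan, Submodule.mem_span_range_iff_exists_fun] at hy2
  obtain ⟨c, hc⟩ := hy2
  set a := fun i : Fin 4 => c (Sum.inl i) with ha
  set b := fun i : Fin 2 => c (Sum.inr i) with hb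
  have hc' : y ^ 2 = (a 0 • 1 + a 1 • x + a 2 • x ^ 2 + a 3 • x ^ 3) + (b 0 • y + b 1 • (x * y)) := by
    rw [← hc, Fintype.sum_sum_type]
    show _ + _ = _
    congr 1
    · show ∑ i : Fin 4, _ = _
      simp [Fin.sum_univ_four, ha]
    · show ∑ i : Fin 2, _ = _
      simp [Fin.sum_univ_two, hb]
  refine ⟨-(Polynomial.C (b 0) + Polynomial.C (b 1) * Polynomial.X),
    -(Polynomial.C (a 0) + Polynomial.C (a 1) * Polynomial.X + Polynomial.C (a 2) * Polynomial.X ^ 2 +
      Polynomial.C (a 3) * Polynomial.X ^ 3), ?_, ?_, ?_⟩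
  · rw [Polynomial.natDegree_neg]; compute_degree
  · have h3 : a 3 ≠ 0 := by
      intro h3
      have h6 : P.1 (y ^ 2) = exp 6 := by
        rw [map_pow, val_eq_exp_ord P hy0, hy3, ← exp_nsmul]; rfl
      have hb' : ∀ (t : k) (z : K) (m : ℤ), z ≠ 0 → -5 ≤ P.ord z → P.1 (t • z) ≤ exp 5 :=
        fun t z _ hz h => (val_smul_le P t z).trans ((val_le_exp_iff P hz 5).2 h)
      have : P.1 (y ^ 2) ≤ exp 5 := by
        rw [hc', h3, zero_smul, add_zero]
        refine (P.1.map_add _ _).trans (max_le ((P.1.map_add _ _).trans (max_le ((P.1.map_add _ _).trans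
          (max_le ?_ ?_)) ?_)) ((P.1.map_add _ _).trans (max_le ?_ ?_)))
        · exact hb' _ _ 0 one_ne_zero (by simp)
        · exact hb' _ _ 0 hx0 (by omega)
        · exact hb' _ _ 0 (pow_ne_zero _ hx0) (by rw [ord_pow]; omega)
        · exact hb' _ _ 0 hy0 (by omega)
        · exact hb' _ _ 0 (mul_ne_zero hx0 hy0) (by rw [ord_mul P hx0 hy0]; omega)
      rw [h6, exp_le_exp] at this
      omega
    rw [Polynomial.natDegree_neg]
    compute_degree!
  · simp only [map_neg, map_add, map_mul, Polynomial.aeval_C, Polynomial.aeval_X, map_pow]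
    rw [hc']
    simp only [Algebra.smul_def]
    ring

end Groth.Agent.FF
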