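import Groth.Agent.FF.LinSys
import Groth.Agent.FF.GenusOne

set_option linter.style.haveILetI false
set_option linter.unusedSectionVars false

namespace Groth.Agent.FF

open FunFld WithZero

variable {k K : Type*} [Field k] [Field K] [Algebra k K] (hK : IsFunctionField k K)
variable {V : Submodule k K} {D : Divisor k K} {d r : ℕ}

include hK

lemma ell_le_one_of_deg_one (hg : 0 < genus k K) {E : Divisor k K} (hE : E.deg = 1) :
    ell E ≤ 1 := by
  by_contra h
  obtain ⟨z, hz, hnn⟩ := exists_nonneg_equiv hK (D := E) (by omega)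
  obtain ⟨R, hR, hER⟩ := eq_single_of_deg_one hK hnn (by rw [deg_add, deg_div hK.1, hE, add_zero])
  rw [← ell_add_div hK (D := E) hz, hER, ell_single_one hK hg hR] at h
  omega

lemma vd_le_ell (V : Submodule k K) (D : Divisor k K) (P : Place k K) (n : ℤ) :
    vd V D P n ≤ ell (D - Finsupp.single P n) := by
  haveI := finiteDimensional_L hK.1 (D - Finsupp.single P n)
  exact Submodule.finrank_mono inf_le_right

lemma vd_pred_le_one (hg : 0 < genus k K) (hgr : IsGrd V D d r) {P : Place k K} (hP : P.deg = 1) :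
    vd V D P ((d : ℤ) - 1) ≤ 1 :=
  (vd_le_ell hK V D P _).trans (ell_le_one_of_deg_one hK hg (by
    rw [deg_sub, deg_single, hgr.deg_eq, hP]; omega))

/-- Two independent members with vanishing orders `a`, `b`. -/
lemma add_le_vsum_of_pair (hgr : IsGrd V D d r) (P : Place k K) {f g : K} (hf : f ∈ V) (hg : g ∈ V)
    (hli : LinearIndependent k ![f, g]) {a b : ℕ} (ha : a ≤ d) (hb : b ≤ d)
    (hfa : (a : ℤ) ≤ P.ord f + D P) (hgb : (b : ℤ) ≤ P.ord g + D P) :
    a + b ≤ vsum V D P d := by
  classical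
  haveI := fin_sys hK hgr
  have hf0 : f ≠ 0 := by simpa using hli.ne_zero 0
  have hg0 : g ≠ 0 := by simpa using hli.ne_zero 1
  have key : ∀ n : ℕ, (if n < a then 1 else 0) + (if n < b then 1 else 0) ≤ vd V D P ((n : ℤ) + 1) := by
    intro n
    haveI : FiniteDimensional k ↥(V ⊓ L (D - Finsupp.single P ((n : ℤ) + 1))) :=
      Submodule.finiteDimensional_of_le inf_le_left
    have hmem : ∀ x ∈ V, x ≠ 0 → (n : ℤ) + 1 ≤ P.ord x + D P →
        x ∈ V ⊓ L (D - Finsupp.single P ((n : ℤ) + 1)) := fun x hx hx0 h =>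
      ⟨hx, (mem_L_sub_single_iff (by omega) (hgr.le_L hx) hx0).2 h⟩
    have h1 : ∀ x : K, x ≠ 0 → x ∈ V ⊓ L (D - Finsupp.single P ((n : ℤ) + 1)) →
        1 ≤ vd V D P ((n : ℤ) + 1) := fun x hx0 hx =>
      Submodule.one_le_finrank_iff.2 fun hbot => hx0 (by rw [hbot, Submodule.mem_bot] at hx; exact hx)
    by_cases hna : n < a <;> by_cases hnb : n < b <;> simp only [hna, hnb, if_true, if_false]
    · have hle : Submodule.span k (Set.range ![f, g]) ≤ V ⊓ L (D - Finsupp.single P ((n : ℤ) + 1)) := by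
        rw [Submodule.span_le]
        rintro _ ⟨i, rfl⟩
        fin_cases i
        · exact hmem f hf hf0 (by omega)
        · exact hmem g hg hg0 (by omega)
      have := Submodule.finrank_mono hle
      rw [finrank_span_eq_card hli, Fintype.card_fin] at this
      exact this
    · exact h1 f hf0 (hmem f hf hf0 (by omega))
    · exact h1 g hg0 (hmem g hg hg0 (by omega))
    · exact Nat.zero_le _
  refine le_trans ?_ (Finset.sum_le_sum fun n _ => key n)
  rw [Finset.sum_add_distrib, Finset.sum_boole, Finset.sum_boole]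
  have e : ∀ c ≤ d, ((Finset.range d).filter fun n => n < c) = Finset.range c := fun c hc => by
    ext n; simp only [Finset.mem_filter, Finset.mem_range]; omega
  simp [e a ha, e b hb]

/-- At most one member with support in two places, given a cusp elsewhere (genus zero). -/
lemma unique_member_of_cusp [IsAlgClosed k] [CharZero k] (h0 : genus k K = 0) (hgr : IsGrd V D d r)
    {Q P P' : Place k K} (hc : r ≤ vd V D Q 2) (hP : P ≠ Q) (hP' : P' ≠ Q)
    {f g : K} (hf : f ∈ V) (hg : g ∈ V) (hf0 : f ≠ 0) (hg0 : g ≠ 0)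
    (hfs : ∀ R : Place k K, R ≠ P → R ≠ P' → (div k f + D) R = 0)
    (hgs : ∀ R : Place k K, R ≠ P → R ≠ P' → (div k g + D) R = 0) :
    ∃ c : k, g = c • f := by
  classical
  by_contra hne
  have hli : LinearIndependent k ![f, g] :=
    (LinearIndependent.pair_iff' hf0).2 fun c hcg => hne ⟨c, hcg.symm⟩
  have hdeg : ∀ R : Place k K, R.deg = 1 := deg_eq_one hK
  haveI := fin_sys hK hgr
  set V₂ := Submodule.span k (Set.range ![f, g]) with hV₂
  have hV₂le : V₂ ≤ V := by
    rw [hV₂, Submodule.span_le]; rintro _ ⟨i, rfl⟩; fin_cases i <;> assumption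
  have hg₂ : IsGrd V₂ D d 1 :=
    ⟨hgr.deg_eq, hV₂le.trans hgr.le_L, by rw [hV₂, finrank_span_eq_card hli, Fintype.card_fin]⟩
  have hf₂ : f ∈ V₂ := Submodule.subset_span ⟨0, rfl⟩
  have hg₂' : g ∈ V₂ := Submodule.subset_span ⟨1, rfl⟩
  -- divisors of the two members
  obtain ⟨F, hF⟩ : ∃ F, F = div k f + D := ⟨_, rfl⟩
  obtain ⟨G, hG⟩ : ∃ G, G = div k g + D := ⟨_, rfl⟩
  have hFR : ∀ R, F R = R.ord f + D R := fun R => by rw [hF, Finsupp.add_apply, div_apply hK.1]
  have hGR : ∀ R, G R = R.ord g + D R := fun R => by rw [hG, Finsupp.add_apply, div_apply hK.1]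
  have hFnn : ∀ R, 0 ≤ F R := fun R => hFR R ▸ ord_add_nonneg hgr.le_L hf hf0 R
  have hGnn : ∀ R, 0 ≤ G R := fun R => hGR R ▸ ord_add_nonneg hgr.le_L hg hg0 R
  have hdF : F.deg = d := by rw [hF, deg_add, deg_div hK.1, hgr.deg_eq, zero_add]
  have hdG : G.deg = d := by rw [hG, deg_add, deg_div hK.1, hgr.deg_eq, zero_add]
  have hFs : ∀ R, R ≠ P → R ≠ P' → F R = 0 := fun R a b => hF ▸ hfs R a b
  have hGs : ∀ R, R ≠ P → R ≠ P' → G R = 0 := fun R a b => hG ▸ hgs R a b
  have hne' : F ≠ G := by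
    intro e
    have h1 : div k (g / f) = 0 := by
      rw [div_eq_mul_inv, div_mul hK.1 hg0 (inv_ne_zero hf0), div_inv hK.1,
        show div k g = div k f from add_right_cancel (hG.symm.trans (e.symm.trans hF)), add_neg_cancel]
    have h2 : g / f ∈ L (0 : Divisor k K) :=
      (mem_L_iff hK.1 (div_ne_zero hg0 hf0)).2 (by rw [h1, add_zero])
    rw [L_zero hK, Submodule.mem_one] at h2
    obtain ⟨c, hc'⟩ := h2
    exact hne ⟨c, by rw [Algebra.smul_def, hc', div_mul_cancel₀ _ hf0]⟩
  have hPP' : P ≠ P' := by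
    rintro rfl
    refine hne' (Finsupp.ext fun R => ?_)
    have hs : ∀ E : Divisor k K, (∀ R, R ≠ P → R ≠ P → E R = 0) → E.deg = d → E = Finsupp.single P (d : ℤ) := by
      intro E hE hEd
      have : E = Finsupp.single P (E P) := Finsupp.ext fun R => by
        rw [Finsupp.single_apply]; split_ifs with e
        · rw [e]
        · exact hE R (Ne.symm e) (Ne.symm e)
      rw [this, deg_single, hdeg] at hEd
      rw [this, ← hEd]; simp
    rw [hs F hFs hdF, hs G hGs hdG]
  have hsum : ∀ E : Divisor k K, (∀ R, R ≠ P → R ≠ P' → E R = 0) → E.deg = d →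
      E P + E P' = d := by
    intro E hE hEd
    have : E = Finsupp.single P (E P) + Finsupp.single P' (E P') := Finsupp.ext fun R => by
      rw [Finsupp.add_apply, Finsupp.single_apply, Finsupp.single_apply]
      split_ifs with e1 e2 e2
      · exact absurd (e1.trans e2.symm) hPP'
      · rw [e1, add_zero]
      · rw [e2, zero_add]
      · rw [hE R (Ne.symm e1) (Ne.symm e2), add_zero]
    rw [this, deg_add, deg_single, deg_single, hdeg, hdeg] at hEd
    omega
  have hF2 := hsum F hFs hdF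
  have hG2 := hsum G hGs hdG
  have e1 := hFnn P; have e2 := hFnn P'; have e3 := hGnn P; have e4 := hGnn P'
  have wP := add_le_vsum_of_pair hK hg₂ P hf₂ hg₂' hli (a := (F P).toNat) (b := (G P).toNat)
    (by omega) (by omega) (by rw [← hFR]; omega) (by rw [← hGR]; omega)
  have wP' := add_le_vsum_of_pair hK hg₂ P' hf₂ hg₂' hli (a := (F P').toNat) (b := (G P').toNat)
    (by omega) (by omega) (by rw [← hFR]; omega) (by rw [← hGR]; omega)
  -- the cusp: `vd V₂ Q 1 ≥ 1` and it equals `vd V₂ Q 2`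
  have hd1 : 1 ≤ d := r_le_d hK hg₂ (hdeg P)
  have hQ1 : vd V D Q 1 ≤ r := by
    by_contra hc1
    have heq : V ⊓ L (D - Finsupp.single Q 1) = V :=
      Submodule.eq_of_le_of_finrank_le inf_le_left (by rw [hgr.dim_eq]; show r + 1 ≤ vd V D Q 1; omega)
    have := (mem_L_sub_single_iff (by omega) (hgr.le_L hf) hf0).1 (heq.symm.le hf).2
    rw [← hFR, hFs Q hP.symm hP'.symm] at this
    omega
  have heq12 : V ⊓ L (D - Finsupp.single Q 2) = V ⊓ L (D - Finsupp.single Q 1) := by
    haveI : FiniteDimensional k ↥(V ⊓ L (D - Finsupp.single Q 1)) :=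
      Submodule.finiteDimensional_of_le inf_le_left
    refine Submodule.eq_of_le_of_finrank_le (inf_le_inf_left _
      (L_mono (sub_le_sub_left (Finsupp.single_le_single.2 (by omega)) _))) (hQ1.trans hc)
  have h₂1 : 1 ≤ vd V₂ D Q 1 := by
    have := le_vd_add hK hg₂ (hdeg Q) 1
    simp only [Nat.cast_one] at this
    omega
  have h₂2 : vd V₂ D Q 2 = vd V₂ D Q 1 := by
    unfold vd
    rw [← inf_eq_left.2 hV₂le, inf_assoc, inf_assoc, heq12]
  have hd2 : 2 ≤ d := by
    by_contra hd
    have := vd_eq_zero hK hg₂ (hdeg Q) (n := 2) (by omega)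
    omega
  have wQ : 2 ≤ vsum V₂ D Q d := by
    have h := Finset.sum_le_sum_of_subset (f := fun n : ℕ => vd V₂ D Q ((n : ℤ) + 1))
      (Finset.range_subset_range.2 hd2)
    simp only [Finset.sum_range_succ, Finset.sum_range_zero, Nat.cast_zero, Nat.cast_one, zero_add,
      show (1 : ℤ) + 1 = 2 by norm_num] at h
    unfold vsum
    omega
  have hp := plucker hK h0 hg₂ {P, P', Q}
  rw [Finset.sum_insert (by simp [hPP', hP]), Finset.sum_pair hP'] at hp
  simp only [weight] at hp
  omega

end Groth.Agent.FF
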