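import Groth.Agent.FF.RR

/-! Riemann's bound without assuming the constant field is exact. -/

set_option autoImplicit false
set_option linter.style.haveILetI false
set_option linter.unusedSectionVars false

open FunFld WithZero IntermediateField

namespace Groth.Agent.FF.Any

variable {k K : Type*} [Field k] [Field K] [Algebra k K] (hK : IsFF k K)

include hK

lemma spec_mono {D E : Divisor k K} (h : D ≤ E) : spec D ≤ spec E := by
  have := (relDim_L_ell hK h).2.1
  simp only [spec]; omega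

/-- Multiplication by `z` identifies `L(D + (z))` with `L(D)`. -/
lemma mul_mem_L_iff {D : Divisor k K} {z : K} (hz : z ≠ 0) (y : K) :
    z * y ∈ L D ↔ y ∈ L (D + div k z) := by
  rcases eq_or_ne y 0 with rfl | hy
  · simp
  rw [mem_L_iff hK (mul_ne_zero hz hy), mem_L_iff hK hy, div_mul hK hz hy, add_assoc]

lemma ell_add_div {D : Divisor k K} {z : K} (hz : z ≠ 0) : ell (D + div k z) = ell D := by
  have hmap : (L (D + div k z)).map (LinearMap.mulLeft k z) = L D := by
    ext w
    constructor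
    · rintro ⟨y, hy, rfl⟩
      exact (mul_mem_L_iff hK hz y).2 hy
    · intro hw
      refine ⟨z⁻¹ * w, ?_, mul_inv_cancel_left₀ hz w⟩
      refine (mul_mem_L_iff hK hz _).1 ?_
      rwa [mul_inv_cancel_left₀ hz]
  conv_rhs => rw [ell, ← hmap]
  exact (Submodule.equivMapOfInjective (LinearMap.mulLeft k z) (mul_right_injective₀ hz) (L (D + div k z))).finrank_eq

lemma spec_add_div {D : Divisor k K} {z : K} (hz : z ≠ 0) : spec (D + div k z) = spec D := by
  simp [spec, deg_add, deg_div hK, ell_add_div hK hz]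

lemma exists_nonneg_equiv {D : Divisor k K} (h : 0 < ell D) :
    ∃ z : K, z ≠ 0 ∧ 0 ≤ D + div k z := by
  obtain ⟨z, hz, hz0⟩ : ∃ z ∈ L D, z ≠ 0 := by
    apply Submodule.exists_mem_ne_zero_of_ne_bot
    intro e
    rw [ell, e, finrank_bot] at h
    exact lt_irrefl 0 h
  exact ⟨z, hz0, (mem_L_iff hK hz0).1 hz⟩

lemma L_eq_bot_of_deg_neg {D : Divisor k K} (h : D.deg < 0) : L D = ⊥ := by
  rw [Submodule.eq_bot_iff]
  intro z hz
  by_contra hz0
  have := deg_nonneg ((mem_L_iff hK hz0).1 hz)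
  rw [deg_add, deg_div hK] at this
  omega

lemma ell_eq_zero_of_deg_neg {D : Divisor k K} (h : D.deg < 0) : ell D = 0 := by
  rw [ell, L_eq_bot_of_deg_neg hK h, finrank_bot]

/-- Riemann: `deg D + 1 - ℓ(D)` is bounded above. -/
lemma exists_spec_le : ∃ γ : ℤ, ∀ D : Divisor k K, spec D ≤ γ := by
  classical
  obtain ⟨x, hx⟩ := exists_transcendental hK
  have hx0 : x ≠ 0 := fun h => hx (h ▸ isAlgebraic_zero)
  haveI := finite_adjoin hK hx
  let b := Module.finBasis k⟮x⟯ K
  set n := Module.finrank k⟮x⟯ K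
  set A := zeroDiv (k := k) x with hA
  let C : Divisor k K := ∑ i, ((- div k (b i)) ⊔ 0)
  have hC0 : 0 ≤ C := Finset.sum_nonneg fun i _ => le_sup_right
  have hC : ∀ i, (- div k (b i)) ≤ C := fun i =>
    le_sup_left.trans (Finset.single_le_sum (f := fun i => (- div k (b i)) ⊔ 0)
      (fun j _ => le_sup_right) (Finset.mem_univ i))
  have hlow : ∀ l : ℕ, (n : ℤ) * (l + 1) ≤ ell ((l : ℤ) • A + C) := by
    intro l
    have hmem : ∀ p : Fin (l + 1) × Fin n, x⁻¹ ^ (p.1 : ℕ) * b p.2 ∈ L ((l : ℤ) • A + C) := by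
      intro p
      have hne1 : x⁻¹ ^ (p.1 : ℕ) ≠ 0 := pow_ne_zero _ (inv_ne_zero hx0)
      intro P
      have h2 := hC p.2 P
      rw [Finsupp.neg_apply, div_apply hK] at h2
      rw [val_le_exp_iff P (mul_ne_zero hne1 (b.ne_zero _)), ord_mul P hne1 (b.ne_zero _), ord_pow, ord_inv]
      simp only [Finsupp.add_apply, Finsupp.smul_apply, smul_eq_mul, hA, zeroDiv, Finsupp.sup_apply,
        div_apply hK, Finsupp.coe_zero, Pi.zero_apply]
      have h3 : ((p.1 : ℕ) : ℤ) * (P.ord x) ≤ l * max (P.ord x) 0 :=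
        (mul_le_mul_of_nonneg_left (le_max_left _ 0) (by omega)).trans
          (mul_le_mul_of_nonneg_right (by omega) (le_max_right _ _))
      have : P.ord x ⊔ 0 = max (P.ord x) 0 := rfl
      rw [this]; linarith
    let f : (Fin (l + 1) × Fin n) → L ((l : ℤ) • A + C) := fun p => ⟨_, hmem p⟩
    have hf : LinearIndependent k f := LinearIndependent.of_comp (L ((l : ℤ) • A + C)).subtype
      (linearIndependent_pow_mul hx l b.linearIndependent)
    haveI := finiteDimensional_L hK ((l : ℤ) • A + C)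
    have h1 := hf.fintype_card_le_finrank
    simp only [Fintype.card_prod, Fintype.card_fin] at h1
    have h4 : (((l + 1) * n : ℕ) : ℤ) ≤ (ell ((l : ℤ) • A + C) : ℤ) := Int.ofNat_le.2 h1
    push_cast at h4
    linarith
  refine ⟨C.deg + 1 - n, fun D => ?_⟩
  set E := D ⊔ 0
  refine (spec_mono hK (le_sup_left : D ≤ E)).trans ?_
  have hE0 : 0 ≤ E := le_sup_right
  have hAdeg : A.deg = n := deg_zeroDiv hK hx
  obtain ⟨l, hl⟩ : ∃ l : ℕ, C.deg + E.deg < (n : ℤ) * (l + 1) :=
    ⟨(C.deg + E.deg).toNat, by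
      have hn : (1 : ℤ) ≤ n := by exact_mod_cast (Module.finrank_pos : 0 < n)
      nlinarith [Int.self_le_toNat (C.deg + E.deg)]⟩
  have h1 : (l : ℤ) • A ≤ (l : ℤ) • A + C := le_add_of_nonneg_right hC0
  have h2 := (relDim_L_ell hK h1).2.1
  have h3 : (l : ℤ) • A - E ≤ (l : ℤ) • A := sub_le_self _ hE0
  have h4 := (relDim_L_ell hK h3).2.1
  rw [deg_sub] at h4
  rw [deg_add] at h2
  have hpos : 0 < ell ((l : ℤ) • A - E) := by have := hlow l; omega
  obtain ⟨z, hz, hzE⟩ := exists_nonneg_equiv hK hpos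
  have h5 : E + div k z⁻¹ ≤ (l : ℤ) • A := by
    rw [div_inv hK, ← sub_nonneg]
    calc (0 : Divisor k K) ≤ (l : ℤ) • A - E + div k z := hzE
      _ = (l : ℤ) • A - (E + -div k z) := by abel
  rw [← spec_add_div hK (inv_ne_zero hz)]
  refine (spec_mono hK h5).trans ?_
  have := hlow l
  rw [spec, deg_zsmul, hAdeg]
  linarith

end Groth.Agent.FF.Any
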