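import Groth.Agent.FF.ASDiff

/-! Bases of regular differentials of Artin–Schreier function fields. -/

set_option autoImplicit false
set_option linter.unusedSectionVars false
set_option linter.style.haveILetI false

open FunFld WithZero IntermediateField LaurentSeries

namespace Groth.Agent.FF

variable {k K : Type*} [Field k] [Field K] [Algebra k K] [Algebra (RatFunc k) K]
  [IsScalarTower k (RatFunc k) K]

namespace IsAS

variable [PerfectField k] [Algebra.IsSeparable (RatFunc k) K] {y : K} {f : RatFunc k} (H : IsAS y f)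
  (hodd : ∀ P : Place k (RatFunc k), P.ord f < 0 → Odd (P.ord f))
  {F : Place k K → Type*} [∀ P, Field (F P)] [∀ P, Algebra k (F P)] [∀ P, FiniteDimensional k (F P)]
  {ψ : ∀ P, K →ₐ[k] LaurentSeries (F P)} (hψ : ∀ P, LocRes.IsExpansionAt P.1 (ψ P))
  (hK : IsFunctionField k K) {q : Polynomial k} (hq0 : q ≠ 0)
  (hq : ∀ p : Place k (RatFunc k), p.1 RatFunc.X ≤ 1 →
    p.ord (algebraMap (Polynomial k) (RatFunc k) q) = asE f p)
include H hodd hψ hK hq0 hq

theorem regular_basis :
    (∀ i : ℕ, i < genus k K → ∀ P,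
      LocRes.vDiff (ψ P) (algebraMap (RatFunc k) K (RatFunc.X ^ i / algebraMap (Polynomial k) (RatFunc k) q))
        (algebraMap (RatFunc k) K RatFunc.X) ≤ 1) ∧
    ∀ z : K, (∀ P, LocRes.vDiff (ψ P) z (algebraMap (RatFunc k) K RatFunc.X) ≤ 1) →
      ∃ a : Polynomial k, a.degree < (genus k K : WithBot ℕ) ∧
        z = algebraMap (RatFunc k) K (algebraMap (Polynomial k) (RatFunc k) a / algebraMap (Polynomial k) (RatFunc k) q) := by
  classical
  obtain ⟨Pinf, hinf⟩ := exists_rat_inf (k := k)
  obtain ⟨hiff, hgM⟩ := H.regular_iff hodd hψ hK hinf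
  have hge := H.genus_eq hodd hK
  set M := asE f - Finsupp.single Pinf (2 : ℤ) with hM
  have hq' := polyToRat_ne_zero hq0
  have hqinf : Pinf.ord (algebraMap (Polynomial k) (RatFunc k) q) = -(q.natDegree : ℤ) :=
    ord_of_val_eq Pinf (rat_val_eq_exp_natDegree Pinf hinf hq0)
  have hdiv : FunFld.div k (algebraMap (Polynomial k) (RatFunc k) q) +
      Finsupp.single Pinf ((q.natDegree : ℤ) + asE f Pinf) = asE f := by
    ext p
    rw [Finsupp.add_apply, div_apply isFunctionField_ratFunc.1, Finsupp.single_apply]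
    split_ifs with h
    · subst h; rw [hqinf]; ring
    · rw [hq p (not_lt.1 fun hX => h (rat_inf_unique _ hinf hX)), add_zero]
  have hdeg : (q.natDegree : ℤ) + asE f Pinf = (asE f).deg := by
    have := congrArg Divisor.deg hdiv
    rw [deg_add, deg_div (isFunctionField_ratFunc (k := k)).1, deg_single, rat_deg_inf Pinf hinf] at this
    push_cast at this
    linarith
  have hmem : ∀ i : ℕ, i < genus k K → RatFunc.X ^ i / algebraMap (Polynomial k) (RatFunc k) q ∈ L M := by
    intro i hi p
    rw [map_div₀, map_pow, hM, Finsupp.sub_apply, Finsupp.single_apply, val_eq_exp_ord p hq']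
    split_ifs with h
    · subst h
      rw [rat_val_X_of_inf _ hinf, hqinf, ← exp_nsmul, ← exp_sub, exp_le_exp]
      simp only [nsmul_eq_mul]
      omega
    · have hX : p.1 RatFunc.X ≤ 1 := not_lt.1 fun hX => h (rat_inf_unique _ hinf hX)
      rw [hq p hX, sub_zero]
      rw [div_eq_mul_inv, ← exp_neg, neg_neg]
      exact mul_le_of_le_one_left' (pow_le_one' hX i)
  refine ⟨fun i hi P => (hiff _).2 ⟨_, hmem i hi, rfl⟩ P, fun z hz => ?_⟩
  let c : Polynomial k →ₗ[k] RatFunc k :=
    (LinearMap.mulRight k (algebraMap (Polynomial k) (RatFunc k) q)⁻¹) ∘ₗ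
      (IsScalarTower.toAlgHom k (Polynomial k) (RatFunc k)).toLinearMap
  let Φ : Polynomial.degreeLT k (genus k K) →ₗ[k] RatFunc k := c ∘ₗ (Polynomial.degreeLT k (genus k K)).subtype
  have hinj : Function.Injective Φ := fun a b hab => Subtype.ext (RatFunc.algebraMap_injective k
    (mul_right_cancel₀ (inv_ne_zero hq') hab))
  have hle : LinearMap.range Φ ≤ L M := by
    rintro _ ⟨⟨a, ha⟩, rfl⟩
    show algebraMap (Polynomial k) (RatFunc k) a * (algebraMap (Polynomial k) (RatFunc k) q)⁻¹ ∈ L M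
    rw [← RatFunc.aeval_X_left_eq_algebraMap a, Polynomial.aeval_eq_sum_range, Finset.sum_mul]
    refine Submodule.sum_mem _ fun i hi => ?_
    rw [smul_mul_assoc]
    rcases eq_or_ne (a.coeff i) 0 with h0 | h0
    · rw [h0, zero_smul]; exact zero_mem _
    refine Submodule.smul_mem _ _ ?_
    rw [← div_eq_mul_inv]
    exact hmem i (WithBot.coe_lt_coe.1 ((Polynomial.le_degree_of_ne_zero h0).trans_lt (Polynomial.mem_degreeLT.1 ha)))
  haveI := finiteDimensional_L (isFunctionField_ratFunc (k := k)).1 M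
  have hfin : Module.finrank k (LinearMap.range Φ) = ell M := by
    rw [LinearMap.finrank_range_of_inj hinj, (Polynomial.degreeLTEquiv k _).finrank_eq,
      Module.finrank_fin_fun, hgM]
  obtain ⟨r, hr, rfl⟩ := (hiff z).1 hz
  rw [SetLike.mem_coe, ← Submodule.eq_of_le_of_finrank_le hle hfin.ge] at hr
  obtain ⟨⟨a, ha⟩, rfl⟩ := hr
  exact ⟨a, Polynomial.mem_degreeLT.1 ha, congrArg (algebraMap (RatFunc k) K) (div_eq_mul_inv _ _).symm⟩

end IsAS

end Groth.Agent.FF
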