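import Groth.Agent.FF.Hyper2

/-! Regular differentials of a hyperelliptic function field. -/

set_option autoImplicit false
set_option linter.unusedSectionVars false
set_option linter.style.haveILetI false

open FunFld WithZero IntermediateField LaurentSeries

namespace Groth.Agent.FF

section Laurent

variable {F : Type*} [Field F]

lemma v_D_le_of_le {f : F⸨X⸩} {m : ℤ} (h : Valued.v f ≤ exp m) :
    Valued.v (LocRes.D F f) ≤ exp (m + 1) := by
  rw [show m + 1 = -(-m - 1) by ring, LaurentSeries.valuation_le_iff_coeff_lt_eq_zero]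
  rw [show m = -(-m) by ring, LaurentSeries.valuation_le_iff_coeff_lt_eq_zero] at h
  intro n hn
  rw [LocRes.D_coeff, h (n + 1) (by omega), smul_zero]

end Laurent

variable {k K : Type*} [Field k] [Field K] [Algebra k K] [Algebra (RatFunc k) K]
  [IsScalarTower k (RatFunc k) K] {y : K} {f : Polynomial k}

namespace IsHyper

variable (H : IsHyper y f) (hK : IsFunctionField k K)
include H

/-- `K` is separable over `k(x)` -/
lemma isSepVar : IsSepVar k (algebraMap (RatFunc k) K RatFunc.X) := by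
  haveI := H.finite
  have hsep : Algebra.IsSeparable (RatFunc k) K := by
    have hy : IsSeparable (RatFunc k) y := by
      rw [IsSeparable, H.minpoly_eq H.y_notMem H.eq]
      exact Polynomial.separable_X_pow_sub_C _ (by exact_mod_cast H.two_ratFunc) (polyToRat_ne_zero H.ne_zero_f)
    have h1 : Algebra.IsSeparable (RatFunc k) (IntermediateField.adjoin (RatFunc k) ({y} : Set K)) :=
      (IntermediateField.isSeparable_adjoin_simple_iff_isSeparable (RatFunc k) K).2 hy
    rw [H.adjoin_eq_top] at h1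
    exact Algebra.IsSeparable.of_algHom (RatFunc k) (⊤ : IntermediateField (RatFunc k) K)
      (IntermediateField.topEquiv (F := RatFunc k) (E := K)).symm.toAlgHom
  have hr := range_ratFunc_eq (k := k) (K := K)
  let e : RatFunc k ≃ₐ[k] k⟮algebraMap (RatFunc k) K RatFunc.X⟯ :=
    (AlgEquiv.ofInjectiveField (IsScalarTower.toAlgHom k (RatFunc k) K)).trans
      (Subalgebra.equivOfEq _ k⟮algebraMap (RatFunc k) K RatFunc.X⟯.toSubalgebra (SetLike.ext fun z => by
        rw [IntermediateField.mem_toSubalgebra, ← SetLike.mem_coe (p := k⟮algebraMap (RatFunc k) K RatFunc.X⟯), ← hr]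
        rfl))
  refine ⟨fun ha => RatFunc.transcendental_X ((isAlgebraic_algebraMap_iff
    (algebraMap (RatFunc k) K).injective).1 ha), ?_, ?_⟩
  · exact Module.Finite.of_equiv_equiv e.toRingEquiv (RingEquiv.refl K) (RingHom.ext fun r => rfl)
  · exact Algebra.IsSeparable.of_equiv_equiv e.toRingEquiv (RingEquiv.refl K) (RingHom.ext fun r => rfl)

variable {F : Place k K → Type*} [∀ P, Field (F P)] [∀ P, Algebra k (F P)]
  [∀ P, FiniteDimensional k (F P)]
  {φ : ∀ P, K →ₐ[k] LaurentSeries (F P)}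

include hK

lemma regular_monomial (hφ : ∀ P, LocRes.IsExpansionAt P.1 (φ P)) {i : ℕ} (hi : i < genus k K)
    (P : Place k K) :
    LocRes.vDiff (φ P) (algebraMap (RatFunc k) K RatFunc.X ^ i / y) (algebraMap (RatFunc k) K RatFunc.X) ≤ 1 := by
  haveI := H.finite
  have hg := H.genus_eq hK
  rw [hg] at hi
  set x := algebraMap (RatFunc k) K RatFunc.X with hx
  obtain ⟨P₀, hP⟩ := exists_below (K' := K) isFunctionField_ratFunc.1 P
  obtain ⟨e, he⟩ := id hP
  rw [LocRes.vDiff, map_mul, (hφ P).1, map_div₀, map_pow]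
  rcases le_or_gt (P₀.1 RatFunc.X) 1 with hX | hX
  · have hPx : P.1 x ≤ 1 := by rw [hx, he]; exact pow_le_one' hX e
    rcases H.ord_y_cases hP hX with ⟨hy, -⟩ | ⟨hy, hf1⟩
    · rw [(val_eq_one_iff P H.y_ne_zero).2 hy, div_one]
      exact mul_le_one' (pow_le_one' hPx i) (LR.v_D_le_one (by rw [(hφ P).1]; exact hPx))
    · -- `y` is a uniformizer
      have hyv : P.1 y = exp (-1 : ℤ) := by rw [val_eq_exp_ord P H.y_ne_zero, hy]
      have hDy := v_D_uniformizer (hφ P) hyv
      have hpoly : y ^ 2 = Polynomial.aeval x f := by rw [H.eq, algebraMap_poly_eq_aeval]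
      have hD : KaehlerDifferential.D k K (y ^ 2) =
          Polynomial.aeval x f.derivative • KaehlerDifferential.D k K x := by
        rw [hpoly, Derivation.map_aeval]
      have h1 := D_exp_of_D (φ P) _ _ _ hD
      rw [map_pow, sq, Derivation.leibniz, smul_eq_mul, ← two_mul] at h1
      have h2 := congrArg (Valued.v (R := (F P)⸨X⸩)) h1
      rw [map_mul, map_mul, map_mul, (hφ P).1, (hφ P).1, hyv, hDy, mul_one,
        ← map_ofNat (φ P) 2, (hφ P).1, ← map_ofNat (algebraMap k K) 2, val_const P H.two, one_mul,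
        ← algebraMap_poly_eq_aeval, he] at h2
      have hv0 : P₀.1 (algebraMap (Polynomial k) (RatFunc k) f.derivative) ≤ 1 := rat_val_poly_le P₀ hX _
      have hvx : Valued.v (LocRes.D (F P) (φ P x)) ≤ 1 := LR.v_D_le_one (by rw [(hφ P).1]; exact hPx)
      have he2 : e = 2 := IsOverWith_unique he ((H.ramified_of_odd (P₀ := P₀) (by rw [hf1]; exact odd_one)).2 P hP).1
      have hone : P₀.1 (algebraMap (Polynomial k) (RatFunc k) f.derivative) = 1 := by
        refine le_antisymm hv0 (not_lt.1 fun hlt => ?_)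
        replace hlt := ((lt_exp_iff _ 0).1 (hlt.trans_eq exp_zero.symm)).trans_eq (by rw [zero_sub])
        have h3 := mul_le_mul' (pow_le_pow_left' hlt e) hvx
        rw [← h2, he2, ← exp_nsmul, mul_one, exp_le_exp] at h3
        norm_num at h3
      rw [hone, one_pow, one_mul] at h2
      rw [← h2, hyv, div_mul_cancel₀ _ exp_ne_zero]
      exact pow_le_one' hPx i
  · have hPx : P.1 x = exp (e : ℤ) := by
      rw [hx, he, rat_val_X_of_inf P₀ hX, ← exp_nsmul, nsmul_eq_mul, mul_one]
    have hyo := H.two_ord_y he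
    rw [H.ord_f_inf hX] at hyo
    refine (mul_le_mul' le_rfl (v_D_le_of_le (m := (e : ℤ)) (by rw [(hφ P).1, hPx]))).trans ?_
    rw [hPx, val_eq_exp_ord P H.y_ne_zero, ← exp_nsmul, ← exp_sub, ← exp_add, ← exp_zero, exp_le_exp,
      nsmul_eq_mul]
    rcases Nat.even_or_odd f.natDegree with hd | hd
    · have he1 : e = 1 := IsOverWith_unique he (H.even_unramified hX hd P hP)
      subst he1
      obtain ⟨m, hm⟩ := hd
      push_cast [hm] at hyo hi ⊢
      omega
    · have he2 : e = 2 := IsOverWith_unique he ((H.ramified_of_odd (P₀ := P₀) (by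
        rw [H.ord_f_inf hX]; obtain ⟨m, hm⟩ := hd; exact ⟨-m - 1, by push_cast [hm]; ring⟩)).2 P hP).1
      subst he2
      obtain ⟨m, hm⟩ := hd
      push_cast [hm] at hyo hi ⊢
      omega

theorem regularDifferentials_basis (hφ : ∀ P, LocRes.IsExpansionAt P.1 (φ P)) (z : K)
    (hz : ∀ P, LocRes.vDiff (φ P) z (algebraMap (RatFunc k) K RatFunc.X) ≤ 1) :
    ∃ a : Polynomial k, a.degree < (genus k K : WithBot ℕ) ∧
      z = algebraMap (RatFunc k) K (algebraMap (Polynomial k) (RatFunc k) a) / y := by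
  set x := algebraMap (RatFunc k) K RatFunc.X with hx
  have hsv := H.isSepVar
  have hG : Good k K := good_of_isSepVar hsv
  obtain ⟨C, hC, -, hcan⟩ :=
    exists_canonical_diff hK hG hφ ((isSepVar_iff_D_ne_zero hK hG).1 hsv)
  have hmem : ∀ w : K, w ∈ L C ↔ ∀ P, LocRes.vDiff (φ P) w x ≤ 1 := fun w => by
    have h := vDiff_le_iff_mem_L hK hG hφ ((isSepVar_iff_D_ne_zero hK hG).1 hsv) hC 0 w
    simpa using h.symm
  haveI := finiteDimensional_L hK C
  let c : Polynomial k →ₗ[k] K := (IsScalarTower.toAlgHom k (RatFunc k) K).toLinearMap ∘ₗ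
    (IsScalarTower.toAlgHom k (Polynomial k) (RatFunc k)).toLinearMap
  let Φ : Polynomial.degreeLT k (genus k K) →ₗ[k] K :=
    (LinearMap.mulRight k y⁻¹) ∘ₗ c ∘ₗ (Polynomial.degreeLT k (genus k K)).subtype
  have hinj : Function.Injective Φ := by
    rw [injective_iff_map_eq_zero]
    rintro ⟨a, ha⟩ h
    have h' : algebraMap (RatFunc k) K (algebraMap (Polynomial k) (RatFunc k) a) * y⁻¹ = 0 := h
    rw [mul_eq_zero, or_iff_left (inv_ne_zero H.y_ne_zero), map_eq_zero] at h'
    have ha0 : a = 0 := RatFunc.algebraMap_injective k (by rw [h', map_zero])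
    subst ha0
    rfl
  have hle : LinearMap.range Φ ≤ L C := by
    rintro _ ⟨⟨a, ha⟩, rfl⟩
    show algebraMap (RatFunc k) K (algebraMap (Polynomial k) (RatFunc k) a) * y⁻¹ ∈ L C
    rw [algebraMap_poly_eq_aeval, ← hx, Polynomial.aeval_eq_sum_range, Finset.sum_mul]
    refine Submodule.sum_mem _ fun i hi => ?_
    rw [smul_mul_assoc]
    rcases eq_or_ne (a.coeff i) 0 with h0 | h0
    · rw [h0, zero_smul]; exact zero_mem _
    refine Submodule.smul_mem _ _ ((hmem _).2 fun P => ?_)
    rw [← div_eq_mul_inv]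
    refine H.regular_monomial hK hφ ?_ P
    have h1 := Polynomial.mem_degreeLT.1 ha
    exact WithBot.coe_lt_coe.1 ((Polynomial.le_degree_of_ne_zero h0).trans_lt h1)
  have hfin : Module.finrank k (LinearMap.range Φ) = ell C := by
    rw [LinearMap.finrank_range_of_inj hinj, (Polynomial.degreeLTEquiv k _).finrank_eq,
      Module.finrank_fin_fun, ell_canonical hK hcan]
  have heq := Submodule.eq_of_le_of_finrank_le hle hfin.ge
  have hzC := (hmem z).2 hz
  rw [← heq] at hzC
  obtain ⟨⟨a, ha⟩, rfl⟩ := hzC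
  exact ⟨a, Polynomial.mem_degreeLT.1 ha, (div_eq_mul_inv _ _).symm⟩

end IsHyper

end Groth.Agent.FF
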