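import Groth.Agent.FF.ArtinSchreier
import Groth.Agent.FF.Hyper3
import Groth.Agent.FF.LR.Expansion

/-! Differentials of quadratic Artin–Schreier function fields. -/

set_option autoImplicit false
set_option linter.unusedSectionVars false
set_option linter.style.haveILetI false

open FunFld WithZero IntermediateField LaurentSeries

namespace Groth.Agent.FF

lemma v_D_eq_of_cast_ne_zero {F : Type*} [Field F] {g : F⸨X⸩} {m : ℤ} (h : Valued.v g = exp m)
    (hm : (m : F) ≠ 0) : Valued.v (LocRes.D F g) = exp (m + 1) := by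
  refine le_antisymm (v_D_le_of_le h.le) (not_lt.1 fun hlt => ?_)
  rw [lt_exp_iff, show m + 1 - 1 = -(-m) by ring, LaurentSeries.valuation_le_iff_coeff_lt_eq_zero] at hlt
  have h0 := hlt (-m - 1) (by omega)
  rw [LocRes.D_coeff, show -m - 1 + 1 = -m by ring, zsmul_eq_mul, mul_eq_zero, Int.cast_neg, neg_eq_zero] at h0
  have hc : g.coeff (-m) = 0 := h0.resolve_left hm
  have h1 : Valued.v g ≤ exp (-(-m + 1) : ℤ) := by
    rw [LaurentSeries.valuation_le_iff_coeff_lt_eq_zero]
    intro n hn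
    rcases lt_or_eq_of_le (show n ≤ -m by omega) with h2 | h2
    · exact coeff_zero_of_lt_valuation F (D := -m) (by rw [h]; simp) h2
    · rw [h2, hc]
  rw [h, exp_le_exp] at h1
  omega

lemma v_D_le_two_mul {F : Type*} [Field F] {g : F⸨X⸩} {δ : ℤ} (hδ : δ = 0 ∨ δ = 1) (h : Valued.v g ≤ exp δ) :
    Valued.v (LocRes.D F g) ≤ exp (2 * δ) := by
  rcases hδ with rfl | rfl
  · rw [mul_zero, exp_zero] at *
    exact LR.v_D_le_one h
  · exact v_D_le_of_le h

lemma rat_zero_unique {k : Type*} [Field k] {p : Polynomial k} (hp : Irreducible p)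
    {P Q : Place k (RatFunc k)} (hP : P.1 (algebraMap (Polynomial k) (RatFunc k) p) < 1)
    (hQ : Q.1 (algebraMap (Polynomial k) (RatFunc k) p) < 1) : P = Q := by
  have hv : ∀ (R : Place k (RatFunc k)), R.1 (algebraMap (Polynomial k) (RatFunc k) p) < 1 →
      ∀ (n : ℕ) (u : Polynomial k), ¬ p ∣ u →
        R.1 (algebraMap (Polynomial k) (RatFunc k) (p ^ n * u)) = exp (-1 : ℤ) ^ n := fun R hR n u hu => by
    rw [map_mul, map_pow, map_mul, map_pow, rat_val_irreducible R hp hR, rat_val_eq_one R hp hR hu, mul_one]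
  refine ext_of_O fun r hr => ?_
  rcases eq_or_ne r 0 with rfl | h0
  · rw [map_zero]; exact zero_le_one
  obtain ⟨a, u, hu, hau⟩ := WfDvdMonoid.max_power_factor (RatFunc.num_ne_zero h0) hp
  obtain ⟨b, w, hw, hbw⟩ := WfDvdMonoid.max_power_factor r.denom_ne_zero hp
  rw [← RatFunc.num_div_denom r, map_div₀, hau, hbw, hv P hP a u hu, hv P hP b w hw] at hr
  rwa [← RatFunc.num_div_denom r, map_div₀, hau, hbw, hv Q hQ a u hu, hv Q hQ b w hw]

variable {k K : Type*} [Field k] [Field K] [Algebra k K] [Algebra (RatFunc k) K]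
  [IsScalarTower k (RatFunc k) K]

lemma map_smul_D {z x c : RatFunc k}
    (h : KaehlerDifferential.D k (RatFunc k) z = c • KaehlerDifferential.D k (RatFunc k) x) :
    KaehlerDifferential.D k K (algebraMap (RatFunc k) K z) =
      algebraMap (RatFunc k) K c • KaehlerDifferential.D k K (algebraMap (RatFunc k) K x) := by
  have := congrArg (KaehlerDifferential.map k k (RatFunc k) K) h
  rw [map_smul, KaehlerDifferential.map_D, KaehlerDifferential.map_D] at this
  rw [this, algebraMap_smul]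

lemma isSepVar_ratFunc_X [FiniteDimensional (RatFunc k) K] [Algebra.IsSeparable (RatFunc k) K] :
    IsSepVar k (algebraMap (RatFunc k) K RatFunc.X) := by
  have hr := range_ratFunc_eq (k := k) (K := K)
  let e : RatFunc k ≃ₐ[k] k⟮algebraMap (RatFunc k) K RatFunc.X⟯ :=
    (AlgEquiv.ofInjectiveField (IsScalarTower.toAlgHom k (RatFunc k) K)).trans
      (Subalgebra.equivOfEq _ k⟮algebraMap (RatFunc k) K RatFunc.X⟯.toSubalgebra (SetLike.ext fun z => by
        rw [IntermediateField.mem_toSubalgebra, ← SetLike.mem_coe (p := k⟮algebraMap (RatFunc k) K RatFunc.X⟯), ← hr]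
        rfl))
  refine ⟨fun ha => RatFunc.transcendental_X ((isAlgebraic_algebraMap_iff
    (algebraMap (RatFunc k) K).injective).1 ha), ?_, ?_⟩
  · exact Module.Finite.of_equiv_equiv e.toRingEquiv (RingEquiv.refl K) (RingHom.ext fun r => rfl)
  · exact Algebra.IsSeparable.of_equiv_equiv e.toRingEquiv (RingEquiv.refl K) (RingHom.ext fun r => rfl)

namespace IsAS

variable [PerfectField k] {y : K} {f : RatFunc k} (H : IsAS y f)
include H

lemma cast_ord_ne_zero {p : Place k (RatFunc k)} (ho : Odd (p.ord f)) (E : Type*) [Field E] [Algebra k E] :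
    ((-p.ord f : ℤ) : E) ≠ 0 := by
  obtain ⟨m, hm⟩ := ho
  have h2 : (2 : E) = 0 := by rw [← map_ofNat (algebraMap k E) 2, H.two, map_zero]
  rw [hm]; push_cast
  rw [h2, zero_mul, zero_add]
  exact neg_ne_zero.2 one_ne_zero

lemma v_D_above {p : Place k (RatFunc k)} (hp : p.ord f < 0) (ho : Odd (p.ord f)) {P : Place k K}
    (he : IsOverWith P p 2) {F F' : Type*} [Field F] [Algebra k F] [Field F'] [Algebra k F']
    {φ : RatFunc k →ₐ[k] LaurentSeries F} (hφ : LocRes.IsExpansionAt p.1 φ)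
    {ψ : K →ₐ[k] LaurentSeries F'} (hψ : LocRes.IsExpansionAt P.1 ψ) (z : RatFunc k) :
    Valued.v (LocRes.D F' (ψ (algebraMap (RatFunc k) K z))) =
      Valued.v (LocRes.D F (φ z)) ^ 2 * exp (p.ord f - 1) := by
  have hf0 : f ≠ 0 := fun e => by simp [e, Place.ord] at hp
  have hb : Valued.v (LocRes.D F (φ f)) = exp (-p.ord f + 1) :=
    v_D_eq_of_cast_ne_zero (by rw [hφ.1, val_eq_exp_ord p hf0]) (H.cast_ord_ne_zero ho F)
  have hy : P.ord y = p.ord f := H.ord_y_pole ⟨2, he⟩ hp ho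
  have ha : Valued.v (LocRes.D F' (ψ (algebraMap (RatFunc k) K f))) = exp (-p.ord f + 1) := by
    rw [← H.eq, map_add, map_pow, map_add, sq, Derivation.leibniz, smul_eq_mul]
    have h2 : (2 : F'⸨X⸩) = 0 := by rw [← map_ofNat ψ 2, H.two_K, map_zero]
    rw [show ψ y * LocRes.D F' (ψ y) + ψ y * LocRes.D F' (ψ y) + LocRes.D F' (ψ y) = LocRes.D F' (ψ y) by
      linear_combination (ψ y * LocRes.D F' (ψ y)) * h2]
    exact v_D_eq_of_cast_ne_zero (by rw [hψ.1, val_eq_exp_ord P H.y_ne_zero, hy]) (H.cast_ord_ne_zero ho F')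
  have hG : Good k (RatFunc k) := good_of_perfect
  have hsv : IsSepVar k f := (isSepVar_iff_D_ne_zero isFunctionField_ratFunc hG).2
    (D_ne_zero_of_D_exp φ fun h => by rw [h, map_zero] at hb; exact exp_ne_zero hb.symm)
  obtain ⟨Hf, hHf⟩ := exists_hasse hsv
  have hD := D_eq_smul hsv hHf z
  rw [D_exp_of_D φ _ _ _ hD, D_exp_of_D ψ _ _ _ (map_smul_D hD), map_mul, map_mul, hφ.1, hψ.1, he, ha, hb,
    mul_pow, mul_assoc, ← exp_nsmul, ← exp_add]
  congr 2
  simp only [nsmul_eq_mul]
  push_cast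
  ring

variable (hodd : ∀ P : Place k (RatFunc k), P.ord f < 0 → Odd (P.ord f))
  {F : Place k K → Type*} [∀ P, Field (F P)] [∀ P, Algebra k (F P)]
  {ψ : ∀ P, K →ₐ[k] LaurentSeries (F P)} (hψ : ∀ P, LocRes.IsExpansionAt P.1 (ψ P))
include hodd hψ

lemma regular_of_mem {Pinf : Place k (RatFunc k)} (hinf : 1 < Pinf.1 RatFunc.X) {r : RatFunc k}
    (hr : r ∈ L (asE f - Finsupp.single Pinf 2)) (P : Place k K) :
    LocRes.vDiff (ψ P) (algebraMap (RatFunc k) K r) (algebraMap (RatFunc k) K RatFunc.X) ≤ 1 := by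
  classical
  haveI := H.finite
  obtain ⟨p, e, he⟩ := exists_below (K' := K) isFunctionField_ratFunc.1 P
  haveI := finiteDimensional_residueField (isFunctionField_ratFunc (k := k)).1 p
  haveI : Algebra.IsAlgebraic k (IsLocalRing.ResidueField p.O) :=
    @Algebra.IsAlgebraic.of_finite k _ _ _ _ _ (finiteDimensional_residueField (isFunctionField_ratFunc (k := k)).1 p)
  haveI : Algebra.IsSeparable k (IsLocalRing.ResidueField p.O) := inferInstance
  obtain ⟨φ, hφ⟩ := exists_expansion (isFunctionField_ratFunc (k := k)).1 p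
  rw [LocRes.vDiff, map_mul, (hψ P).1, he]
  have hr' := hr p
  rw [Finsupp.sub_apply, asE_apply, Finsupp.single_apply] at hr'
  obtain ⟨δ, hδ1, hδX, hδ⟩ : ∃ δ : ℤ, (if Pinf = p then (2 : ℤ) else 0) = 2 * δ ∧ p.1 RatFunc.X ≤ exp δ ∧
      (δ = 0 ∨ δ = 1) := by
    by_cases h : Pinf = p
    · rw [if_pos h]; subst h
      exact ⟨1, rfl, (rat_val_X_of_inf Pinf hinf).le, .inr rfl⟩
    · rw [if_neg h]
      exact ⟨0, rfl, (not_lt.1 fun hX => h (rat_inf_unique _ hinf hX)).trans_eq exp_zero.symm, .inl rfl⟩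
  rw [hδ1] at hr'
  by_cases hf : p.ord f < 0
  · rw [if_pos hf] at hr'
    obtain rfl := IsOverWith_unique he ((H.ramified hf (hodd _ hf)).2 P ⟨e, he⟩).1
    rw [H.v_D_above hf (hodd _ hf) he hφ (hψ P)]
    refine (mul_le_mul' (pow_le_pow_left' hr' 2) (mul_le_mul'
      (pow_le_pow_left' (v_D_le_two_mul hδ (g := φ RatFunc.X) (by rw [hφ.1]; exact hδX)) 2) le_rfl)).trans ?_
    rw [← exp_nsmul, ← exp_nsmul, ← exp_add, ← exp_add, ← exp_zero, exp_le_exp]
    obtain ⟨m, hm⟩ := hodd _ hf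
    simp only [nsmul_eq_mul]
    push_cast
    omega
  · rw [if_neg hf] at hr'
    obtain rfl := IsOverWith_unique he (H.unramified (not_lt.1 hf) P ⟨e, he⟩)
    refine (mul_le_mul' (pow_le_pow_left' hr' 1) (v_D_le_two_mul hδ (by
      rw [(hψ P).1, he, pow_one]; exact hδX))).trans ?_
    rw [pow_one, ← exp_add, ← exp_zero, exp_le_exp]
    omega

variable [∀ P, FiniteDimensional k (F P)] [Algebra.IsSeparable (RatFunc k) K]

/-- the regular differentials are `ι r dx`, `r ∈ L(E - 2∞)` -/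
theorem regular_iff (hK : IsFunctionField k K) {Pinf : Place k (RatFunc k)} (hinf : 1 < Pinf.1 RatFunc.X) :
    (∀ z : K, (∀ P, LocRes.vDiff (ψ P) z (algebraMap (RatFunc k) K RatFunc.X) ≤ 1) ↔
      z ∈ Submodule.map (IsScalarTower.toAlgHom k (RatFunc k) K).toLinearMap
        (L (asE f - Finsupp.single Pinf 2))) ∧
    genus k K = ell (asE f - Finsupp.single Pinf 2) := by
  haveI := H.finite
  set x := algebraMap (RatFunc k) K RatFunc.X
  set c := (IsScalarTower.toAlgHom k (RatFunc k) K).toLinearMap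
  set M := asE f - Finsupp.single Pinf (2 : ℤ) with hM
  have hge := H.genus_eq hodd hK
  have hgM : genus k K = ell M := by
    have h := ell_ratFunc (D := M) (by rw [hM, deg_sub, deg_single, rat_deg_inf Pinf hinf]; omega)
    rw [hM, deg_sub, deg_single, rat_deg_inf Pinf hinf, ← hM] at h
    omega
  refine ⟨fun z => ⟨fun hz => ?_, ?_⟩, hgM⟩
  · have hG : Good k K := good_of_perfect
    have hx : IsSepVar k x := isSepVar_ratFunc_X
    obtain ⟨C, hC, -, hcan⟩ :=
      exists_canonical_diff hK hG hψ ((isSepVar_iff_D_ne_zero hK hG).1 hx)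
    have hmem : ∀ w : K, w ∈ L C ↔ ∀ P, LocRes.vDiff (ψ P) w x ≤ 1 := fun w => by
      have h := vDiff_le_iff_mem_L hK hG hψ ((isSepVar_iff_D_ne_zero hK hG).1 hx) hC 0 w
      simpa using h.symm
    haveI := finiteDimensional_L hK C
    haveI := finiteDimensional_L (isFunctionField_ratFunc (k := k)).1 M
    have hle : Submodule.map c (L M) ≤ L C := by
      rintro _ ⟨r, hr, rfl⟩
      exact (hmem _).2 (H.regular_of_mem hodd hψ hinf hr)
    have heq := Submodule.eq_of_le_of_finrank_le hle (le_of_eq (by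
      rw [(Submodule.equivMapOfInjective c (algebraMap (RatFunc k) K).injective (L M)).finrank_eq.symm]
      exact (ell_canonical hK hcan).trans hgM))
    rw [heq]
    exact (hmem z).2 hz
  · rintro ⟨r, hr, rfl⟩ P
    exact H.regular_of_mem hodd hψ hinf hr P

end IsAS

end Groth.Agent.FF
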