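import Groth.Agent.FF.ASLinear

/-! A basis of repartitions modulo `A(0) + K` for an Artin–Schreier double cover. -/

set_option autoImplicit false
set_option linter.unusedSectionVars false
set_option linter.style.haveILetI false

open FunFld WithZero IntermediateField
open Classical

namespace Groth.Agent.FF

variable {k : Type*} [Field k]

lemma single_ord_le_natDegree {β : k} {q : Polynomial k} (hq : q ≠ 0) :
    (ratPt β).ord (algebraMap (Polynomial k) (RatFunc k) q) ≤ q.natDegree := by
  obtain ⟨n, u, hu, rfl⟩ := WfDvdMonoid.max_power_factor hq (Polynomial.irreducible_X_sub_C β)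
  have hu0 : u ≠ 0 := right_ne_zero_of_mul hq
  have hv : (ratPt β).1 (algebraMap (Polynomial k) (RatFunc k) u) = 1 :=
    rat_val_eq_one _ (Polynomial.irreducible_X_sub_C β)
      (exists_rat_zero (Polynomial.irreducible_X_sub_C β)).choose_spec hu
  rw [map_mul, map_pow, ← ratX_sub_C, ord_mul _ (pow_ne_zero _ (by
      rw [ratX_sub_C]; exact polyToRat_ne_zero (Polynomial.X_sub_C_ne_zero β))) (polyToRat_ne_zero hu0),
    ord_pow, ord_of_val_eq _ (ratPt_val_self β), (val_eq_one_iff _ (polyToRat_ne_zero hu0)).1 hv,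
    Polynomial.natDegree_mul (pow_ne_zero _ (Polynomial.X_sub_C_ne_zero β)) hu0, Polynomial.natDegree_pow,
    Polynomial.natDegree_X_sub_C]
  push_cast
  omega

variable {K : Type*} [Field K] [Algebra k K] [Algebra (RatFunc k) K] [IsScalarTower k (RatFunc k) K]
  [FiniteDimensional (RatFunc k) K]

namespace IsASLin

variable {y : K} {f : RatFunc k} {B : Finset k} {d : k → ℕ} (H : IsASLin y f B d)
variable {Pl : k → Place k K}
  (hPl : ∀ β ∈ B, (Pl β).1 ((algebraMap (RatFunc k) K RatFunc.X) - (algebraMap k K β)) < 1)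
include H hPl

/-- the only combination of `Pi.single (Pl β) (S_β(x-β) · y)` in `A(0) + K` is zero -/
lemma eq_zero_of_mem (s : k → Polynomial k) (hdeg : ∀ β ∈ B, 2 * (s β).natDegree + 1 ≤ d β)
    (h0 : (s 0).coeff 0 = 0)
    (hmem : (∑ β ∈ B, (Pi.single (Pl β) (algebraMap (RatFunc k) K
        (algebraMap (Polynomial k) (RatFunc k) ((s β).comp (Polynomial.X - Polynomial.C β))) * y) : Place k K → K)) ∈
      AD (0 : Divisor k K) ⊔ LinearMap.range (diag k K)) :
    ∀ β ∈ B, s β = 0 := by
  obtain ⟨a0, ha0, -, ⟨z, rfl⟩, hsum⟩ := Submodule.mem_sup.1 hmem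
  have hinj : ∀ β ∈ B, ∀ γ ∈ B, Pl β = Pl γ → β = γ := fun β hβ γ hγ he =>
    ratPt_injective (isOver_unique ((H.over_iff hPl hβ _).2 rfl) (he ▸ (H.over_iff hPl hγ _).2 rfl))
  set t : k → K := fun β => algebraMap (RatFunc k) K
    (algebraMap (Polynomial k) (RatFunc k) ((s β).comp (Polynomial.X - Polynomial.C β)))
  have hbound : ∀ P : Place k K, P.1 (a0 P) ≤ 1 := fun P => (ha0 P).trans_eq exp_zero
  have hval : ∀ P : Place k K, a0 P + z = ∑ β ∈ B, (Pi.single (Pl β) (t β * y) : Place k K → K) P := fun P => by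
    have := congrFun hsum P
    rw [Finset.sum_apply] at this
    exact this
  have hat : ∀ β ∈ B, (Pl β).1 (t β * y - z) ≤ 1 := fun β hβ => by
    have := hval (Pl β)
    rw [Finset.sum_eq_single β (fun γ hγ hne => by
        rw [Pi.single_eq_of_ne fun e => hne (hinj β hβ γ hγ e).symm]) (fun h => absurd hβ h),
      Pi.single_eq_same] at this
    rw [← this, add_sub_cancel_right]
    exact hbound _
  have hout : ∀ P : Place k K, (∀ β ∈ B, P ≠ Pl β) → P.1 z ≤ 1 := fun P hP => by
    have := hval P
    rw [Finset.sum_eq_zero fun γ hγ => Pi.single_eq_of_ne (hP γ hγ) _, add_eq_zero_iff_eq_neg] at this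
    have h1 := hbound P
    rwa [this, Valuation.map_neg] at h1
  have hE : z ∈ L (conorm K (asE f)) := by
    intro P
    by_cases hP : ∃ β ∈ B, P = Pl β
    · obtain ⟨β, hβ, rfl⟩ := hP
      obtain ⟨he, hy⟩ := H.over_pole hβ ((H.over_iff hPl hβ _).2 rfl)
      rw [conorm_apply isFunctionField_ratFunc.1 _ ⟨2, he⟩, ramIdx_eq he, H.asE_ratPt hβ,
        show z = t β * y - (t β * y - z) by ring]
      refine ((Pl β).1.map_sub _ _).trans (max_le ?_ ((hat β hβ).trans ?_))
      · rw [map_mul, val_eq_exp_ord _ H.as.y_ne_zero, hy, neg_neg]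
        refine (mul_le_of_le_one_left' ?_).trans (exp_le_exp.2 (by push_cast; omega))
        rw [val_algebraMap_le_one_iff ⟨2, he⟩]
        exact rat_val_poly_le _ (ratPt_X_le β) _
      · rw [← exp_zero, exp_le_exp]
        positivity
    · push Not at hP
      obtain ⟨p, e, he⟩ := exists_below (K' := K) isFunctionField_ratFunc.1 P
      rw [conorm_apply isFunctionField_ratFunc.1 _ ⟨e, he⟩]
      refine (hout P hP).trans ?_
      rw [← exp_zero, exp_le_exp]
      exact mul_nonneg (Int.natCast_nonneg _) (asE_nonneg f p)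
  obtain ⟨a, b, -, hb, rfl⟩ := (H.as.mem_L_iff H.hodd _ z).1 hE
  rw [sub_self] at hb
  obtain ⟨q, rfl⟩ := rat_eq_poly fun p _ => (hb p).trans_eq exp_zero
  obtain ⟨Pinf, hinf⟩ := exists_rat_inf (k := k)
  obtain ⟨c0, rfl⟩ : ∃ c0, q = Polynomial.C c0 := by
    rcases eq_or_ne q 0 with rfl | hq
    · exact ⟨0, by simp⟩
    refine ⟨q.coeff 0, Polynomial.eq_C_of_natDegree_eq_zero ?_⟩
    have := hb Pinf
    rw [rat_val_eq_exp_natDegree Pinf hinf hq, Finsupp.coe_zero, Pi.zero_apply, exp_le_exp] at this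
    omega
  have key : ∀ β ∈ B, s β = Polynomial.C c0 := by
    intro β hβ
    by_contra hne
    obtain ⟨he, hy⟩ := H.over_pole hβ ((H.over_iff hPl hβ _).2 rfl)
    set q : Polynomial k := (s β - Polynomial.C c0).comp (Polynomial.X - Polynomial.C β) with hq
    have hqdeg : q.natDegree = (s β - Polynomial.C c0).natDegree := by
      rw [hq, Polynomial.natDegree_comp, Polynomial.natDegree_X_sub_C, mul_one]
    have hq0 : q ≠ 0 := fun h => by
      rw [hq, Polynomial.comp_eq_zero_iff] at h
      rcases h with h | ⟨-, h⟩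
      · exact hne (sub_eq_zero.1 h)
      · have := congrArg Polynomial.natDegree h
        rw [Polynomial.natDegree_C, Polynomial.natDegree_X_sub_C] at this
        omega
    have h1 := hat β hβ
    have h2 : t β * y - (algebraMap (RatFunc k) K a +
        algebraMap (RatFunc k) K (algebraMap (Polynomial k) (RatFunc k) (Polynomial.C c0)) * y) =
        algebraMap (RatFunc k) K (algebraMap (Polynomial k) (RatFunc k) q) * y - algebraMap (RatFunc k) K a := by
      simp only [t, hq, Polynomial.sub_comp, Polynomial.C_comp, map_sub]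
      ring
    rw [h2] at h1
    have hb2 : (Pl β).ord (algebraMap (RatFunc k) K (algebraMap (Polynomial k) (RatFunc k) q) * y) =
        2 * (ratPt β).ord (algebraMap (Polynomial k) (RatFunc k) q) - d β := by
      rw [ord_mul _ ((map_ne_zero _).2 (polyToRat_ne_zero hq0)) H.as.y_ne_zero, IsOverWith_ord he, hy]
      push_cast
      ring
    have hne' : (Pl β).1 (algebraMap (RatFunc k) K (algebraMap (Polynomial k) (RatFunc k) q) * y) ≠
        (Pl β).1 (algebraMap (RatFunc k) K a) := fun heq => by
      have h3 : (Pl β).ord (algebraMap (RatFunc k) K (algebraMap (Polynomial k) (RatFunc k) q) * y) =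
          (Pl β).ord (algebraMap (RatFunc k) K a) := congrArg (fun v => -WithZero.log v) heq
      rw [hb2, IsOverWith_ord he] at h3
      obtain ⟨m, hm⟩ := H.odd β hβ
      push_cast [hm] at h3
      omega
    rw [sub_eq_add_neg, Valuation.map_add_of_distinct_val _ (by rwa [Valuation.map_neg]), Valuation.map_neg] at h1
    have h4 := (val_le_one_iff _ _).1 ((le_max_left _ _).trans h1)
    rw [hb2] at h4
    have h5 := single_ord_le_natDegree (β := β) hq0
    have h6 : (s β - Polynomial.C c0).natDegree ≤ (s β).natDegree := by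
      rw [Polynomial.natDegree_sub_C]
    have := hdeg β hβ
    omega
  have hc0 : c0 = 0 := by
    have := h0
    rwa [key 0 H.zero_mem, Polynomial.coeff_C_zero] at this
  intro β hβ
  rw [key β hβ, hc0, map_zero]

theorem h1_family {I : Type*} [Fintype I] (bI : I → ↥B) (jI : I → ℕ)
    (hinj : Function.Injective fun i => (bI i, jI i)) (hj : ∀ i, 2 * jI i + 1 ≤ d (bI i : k))
    (hz : ∀ i, (bI i : k) = 0 → jI i ≠ 0) :
    (∀ i, (Pi.single (Pl (bI i : k)) (y * ((algebraMap (RatFunc k) K RatFunc.X) - (algebraMap k K (bI i : k))) ^ jI i) :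
        Place k K → K) ∈ adele k K) ∧
    LinearIndependent k (fun i => Submodule.mkQ (AD (0 : Divisor k K) ⊔ LinearMap.range (diag k K))
      (Pi.single (Pl (bI i : k)) (y * ((algebraMap (RatFunc k) K RatFunc.X) - (algebraMap k K (bI i : k))) ^ jI i) :
        Place k K → K)) := by
  refine ⟨fun i => ?_, ?_⟩
  · show ∀ᶠ P : Place k K in Filter.cofinite, P.1 _ ≤ 1
    rw [Filter.eventually_cofinite]
    refine (Set.finite_singleton (Pl (bI i : k))).subset fun P hP => ?_
    by_contra hne
    apply hP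
    show P.1 ((Pi.single (Pl (bI i : k)) _ : Place k K → K) P) ≤ 1
    rw [Pi.single_eq_of_ne hne, map_zero]
    exact zero_le
  rw [Fintype.linearIndependent_iff]
  intro g hg i0
  set s : k → Polynomial k := fun β =>
    ∑ i ∈ Finset.univ.filter (fun i => (bI i : k) = β), Polynomial.C (g i) * Polynomial.X ^ jI i with hs
  have hs0 : (s 0).coeff 0 = 0 := by
    simp only [hs, Polynomial.finsetSum_coeff, Polynomial.coeff_C_mul, Polynomial.coeff_X_pow]
    refine Finset.sum_eq_zero fun i hi => ?_
    rw [if_neg (Ne.symm (hz i (Finset.mem_filter.1 hi).2)), mul_zero]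
  have hsdeg : ∀ β ∈ B, 2 * (s β).natDegree + 1 ≤ d β := fun β hβ => by
    have h1 : (s β).natDegree ≤ (d β - 1) / 2 := by
      refine Polynomial.natDegree_sum_le_of_forall_le _ _ fun i hi => ?_
      refine (Polynomial.natDegree_C_mul_X_pow_le _ _).trans ?_
      have := hj i
      rw [(Finset.mem_filter.1 hi).2] at this
      omega
    have := H.d_pos hβ
    omega
  have hsum : (∑ β ∈ B, (Pi.single (Pl β) (algebraMap (RatFunc k) K
        (algebraMap (Polynomial k) (RatFunc k) ((s β).comp (Polynomial.X - Polynomial.C β))) * y) : Place k K → K)) =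
      ∑ i, g i • (Pi.single (Pl (bI i : k))
        (y * ((algebraMap (RatFunc k) K RatFunc.X) - (algebraMap k K (bI i : k))) ^ jI i) : Place k K → K) := by
    rw [← Finset.sum_fiberwise_of_maps_to (g := fun i => (bI i : k)) (t := B) (fun i _ => (bI i).2)]
    refine Finset.sum_congr rfl fun β _ => ?_
    funext P
    rw [Finset.sum_apply]
    by_cases hP : P = Pl β
    · subst hP
      rw [Pi.single_eq_same]
      simp only [hs, Polynomial.comp, Polynomial.eval₂_finsetSum, Polynomial.eval₂_mul, Polynomial.eval₂_C,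
        Polynomial.eval₂_X_pow, map_sum, map_mul, map_pow, ← ratX_sub_C, Finset.sum_mul, Pi.smul_apply]
      refine Finset.sum_congr rfl fun i hi => ?_
      rw [(Finset.mem_filter.1 hi).2, Pi.single_eq_same, algebraMap_sub_C, Algebra.smul_def,
        RatFunc.algebraMap_C, ← RatFunc.algebraMap_eq_C, ← IsScalarTower.algebraMap_apply]
      ring
    · rw [Pi.single_eq_of_ne hP, Finset.sum_eq_zero]
      intro i hi
      rw [Pi.smul_apply, (Finset.mem_filter.1 hi).2, Pi.single_eq_of_ne hP, smul_zero]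
  have hmem := H.eq_zero_of_mem hPl s hsdeg hs0 (by
    rw [hsum, ← Submodule.Quotient.mk_eq_zero, ← Submodule.mkQ_apply, map_sum, ← hg]
    exact Finset.sum_congr rfl fun i _ => map_smul _ _ _) (bI i0 : k) (bI i0).2
  have hc := congrArg (fun q : Polynomial k => q.coeff (jI i0)) hmem
  simp only [hs, Polynomial.finsetSum_coeff, Polynomial.coeff_C_mul, Polynomial.coeff_X_pow,
    Polynomial.coeff_zero, mul_ite, mul_one, mul_zero] at hc
  rw [Finset.sum_eq_single i0] at hc
  · simpa using hc
  · intro i hi hne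
    rw [if_neg fun e => hne (hinj (Prod.ext (Subtype.ext (Finset.mem_filter.1 hi).2) e.symm))]
  · intro hn
    exact absurd (Finset.mem_filter.2 ⟨Finset.mem_univ i0, rfl⟩ : i0 ∈ Finset.univ.filter (fun i => (bI i : k) = (bI i0 : k))) hn

theorem h1_span [IsAlgClosed k] (hK : IsFunctionField k K) {I : Type*} [Fintype I] (bI : I → ↥B) (jI : I → ℕ)
    (hinj : Function.Injective fun i => (bI i, jI i)) (hj : ∀ i, 2 * jI i + 1 ≤ d (bI i : k))
    (hz : ∀ i, (bI i : k) = 0 → jI i ≠ 0)
    (hcard : (Fintype.card I : ℤ) = (∑ β ∈ B, (((d β + 1) / 2 : ℕ) : ℤ)) - 1)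
    {a : Place k K → K} (ha : a ∈ adele k K) :
    a ∈ (AD (0 : Divisor k K) ⊔ LinearMap.range (diag k K)) ⊔ Submodule.span k (Set.range fun i =>
      (Pi.single (Pl (bI i : k)) (y * ((algebraMap (RatFunc k) K RatFunc.X) - (algebraMap k K (bI i : k))) ^ jI i) :
        Place k K → K)) := by
  obtain ⟨hmem, hli⟩ := H.h1_family hPl bI jI hinj hj hz
  set W := AD (0 : Divisor k K) ⊔ LinearMap.range (diag k K)
  set h : I → (Place k K → K) := fun i =>
    Pi.single (Pl (bI i : k)) (y * ((algebraMap (RatFunc k) K RatFunc.X) - (algebraMap k K (bI i : k))) ^ jI i)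
  obtain ⟨hfin, hdim⟩ := finrank_quotient_ADK hK (0 : Divisor k K)
  haveI := hfin
  have hge := H.as.genus_eq H.hodd hK
  rw [H.deg_asE] at hge
  rw [spec_zero hK, sub_zero] at hdim
  set cls : I → (↥(adele k K) ⧸ ADK (0 : Divisor k K)) := fun i => Submodule.Quotient.mk ⟨h i, hmem i⟩
  let ι : (↥(adele k K) ⧸ ADK (0 : Divisor k K)) →ₗ[k] (Place k K → K) ⧸ W :=
    Submodule.mapQ (ADK (0 : Divisor k K)) W (adele k K).subtype le_rfl
  have hcl : LinearIndependent k cls := LinearIndependent.of_comp ι hli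
  have htop : Submodule.span k (Set.range cls) = ⊤ := by
    refine Submodule.eq_top_of_finrank_eq ?_
    rw [finrank_span_eq_card hcl]
    omega
  have hq : (Submodule.Quotient.mk ⟨a, ha⟩ : ↥(adele k K) ⧸ ADK (0 : Divisor k K)) ∈ Submodule.span k (Set.range cls) := by
    rw [htop]; trivial
  obtain ⟨c, hc⟩ := (Submodule.mem_span_range_iff_exists_fun k).1 hq
  have h1 := congrArg ι hc
  rw [map_sum] at h1
  have h2 : W.mkQ (∑ i, c i • h i) = W.mkQ a := by
    rw [map_sum]
    refine Eq.trans (Finset.sum_congr rfl fun i _ => ?_) h1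
    rw [map_smul, map_smul]
    rfl
  rw [Submodule.mkQ_apply, Submodule.mkQ_apply, Submodule.Quotient.eq] at h2
  rw [show a = -(∑ i, c i • h i - a) + ∑ i, c i • h i by abel]
  exact Submodule.add_mem_sup (neg_mem h2) (Submodule.sum_mem _ fun i _ =>
    Submodule.smul_mem _ _ (Submodule.subset_span ⟨i, rfl⟩))

end IsASLin

end Groth.Agent.FF
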