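import Groth.Agent.FF.ASBasis

/-! Artin–Schreier double covers of the line with poles at finitely many rational points
(algebraically closed constants). -/

set_option autoImplicit false
set_option linter.unusedSectionVars false
set_option linter.style.haveILetI false

open FunFld WithZero IntermediateField LaurentSeries

namespace Groth.Agent.FF

variable {k : Type*} [Field k]

lemma ratX_sub_C (β : k) : (RatFunc.X : RatFunc k) - RatFunc.C β =
    algebraMap (Polynomial k) (RatFunc k) (Polynomial.X - Polynomial.C β) := by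
  rw [map_sub, RatFunc.algebraMap_X, RatFunc.algebraMap_C]

/-- the place `x = β` of the line -/
noncomputable def ratPt (β : k) : Place k (RatFunc k) :=
  (exists_rat_zero (Polynomial.irreducible_X_sub_C β)).choose

lemma ratPt_lt (β : k) : (ratPt β).1 ((RatFunc.X : RatFunc k) - RatFunc.C β) < 1 := by
  rw [ratX_sub_C]; exact (exists_rat_zero (Polynomial.irreducible_X_sub_C β)).choose_spec

lemma eq_ratPt {p : Place k (RatFunc k)} {β : k} (h : p.1 ((RatFunc.X : RatFunc k) - RatFunc.C β) < 1) :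
    p = ratPt β := by
  have := ratPt_lt β
  rw [ratX_sub_C] at h this
  exact rat_zero_unique (Polynomial.irreducible_X_sub_C β) h this

lemma ratPt_X_le (β : k) : (ratPt β).1 RatFunc.X ≤ 1 :=
  rat_val_X_le_of_zero _ (Polynomial.X_sub_C_ne_zero β) (exists_rat_zero (Polynomial.irreducible_X_sub_C β)).choose_spec

lemma ratPt_val_self (β : k) : (ratPt β).1 ((RatFunc.X : RatFunc k) - RatFunc.C β) = exp (-1 : ℤ) := by
  rw [ratX_sub_C]
  exact rat_val_irreducible _ (Polynomial.irreducible_X_sub_C β)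
    (exists_rat_zero (Polynomial.irreducible_X_sub_C β)).choose_spec

lemma ratPt_val_ne {β γ : k} (h : β ≠ γ) : (ratPt β).1 ((RatFunc.X : RatFunc k) - RatFunc.C γ) = 1 := by
  rw [ratX_sub_C]
  refine rat_val_eq_one _ (Polynomial.irreducible_X_sub_C β)
    (exists_rat_zero (Polynomial.irreducible_X_sub_C β)).choose_spec fun hd => h ?_
  have := Polynomial.dvd_iff_isRoot.1 hd
  simpa [sub_eq_zero] using this

lemma ratPt_injective : Function.Injective (ratPt (k := k)) := fun β γ h => by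
  by_contra hne
  have h1 := ratPt_val_ne hne
  rw [h, ratPt_val_self, ← exp_zero, exp_inj] at h1
  omega

lemma rat_inf_val_sub (β : k) {p : Place k (RatFunc k)} (hp : 1 < p.1 RatFunc.X) :
    p.1 ((RatFunc.X : RatFunc k) - RatFunc.C β) = exp (1 : ℤ) := by
  rw [ratX_sub_C, rat_val_eq_exp_natDegree p hp (Polynomial.X_sub_C_ne_zero β), Polynomial.natDegree_X_sub_C]
  rfl

lemma rat_val_sub_eq_one {p : Place k (RatFunc k)} (hX : p.1 RatFunc.X ≤ 1) {β : k} (h : p ≠ ratPt β) :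
    p.1 ((RatFunc.X : RatFunc k) - RatFunc.C β) = 1 := by
  refine le_antisymm ?_ (not_lt.1 fun hlt => h (eq_ratPt hlt))
  rw [ratX_sub_C]
  exact rat_val_poly_le p hX _

lemma ratPt_deg [IsAlgClosed k] (β : k) : (ratPt β).deg = 1 := deg_eq_one isFunctionField_ratFunc _

/-- a family with dominant poles is linearly independent -/
lemma linearIndependent_of_dominant {K : Type*} [Field K] [Algebra k K] {I : Type*} (w : I → K)
    (p : I → Place k K) (n : I → ℤ) (hi : ∀ i, (p i).1 (w i) = exp (n i))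
    (hl : ∀ i l, l ≠ i → n l ≤ n i → (p i).1 (w l) < exp (n i)) : LinearIndependent k w := by
  classical
  rw [linearIndependent_iff']
  intro s g hsum i his
  by_contra hne
  obtain ⟨j, hj, hmax⟩ := Finset.exists_max_image (s.filter fun i => g i ≠ 0) n
    ⟨i, Finset.mem_filter.2 ⟨his, hne⟩⟩
  rw [Finset.mem_filter] at hj
  have h1 : (p j).1 (∑ l ∈ s.erase j, g l • w l) < exp (n j) := by
    refine Valuation.map_sum_lt _ exp_ne_zero fun l hls => ?_
    rw [Finset.mem_erase] at hls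
    rcases eq_or_ne (g l) 0 with h0 | h0
    · rw [h0, zero_smul, map_zero]; exact exp_pos
    · rw [val_smul _ h0]
      exact hl j l hls.1 (hmax l (Finset.mem_filter.2 ⟨hls.2, h0⟩))
  rw [← Finset.add_sum_erase _ _ hj.1, add_eq_zero_iff_eq_neg] at hsum
  have h2 := congrArg (p j).1 hsum
  rw [val_smul _ hj.2, hi, Valuation.map_neg] at h2
  exact (h2 ▸ h1).ne rfl

variable {K : Type*} [Field K] [Algebra k K] [Algebra (RatFunc k) K] [IsScalarTower k (RatFunc k) K]

lemma algebraMap_sub_C (β : k) :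
    algebraMap (RatFunc k) K RatFunc.X - algebraMap k K β =
      algebraMap (RatFunc k) K ((RatFunc.X : RatFunc k) - RatFunc.C β) := by
  rw [map_sub, IsScalarTower.algebraMap_apply k (RatFunc k) K, RatFunc.algebraMap_eq_C]

lemma over_ratPt [FiniteDimensional (RatFunc k) K] {P : Place k K} {β : k}
    (h : P.1 (algebraMap (RatFunc k) K RatFunc.X - algebraMap k K β) < 1) : IsOver P (ratPt β) := by
  obtain ⟨p, hp⟩ := exists_below (K' := K) isFunctionField_ratFunc.1 P
  rw [algebraMap_sub_C, val_algebraMap_lt_one_iff hp] at h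
  exact eq_ratPt h ▸ hp

/-- the hypotheses of the statements -/
structure IsASLin (y : K) (f : RatFunc k) (B : Finset k) (d : k → ℕ) : Prop where
  as : IsAS y f
  zero_mem : (0 : k) ∈ B
  odd : ∀ β ∈ B, Odd (d β)
  pole : ∀ (p : Place k (RatFunc k)) (β : k), β ∈ B →
      p.1 ((RatFunc.X : RatFunc k) - RatFunc.C β) < 1 → p.ord f = -(d β : ℤ)
  int : ∀ p : Place k (RatFunc k), (∀ β ∈ B, 1 ≤ p.1 ((RatFunc.X : RatFunc k) - RatFunc.C β)) → p.1 f ≤ 1

namespace IsASLin

variable {y : K} {f : RatFunc k} {B : Finset k} {d : k → ℕ} (H : IsASLin y f B d)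
include H

lemma ord_ratPt {β : k} (hβ : β ∈ B) : (ratPt β).ord f = -(d β : ℤ) := H.pole _ β hβ (ratPt_lt β)

lemma d_pos {β : k} (hβ : β ∈ B) : 0 < d β := (H.odd β hβ).pos

lemma ord_neg {β : k} (hβ : β ∈ B) : (ratPt β).ord f < 0 := by
  rw [H.ord_ratPt hβ]; have := H.d_pos hβ; omega

lemma exists_of_pole {p : Place k (RatFunc k)} (hp : p.ord f < 0) : ∃ β ∈ B, p = ratPt β := by
  by_contra! hno
  exact not_lt.2 ((val_le_one_iff p f).1 (H.int p fun β hβ => not_lt.1 fun h => hno β hβ (eq_ratPt h))) hp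

lemma ord_nonneg {p : Place k (RatFunc k)} (h : ∀ β ∈ B, p ≠ ratPt β) : 0 ≤ p.ord f :=
  not_lt.1 fun hp => by obtain ⟨β, hβ, e⟩ := H.exists_of_pole hp; exact h β hβ e

lemma ord_inf_nonneg {p : Place k (RatFunc k)} (hX : 1 < p.1 RatFunc.X) : 0 ≤ p.ord f :=
  H.ord_nonneg fun β _ e => not_lt.2 (ratPt_X_le β) (e ▸ hX)

lemma hodd : ∀ p : Place k (RatFunc k), p.ord f < 0 → Odd (p.ord f) := fun p hp => by
  obtain ⟨β, hβ, rfl⟩ := H.exists_of_pole hp
  rw [H.ord_ratPt hβ, odd_neg, Int.odd_coe_nat]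
  exact H.odd β hβ

lemma asE_ratPt {β : k} (hβ : β ∈ B) : asE f (ratPt β) = ((d β + 1) / 2 : ℕ) := by
  rw [asE_apply, if_pos (H.ord_neg hβ), H.ord_ratPt hβ]
  push_cast
  congr 1
  ring

lemma asE_eq_zero {p : Place k (RatFunc k)} (h : ∀ β ∈ B, p ≠ ratPt β) : asE f p = 0 := by
  rw [asE_apply, if_neg (not_lt.2 (H.ord_nonneg h))]

lemma deg_asE [IsAlgClosed k] : (asE f).deg = ∑ β ∈ B, (((d β + 1) / 2 : ℕ) : ℤ) := by
  classical
  have h : asE f = ∑ β ∈ B, Finsupp.single (ratPt β) (((d β + 1) / 2 : ℕ) : ℤ) := by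
    ext p
    rw [Finset.sum_apply']
    simp only [Finsupp.single_apply]
    by_cases hp : ∃ β ∈ B, p = ratPt β
    · obtain ⟨β, hβ, rfl⟩ := hp
      rw [H.asE_ratPt hβ, Finset.sum_eq_single β (fun γ _ hγ => if_neg fun e => hγ (ratPt_injective e))
        (fun h => absurd hβ h), if_pos rfl]
    · push Not at hp
      rw [H.asE_eq_zero hp, Finset.sum_eq_zero fun γ hγ => if_neg fun e => hp γ hγ e.symm]
  have hd : ∀ s : Finset k, (∑ β ∈ s, Finsupp.single (ratPt β) (((d β + 1) / 2 : ℕ) : ℤ) : Divisor k (RatFunc k)).deg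
      = ∑ β ∈ s, (((d β + 1) / 2 : ℕ) : ℤ) := fun s => by
    induction s using Finset.induction_on with
    | empty => simp
    | insert a s ha ih =>
      rw [Finset.sum_insert ha, Finset.sum_insert ha, deg_add, ih, deg_single, ratPt_deg]
      simp
  rw [h, hd]

variable [FiniteDimensional (RatFunc k) K]

lemma over_pole {β : k} (hβ : β ∈ B) {P : Place k K} (hP : IsOver P (ratPt β)) :
    IsOverWith P (ratPt β) 2 ∧ P.ord y = -(d β : ℤ) :=
  ⟨((H.as.ramified (H.ord_neg hβ) (H.hodd _ (H.ord_neg hβ))).2 P hP).1, by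
    rw [H.as.ord_y_pole hP (H.ord_neg hβ) (H.hodd _ (H.ord_neg hβ)), H.ord_ratPt hβ]⟩

lemma over_unique {β : k} (hβ : β ∈ B) {P Q : Place k K} (hP : IsOver P (ratPt β)) (hQ : IsOver Q (ratPt β)) :
    P = Q := (H.as.ramified (H.ord_neg hβ) (H.hodd _ (H.ord_neg hβ))).1.unique hP hQ

lemma ord_y_inf {P : Place k K} (hP : 1 < P.1 (algebraMap (RatFunc k) K RatFunc.X)) : 0 ≤ P.ord y := by
  obtain ⟨p, e, he⟩ := exists_below (K' := K) isFunctionField_ratFunc.1 P
  refine (val_le_one_iff P y).1 ((H.as.place_facts he).1 (H.ord_inf_nonneg ?_))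
  by_contra hX
  exact not_lt.2 (by rw [he]; exact pow_le_one' (not_lt.1 hX) e) hP

lemma exists_inf_ord_zero : ∃ P : Place k K, 1 < P.1 (algebraMap (RatFunc k) K RatFunc.X) ∧ P.ord y = 0 := by
  obtain ⟨p, hp⟩ := exists_rat_inf (k := k)
  obtain ⟨P, e, he⟩ := exists_over (K' := K) isFunctionField_ratFunc.1 p
  have hPX : 1 < P.1 (algebraMap (RatFunc k) K RatFunc.X) := by
    rw [he]; exact one_lt_pow₀ hp (IsOverWith_pos he).ne'
  have hle : P.1 y ≤ 1 := (H.as.place_facts he).1 (H.ord_inf_nonneg hp)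
  rcases hle.eq_or_lt with h | h
  · exact ⟨P, hPX, (val_eq_one_iff P H.as.y_ne_zero).1 h⟩
  · obtain ⟨σ, hσ⟩ := H.as.exists_conj
    obtain ⟨Q, hQ, hQo⟩ := H.as.conj_comap σ P
    refine ⟨Q, ?_, (val_eq_one_iff Q H.as.y_ne_zero).1 ?_⟩
    · rw [hQ, σ.commutes]; exact hPX
    · rw [hQ, hσ, Valuation.map_add_eq_of_lt_right _ (by rwa [map_one]), map_one]

lemma pole_divisor (α : k) (hα : α ∈ B) (j : ℤ) (P : Place k K) :
    (P.1 ((algebraMap (RatFunc k) K RatFunc.X) - (algebraMap k K α)) < 1 →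
      max (-(P.ord (y * ((algebraMap (RatFunc k) K RatFunc.X) - (algebraMap k K α)) ^ j))) 0 = max ((d α : ℤ) - 2 * j) 0) ∧
    (∀ β : k, β ∈ B → β ≠ α → P.1 ((algebraMap (RatFunc k) K RatFunc.X) - (algebraMap k K β)) < 1 →
      P.ord (y * ((algebraMap (RatFunc k) K RatFunc.X) - (algebraMap k K α)) ^ j) = -(d β : ℤ)) ∧
    (1 < P.1 (algebraMap (RatFunc k) K RatFunc.X) → max (-(P.ord (y * ((algebraMap (RatFunc k) K RatFunc.X) - (algebraMap k K α)) ^ j))) 0 = max (j - P.ord y) 0) ∧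
    (P.1 (algebraMap (RatFunc k) K RatFunc.X) ≤ 1 → (∀ β : k, β ∈ B → 1 ≤ P.1 ((algebraMap (RatFunc k) K RatFunc.X) - (algebraMap k K β))) → 0 ≤ P.ord (y * ((algebraMap (RatFunc k) K RatFunc.X) - (algebraMap k K α)) ^ j)) := by
  have hu : (RatFunc.X : RatFunc k) - RatFunc.C α ≠ 0 := by
    rw [ratX_sub_C]; exact polyToRat_ne_zero (Polynomial.X_sub_C_ne_zero α)
  rw [algebraMap_sub_C, ord_mul P H.as.y_ne_zero (zpow_ne_zero _ ((map_ne_zero _).2 hu)), ord_zpow]
  refine ⟨fun h => ?_, fun β hβ hne h => ?_, fun hX => ?_, fun hX h => ?_⟩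
  · obtain ⟨he, hy⟩ := H.over_pole hα (over_ratPt (by rwa [algebraMap_sub_C]))
    rw [IsOverWith_ord he, hy, ord_of_val_eq _ (ratPt_val_self α)]
    push_cast
    congr 1
    ring
  · obtain ⟨he, hy⟩ := H.over_pole hβ (over_ratPt h)
    rw [IsOverWith_ord he, hy, (val_eq_one_iff _ hu).1 (ratPt_val_ne hne)]
    ring
  · obtain ⟨p, e, he⟩ := exists_below (K' := K) isFunctionField_ratFunc.1 P
    have hpX : 1 < p.1 RatFunc.X := by
      by_contra hc
      exact not_lt.2 (by rw [he]; exact pow_le_one' (not_lt.1 hc) e) hX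
    obtain rfl := IsOverWith_unique he (H.as.unramified (H.ord_inf_nonneg hpX) P ⟨e, he⟩)
    rw [IsOverWith_ord he, ord_of_val_eq _ (rat_inf_val_sub α hpX)]
    push_cast
    congr 1
    ring
  · obtain ⟨p, e, he⟩ := exists_below (K' := K) isFunctionField_ratFunc.1 P
    have hne : ∀ β ∈ B, p ≠ ratPt β := fun β hβ hpe => by
      have := h β hβ
      rw [algebraMap_sub_C, ← not_lt, val_algebraMap_lt_one_iff ⟨e, he⟩, hpe] at this
      exact this (ratPt_lt β)
    have hpX : p.1 RatFunc.X ≤ 1 := (val_algebraMap_le_one_iff ⟨e, he⟩ _).1 hX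
    rw [IsOverWith_ord he, (val_eq_one_iff _ hu).1 (rat_val_sub_eq_one hpX (hne α hα)), mul_zero, mul_zero,
      add_zero]
    exact (val_le_one_iff P y).1 ((H.as.place_facts he).1 (H.ord_nonneg hne))

/-- regular differentials -/
lemma mem_M {Pinf : Place k (RatFunc k)} (hinf : 1 < Pinf.1 RatFunc.X) {r : RatFunc k}
    (hB : ∀ β ∈ B, (ratPt β).1 r ≤ exp (((d β + 1) / 2 : ℕ) : ℤ))
    (hI : Pinf.1 r ≤ exp (-2 : ℤ))
    (ho : ∀ p : Place k (RatFunc k), p.1 RatFunc.X ≤ 1 → (∀ β ∈ B, p ≠ ratPt β) → p.1 r ≤ 1) :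
    r ∈ L (asE f - Finsupp.single Pinf 2) := by
  classical
  intro p
  rw [Finsupp.sub_apply, Finsupp.single_apply]
  split_ifs with h
  · subst h
    rw [H.asE_eq_zero fun β _ e => not_lt.2 (ratPt_X_le β) (e ▸ hinf)]
    exact hI
  · rw [sub_zero]
    by_cases hp : ∃ β ∈ B, p = ratPt β
    · obtain ⟨β, hβ, rfl⟩ := hp
      rw [H.asE_ratPt hβ]
      exact hB β hβ
    · push Not at hp
      rw [H.asE_eq_zero hp]
      exact (ho p (not_lt.1 fun hX => h (rat_inf_unique _ hinf hX)) hp).trans_eq exp_zero.symm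

end IsASLin

/-- the family of rational functions -/
noncomputable def linFam (B : Finset k) (d : k → ℕ) :
    {a : ↥B × ℕ // 1 ≤ a.2 ∧ 2 * a.2 + 1 ≤ d (a.1 : k)} ⊕ {b : ↥B // (b : k) ≠ 0} → RatFunc k :=
  Sum.elim (fun a => ((RatFunc.X : RatFunc k) - RatFunc.C (a.1.1 : k))⁻¹ ^ (a.1.2 + 1))
    (fun b => RatFunc.C (b.1 : k) / ((RatFunc.X : RatFunc k) * ((RatFunc.X : RatFunc k) - RatFunc.C (b.1 : k))))

/-- the index set, as a finite type -/
noncomputable def linIdxEquiv (B : Finset k) (d : k → ℕ) :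
    (Σ β : ↥B, Fin ((d (β : k) - 1) / 2)) ≃ {a : ↥B × ℕ // 1 ≤ a.2 ∧ 2 * a.2 + 1 ≤ d (a.1 : k)} where
  toFun s := ⟨(s.1, (s.2 : ℕ) + 1), by
    have := s.2.2
    constructor <;> simp only <;> omega⟩
  invFun a := ⟨a.1.1, ⟨a.1.2 - 1, by have := a.2.1; have := a.2.2; omega⟩⟩
  left_inv s := by
    obtain ⟨β, i⟩ := s
    simp
  right_inv a := by
    refine Subtype.ext (Prod.ext rfl ?_)
    show a.1.2 - 1 + 1 = a.1.2
    have := a.2.1
    omega

noncomputable instance linIdxFintype (B : Finset k) (d : k → ℕ) :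
    Fintype {a : ↥B × ℕ // 1 ≤ a.2 ∧ 2 * a.2 + 1 ≤ d (a.1 : k)} :=
  Fintype.ofEquiv _ (linIdxEquiv B d)

lemma card_linIdx (B : Finset k) (d : k → ℕ) (h0 : (0 : k) ∈ B) (hd : ∀ β ∈ B, Odd (d β))
    [Fintype {b : ↥B // (b : k) ≠ 0}] :
    ((Fintype.card ({a : ↥B × ℕ // 1 ≤ a.2 ∧ 2 * a.2 + 1 ≤ d (a.1 : k)} ⊕ {b : ↥B // (b : k) ≠ 0}) : ℕ) : ℤ) =
      (∑ β ∈ B, (((d β + 1) / 2 : ℕ) : ℤ)) - 1 := by
  classical
  rw [Fintype.card_sum, ← Fintype.card_congr (linIdxEquiv B d), Fintype.card_sigma]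
  simp only [Fintype.card_fin]
  have h1 : Fintype.card {b : ↥B // (b : k) ≠ 0} = B.card - 1 := by
    rw [Fintype.card_subtype, ← Finset.card_erase_of_mem h0]
    refine Finset.card_bij (fun b _ => (b : k)) (fun b hb => Finset.mem_erase.2 ⟨(Finset.mem_filter.1 hb).2, b.2⟩)
      (fun a _ b _ h => Subtype.ext h) fun b hb => ?_
    exact ⟨⟨b, (Finset.mem_erase.1 hb).2⟩, Finset.mem_filter.2 ⟨Finset.mem_univ _, (Finset.mem_erase.1 hb).1⟩, rfl⟩
  have h2 : ∑ β : ↥B, (d (β : k) - 1) / 2 + B.card = ∑ β ∈ B, (d β + 1) / 2 := by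
    rw [Finset.sum_coe_sort B fun β => (d β - 1) / 2, Finset.card_eq_sum_ones, ← Finset.sum_add_distrib]
    exact Finset.sum_congr rfl fun β hβ => by obtain ⟨m, hm⟩ := hd β hβ; omega
  rw [h1]
  have h3 : 1 ≤ B.card := Finset.card_pos.2 ⟨0, h0⟩
  rw [← Nat.cast_sum, ← h2]
  push_cast [Nat.cast_sub h3]
  ring

namespace IsASLin

variable {y : K} {f : RatFunc k} {B : Finset k} {d : k → ℕ} (H : IsASLin y f B d)
variable [FiniteDimensional (RatFunc k) K] [IsAlgClosed k] [Algebra.IsSeparable (RatFunc k) K]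
variable {F : Place k K → Type*} [∀ P, Field (F P)] [∀ P, Algebra k (F P)] [∀ P, FiniteDimensional k (F P)]
  {ψ : ∀ P, K →ₐ[k] LaurentSeries (F P)} (hψ : ∀ P, LocRes.IsExpansionAt P.1 (ψ P))
  (hK : IsFunctionField k K)
include H hψ hK

theorem regular_family :
    (∀ i P, LocRes.vDiff (ψ P) (algebraMap (RatFunc k) K (linFam B d i)) (algebraMap (RatFunc k) K RatFunc.X) ≤ 1) ∧
    LinearIndependent k (fun i => algebraMap (RatFunc k) K (linFam B d i)) ∧
    ∀ z : K, (∀ P, LocRes.vDiff (ψ P) z (algebraMap (RatFunc k) K RatFunc.X) ≤ 1) →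
      z ∈ Submodule.span k (Set.range fun i => algebraMap (RatFunc k) K (linFam B d i)) := by
  classical
  obtain ⟨Pinf, hinf⟩ := exists_rat_inf (k := k)
  obtain ⟨hiff, hgM⟩ := H.as.regular_iff H.hodd hψ hK hinf
  have hge := H.as.genus_eq H.hodd hK
  set M := asE f - Finsupp.single Pinf (2 : ℤ)
  have hC : ∀ {β : k} (p : Place k (RatFunc k)), β ≠ 0 → p.1 (RatFunc.C β) = 1 := fun {β} p hβ => by
    rw [← RatFunc.algebraMap_eq_C]; exact val_const p hβ
  have hX0 : ∀ γ : k, γ ≠ 0 → (ratPt γ).1 RatFunc.X = 1 := fun γ hγ => by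
    have := ratPt_val_ne hγ
    rwa [map_zero, sub_zero] at this
  have hX00 : (ratPt (0 : k)).1 RatFunc.X = exp (-1 : ℤ) := by
    have := ratPt_val_self (0 : k)
    rwa [map_zero, sub_zero] at this
  have hmem : ∀ i, linFam B d i ∈ L M := by
    rintro (⟨⟨⟨α, hα⟩, j⟩, hj1, hj2⟩ | ⟨⟨α, hα⟩, hα0⟩)
    · refine H.mem_M hinf (fun β hβ => ?_) ?_ fun p hX hp => ?_ <;> simp only [linFam, Sum.elim_inl]
      · rcases eq_or_ne β α with rfl | hne
        · rw [map_pow, map_inv₀, ratPt_val_self, ← exp_neg, ← exp_nsmul, exp_le_exp]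
          simp only [nsmul_eq_mul]
          change 2 * j + 1 ≤ d β at hj2
          push_cast
          omega
        · rw [map_pow, map_inv₀, ratPt_val_ne hne, inv_one, one_pow, ← exp_zero, exp_le_exp]
          exact Int.natCast_nonneg _
      · rw [map_pow, map_inv₀, rat_inf_val_sub α hinf, ← exp_neg, ← exp_nsmul, exp_le_exp]
        simp only [nsmul_eq_mul]
        push_cast
        omega
      · rw [map_pow, map_inv₀, rat_val_sub_eq_one hX (hp α hα), inv_one, one_pow]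
    · refine H.mem_M hinf (fun β hβ => ?_) ?_ fun p hX hp => ?_ <;> simp only [linFam, Sum.elim_inr]
      · rw [map_div₀, map_mul, hC _ hα0]
        refine le_trans ?_ (exp_le_exp.2 (by have := H.d_pos hβ; push_cast; omega : (1 : ℤ) ≤ _))
        rcases eq_or_ne β 0 with rfl | hβ0
        · rw [hX00, ratPt_val_ne (Ne.symm hα0), mul_one, one_div, ← exp_neg, neg_neg]
        rcases eq_or_ne β α with rfl | hne
        · rw [hX0 _ hβ0, ratPt_val_self, one_mul, one_div, ← exp_neg, neg_neg]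
        · rw [hX0 _ hβ0, ratPt_val_ne hne, mul_one, one_div, inv_one, ← exp_zero, exp_le_exp]
          exact zero_le_one
      · rw [map_div₀, map_mul, hC _ hα0, rat_val_X_of_inf Pinf hinf, rat_inf_val_sub α hinf, one_div,
          ← exp_add, ← exp_neg, exp_le_exp]
        norm_num
      · have h0 := rat_val_sub_eq_one hX (hp 0 H.zero_mem)
        rw [map_zero, sub_zero] at h0
        rw [map_div₀, map_mul, hC _ hα0, h0, rat_val_sub_eq_one hX (hp α hα), mul_one, one_div, inv_one]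
  have hli : LinearIndependent k (linFam B d) := by
    refine linearIndependent_of_dominant _ (Sum.elim (fun a => ratPt (a.1.1 : k)) fun b => ratPt (b.1 : k))
      (Sum.elim (fun a => (a.1.2 : ℤ) + 1) fun _ => 1) ?_ ?_
    · rintro (⟨⟨⟨α, hα⟩, j⟩, hj1, hj2⟩ | ⟨⟨α, hα⟩, hα0⟩) <;>
        simp only [linFam, Sum.elim_inl, Sum.elim_inr]
      · rw [map_pow, map_inv₀, ratPt_val_self, ← exp_neg, ← exp_nsmul, exp_inj]
        simp only [nsmul_eq_mul]
        push_cast
        ring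
      · rw [map_div₀, map_mul, hC _ hα0, hX0 _ hα0, ratPt_val_self, one_mul, one_div, ← exp_neg, neg_neg]
    · rintro (⟨⟨⟨α, hα⟩, j⟩, hj1, hj2⟩ | ⟨⟨α, hα⟩, hα0⟩) (⟨⟨⟨γ, hγ⟩, l⟩, hl1, hl2⟩ | ⟨⟨γ, hγ⟩, hγ0⟩) hne hle <;>
        simp only [linFam, Sum.elim_inl, Sum.elim_inr] at hle ⊢
      · rcases eq_or_ne α γ with rfl | h
        · rw [map_pow, map_inv₀, ratPt_val_self, ← exp_neg, ← exp_nsmul, exp_lt_exp]
          have : l ≠ j := fun e => hne (by subst e; rfl)
          simp only [nsmul_eq_mul]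
          push_cast
          omega
        · rw [map_pow, map_inv₀, ratPt_val_ne h, inv_one, one_pow, ← exp_zero, exp_lt_exp]
          omega
      · rw [map_div₀, map_mul, hC _ hγ0]
        refine lt_of_le_of_lt ?_ (exp_lt_exp.2 (by omega : (1 : ℤ) < _))
        rcases eq_or_ne α 0 with rfl | hα0
        · rw [hX00, ratPt_val_ne (Ne.symm hγ0), mul_one, one_div, ← exp_neg, neg_neg]
        rcases eq_or_ne α γ with rfl | h
        · rw [hX0 _ hα0, ratPt_val_self, one_mul, one_div, ← exp_neg, neg_neg]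
        · rw [hX0 _ hα0, ratPt_val_ne h, mul_one, one_div, inv_one, ← exp_zero, exp_le_exp]
          exact zero_le_one
      · omega
      · have h : α ≠ γ := fun e => hne (by subst e; rfl)
        rw [map_div₀, map_mul, hC _ hγ0, hX0 _ hα0, ratPt_val_ne h, mul_one, one_div, inv_one,
          ← exp_zero, exp_lt_exp]
        exact zero_lt_one
  refine ⟨fun i P => (hiff _).2 ⟨_, hmem i, rfl⟩ P, hli.map' (IsScalarTower.toAlgHom k (RatFunc k) K).toLinearMap
    (LinearMap.ker_eq_bot.2 (algebraMap (RatFunc k) K).injective), fun z hz => ?_⟩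
  obtain ⟨r, hr, rfl⟩ := (hiff z).1 hz
  haveI := finiteDimensional_L (isFunctionField_ratFunc (k := k)).1 M
  have hle : Submodule.span k (Set.range (linFam B d)) ≤ L M := Submodule.span_le.2 (by rintro _ ⟨i, rfl⟩; exact hmem i)
  have hfin : ell M ≤ Module.finrank k (Submodule.span k (Set.range (linFam B d))) := by
    rw [finrank_span_eq_card hli]
    have := card_linIdx B d H.zero_mem H.odd
    rw [H.deg_asE] at hge
    omega
  rw [SetLike.mem_coe, ← Submodule.eq_of_le_of_finrank_le hle hfin] at hr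
  have h := Submodule.mem_map_of_mem (f := (IsScalarTower.toAlgHom k (RatFunc k) K).toLinearMap) hr
  rw [Submodule.map_span, ← Set.range_comp] at h
  exact h

end IsASLin

/-- a component `s` in `k(x)` can be removed modulo `A(0) + K` at a totally ramified place -/
lemma single_algebraMap_mem_ADK [DecidableEq (Place k K)] [FiniteDimensional (RatFunc k) K] (p : Place k (RatFunc k))
    (P : Place k K) (hP : ∀ Q : Place k K, IsOver Q p ↔ Q = P) (F : RatFunc k) :
    (Pi.single P (algebraMap (RatFunc k) K F) : Place k K → K) ∈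
      AD (0 : Divisor k K) ⊔ LinearMap.range (diag k K) := by
  obtain ⟨n, hn⟩ : ∃ n : ℕ, p.1 F ≤ exp (n : ℤ) := by
    rcases eq_or_ne F 0 with rfl | h0
    · exact ⟨0, by rw [map_zero]; exact zero_le⟩
    · exact ⟨(-(p.ord F)).toNat, by rw [val_eq_exp_ord p h0, exp_le_exp]; omega⟩
  obtain ⟨g, hg1, hg2, -⟩ := exists_cancel p F hn
  refine Submodule.mem_sup.2 ⟨Pi.single P (algebraMap (RatFunc k) K F) - diag k K (algebraMap (RatFunc k) K g),
    fun Q => ?_, diag k K (algebraMap (RatFunc k) K g), ⟨_, rfl⟩, sub_add_cancel _ _⟩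
  show Q.1 ((Pi.single P (algebraMap (RatFunc k) K F) : Place k K → K) Q - algebraMap (RatFunc k) K g) ≤ exp ((0 : Divisor k K) Q)
  refine le_trans ?_ (exp_zero (M := ℤ)).ge
  by_cases hQ : Q = P
  · subst hQ
    rw [Pi.single_eq_same, ← map_sub, val_algebraMap_le_one_iff ((hP Q).2 rfl)]
    exact hg1
  · rw [Pi.single_eq_of_ne hQ, zero_sub, Valuation.map_neg]
    obtain ⟨p', hp'⟩ := exists_below (K' := K) isFunctionField_ratFunc.1 Q
    rw [val_algebraMap_le_one_iff hp']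
    exact hg2 p' fun e => hQ ((hP Q).1 (e ▸ hp'))

lemma single_mem_ADK_of_le [DecidableEq (Place k K)] {P : Place k K} {z : K} (hz : P.1 z ≤ 1) :
    (Pi.single P z : Place k K → K) ∈ AD (0 : Divisor k K) ⊔ LinearMap.range (diag k K) := by
  refine Submodule.mem_sup_left fun Q => ?_
  refine le_trans ?_ (exp_zero (M := ℤ)).ge
  by_cases hQ : Q = P
  · subst hQ; rwa [Pi.single_eq_same]
  · rw [Pi.single_eq_of_ne hQ, map_zero]; exact zero_le

namespace IsASLin

variable [DecidableEq (Place k K)]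
variable {y : K} {f : RatFunc k} {B : Finset k} {d : k → ℕ} (H : IsASLin y f B d)
variable [FiniteDimensional (RatFunc k) K]
variable {Pl : k → Place k K}
  (hPl : ∀ β ∈ B, (Pl β).1 ((algebraMap (RatFunc k) K RatFunc.X) - (algebraMap k K β)) < 1)
include H hPl

lemma over_iff {β : k} (hβ : β ∈ B) (Q : Place k K) : IsOver Q (ratPt β) ↔ Q = Pl β :=
  ⟨fun h => H.over_unique hβ h (over_ratPt (hPl β hβ)), fun h => h ▸ over_ratPt (hPl β hβ)⟩

theorem frobenius {α : k} (hα : α ∈ B) (j : ℕ) :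
    (4 * j + 1 ≤ d α → (Pi.single (Pl α) ((y * ((algebraMap (RatFunc k) K RatFunc.X) - (algebraMap k K α)) ^ j) ^ 2) : Place k K → K) - (Pi.single (Pl α) (y * ((algebraMap (RatFunc k) K RatFunc.X) - (algebraMap k K α)) ^ (2 * j)) : Place k K → K) ∈ (AD (0 : Divisor k K) ⊔ LinearMap.range (diag k K))) ∧
    (d α < 4 * j + 1 → (Pi.single (Pl α) ((y * ((algebraMap (RatFunc k) K RatFunc.X) - (algebraMap k K α)) ^ j) ^ 2) : Place k K → K) ∈ (AD (0 : Divisor k K) ⊔ LinearMap.range (diag k K))) := by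
  set u := (algebraMap (RatFunc k) K RatFunc.X) - (algebraMap k K α) with hu
  have hmem : (Pi.single (Pl α) ((y * u ^ j) ^ 2) : Place k K → K) - Pi.single (Pl α) (y * u ^ (2 * j)) ∈
      AD (0 : Divisor k K) ⊔ LinearMap.range (diag k K) := by
    rw [← Pi.single_sub]
    have h1 : (y * u ^ j) ^ 2 - y * u ^ (2 * j) =
        algebraMap (RatFunc k) K (f * ((RatFunc.X : RatFunc k) - RatFunc.C α) ^ (2 * j)) := by
      rw [map_mul, map_pow, ← algebraMap_sub_C, ← H.as.eq, ← hu, mul_pow, ← pow_mul, mul_comm j 2]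
      linear_combination (-y * u ^ (2 * j)) * H.as.two_K
    rw [h1]
    exact single_algebraMap_mem_ADK _ _ (H.over_iff hPl hα) _
  refine ⟨fun _ => hmem, fun hlt => ?_⟩
  have h2 : (Pl α).1 (y * u ^ (2 * j)) ≤ 1 := by
    obtain ⟨he, hy⟩ := H.over_pole hα ((H.over_iff hPl hα _).2 rfl)
    have hu0 : u ≠ 0 := by
      rw [hu, algebraMap_sub_C, ratX_sub_C]
      exact (map_ne_zero _).2 (polyToRat_ne_zero (Polynomial.X_sub_C_ne_zero α))
    rw [val_le_one_iff, ord_mul _ H.as.y_ne_zero (pow_ne_zero _ hu0), ord_pow, hu, algebraMap_sub_C,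
      IsOverWith_ord he, hy, ord_of_val_eq _ (ratPt_val_self α)]
    push_cast
    omega
  have := add_mem hmem (single_mem_ADK_of_le h2)
  rwa [sub_add_cancel] at this

end IsASLin

end Groth.Agent.FF
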