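import Groth.Agent.FF.Divisor

/-! Genus, Riemann's inequality, repartitions and the Riemann–Roch theorem. -/

set_option autoImplicit false
set_option linter.style.haveILetI false
set_option linter.unusedSectionVars false

open FunFld WithZero IntermediateField

namespace Groth.Agent.FF

variable {k K : Type*} [Field k] [Field K] [Algebra k K]

/-- `deg D + 1 - ℓ(D)`. -/
noncomputable def spec (D : Divisor k K) : ℤ := D.deg + 1 - (ell D : ℤ)

/-- Linear independence of products of powers of `x⁻¹` with a `k(x)`-independent family. -/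
lemma linearIndependent_pow_mul {ι : Type*} {x : K} (hx : Transcendental k x) (l : ℕ)
    {b : ι → K} (hb : LinearIndependent k⟮x⟯ b) :
    LinearIndependent k fun p : Fin (l + 1) × ι => x⁻¹ ^ (p.1 : ℕ) * b p.2 := by
  have hxinv : Transcendental k x⁻¹ := fun h => hx (by simpa using h.inv)
  have hpow : LinearIndependent k fun j : Fin (l + 1) =>
      (⟨x⁻¹, inv_mem (mem_adjoin_simple_self k x)⟩ : k⟮x⟯) ^ (j : ℕ) := by
    rw [Fintype.linearIndependent_iff]
    intro g hg
    have h0 : Polynomial.aeval x⁻¹ (∑ j : Fin (l + 1), Polynomial.C (g j) * Polynomial.X ^ (j : ℕ)) = 0 := by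
      have := congrArg (IntermediateField.val k⟮x⟯) hg
      simpa [Algebra.smul_def] using this
    have h1 : (∑ j : Fin (l + 1), Polynomial.C (g j) * Polynomial.X ^ (j : ℕ)) = 0 := by
      by_contra hne; exact hxinv ⟨_, hne, h0⟩
    intro j
    have := congrArg (Polynomial.coeff · (j : ℕ)) h1
    simpa [Polynomial.coeff_X_pow, Fin.val_inj] using this
  have h3 := linearIndependent_smul hpow hb
  convert! h3 using 1

variable (hK : IsFunctionField k K)

include hK

lemma spec_mono {D E : Divisor k K} (h : D ≤ E) : spec D ≤ spec E := by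
  have := (relDim_L_ell hK h).2.1
  simp only [spec]; omega

/-- Multiplication by `z` identifies `L(D + (z))` with `L(D)`. -/
lemma mul_mem_L_iff {D : Divisor k K} {z : K} (hz : z ≠ 0) (y : K) :
    z * y ∈ L D ↔ y ∈ L (D + div k z) := by
  rcases eq_or_ne y 0 with rfl | hy
  · simp
  rw [mem_L_iff hK (mul_ne_zero hz hy), mem_L_iff hK hy, div_mul hK hz hy, add_assoc]

lemma ell_add_div {D : Divisor k K} {z : K} (hz : z ≠ 0) : ell (D + div k z) = ell D := by
  have hmap : (L (D + div k z)).map (LinearMap.mulLeft k z) = L D := by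
    ext w
    constructor
    · rintro ⟨y, hy, rfl⟩
      exact (mul_mem_L_iff hK hz y).2 hy
    · intro hw
      refine ⟨z⁻¹ * w, ?_, mul_inv_cancel_left₀ hz w⟩
      refine (mul_mem_L_iff hK hz _).1 ?_
      rwa [mul_inv_cancel_left₀ hz]
  conv_rhs => rw [ell, ← hmap]
  exact (Submodule.equivMapOfInjective (LinearMap.mulLeft k z) (mul_right_injective₀ hz) (L (D + div k z))).finrank_eq

lemma spec_add_div {D : Divisor k K} {z : K} (hz : z ≠ 0) : spec (D + div k z) = spec D := by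
  simp [spec, deg_add, deg_div hK.1, ell_add_div hK hz]

lemma exists_nonneg_equiv {D : Divisor k K} (h : 0 < ell D) :
    ∃ z : K, z ≠ 0 ∧ 0 ≤ D + div k z := by
  obtain ⟨z, hz, hz0⟩ : ∃ z ∈ L D, z ≠ 0 := by
    apply Submodule.exists_mem_ne_zero_of_ne_bot
    intro e
    rw [ell, e, finrank_bot] at h
    exact lt_irrefl 0 h
  exact ⟨z, hz0, (mem_L_iff hK hz0).1 hz⟩

lemma L_eq_bot_of_deg_neg {D : Divisor k K} (h : D.deg < 0) : L D = ⊥ := by
  rw [Submodule.eq_bot_iff]
  intro z hz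
  by_contra hz0
  have := deg_nonneg ((mem_L_iff hK hz0).1 hz)
  rw [deg_add, deg_div hK] at this
  omega

lemma ell_eq_zero_of_deg_neg {D : Divisor k K} (h : D.deg < 0) : ell D = 0 := by
  rw [ell, L_eq_bot_of_deg_neg hK h, finrank_bot]

/-- Riemann: `deg D + 1 - ℓ(D)` is bounded above. -/
lemma exists_spec_le : ∃ γ : ℤ, ∀ D : Divisor k K, spec D ≤ γ := by
  classical
  obtain ⟨x, hx⟩ := exists_transcendental hK.1
  have hx0 : x ≠ 0 := fun h => hx (h ▸ isAlgebraic_zero)
  haveI := finite_adjoin hK hx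
  let b := Module.finBasis k⟮x⟯ K
  set n := Module.finrank k⟮x⟯ K
  set A := zeroDiv (k := k) x with hA
  let C : Divisor k K := ∑ i, ((- div k (b i)) ⊔ 0)
  have hC0 : 0 ≤ C := Finset.sum_nonneg fun i _ => le_sup_right
  have hC : ∀ i, (- div k (b i)) ≤ C := fun i =>
    le_sup_left.trans (Finset.single_le_sum (f := fun i => (- div k (b i)) ⊔ 0)
      (fun j _ => le_sup_right) (Finset.mem_univ i))
  have hlow : ∀ l : ℕ, (n : ℤ) * (l + 1) ≤ ell ((l : ℤ) • A + C) := by
    intro l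
    have hmem : ∀ p : Fin (l + 1) × Fin n, x⁻¹ ^ (p.1 : ℕ) * b p.2 ∈ L ((l : ℤ) • A + C) := by
      intro p
      have hne1 : x⁻¹ ^ (p.1 : ℕ) ≠ 0 := pow_ne_zero _ (inv_ne_zero hx0)
      intro P
      have h2 := hC p.2 P
      rw [Finsupp.neg_apply, div_apply hK] at h2
      rw [val_le_exp_iff P (mul_ne_zero hne1 (b.ne_zero _)), ord_mul P hne1 (b.ne_zero _), ord_pow, ord_inv]
      simp only [Finsupp.add_apply, Finsupp.smul_apply, smul_eq_mul, hA, zeroDiv, Finsupp.sup_apply,
        div_apply hK.1, Finsupp.coe_zero, Pi.zero_apply]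
      have h3 : ((p.1 : ℕ) : ℤ) * (P.ord x) ≤ l * max (P.ord x) 0 :=
        (mul_le_mul_of_nonneg_left (le_max_left _ 0) (by omega)).trans
          (mul_le_mul_of_nonneg_right (by omega) (le_max_right _ _))
      have : P.ord x ⊔ 0 = max (P.ord x) 0 := rfl
      rw [this]; linarith
    let f : (Fin (l + 1) × Fin n) → L ((l : ℤ) • A + C) := fun p => ⟨_, hmem p⟩
    have hf : LinearIndependent k f := LinearIndependent.of_comp (L ((l : ℤ) • A + C)).subtype
      (linearIndependent_pow_mul hx l b.linearIndependent)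
    haveI := finiteDimensional_L hK ((l : ℤ) • A + C)
    have h1 := hf.fintype_card_le_finrank
    simp only [Fintype.card_prod, Fintype.card_fin] at h1
    have h4 : (((l + 1) * n : ℕ) : ℤ) ≤ (ell ((l : ℤ) • A + C) : ℤ) := Int.ofNat_le.2 h1
    push_cast at h4
    linarith
  refine ⟨C.deg + 1 - n, fun D => ?_⟩
  set E := D ⊔ 0
  refine (spec_mono hK (le_sup_left : D ≤ E)).trans ?_
  have hE0 : 0 ≤ E := le_sup_right
  have hAdeg : A.deg = n := deg_zeroDiv hK hx
  obtain ⟨l, hl⟩ : ∃ l : ℕ, C.deg + E.deg < (n : ℤ) * (l + 1) :=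
    ⟨(C.deg + E.deg).toNat, by
      have hn : (1 : ℤ) ≤ n := by exact_mod_cast (Module.finrank_pos : 0 < n)
      nlinarith [Int.self_le_toNat (C.deg + E.deg)]⟩
  have h1 : (l : ℤ) • A ≤ (l : ℤ) • A + C := le_add_of_nonneg_right hC0
  have h2 := (relDim_L_ell hK h1).2.1
  have h3 : (l : ℤ) • A - E ≤ (l : ℤ) • A := sub_le_self _ hE0
  have h4 := (relDim_L_ell hK h3).2.1
  rw [deg_sub] at h4
  rw [deg_add] at h2
  have hpos : 0 < ell ((l : ℤ) • A - E) := by have := hlow l; omega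
  obtain ⟨z, hz, hzE⟩ := exists_nonneg_equiv hK hpos
  have h5 : E + div k z⁻¹ ≤ (l : ℤ) • A := by
    rw [div_inv hK, ← sub_nonneg]
    calc (0 : Divisor k K) ≤ (l : ℤ) • A - E + div k z := hzE
      _ = (l : ℤ) • A - (E + -div k z) := by abel
  rw [← spec_add_div hK (inv_ne_zero hz)]
  refine (spec_mono hK h5).trans ?_
  have := hlow l
  rw [spec, deg_zsmul, hAdeg]
  linarith

lemma spec_zero : spec (0 : Divisor k K) = 0 := by simp [spec, ell_zero hK]

lemma bddAbove_genus : BddAbove (Set.range fun D : Divisor k K => (D.deg + 1 - (ell D : ℤ)).toNat) := by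
  obtain ⟨γ, hγ⟩ := exists_spec_le hK
  exact ⟨γ.toNat, by rintro _ ⟨D, rfl⟩; exact Int.toNat_le_toNat (hγ D)⟩

lemma spec_le_genus (D : Divisor k K) : spec D ≤ genus k K := by
  have := le_csSup (bddAbove_genus hK) ⟨D, rfl⟩
  show D.deg + 1 - (ell D : ℤ) ≤ _
  exact (Int.self_le_toNat _).trans (Int.ofNat_le.2 this)

lemma exists_spec_eq_genus : ∃ D : Divisor k K, spec D = genus k K := by
  obtain ⟨D, hD⟩ := Nat.sSup_mem (Set.range_nonempty _) (bddAbove_genus hK)
  have hg : (genus k K) = (spec D).toNat := hD.symm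
  rcases le_total 0 (spec D) with h | h
  · exact ⟨D, by rw [hg, Int.toNat_of_nonneg h]⟩
  · exact ⟨0, by rw [spec_zero hK, hg, Int.toNat_eq_zero.2 h]; rfl⟩

lemma riemann : ∃ N : ℤ, ∀ D : Divisor k K, N ≤ D.deg → spec D = genus k K := by
  obtain ⟨D₀, hD₀⟩ := exists_spec_eq_genus hK
  refine ⟨D₀.deg + genus k K, fun D hD => le_antisymm (spec_le_genus hK D) ?_⟩
  have hpos : 0 < ell (D - D₀) := by
    have := spec_le_genus hK (D - D₀)
    rw [spec, deg_sub] at this; omega
  obtain ⟨z, hz, hzD⟩ := exists_nonneg_equiv hK hpos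
  have h5 : D₀ ≤ D + div k z := by rw [← sub_nonneg, add_sub_right_comm]; exact hzD
  calc (genus k K : ℤ) = spec D₀ := hD₀.symm
    _ ≤ spec (D + div k z) := spec_mono hK h5
    _ = spec D := spec_add_div hK hz

lemma relDim_map_L {D E : Divisor k K} (h : D ≤ E) :
    RelDim ((L D).map (diag k K)) ((L E).map (diag k K)) (ell E - ell D) := by
  haveI := nonempty_place hK.1
  exact (relDim_L_ell hK h).2.2.map _ diag_injective

lemma relDim_AD_sup {D E : Divisor k K} (h : D ≤ E) :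
    RelDim (AD D ⊔ LinearMap.range (diag k K)) (AD E ⊔ LinearMap.range (diag k K))
      (spec E - spec D).toNat := by
  obtain ⟨e₁, e₂, he, h1, h2⟩ := (relDim_AD hK h).sup (LinearMap.range (diag k K))
  rw [AD_inf_range hK, AD_inf_range hK] at h2
  have h3 := h2.unique (relDim_map_L hK h)
  have h4 := (relDim_L_ell hK h).1
  have h5 := deg_mono h
  convert! h1 using 1
  simp only [spec]; omega

/-- If `spec E = g` then every repartition is in `A(E) + K`. -/
lemma adele_le_of_spec_eq {E : Divisor k K} (h : spec E = genus k K) :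
    adele k K ≤ AD E ⊔ LinearMap.range (diag k K) := by
  classical
  intro a ha
  let s := (mem_adele.1 ha).toFinset ∪ E.support
  let E' : Divisor k K := E ⊔ ∑ P ∈ s, Finsupp.single P ((-(P.ord (a P))) ⊔ E P)
  have hmem : a ∈ AD E' := by
    intro P
    rcases eq_or_ne (a P) 0 with h0 | h0
    · simp [h0]
    rw [val_le_exp_iff P h0]
    simp only [E', Finsupp.sup_apply, Finsupp.coe_finsetSum, Finset.sum_apply,
      Finsupp.single_apply, Finset.sum_ite_eq', le_sup_iff, neg_le]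
    by_cases hP : P ∈ s
    · simp [hP]
    · simp only [s, Finset.mem_union, Set.Finite.mem_toFinset, Set.mem_ofPred_eq,
        Finsupp.mem_support_iff, not_or, not_not] at hP
      rw [val_le_one_iff] at hP
      left
      omega
  have hEE' : E ≤ E' := le_sup_left
  have hR := relDim_AD_sup hK hEE'
  have h2 := spec_le_genus hK E'
  have hz : (spec E' - spec E).toNat = 0 := by
    have := spec_mono hK hEE'
    omega
  rw [hz] at hR
  have : (AD E ⊔ LinearMap.range (diag k K)).comap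
      (AD E' ⊔ LinearMap.range (diag k K)).subtype = ⊤ := by
    haveI := hR.2.1
    exact Submodule.Quotient.subsingleton_iff.1 (Module.finrank_zero_iff.1 hR.2.2)
  exact (Submodule.eq_top_iff'.1 this) ⟨a, Submodule.mem_sup_left hmem⟩

/-- `dim A/(A(D) + K) = g - spec D`. -/
lemma relDim_adele (D : Divisor k K) :
    RelDim (AD D ⊔ LinearMap.range (diag k K)) (adele k K) ((genus k K : ℤ) - spec D).toNat := by
  obtain ⟨E₀, hE₀⟩ := exists_spec_eq_genus hK
  have hE : spec (D ⊔ E₀) = genus k K :=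
    le_antisymm (spec_le_genus hK _) (hE₀ ▸ spec_mono hK le_sup_right)
  have h := relDim_AD_sup hK (le_sup_left : D ≤ D ⊔ E₀)
  rw [hE] at h
  have heq : AD (D ⊔ E₀) ⊔ LinearMap.range (diag k K) = adele k K :=
    le_antisymm (sup_le (AD_le_adele _) (range_diag_le_adele hK)) (adele_le_of_spec_eq hK hE)
  rwa [heq] at h

lemma finrank_quotient_ADK (D : Divisor k K) :
    FiniteDimensional k (↥(adele k K) ⧸ ADK D) ∧
      (Module.finrank k (↥(adele k K) ⧸ ADK D) : ℤ) = (genus k K : ℤ) - spec D := by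
  obtain ⟨-, h2, h3⟩ := relDim_adele hK D
  refine ⟨h2, ?_⟩
  unfold ADK
  rw [h3, Int.toNat_of_nonneg]
  linarith [spec_le_genus hK D]

lemma finrank_WD (D : Divisor k K) :
    FiniteDimensional k (WD D) ∧ (Module.finrank k (WD D) : ℤ) = (genus k K : ℤ) - spec D := by
  obtain ⟨h2, h3⟩ := finrank_quotient_ADK hK D
  let e := (ADK D).dualQuotEquivDualAnnihilator
  refine ⟨e.finiteDimensional, ?_⟩
  rw [← h3, ← Subspace.dual_finrank_eq]
  exact_mod_cast e.finrank_eq.symm

lemma mem_WD_iff {D : Divisor k K} {ω : Module.Dual k (adele k K)} :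
    ω ∈ WD D ↔ ∀ a : adele k K, (a : Place k K → K) ∈ AD D ⊔ LinearMap.range (diag k K) → ω a = 0 :=
  Submodule.mem_dualAnnihilator ω

omit hK in
lemma WD_anti {D E : Divisor k K} (h : D ≤ E) : WD E ≤ WD D :=
  Submodule.dualAnnihilator_anti (Submodule.comap_mono (sup_le_sup_right (AD_mono h) _))

omit hK in
lemma mem_WD_sup {D E : Divisor k K} {ω : Module.Dual k (adele k K)} (hD : ω ∈ WD D) (hE : ω ∈ WD E) :
    ω ∈ WD (D ⊔ E) := by
  unfold WD ADK at *
  rw [Submodule.mem_dualAnnihilator] at *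
  intro a ha
  rw [Submodule.mem_comap, AD_sup, Submodule.subtype_apply] at ha
  obtain ⟨y, hy, r, hr, hyr⟩ := Submodule.mem_sup.1 ha
  obtain ⟨y₁, hy₁, y₂, hy₂, rfl⟩ := Submodule.mem_sup.1 hy
  let a₁ : adele k K := ⟨y₁, AD_le_adele _ hy₁⟩
  have h1 : ω a₁ = 0 := hD a₁ (Submodule.mem_sup_left hy₁)
  have h2 : ω (a - a₁) = 0 := by
    refine hE _ ?_
    show (a : Place k K → K) - y₁ ∈ AD E ⊔ _
    rw [← hyr, add_assoc, add_sub_cancel_left]
    exact Submodule.add_mem_sup hy₂ hr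
  rw [map_sub, h1, sub_zero] at h2
  exact h2

/-- A nonzero Weil differential has a divisor. -/
lemma exists_isDivOf {ω : Module.Dual k (adele k K)} (hω : IsWeil ω) (h0 : ω ≠ 0) :
    ∃ C, IsDivOf ω C := by
  obtain ⟨N, hN⟩ := riemann hK
  have hbdd : ∀ D, ω ∈ WD D → D.deg ≤ N := by
    intro D hD
    by_contra hc
    obtain ⟨hf, hr⟩ := finrank_WD hK D
    rw [hN D (le_of_not_ge hc), sub_self] at hr
    have : Module.finrank k (WD D) = 0 := by exact_mod_cast hr
    rw [Submodule.finrank_eq_zero.1 this] at hD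
    exact h0 hD
  obtain ⟨D₀, hD₀⟩ := hω
  obtain ⟨_, ⟨C, hC, rfl⟩, hmax⟩ := Int.exists_greatest_of_bdd
    (P := fun n => ∃ C, ω ∈ WD C ∧ C.deg = n) ⟨N, fun n ⟨C, hC, e⟩ => e ▸ hbdd C hC⟩ ⟨_, D₀, hD₀, rfl⟩
  refine ⟨C, fun E => ⟨fun hE => ?_, fun h => WD_anti h hC⟩⟩
  have hsup := mem_WD_sup hC hE
  have h1 := hmax _ ⟨_, hsup, rfl⟩
  by_contra hle
  obtain ⟨P, hP⟩ : ∃ P, C P < E P := by
    by_contra! h; exact hle h
  have h2 : C + Finsupp.single P 1 ≤ C ⊔ E := by
    intro Q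
    classical
    rw [Finsupp.add_apply, Finsupp.single_apply, Finsupp.sup_apply]
    split_ifs with h
    · subst h; exact le_sup_of_le_right (by omega)
    · simp
  have h3 := deg_mono h2
  rw [deg_add, deg_single, one_mul] at h3
  have := deg_pos hK P
  omega

omit hK in
lemma mulW_apply (x : K) (hx : ∀ a ∈ adele k K, x • a ∈ adele k K) (ω : Module.Dual k (adele k K))
    (a : adele k K) :
    mulW x hx ω a = ω ⟨x • (a : Place k K → K), hx a a.2⟩ := rfl

lemma mulW_mem_WD_iff {x : K} (h0 : x ≠ 0) (hx : ∀ a ∈ adele k K, x • a ∈ adele k K)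
    (ω : Module.Dual k (adele k K)) (E : Divisor k K) :
    mulW x hx ω ∈ WD E ↔ ω ∈ WD (E - div k x) := by
  have hscale : ∀ (a : Place k K → K), a ∈ AD E ⊔ LinearMap.range (diag k K) →
      x • a ∈ AD (E - div k x) ⊔ LinearMap.range (diag k K) := by
    intro a ha
    obtain ⟨y, hy, r, ⟨c, rfl⟩, rfl⟩ := Submodule.mem_sup.1 ha
    rw [smul_add]
    refine Submodule.add_mem_sup (fun P => ?_) ⟨x * c, rfl⟩
    rw [Pi.smul_apply, smul_eq_mul, map_mul, val_eq_exp_ord P h0, Finsupp.sub_apply, div_apply hK,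
      show E P - P.ord x = -(P.ord x) + E P by ring, exp_add]
    exact mul_le_mul_right (hy P) _
  have hscale' : ∀ (a : Place k K → K), a ∈ AD (E - div k x) ⊔ LinearMap.range (diag k K) →
      x⁻¹ • a ∈ AD E ⊔ LinearMap.range (diag k K) := by
    intro a ha
    obtain ⟨y, hy, r, ⟨c, rfl⟩, rfl⟩ := Submodule.mem_sup.1 ha
    rw [smul_add]
    refine Submodule.add_mem_sup (fun P => ?_) ⟨x⁻¹ * c, rfl⟩
    rw [Pi.smul_apply, smul_eq_mul, map_mul, map_inv₀, val_eq_exp_ord P h0, ← exp_neg]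
    refine (mul_le_mul_right (hy P) _).trans_eq ?_
    rw [← exp_add, Finsupp.sub_apply, div_apply hK]; congr 1; ring
  rw [mem_WD_iff hK, mem_WD_iff hK]
  constructor
  · intro h a ha
    have := h ⟨x⁻¹ • (a : Place k K → K), mul_mem_adele hK x⁻¹ _ a.2⟩ (hscale' _ ha)
    rw [mulW_apply] at this
    convert! this using 2
    exact Subtype.ext (by simp [smul_smul, mul_inv_cancel₀ h0])
  · intro h a ha
    rw [mulW_apply]
    exact h _ (hscale _ ha)

lemma isDivOf_mulW {x : K} (h0 : x ≠ 0) (hx : ∀ a ∈ adele k K, x • a ∈ adele k K)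
    {ω : Module.Dual k (adele k K)} {C : Divisor k K} (hω : IsDivOf ω C) :
    IsDivOf (mulW x hx ω) (C + div k x) := fun E => by
  rw [mulW_mem_WD_iff hK h0, hω, sub_le_iff_le_add]

lemma mulW_zero (hx : ∀ a ∈ adele k K, (0 : K) • a ∈ adele k K) (ω : Module.Dual k (adele k K)) :
    mulW 0 hx ω = 0 := by
  ext a
  rw [mulW_apply]
  have : (⟨(0 : K) • (a : Place k K → K), hx a a.2⟩ : adele k K) = 0 := Subtype.ext (zero_smul _ _)
  rw [this, map_zero, LinearMap.zero_apply]

/-- `x ↦ x ω` as a linear map `K → Dual A`. -/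
noncomputable def mulWHom (ω : Module.Dual k (adele k K)) : K →ₗ[k] Module.Dual k (adele k K) where
  toFun x := mulW x (mul_mem_adele hK x) ω
  map_add' x y := by
    ext a
    rw [LinearMap.add_apply, mulW_apply, mulW_apply, mulW_apply, ← map_add]
    exact congrArg ω (Subtype.ext (add_smul _ _ _))
  map_smul' c x := by
    ext a
    rw [RingHom.id_apply, LinearMap.smul_apply, mulW_apply, mulW_apply, ← map_smul]
    exact congrArg ω (Subtype.ext (smul_assoc _ _ _))

lemma mulWHom_injective {ω : Module.Dual k (adele k K)} (h0 : ω ≠ 0) :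
    Function.Injective (mulWHom hK ω) := by
  rw [← LinearMap.ker_eq_bot, Submodule.eq_bot_iff]
  intro x hx
  by_contra hx0
  refine h0 (LinearMap.ext fun a => ?_)
  have := LinearMap.congr_fun (LinearMap.mem_ker.1 hx) ⟨x⁻¹ • (a : Place k K → K), mul_mem_adele hK _ _ a.2⟩
  change ω ⟨x • x⁻¹ • (a : Place k K → K), _⟩ = 0 at this
  simp only [smul_smul, mul_inv_cancel₀ hx0, one_smul] at this
  exact this

/-- Weil differentials form a one-dimensional `K`-space. -/
lemma exists_mulW_eq {ω₁ ω₂ : Module.Dual k (adele k K)} (h₁ : IsWeil ω₁) (h0 : ω₁ ≠ 0)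
    (h₂ : IsWeil ω₂) : ∃ x : K, mulWHom hK ω₁ x = ω₂ := by
  rcases eq_or_ne ω₂ 0 with rfl | h0'
  · exact ⟨0, map_zero _⟩
  obtain ⟨C₁, hC₁⟩ := exists_isDivOf hK h₁ h0
  obtain ⟨C₂, hC₂⟩ := exists_isDivOf hK h₂ h0'
  obtain ⟨P⟩ := nonempty_place hK.1
  obtain ⟨N, hN⟩ := riemann hK
  have hdp : (1 : ℤ) ≤ P.deg := by exact_mod_cast deg_pos hK P
  obtain ⟨m, hm1, hm2⟩ : ∃ m : ℤ, 0 < m ∧
      max (max (N - C₁.deg) (N - C₂.deg)) (3 * (genus k K : ℤ) - C₁.deg - C₂.deg) < m :=
    ⟨max (max (max (N - C₁.deg) (N - C₂.deg)) (3 * (genus k K : ℤ) - C₁.deg - C₂.deg)) 0 + 1,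
      by omega, by omega⟩
  set B : Divisor k K := Finsupp.single P m with hB
  have hBdeg : m ≤ B.deg := by
    rw [hB, deg_single]; exact le_mul_of_one_le_right hm1.le hdp
  have himg : ∀ (ω : Module.Dual k (adele k K)) (C : Divisor k K), IsDivOf ω C →
      (L (C + B)).map (mulWHom hK ω) ≤ WD (-B) := by
    rintro ω C hC _ ⟨x, hx, rfl⟩
    rcases eq_or_ne x 0 with rfl | hx0
    · simp
    · show mulW x (mul_mem_adele hK x) ω ∈ _
      rw [mulW_mem_WD_iff hK hx0, hC]
      rw [← sub_nonneg]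
      calc (0 : Divisor k K) ≤ C + B + div k x := (mem_L_iff hK hx0).1 hx
        _ = C - (-B - div k x) := by abel
  obtain ⟨hfin, hrank⟩ := finrank_WD hK (-B)
  haveI := hfin
  have hd1 : (ell (C₁ + B) : ℤ) = C₁.deg + B.deg + 1 - genus k K := by
    have h := hN (C₁ + B) (by rw [deg_add]; omega)
    rw [spec, deg_add] at h; omega
  have hd2 : (ell (C₂ + B) : ℤ) = C₂.deg + B.deg + 1 - genus k K := by
    have h := hN (C₂ + B) (by rw [deg_add]; omega)
    rw [spec, deg_add] at h; omega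
  rw [spec, deg_neg, ell_eq_zero_of_deg_neg hK (D := -B) (by rw [deg_neg]; omega)] at hrank
  set M₁ := (L (C₁ + B)).map (mulWHom hK ω₁)
  set M₂ := (L (C₂ + B)).map (mulWHom hK ω₂)
  haveI := finiteDimensional_L hK (C₁ + B)
  haveI := finiteDimensional_L hK (C₂ + B)
  have hne : M₁ ⊓ M₂ ≠ ⊥ := by
    intro hbot
    have h1 := Submodule.finrank_sup_add_finrank_inf_eq M₁ M₂
    rw [hbot, finrank_bot] at h1
    have h2 : Module.finrank k ↥(M₁ ⊔ M₂) ≤ Module.finrank k (WD (-B)) :=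
      Submodule.finrank_mono (sup_le (himg _ _ hC₁) (himg _ _ hC₂))
    have e1 : Module.finrank k M₁ = ell (C₁ + B) :=
      (Submodule.equivMapOfInjective _ (mulWHom_injective hK h0) _).finrank_eq.symm
    have e2 : Module.finrank k M₂ = ell (C₂ + B) :=
      (Submodule.equivMapOfInjective _ (mulWHom_injective hK h0') _).finrank_eq.symm
    omega
  obtain ⟨η, ⟨⟨x₁, -, hx₁⟩, ⟨x₂, -, hx₂⟩⟩, hη⟩ := Submodule.exists_mem_ne_zero_of_ne_bot hne
  have hx20 : x₂ ≠ 0 := fun e => hη (by rw [← hx₂, e, map_zero])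
  refine ⟨x₁ / x₂, LinearMap.ext fun a => ?_⟩
  have := LinearMap.congr_fun (hx₁.trans hx₂.symm)
    ⟨x₂⁻¹ • (a : Place k K → K), mul_mem_adele hK _ _ a.2⟩
  change ω₁ ⟨x₁ • x₂⁻¹ • (a : Place k K → K), _⟩ = ω₂ ⟨x₂ • x₂⁻¹ • (a : Place k K → K), _⟩ at this
  simp only [smul_smul, mul_inv_cancel₀ hx20, one_smul] at this
  exact (congrArg ω₁ (Subtype.ext (by simp [div_eq_mul_inv]))).trans this

lemma exists_weil_ne_zero : ∃ ω : Module.Dual k (adele k K), IsWeil ω ∧ ω ≠ 0 := by
  obtain ⟨P⟩ := nonempty_place hK.1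
  have hdp : (1 : ℤ) ≤ P.deg := by exact_mod_cast deg_pos hK P
  let D : Divisor k K := Finsupp.single P (-2)
  have hD : D.deg ≤ -2 := by rw [deg_single]; omega
  obtain ⟨-, h⟩ := finrank_WD hK D
  rw [spec, ell_eq_zero_of_deg_neg hK (by omega)] at h
  obtain ⟨ω, hω, h0⟩ := Submodule.exists_mem_ne_zero_of_ne_bot (p := WD D)
    (fun e => by rw [e, finrank_bot] at h; omega)
  exact ⟨ω, ⟨D, hω⟩, h0⟩

lemma exists_canonical : ∃ C, IsCanonical k K C := by
  obtain ⟨ω, h1, h0⟩ := exists_weil_ne_zero hK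
  exact (exists_isDivOf hK h1 h0).imp fun C h => ⟨ω, h0, h⟩

omit hK in
lemma isWeil_of_isDivOf {ω : Module.Dual k (adele k K)} {C : Divisor k K} (h : IsDivOf ω C) :
    IsWeil ω := ⟨C, (h C).2 le_rfl⟩

lemma ne_zero_of_isDivOf {ω : Module.Dual k (adele k K)} {C : Divisor k K} (h : IsDivOf ω C) :
    ω ≠ 0 := by
  rintro rfl
  obtain ⟨P⟩ := nonempty_place hK.1
  have := (h (C + Finsupp.single P 1)).1 (Submodule.zero_mem _) P
  simp at this

lemma isDivOf_unique {ω : Module.Dual k (adele k K)} {C C' : Divisor k K} (h : IsDivOf ω C)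
    (h' : IsDivOf ω C') : C = C' :=
  le_antisymm ((h' C).1 ((h C).2 le_rfl)) ((h C').1 ((h' C').2 le_rfl))

lemma mulW_L_mem_iff {ω : Module.Dual k (adele k K)} {C : Divisor k K} (hω : IsDivOf ω C)
    (D : Divisor k K) (x : K) : mulWHom hK ω x ∈ WD D ↔ x ∈ L (C - D) := by
  rcases eq_or_ne x 0 with rfl | hx0
  · simp
  show mulW x (mul_mem_adele hK x) ω ∈ _ ↔ _
  rw [mulW_mem_WD_iff hK hx0, hω, mem_L_iff hK hx0]
  conv_lhs => rw [← sub_nonneg]
  rw [show C - (D - div k x) = C - D + div k x by abel]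

lemma WD_eq_map {ω : Module.Dual k (adele k K)} {C : Divisor k K} (hω : IsDivOf ω C)
    (D : Divisor k K) : WD D = (L (C - D)).map (mulWHom hK ω) := by
  ext η
  constructor
  · intro h
    obtain ⟨x, rfl⟩ := exists_mulW_eq hK (isWeil_of_isDivOf hω) (ne_zero_of_isDivOf hK hω) ⟨D, h⟩
    exact ⟨x, (mulW_L_mem_iff hK hω D x).1 h, rfl⟩
  · rintro ⟨x, hx, rfl⟩
    exact (mulW_L_mem_iff hK hω D x).2 hx

/-- Riemann–Roch. -/
lemma riemann_roch {C : Divisor k K} (hC : IsCanonical k K C) (D : Divisor k K) :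
    (ell D : ℤ) = D.deg + 1 - genus k K + ell (C - D) := by
  obtain ⟨ω, h0, hω⟩ := hC
  obtain ⟨-, h⟩ := finrank_WD hK D
  rw [WD_eq_map hK hω D,
    ← (Submodule.equivMapOfInjective _ (mulWHom_injective hK h0) _).finrank_eq] at h
  simp only [spec] at h
  simp only [ell]
  change (Module.finrank k (L (C - D)) : ℤ) = _ at h
  linarith [show (ell D : ℤ) = Module.finrank k (L D) from rfl]

lemma ell_canonical {C : Divisor k K} (hC : IsCanonical k K C) : ell C = genus k K := by
  have := riemann_roch hK hC 0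
  rw [ell_zero hK, deg_zero', sub_zero] at this
  omega

lemma deg_canonical {C : Divisor k K} (hC : IsCanonical k K C) :
    C.deg = 2 * genus k K - 2 := by
  have := riemann_roch hK hC C
  rw [ell_canonical hK hC, sub_self, ell_zero hK] at this
  omega

lemma ell_eq_of_deg_ge {D : Divisor k K} (h : 2 * (genus k K : ℤ) - 1 ≤ D.deg) :
    (ell D : ℤ) = D.deg + 1 - genus k K := by
  obtain ⟨C, hC⟩ := exists_canonical hK
  rw [riemann_roch hK hC D, ell_eq_zero_of_deg_neg hK (D := C - D) (by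
    rw [deg_sub, deg_canonical hK hC]; omega)]
  simp

end Groth.Agent.FF
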