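import Groth.Agent.FF.RatPlaces
import Groth.Agent.FF.RR
import Mathlib.FieldTheory.Perfect

/-! Cancelling poles in the rational function field. -/

set_option autoImplicit false
set_option linter.unusedSectionVars false
set_option linter.style.haveILetI false

open FunFld WithZero IntermediateField

namespace Groth.Agent.FF

variable {k : Type*} [Field k]

lemma genus_ratFunc : genus k (RatFunc k) = 0 :=
  genus_eq_zero_of_rational isFunctionField_ratFunc RatFunc.adjoin_X

lemma ell_ratFunc {D : Divisor k (RatFunc k)} (h : -1 ≤ D.deg) : (ell D : ℤ) = D.deg + 1 := by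
  have := ell_eq_of_deg_ge isFunctionField_ratFunc (D := D) (by rw [genus_ratFunc]; push_cast; omega)
  rw [genus_ratFunc] at this
  push_cast at this
  omega

/-- every element of the residue field is the leading coefficient of a function whose only pole is
at `P`, of order at most `m` -/
lemma exists_lead (P : Place k (RatFunc k)) {t : RatFunc k} (ht : P.1 t = exp (-1 : ℤ)) {m : ℕ} (hm : 0 < m)
    (r : IsLocalRing.ResidueField P.O) :
    ∃ g ∈ L (Finsupp.single P (m : ℤ)), ∃ h : P.1 (g * t ^ m) ≤ 1,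
      resHom P ⟨g * t ^ m, (mem_O P).2 h⟩ = r := by
  classical
  set D : Divisor k (RatFunc k) := Finsupp.single P (m : ℤ) with hD
  set D' : Divisor k (RatFunc k) := Finsupp.single P ((m : ℤ) - 1) with hD'
  have hPD : ∀ g ∈ L D, P.1 (g * t ^ m) ≤ 1 := fun g hg => by
    rw [map_mul, map_pow, ht, ← exp_nsmul]
    refine (mul_le_mul' (hg P) le_rfl).trans_eq ?_
    rw [hD, Finsupp.single_eq_same, ← exp_add, ← exp_zero]
    congr 1
    simp
  let Φ : L D →ₗ[k] IsLocalRing.ResidueField P.O :=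
    { toFun := fun g => resHom P ⟨(g : RatFunc k) * t ^ m, (mem_O P).2 (hPD g g.2)⟩
      map_add' := fun a b => by
        rw [← map_add]
        congr 1
        exact Subtype.ext (add_mul _ _ _)
      map_smul' := fun c a => by
        have : (⟨((c • a : L D) : RatFunc k) * t ^ m, (mem_O P).2 (hPD _ (c • a).2)⟩ : P.O) =
            algebraMap k P.O c * ⟨(a : RatFunc k) * t ^ m, (mem_O P).2 (hPD a a.2)⟩ := by
          refine Subtype.ext ?_
          show (c • (a : RatFunc k)) * t ^ m = algebraMap k (RatFunc k) c * ((a : RatFunc k) * t ^ m)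
          rw [Algebra.smul_def, mul_assoc]
        rw [this, map_mul]
        exact (Algebra.smul_def c (resHom P ⟨(a : RatFunc k) * t ^ m, (mem_O P).2 (hPD a a.2)⟩)).symm }
  have ht0 : t ≠ 0 := ne_zero_of_val_eq_exp P ht
  have hle : D' ≤ D := fun Q => by
    rw [hD, hD', Finsupp.single_apply, Finsupp.single_apply]
    split_ifs <;> omega
  have hker : LinearMap.ker Φ ≤ Submodule.comap (L D).subtype (L D') := by
    rintro ⟨g, hg⟩ h0
    rw [LinearMap.mem_ker] at h0
    have hlt := (resHom_eq_zero_iff P).1 h0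
    intro Q
    show Q.1 g ≤ exp (D' Q)
    rcases eq_or_ne P Q with rfl | hne
    · rw [hD', Finsupp.single_eq_same]
      replace hlt := (lt_exp_iff _ 0).1 (hlt.trans_eq exp_zero.symm)
      rw [map_mul, map_pow, ht, ← exp_nsmul] at hlt
      have h2 := mul_le_mul' hlt (le_refl (exp (m : ℤ)))
      rw [mul_assoc, ← exp_add, ← exp_add] at h2
      simp only [nsmul_eq_mul, mul_neg, mul_one, neg_add_cancel, exp_zero, mul_one] at h2
      refine h2.trans_eq ?_
      congr 1
    · have := hg Q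
      rw [hD, Finsupp.single_eq_of_ne (Ne.symm hne)] at this
      rwa [hD', Finsupp.single_eq_of_ne (Ne.symm hne)]
  haveI := finiteDimensional_L (isFunctionField_ratFunc (k := k)).1 D
  haveI := finiteDimensional_L (isFunctionField_ratFunc (k := k)).1 D'
  haveI := finiteDimensional_residueField (isFunctionField_ratFunc (k := k)).1 P
  have hk : Module.finrank k (LinearMap.ker Φ) ≤ ell D' := by
    refine (Submodule.finrank_mono hker).trans ?_
    refine LinearMap.finrank_le_finrank_of_injective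
      (f := (L D).subtype.restrict (p := Submodule.comap (L D).subtype (L D')) (q := L D') fun x hx => hx) ?_
    exact fun a b hab => Subtype.ext (Subtype.ext (congrArg (fun z : L D' => (z : RatFunc k)) hab))
  have hrn := LinearMap.finrank_range_add_finrank_ker Φ
  have hdD : D.deg = m * (P.deg : ℤ) := by rw [hD, deg_single]
  have hdD' : D'.deg = ((m : ℤ) - 1) * (P.deg : ℤ) := by rw [hD', deg_single]
  have hP1 : 1 ≤ P.deg := deg_pos isFunctionField_ratFunc.1 P
  have h1 : (ell D : ℤ) = m * (P.deg : ℤ) + 1 := by rw [ell_ratFunc (by rw [hdD]; nlinarith), hdD]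
  have h2 : (ell D' : ℤ) ≤ max (((m : ℤ) - 1) * P.deg + 1) 0 := by
    rcases lt_or_ge D'.deg 0 with h | h
    · rw [ell_eq_zero_of_deg_neg isFunctionField_ratFunc h]; exact le_max_right _ _
    · rw [ell_ratFunc (by omega), hdD']; exact le_max_left _ _
  have hrange : LinearMap.range Φ = ⊤ := by
    refine Submodule.eq_top_of_finrank_eq (le_antisymm (Submodule.finrank_le _) ?_)
    rw [max_eq_left (by have : (0 : ℤ) ≤ ((m : ℤ) - 1) * P.deg := mul_nonneg (by omega) (by positivity)
                        omega)] at h2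
    show P.deg ≤ _
    have : (ell D : ℤ) = (Module.finrank k (LinearMap.range Φ) : ℤ) + Module.finrank k (LinearMap.ker Φ) := by
      exact_mod_cast hrn.symm
    have : (Module.finrank k (LinearMap.ker Φ) : ℤ) ≤ ell D' := by exact_mod_cast hk
    zify
    linarith
  obtain ⟨⟨g, hg⟩, hgr⟩ := LinearMap.range_eq_top.1 hrange r
  exact ⟨g, hg, hPD g hg, hgr⟩

lemma val_le_pred_of_res_eq (P : Place k (RatFunc k)) {t : RatFunc k} (ht : P.1 t = exp (-1 : ℤ)) {n : ℕ}
    {F G : RatFunc k} (hF : P.1 (F * t ^ n) ≤ 1) (hG : P.1 (G * t ^ n) ≤ 1)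
    (h : resHom P ⟨F * t ^ n, (mem_O P).2 hF⟩ = resHom P ⟨G * t ^ n, (mem_O P).2 hG⟩) :
    P.1 (F - G) ≤ exp ((n : ℤ) - 1) := by
  have h0 : resHom P (⟨F * t ^ n, (mem_O P).2 hF⟩ - ⟨G * t ^ n, (mem_O P).2 hG⟩) = 0 := by
    rw [map_sub, h, sub_self]
  have hlt := (resHom_eq_zero_iff P).1 h0
  replace hlt := (lt_exp_iff _ 0).1 (hlt.trans_eq exp_zero.symm)
  have h1 : P.1 ((F - G) * t ^ n) ≤ exp (-1 : ℤ) := by
    rw [sub_mul]
    exact hlt.trans_eq (by rw [zero_sub])
  rw [map_mul, map_pow, ht, ← exp_nsmul] at h1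
  have h2 := mul_le_mul' h1 (le_refl (exp (n : ℤ)))
  rw [mul_assoc, ← exp_add, ← exp_add] at h2
  simp only [nsmul_eq_mul, mul_neg, mul_one, neg_add_cancel, exp_zero] at h2
  exact h2.trans_eq (by congr 1)

lemma val_le_pred_of_le_of_ne (P : Place k (RatFunc k)) {F : RatFunc k} {n : ℤ} (h : P.1 F ≤ exp n)
    (h' : P.1 F ≠ exp n) : P.1 F ≤ exp (n - 1) :=
  (lt_exp_iff _ n).1 (lt_of_le_of_ne h h')

/-- remove the poles at `P` by a function with poles only at `P` -/
lemma exists_cancel (P : Place k (RatFunc k)) (F : RatFunc k) {n : ℕ} (h : P.1 F ≤ exp (n : ℤ)) :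
    ∃ g : RatFunc k, P.1 (F - g) ≤ 1 ∧ (∀ Q, Q ≠ P → Q.1 g ≤ 1) ∧ P.1 g ≤ exp (n : ℤ) := by
  classical
  induction n generalizing F with
  | zero =>
    refine ⟨0, ?_, fun Q _ => by simp, by simp⟩
    rw [sub_zero]
    exact h.trans_eq (by simp)
  | succ n ih =>
    obtain ⟨t, ht⟩ := exists_uniformizer P
    have hF : P.1 (F * t ^ (n + 1)) ≤ 1 := by
      rw [map_mul, map_pow, ht, ← exp_nsmul]
      refine (mul_le_mul' h le_rfl).trans_eq ?_
      rw [← exp_add, ← exp_zero]
      congr 1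
      push_cast [nsmul_eq_mul]
      ring
    obtain ⟨g, hg, hgv, hgr⟩ := exists_lead P ht (Nat.succ_pos n) (resHom P ⟨_, (mem_O P).2 hF⟩)
    have h1 := val_le_pred_of_res_eq P ht (n := n + 1) hF hgv hgr.symm
    obtain ⟨g', h2, h3, h4⟩ := ih (F - g) (h1.trans_eq (by congr 1; push_cast; ring))
    refine ⟨g + g', by rwa [← sub_sub], fun Q hQ => (Q.1.map_add _ _).trans (max_le ?_ (h3 Q hQ)),
      (P.1.map_add _ _).trans (max_le ?_ (h4.trans (exp_le_exp.2 (by push_cast; omega))))⟩
    · refine (hg Q).trans_eq ?_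
      rw [Finsupp.single_eq_of_ne hQ]
      simp
    · refine (hg P).trans_eq ?_
      rw [Finsupp.single_eq_same]

section Char2

variable [PerfectField k]

lemma exists_sqrt_residue (h2 : (2 : k) = 0) (P : Place k (RatFunc k)) (r : IsLocalRing.ResidueField P.O) :
    ∃ s, s * s = r := by
  haveI : CharP k 2 := CharTwo.of_one_ne_zero_of_two_eq_zero one_ne_zero h2
  haveI := finiteDimensional_residueField (isFunctionField_ratFunc (k := k)).1 P
  haveI : CharP (IsLocalRing.ResidueField P.O) 2 :=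
    charP_of_injective_algebraMap (algebraMap k (IsLocalRing.ResidueField P.O)).injective 2
  haveI : ExpChar (IsLocalRing.ResidueField P.O) 2 := ExpChar.prime Nat.prime_two
  haveI : Algebra.IsAlgebraic k (IsLocalRing.ResidueField P.O) :=
    @Algebra.IsAlgebraic.of_finite k _ _ _ _ _ (finiteDimensional_residueField (isFunctionField_ratFunc (k := k)).1 P)
  haveI : PerfectField (IsLocalRing.ResidueField P.O) := Algebra.IsAlgebraic.perfectField (K := k)
  haveI : PerfectRing (IsLocalRing.ResidueField P.O) 2 := inferInstance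
  obtain ⟨s, hs⟩ := (frobeniusEquiv (IsLocalRing.ResidueField P.O) 2).surjective r
  refine ⟨s, ?_⟩
  rw [frobeniusEquiv_def, pow_two] at hs
  exact hs

/-- lower an even pole order -/
lemma exists_lower_even (h2 : (2 : k) = 0) (P : Place k (RatFunc k)) {f : RatFunc k} {m : ℕ} (hm : 0 < m)
    (h : P.1 f = exp ((2 * m : ℕ) : ℤ)) :
    ∃ g : RatFunc k, P.1 (f + g ^ 2 + g) < P.1 f ∧ ∀ Q, Q ≠ P → Q.1 g ≤ 1 := by
  classical
  obtain ⟨t, ht⟩ := exists_uniformizer P
  have hF : P.1 (f * t ^ (2 * m)) ≤ 1 := by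
    rw [map_mul, map_pow, ht, h, ← exp_nsmul, ← exp_add, ← exp_zero, exp_le_exp]
    push_cast [nsmul_eq_mul]
    omega
  obtain ⟨s, hs⟩ := exists_sqrt_residue h2 P (resHom P ⟨_, (mem_O P).2 hF⟩)
  obtain ⟨g, hg, hgv, hgr⟩ := exists_lead P ht hm s
  have hG : P.1 (g ^ 2 * t ^ (2 * m)) ≤ 1 := by
    rw [show g ^ 2 * t ^ (2 * m) = (g * t ^ m) ^ 2 by ring, map_pow]
    exact pow_le_one' hgv 2
  have hres : resHom P ⟨_, (mem_O P).2 hG⟩ = s * s := by
    rw [← hgr, ← map_mul]
    congr 1
    exact Subtype.ext (show g ^ 2 * t ^ (2 * m) = g * t ^ m * (g * t ^ m) by ring)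
  have h1 := val_le_pred_of_res_eq P ht hF hG (by rw [hres, hs])
  have hchar : ∀ z : RatFunc k, z + z = 0 := fun z => by
    rw [← two_mul, ← map_ofNat (algebraMap k (RatFunc k)) 2, h2, map_zero, zero_mul]
  rw [show f - g ^ 2 = f + g ^ 2 by linear_combination -hchar (g ^ 2)] at h1
  refine ⟨g, ?_, fun Q hQ => (hg Q).trans_eq (by rw [Finsupp.single_eq_of_ne hQ]; simp)⟩
  rw [h, lt_exp_iff]
  refine (P.1.map_add _ _).trans (max_le h1 ((hg P).trans ?_))
  rw [Finsupp.single_eq_same, exp_le_exp]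
  push_cast
  omega

lemma poleDeg_lt {f f' : RatFunc k} (P : Place k (RatFunc k)) (hP : P.1 f' < P.1 f) (hpos : 1 < P.1 f)
    (hQ : ∀ Q : Place k (RatFunc k), Q ≠ P → 1 < Q.1 f' → Q.1 f' ≤ Q.1 f) :
    (FunFld.div k f'⁻¹ ⊔ 0).deg < (FunFld.div k f⁻¹ ⊔ 0).deg := by
  classical
  set A := FunFld.div k f⁻¹ ⊔ (0 : Divisor k (RatFunc k))
  set A' := FunFld.div k f'⁻¹ ⊔ (0 : Divisor k (RatFunc k))
  have hA : ∀ Q, A Q = max (-(Q.ord f)) 0 := fun Q => by
    simp [A, div_apply isFunctionField_ratFunc.1, ord_inv]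
  have hA' : ∀ Q, A' Q = max (-(Q.ord f')) 0 := fun Q => by
    simp [A', div_apply isFunctionField_ratFunc.1, ord_inv]
  have hf : f ≠ 0 := fun e => by simp [e] at hpos
  have h : A' + Finsupp.single P 1 ≤ A := fun Q => by
    rw [Finsupp.add_apply, hA, hA', Finsupp.single_apply]
    by_cases hfq : f' = 0
    · subst hfq
      have h0 : Q.ord (0 : RatFunc k) = 0 := by simp [Place.ord]
      rw [h0]
      split_ifs with he
      · subst he
        have := (one_lt_val_iff P f).1 hpos
        omega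
      · omega
    split_ifs with he
    · subst he
      have h3 := (one_lt_val_iff P f).1 hpos
      rw [val_eq_exp_ord P hfq, val_eq_exp_ord P hf, exp_lt_exp] at hP
      omega
    · by_cases h1 : 1 < Q.1 f'
      · have := hQ Q (Ne.symm he) h1
        rw [val_eq_exp_ord Q hfq, val_eq_exp_ord Q hf, exp_le_exp] at this
        omega
      · have h3 : ¬ Q.ord f' < 0 := fun h4 => h1 ((one_lt_val_iff Q f').2 h4)
        omega
  have h2 := deg_mono h
  rw [deg_add, deg_single] at h2
  have : 1 ≤ P.deg := deg_pos isFunctionField_ratFunc.1 P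
  omega

/-- Artin–Schreier reduction -/
theorem exists_reduced (h2 : (2 : k) = 0) (f : RatFunc k) :
    ∃ g : RatFunc k, ∀ P : Place k (RatFunc k), P.ord (f + g ^ 2 + g) < 0 → Odd (P.ord (f + g ^ 2 + g)) := by
  classical
  have hchar : ∀ z : RatFunc k, z + z = 0 := fun z => by
    rw [← two_mul, ← map_ofNat (algebraMap k (RatFunc k)) 2, h2, map_zero, zero_mul]
  induction' hn : (FunFld.div k f⁻¹ ⊔ 0).deg.toNat using Nat.strong_induction_on with n ih generalizing f
  by_cases hall : ∀ P : Place k (RatFunc k), P.ord f < 0 → Odd (P.ord f)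
  · exact ⟨0, by simpa using hall⟩
  push Not at hall
  obtain ⟨P, hneg, hev⟩ := hall
  rw [Int.not_odd_iff_even] at hev
  obtain ⟨c, hc⟩ := hev
  have hf : f ≠ 0 := fun e => by simp [e, Place.ord] at hneg
  set m := (-c).toNat
  have hm : 0 < m := by omega
  have hv : P.1 f = exp ((2 * m : ℕ) : ℤ) := by
    rw [val_eq_exp_ord P hf]; congr 1; push_cast; omega
  obtain ⟨g, hg1, hg2⟩ := exists_lower_even h2 P hm hv
  set f' := f + g ^ 2 + g
  have hlt : (FunFld.div k f'⁻¹ ⊔ 0).deg < (FunFld.div k f⁻¹ ⊔ 0).deg := by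
    refine poleDeg_lt P hg1 ((one_lt_val_iff P f).2 hneg) fun Q hQ h1 => ?_
    by_contra hgt
    have hb : ∀ z : RatFunc k, Q.1 z ≤ 1 → Q.1 z < Q.1 f' := fun z hz => lt_of_le_of_lt hz h1
    have h3 : Q.1 f' < Q.1 f' := by
      conv_lhs => rw [show f' = f + (g ^ 2 + g) by ring]
      refine (Q.1.map_add _ _).trans_lt (max_lt (not_le.1 hgt) (hb _ ((Q.1.map_add _ _).trans (max_le ?_ (hg2 Q hQ)))))
      rw [map_pow]; exact pow_le_one' (hg2 Q hQ) 2
    exact lt_irrefl _ h3
  have hnn : 0 ≤ (FunFld.div k f'⁻¹ ⊔ 0 : Divisor k (RatFunc k)).deg := by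
    have := deg_mono (le_sup_right : (0 : Divisor k (RatFunc k)) ≤ FunFld.div k f'⁻¹ ⊔ 0)
    simpa using this
  obtain ⟨g', hg'⟩ := ih _ (by omega) f' rfl
  refine ⟨g + g', ?_⟩
  rwa [show f + (g + g') ^ 2 + (g + g') = f' + g' ^ 2 + g' by linear_combination hchar (g * g')]

end Char2

end Groth.Agent.FF
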