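import Groth.Agent.FF.ArtinSchreier

/-! Glue for the Artin–Schreier statements. -/

set_option autoImplicit false

open FunFld

namespace Groth.Agent.FF

lemma two_eq_zero_of_ringChar {k : Type*} [Field k] (h2 : ringChar k = 2) : (2 : k) = 0 := by
  have := (ringChar.spec k 2).2 (dvd_of_eq h2)
  simpa using this

variable {k K : Type*} [Field k] [Field K] [Algebra k K] [Algebra (RatFunc k) K]
  [IsScalarTower k (RatFunc k) K] [PerfectField k] [Algebra.IsSeparable (RatFunc k) K]

lemma exists_AS_gen_reduced (h2 : (2 : k) = 0) (hdeg : Module.finrank (RatFunc k) K = 2) :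
    ∃ (y : K) (f : RatFunc k), y ^ 2 + y = algebraMap (RatFunc k) K f ∧
      IntermediateField.adjoin (RatFunc k) ({y} : Set K) = ⊤ ∧
      ∀ P : Place k (RatFunc k), P.ord f < 0 → Odd (P.ord f) := by
  obtain ⟨y, f, h1, -, h3⟩ := exists_AS_gen h2 hdeg
  obtain ⟨g, hg⟩ := exists_reduced h2 f
  refine ⟨y + algebraMap (RatFunc k) K g, f + g ^ 2 + g, ?_, ?_, hg⟩
  · have h2K : (2 : K) = 0 := by rw [← map_ofNat (algebraMap k K) 2, h2, map_zero]
    rw [map_add, map_add, map_pow, ← h1]
    linear_combination (y * algebraMap (RatFunc k) K g) * h2K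
  · rw [eq_top_iff, ← h3, IntermediateField.adjoin_simple_le_iff]
    have := sub_mem (IntermediateField.mem_adjoin_simple_self (RatFunc k) (y + algebraMap (RatFunc k) K g))
      (IntermediateField.algebraMap_mem (IntermediateField.adjoin (RatFunc k) {y + algebraMap (RatFunc k) K g}) g)
    rwa [add_sub_cancel_right] at this

end Groth.Agent.FF
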