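import Groth.Prelude.Def_W4bk4goldsch23Ext
import Groth.Agent.FF.RiemannAny
import Groth.Agent.FF.Linear

/-! Places in finite extensions: the place below, the fundamental equality, conorm. -/

set_option autoImplicit false
set_option linter.style.haveILetI false
set_option linter.unusedSectionVars false

open FunFld WithZero IntermediateField

namespace Groth.Agent.FF

variable {k K K' : Type*} [Field k] [Field K] [Field K'] [Algebra k K] [Algebra K K'] [Algebra k K']

section Basic

variable {Q : Place k K'} {P : Place k K} {e : ℕ}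

lemma IsOverWith_ord (h : IsOverWith Q P e) (x : K) : Q.ord (algebraMap K K' x) = e * P.ord x := by
  rcases eq_or_ne x 0 with rfl | hx
  · simp
  · rw [Place.ord, h x, log_pow, Place.ord]; simp

lemma IsOverWith_pos (h : IsOverWith Q P e) : 0 < e := by
  rcases Nat.eq_zero_or_pos e with rfl | he
  · exact absurd (h 0) (by simp)
  · exact he

lemma IsOverWith_unique {e' : ℕ} (h : IsOverWith Q P e) (h' : IsOverWith Q P e') : e = e' := by
  obtain ⟨t, ht⟩ := exists_uniformizer P
  have h1 := IsOverWith_ord h t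
  rw [IsOverWith_ord h' t, ord_of_val_eq P ht] at h1
  omega

lemma ramIdx_eq (h : IsOverWith Q P e) : ramIdx Q P = e := by
  classical
  have hex : IsOver Q P := ⟨e, h⟩
  rw [ramIdx, dif_pos hex]
  exact IsOverWith_unique (Nat.find_spec hex) h

lemma isOverWith_ramIdx (h : IsOver Q P) : IsOverWith Q P (ramIdx Q P) := by
  obtain ⟨e, he⟩ := h
  rwa [ramIdx_eq he]

lemma ramIdx_pos (h : IsOver Q P) : 0 < ramIdx Q P := IsOverWith_pos (isOverWith_ramIdx h)

lemma ramIdx_eq_zero (h : ¬ IsOver Q P) : ramIdx Q P = 0 := by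
  classical
  rw [ramIdx, dif_neg h]

lemma val_algebraMap_le_one_iff (h : IsOver Q P) (x : K) :
    Q.1 (algebraMap K K' x) ≤ 1 ↔ P.1 x ≤ 1 := by
  obtain ⟨e, he⟩ := h
  rw [he x]
  exact pow_le_one_iff (IsOverWith_pos he).ne'

lemma val_algebraMap_lt_one_iff (h : IsOver Q P) (x : K) :
    Q.1 (algebraMap K K' x) < 1 ↔ P.1 x < 1 := by
  obtain ⟨e, he⟩ := h
  rw [he x]
  exact pow_lt_one_iff_of_nonneg zero_le (IsOverWith_pos he).ne'

lemma isOver_unique {P' : Place k K} (h : IsOver Q P) (h' : IsOver Q P') : P = P' :=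
  ext_of_O fun x hx => (val_algebraMap_le_one_iff h' x).1 ((val_algebraMap_le_one_iff h x).2 hx)

end Basic

variable [IsScalarTower k K K'] [FiniteDimensional K K']

lemma transcendental_algebraMap {x : K} (hx : Transcendental k x) :
    Transcendental k (algebraMap K K' x) := fun h =>
  hx ((isAlgebraic_algebraMap_iff (algebraMap K K').injective).1 h)

lemma finrank_adjoin_algebraMap (x : K) :
    Module.finrank k⟮algebraMap K K' x⟯ K' = Module.finrank k⟮x⟯ K * Module.finrank K K' := by
  let f : K →ₐ[k] K' := IsScalarTower.toAlgHom k K K'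
  have hmap : (k⟮x⟯).map f = k⟮algebraMap K K' x⟯ := by
    rw [adjoin_map, Set.image_singleton]; rfl
  rw [Module.finrank_mul_finrank k⟮x⟯ K K', ← hmap]
  refine (Algebra.finrank_eq_of_equiv_equiv ((k⟮x⟯).equivMap f).toRingEquiv (RingEquiv.refl K') ?_).symm
  ext a
  rfl

lemma isFF_ext (hK : IsFF k K) : IsFF k K' := by
  obtain ⟨x, hx, hfin⟩ := hK
  refine ⟨algebraMap K K' x, transcendental_algebraMap hx, Module.finite_of_finrank_pos ?_⟩
  rw [finrank_adjoin_algebraMap x]
  exact Nat.mul_pos Module.finrank_pos Module.finrank_pos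

/-- Every place of `K'` lies over a place of `K`. -/
lemma exists_below (hK : IsFF k K) (Q : Place k K') : ∃ P : Place k K, IsOver Q P := by
  classical
  let w : Valuation K (WithZero (Multiplicative ℤ)) := Q.1.comap (algebraMap K K')
  have hk : ∀ c : k, w (algebraMap k K c) ≤ 1 := fun c => by
    show Q.1 (algebraMap K K' (algebraMap k K c)) ≤ 1
    rw [← IsScalarTower.algebraMap_apply]; exact Q.2.1 c
  have hne : w.valuationSubring ≠ ⊤ := by
    intro htop
    have hw : ∀ x : K, x ≠ 0 → Q.1 (algebraMap K K' x) = 1 := by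
      intro x hx
      have h1 : ∀ y : K, Q.1 (algebraMap K K' y) ≤ 1 := fun y => by
        have : y ∈ w.valuationSubring := by rw [htop]; trivial
        exact this
      refine le_antisymm (h1 x) ?_
      have := h1 x⁻¹
      rwa [map_inv₀, map_inv₀, inv_le_one₀ (zero_lt_iff.2 (by simpa using hx))] at this
    obtain ⟨t, ht⟩ := exists_uniformizer Q
    have := val_eq_one_of_isAlgebraic Q.1 hw (Algebra.IsAlgebraic.isAlgebraic t)
      (ne_zero_of_val_eq_exp Q ht)
    rw [ht, exp_eq_one] at this
    omega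
  obtain ⟨P, hP⟩ := exists_place_O_eq hK w.valuationSubring hk hne
  have hiff : ∀ x : K, P.1 x ≤ 1 ↔ Q.1 (algebraMap K K' x) ≤ 1 := fun x => by
    rw [← mem_O P, hP]; rfl
  obtain ⟨t, ht⟩ := exists_uniformizer P
  have ht0 := ne_zero_of_val_eq_exp P ht
  have hpos : 0 ≤ Q.ord (algebraMap K K' t) :=
    (val_le_one_iff Q _).1 ((hiff t).1 ((val_le_one_iff P t).2 (by rw [ord_of_val_eq P ht]; omega)))
  refine ⟨P, (Q.ord (algebraMap K K' t)).toNat, fun x => ?_⟩
  rcases eq_or_ne x 0 with rfl | hx
  · rw [map_zero, map_zero, map_zero]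
    have h1 : Q.ord (algebraMap K K' t) ≠ 0 := by
      intro h0
      have h2 : Q.1 (algebraMap K K' t⁻¹) ≤ 1 := by
        rw [val_le_one_iff, map_inv₀, ord_inv, h0]; omega
      rw [← hiff, val_le_one_iff, ord_inv, ord_of_val_eq P ht] at h2
      omega
    rw [zero_pow (by omega)]
  · obtain ⟨u, hu1, hu2⟩ := exists_unit_mul_zpow P ht hx
    have hune : u ≠ 0 := fun e => by simp [e] at hu1
    have hQu : Q.ord (algebraMap K K' u) = 0 := by
      have a := (hiff u).1 hu1.le
      have b := (hiff u⁻¹).1 (by rw [map_inv₀, hu1, inv_one])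
      rw [val_le_one_iff] at a b
      rw [map_inv₀, ord_inv] at b
      omega
    rw [val_eq_exp_ord Q (by simpa using hx), val_eq_exp_ord P hx, ← exp_nsmul]
    congr 1
    conv_lhs => rw [hu2]
    rw [map_mul, map_zpow₀, ord_mul Q (by simpa using hune) (zpow_ne_zero _ (by simpa using ht0)), hQu, ord_zpow,
      nsmul_eq_mul, Int.toNat_of_nonneg hpos]
    ring

lemma exists_only_zero (hK : IsFF k K) (P : Place k K) :
    ∃ x : K, Transcendental k x ∧ 0 < P.ord x ∧ ∀ Q : Place k K, Q ≠ P → Q.ord x ≤ 0 := by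
  classical
  have hdp : (1 : ℤ) ≤ P.deg := by exact_mod_cast deg_pos hK P
  obtain ⟨γ, hγ⟩ := Any.exists_spec_le hK
  obtain ⟨n, hn⟩ : ∃ n : ℕ, γ + ell (0 : Divisor k K) < n :=
    ⟨(γ + ell (0 : Divisor k K)).toNat + 1, by omega⟩
  have hd : (n : ℤ) ≤ Divisor.deg (Finsupp.single P (n : ℤ)) := by
    rw [deg_single]
    exact le_mul_of_one_le_right (by omega) hdp
  have hl := hγ (Finsupp.single P (n : ℤ))
  rw [spec] at hl
  haveI := finiteDimensional_L hK (0 : Divisor k K)
  haveI := finiteDimensional_L hK (Finsupp.single P (n : ℤ))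
  obtain ⟨x, hx, hx0⟩ : ∃ x ∈ L (Finsupp.single P (n : ℤ)), x ∉ L (0 : Divisor k K) := by
    by_contra! h
    have h2 := Submodule.finrank_mono (h : L (Finsupp.single P (n : ℤ)) ≤ L (0 : Divisor k K))
    change ell (Finsupp.single P (n : ℤ)) ≤ ell (0 : Divisor k K) at h2
    omega
  have hxt : Transcendental k x := fun halg => hx0 fun Q => by
    rcases eq_or_ne x 0 with rfl | hne
    · simp
    · rw [val_le_exp_iff Q hne, ord_eq_zero_of_isAlgebraic Q halg]; simp
  have hxne : x ≠ 0 := fun e => hxt (e ▸ isAlgebraic_zero)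
  have hQ : ∀ Q : Place k K, Q ≠ P → 0 ≤ Q.ord x := fun Q hQ => by
    have := hx Q
    rwa [Finsupp.single_eq_of_ne hQ, exp_zero, val_le_one_iff] at this
  refine ⟨x⁻¹, fun h => hxt (by simpa using h.inv), ?_, fun Q h => by rw [ord_inv]; linarith [hQ Q h]⟩
  rw [ord_inv]
  by_contra hle
  obtain ⟨R, hR⟩ := exists_zero hK (x := x⁻¹) (fun h => hxt (by simpa using h.inv))
  have := (val_lt_one_iff R (inv_ne_zero hxne)).1 hR
  rw [ord_inv] at this
  rcases eq_or_ne R P with rfl | hne
  · omega
  · have := hQ R hne; omega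

/-- Finitely many places lie over `P`, at least one does, and `∑ e deg Q = [K' : K] deg P`. -/
lemma fundamental (hK : IsFF k K) (P : Place k K) :
    {Q : Place k K' | IsOver Q P}.Finite ∧
    ∀ Qs : Finset (Place k K'), (∀ Q, Q ∈ Qs ↔ IsOver Q P) →
      (∑ Q ∈ Qs, ramIdx Q P * Q.deg) = Module.finrank K K' * P.deg := by
  classical
  obtain ⟨x, hxt, hxP, hxQ⟩ := exists_only_zero hK P
  have hx0 : x ≠ 0 := fun e => hxt (e ▸ isAlgebraic_zero)
  have hK' : IsFF k K' := isFF_ext hK
  have hxt' := transcendental_algebraMap (K' := K') hxt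
  have hzero : ∀ Q : Place k K', 0 < Q.ord (algebraMap K K' x) ↔ IsOver Q P := by
    intro Q
    refine ⟨fun h => ?_, fun ⟨e, he⟩ => ?_⟩
    · obtain ⟨P', e, he⟩ := exists_below hK Q
      rw [IsOverWith_ord he] at h
      rcases eq_or_ne P' P with rfl | hne
      · exact ⟨e, he⟩
      · have : (e : ℤ) * P'.ord x ≤ 0 := mul_nonpos_of_nonneg_of_nonpos (by omega) (hxQ P' hne)
        omega
    · rw [IsOverWith_ord he]
      exact mul_pos (by exact_mod_cast IsOverWith_pos he) hxP
  have hfin : {Q : Place k K' | IsOver Q P}.Finite :=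
    (finite_support_ord hK' (algebraMap K K' x)).subset fun Q hQ => ((hzero Q).2 hQ).ne'
  refine ⟨hfin, fun Qs hQs => ?_⟩
  have h1 := deg_zeroDiv hK' hxt'
  rw [finrank_adjoin_algebraMap x, deg_zeroDiv_eq_sum (hK := hK')] at h1
  have h2 := deg_zeroDiv hK hxt
  rw [deg_zeroDiv_eq_sum (hK := hK)] at h2
  have hs2 : (FunFld.div k x).support.filter (fun R => 0 < FunFld.div k x R) = {P} := by
    ext R
    simp only [Finset.mem_filter, Finsupp.mem_support_iff, div_apply hK, Finset.mem_singleton]
    refine ⟨fun h => ?_, by rintro rfl; exact ⟨by omega, hxP⟩⟩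
    by_contra hne
    have := hxQ R hne; omega
  rw [hs2, Finset.sum_singleton, div_apply hK] at h2
  have hs1 : (FunFld.div k (algebraMap K K' x)).support.filter
      (fun Q => 0 < FunFld.div k (algebraMap K K' x) Q) = Qs := by
    ext Q
    simp only [Finset.mem_filter, Finsupp.mem_support_iff, div_apply hK', hQs, ← hzero]
    omega
  rw [hs1] at h1
  push_cast at h1
  have h3 : ∑ Q ∈ Qs, FunFld.div k (algebraMap K K' x) Q * (Q.deg : ℤ) =
      P.ord x * ∑ Q ∈ Qs, ((ramIdx Q P * Q.deg : ℕ) : ℤ) := by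
    rw [Finset.mul_sum]
    refine Finset.sum_congr rfl fun Q hQ => ?_
    rw [div_apply hK', IsOverWith_ord (isOverWith_ramIdx ((hQs Q).1 hQ))]
    push_cast; ring
  rw [h3, ← h2, mul_assoc] at h1
  have h4 := mul_left_cancel₀ hxP.ne' h1
  rw [← Nat.cast_sum] at h4
  have h5 : ((∑ Q ∈ Qs, ramIdx Q P * Q.deg : ℕ) : ℤ) = ((Module.finrank K K' * P.deg : ℕ) : ℤ) := by
    rw [h4]; push_cast; ring
  exact_mod_cast h5

lemma exists_over (hK : IsFF k K) (P : Place k K) : ∃ Q : Place k K', IsOver Q P := by
  obtain ⟨hfin, h⟩ := fundamental (K' := K') hK P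
  by_contra! hno
  have h1 := h ∅ (fun Q => by simpa using hno Q)
  rw [Finset.sum_empty] at h1
  have h2 := Nat.mul_pos (Module.finrank_pos (R := K) (M := K')) (deg_pos hK P)
  omega

lemma deg_dvd_over (hK : IsFF k K) {Q : Place k K'} {P : Place k K} (h : IsOver Q P) :
    ramIdx Q P * Q.deg ≤ Module.finrank K K' * P.deg := by
  classical
  obtain ⟨hfin, hs⟩ := fundamental (K' := K') hK P
  rw [← hs hfin.toFinset (by simp)]
  exact Finset.single_le_sum (f := fun Q => ramIdx Q P * Q.deg) (fun _ _ => Nat.zero_le _)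
    (hfin.mem_toFinset.2 h)

lemma finite_over (hK : IsFF k K) (P : Place k K) : {Q : Place k K' | IsOver Q P}.Finite := by
  obtain ⟨t, ht⟩ := exists_uniformizer P
  refine (finite_support_ord (isFF_ext hK) (algebraMap K K' t)).subset fun Q ⟨e, he⟩ => ?_
  show Q.ord (algebraMap K K' t) ≠ 0
  rw [IsOverWith_ord he, ord_of_val_eq P ht]
  have := IsOverWith_pos he
  omega

lemma conorm_single (hK : IsFF k K) (P : Place k K) (n : ℤ) :
    conorm K' (Finsupp.single P n) = n • (finite_over (K' := K') hK P).toFinset.sum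
      (fun Q => (ramIdx Q P : ℤ) • Finsupp.single Q 1) := by
  classical
  unfold conorm
  refine (Finsupp.sum_single_index (by exact zero_smul ℤ _)).trans ?_
  rw [dif_pos (finite_over (K' := K') hK P)]

lemma conorm_add (D E : Divisor k K) : conorm K' (D + E) = conorm K' D + conorm K' E :=
  Finsupp.sum_add_index' (fun _ => zero_smul _ _) (fun _ _ _ => add_smul _ _ _)

lemma conorm_apply (hK : IsFF k K) (D : Divisor k K) {Q : Place k K'} {P : Place k K}
    (h : IsOver Q P) : conorm K' D Q = ramIdx Q P * D P := by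
  classical
  induction D using Finsupp.induction_linear with
  | zero => simp [conorm]
  | add D E hD hE => rw [conorm_add, Finsupp.add_apply, hD, hE, Finsupp.add_apply]; ring
  | single R n =>
    rw [conorm_single hK]
    simp only [Finsupp.smul_apply, Finsupp.coe_finsetSum, Finset.sum_apply, smul_eq_mul,
      Finsupp.single_apply, mul_ite, mul_one, mul_zero]
    rw [Finset.sum_ite_eq']
    rcases eq_or_ne R P with rfl | hne
    · rw [if_pos ((finite_over (K' := K') hK R).mem_toFinset.2 h), if_pos rfl]; ring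
    · rw [if_neg (fun hm => hne (isOver_unique ((finite_over (K' := K') hK R).mem_toFinset.1 hm) h)),
        if_neg hne]
      ring

lemma deg_conorm (hK : IsFunctionField k K) (D : Divisor k K) :
    (conorm K' D).deg = Module.finrank K K' * D.deg := by
  classical
  induction D using Finsupp.induction_linear with
  | zero => simp [conorm]
  | add D E hD hE => rw [conorm_add, deg_add, hD, hE, deg_add]; ring
  | single P n =>
    rw [conorm_single hK.1, deg_zsmul, deg_single]
    have hsum : ∀ s : Finset (Place k K'),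
        (s.sum (fun Q => (ramIdx Q P : ℤ) • Finsupp.single Q (1 : ℤ)) : Divisor k K').deg =
          ((∑ Q ∈ s, ramIdx Q P * Q.deg : ℕ) : ℤ) := by
      intro s
      induction s using Finset.induction with
      | empty => simp
      | @insert a s ha ih =>
        rw [Finset.sum_insert ha, Finset.sum_insert ha, deg_add, ih, deg_zsmul, deg_single]
        push_cast; ring
    rw [hsum, (fundamental (K' := K') hK.1 P).2 _ (fun Q => (finite_over (K' := K') hK.1 P).mem_toFinset)]
    push_cast; ring

lemma div_algebraMap (hK : IsFunctionField k K) (x : K) :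
    FunFld.div k (algebraMap K K' x) = conorm K' (FunFld.div k x) := by
  ext Q
  obtain ⟨P, hP⟩ := exists_below hK.1 Q
  rw [conorm_apply hK.1 _ hP, div_apply hK.1, div_apply (isFF_ext hK.1),
    IsOverWith_ord (isOverWith_ramIdx hP)]

end Groth.Agent.FF
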