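import Groth.Agent.FF.Exist
import Groth.Agent.FF.Ext
import Mathlib.FieldTheory.IsAlgClosed.AlgebraicClosure

/-! Places over an algebraic closure are defined over finite extensions. -/

set_option autoImplicit false
set_option linter.style.haveILetI false
set_option linter.unusedSectionVars false

open FunFld WithZero
open scoped TensorProduct

namespace Groth.Agent.FF

variable {k kbar K Kbar : Type*} [Field k] [Field kbar] [Field K] [Field Kbar]
  [Algebra k kbar] [Algebra k K] [Algebra K Kbar] [Algebra kbar Kbar] [Algebra k Kbar]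
  [IsScalarTower k kbar Kbar] [IsScalarTower k K Kbar]

/-- only finitely many constants are involved in an element -/
lemma exists_finset_mem_adjoin
    (h : Function.Surjective (Algebra.TensorProduct.productMap
      (IsScalarTower.toAlgHom k kbar Kbar) (IsScalarTower.toAlgHom k K Kbar))) (z : Kbar) :
    ∃ S : Finset kbar, z ∈ Algebra.adjoin K (algebraMap kbar Kbar '' (S : Set kbar)) := by
  classical
  obtain ⟨β, rfl⟩ := h z
  induction β using TensorProduct.induction_on with
  | zero => exact ⟨∅, by rw [map_zero]; exact zero_mem _⟩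
  | add x y hx hy =>
    obtain ⟨S, hS⟩ := hx
    obtain ⟨T, hT⟩ := hy
    refine ⟨S ∪ T, ?_⟩
    rw [map_add]
    exact add_mem (Algebra.adjoin_mono (Set.image_mono (by simp)) hS)
      (Algebra.adjoin_mono (Set.image_mono (by simp)) hT)
  | tmul c a =>
    refine ⟨{c}, ?_⟩
    rw [Algebra.TensorProduct.productMap_apply_tmul]
    exact Subalgebra.mul_mem _ (Algebra.subset_adjoin ⟨c, by simp, rfl⟩) (Subalgebra.algebraMap_mem _ a)

lemma isFF_algClosure [Algebra.IsAlgebraic k kbar]
    (h : Function.Surjective (Algebra.TensorProduct.productMap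
      (IsScalarTower.toAlgHom k kbar Kbar) (IsScalarTower.toAlgHom k K Kbar))) (hK : IsFF k K) :
    IsFF kbar Kbar := by
  obtain ⟨x, hx, hxf⟩ := hK
  haveI := hxf
  set x' := algebraMap K Kbar x with hx'
  have hxk : Transcendental k x' := (transcendental_algebraMap_iff (algebraMap K Kbar).injective).2 hx
  refine ⟨x', fun ha => hxk (ha.restrictScalars k), ?_⟩
  let M : IntermediateField kbar Kbar := IntermediateField.adjoin kbar ({x'} : Set Kbar)
  let b := Module.finBasis (IntermediateField.adjoin k ({x} : Set K)) K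
  refine Module.Finite.of_fg_top (Submodule.fg_iff_exists_fin_generating_family.2
    ⟨_, fun i => algebraMap K Kbar (b i), eq_top_iff.2 fun z _ => ?_⟩)
  have hmem : ∀ r : K, r ∈ IntermediateField.adjoin k ({x} : Set K) → algebraMap K Kbar r ∈ M := by
    have hle : IntermediateField.adjoin k ({x} : Set K) ≤
        (M.restrictScalars k).comap (IsScalarTower.toAlgHom k K Kbar) :=
      IntermediateField.adjoin_simple_le_iff.2 (IntermediateField.mem_adjoin_simple_self kbar x')
    exact fun r hr => hle hr
  obtain ⟨β, rfl⟩ := h z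
  induction β using TensorProduct.induction_on with
  | zero => rw [map_zero]; exact zero_mem _
  | add p q hp hq => rw [map_add]; exact add_mem (hp trivial) (hq trivial)
  | tmul c a =>
    rw [Algebra.TensorProduct.productMap_apply_tmul, ← b.sum_repr a, map_sum, Finset.mul_sum]
    refine Submodule.sum_mem _ fun i _ => ?_
    have e : (IsScalarTower.toAlgHom k kbar Kbar) c * (IsScalarTower.toAlgHom k K Kbar) (b.repr a i • b i) =
        ((⟨algebraMap kbar Kbar c, M.algebraMap_mem c⟩ : M) * ⟨algebraMap K Kbar (b.repr a i : K), hmem _ (b.repr a i).2⟩ : M) •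
          algebraMap K Kbar (b i) := by
      rw [Algebra.smul_def, Algebra.smul_def, map_mul]
      simp [mul_assoc]
    rw [e]
    exact Submodule.smul_mem _ _ (Submodule.subset_span ⟨i, rfl⟩)

theorem exists_finite_level [Algebra.IsAlgebraic k kbar]
    (h : Function.Surjective (Algebra.TensorProduct.productMap
      (IsScalarTower.toAlgHom k kbar Kbar) (IsScalarTower.toAlgHom k K Kbar))) (hK : IsFF k K)
    (Q : Place kbar Kbar) :
    ∃ k' : IntermediateField k kbar, FiniteDimensional k k' ∧
      (∃ z ∈ Algebra.adjoin K (Set.range fun c : k' => algebraMap kbar Kbar c), Q.1 z = exp (-1 : ℤ)) ∧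
      ∀ Q' : Place kbar Kbar,
        (∃ e : ℕ, ∀ z ∈ Algebra.adjoin K (Set.range fun c : k' => algebraMap kbar Kbar c), Q'.1 z = Q.1 z ^ e) →
          Q' = Q := by
  classical
  have hKb : IsFF kbar Kbar := isFF_algClosure h hK
  obtain ⟨z, hz⟩ := exists_uniformizer Q
  have hz0 : z ≠ 0 := ne_zero_of_val_eq_exp Q hz
  have hz1 : Q.1 z < 1 := hz.trans_lt ((exp_lt_exp.2 (by norm_num)).trans_eq exp_zero)
  have hzt : Transcendental kbar z := transcendental_of_val_lt_one hKb Q hz0 hz1
  set Z := (finite_zeros hKb hzt).toFinset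
  have hy : ∀ Q' : Place kbar Kbar, ∃ y : Kbar, Q' ≠ Q → Q.1 y < 1 ∧ 1 < Q'.1 y := by
    intro Q'
    by_cases hne : Q' = Q
    · exact ⟨0, fun h => absurd hne h⟩
    · obtain ⟨y, hy⟩ := exists_sep_pair (Ne.symm hne)
      exact ⟨y, fun _ => hy⟩
  choose y hy using hy
  choose S hS using fun w : Kbar => exists_finset_mem_adjoin h w
  set T := S z ∪ Z.biUnion fun Q' => S (y Q')
  let k' : IntermediateField k kbar := IntermediateField.adjoin k (T : Set kbar)
  haveI : Finite (T : Set kbar) := inferInstance
  have hfin : FiniteDimensional k k' :=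
    IntermediateField.finiteDimensional_adjoin fun c _ => Algebra.IsIntegral.isIntegral c
  have hle : ∀ w : Kbar, S w ⊆ T → w ∈ Algebra.adjoin K (Set.range fun c : k' => algebraMap kbar Kbar c) := fun w hw =>
    Algebra.adjoin_mono (by
      rintro _ ⟨c, hc, rfl⟩
      exact ⟨⟨c, IntermediateField.subset_adjoin _ _ (hw hc)⟩, rfl⟩) (hS w)
  refine ⟨k', hfin, ⟨z, hle z Finset.subset_union_left, hz⟩, fun Q' ⟨e, he⟩ => ?_⟩
  by_contra hne
  have he0 : e ≠ 0 := by
    rintro rfl
    have := he 0 (zero_mem _)
    rw [map_zero, pow_zero] at this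
    exact zero_ne_one this
  have hQ'z : Q' ∈ Z := (finite_zeros hKb hzt).mem_toFinset.2 (by
    show Q'.1 z < 1
    rw [he z (hle z Finset.subset_union_left)]
    exact pow_lt_one₀ zero_le hz1 he0)
  obtain ⟨h1, h2⟩ := hy Q' hne
  rw [he (y Q') (hle _ ((Finset.subset_biUnion_of_mem (fun Q' => S (y Q')) hQ'z).trans Finset.subset_union_right))] at h2
  exact lt_irrefl _ (h2.trans_le (pow_le_one' h1.le e))

end Groth.Agent.FF
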