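import Groth.Agent.FF.Basic

/-! Weak approximation for finitely many places. -/

set_option autoImplicit false

open FunFld WithZero

namespace Groth.Agent.FF

variable {k K : Type*} [Field k] [Field K] [Algebra k K]

lemma val_lt_one_pow_le (P : Place k K) {z : K} (hz : P.1 z < 1) (m : ℕ) :
    P.1 (z ^ m) ≤ exp (-(m : ℤ)) := by
  have h : P.1 z ≤ exp (-1 : ℤ) := by
    have := (lt_exp_iff (P.1 z) 0).1 (by rwa [exp_zero])
    simpa using this
  rw [map_pow]
  refine (pow_le_pow_left₀ zero_le' h m).trans_eq ?_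
  rw [← exp_nsmul]; simp

lemma exists_pow_mul_lt_one (P : Place k K) {z : K} (hz : P.1 z < 1) (c : K) :
    ∀ᶠ m : ℕ in Filter.atTop, P.1 (z ^ m * c) < 1 := by
  rcases eq_or_ne c 0 with rfl | hc
  · simp
  refine Filter.eventually_atTop.2 ⟨(-P.ord c).toNat + 1, fun m hm => ?_⟩
  rw [map_mul]
  refine (mul_le_mul_left (val_lt_one_pow_le P hz m) _).trans_lt ?_
  rw [val_eq_exp_ord P hc, ← exp_add, ← exp_zero, exp_lt_exp]
  omega

lemma exists_pow_mul_gt_one (P : Place k K) {z : K} (hz : 1 < P.1 z) {c : K} (hc : c ≠ 0) :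
    ∀ᶠ m : ℕ in Filter.atTop, 1 < P.1 (z ^ m * c) := by
  have hz' : P.1 z⁻¹ < 1 := by rw [map_inv₀]; exact inv_lt_one_of_one_lt₀ hz
  filter_upwards [exists_pow_mul_lt_one P hz' c⁻¹] with m hm
  have : z⁻¹ ^ m * c⁻¹ = (z ^ m * c)⁻¹ := by rw [inv_pow, mul_inv]
  rw [this, map_inv₀] at hm
  have hne : z ^ m * c ≠ 0 := mul_ne_zero (pow_ne_zero _ fun e => by simp [e] at hz) hc
  exact (inv_lt_one₀ (zero_lt_iff.2 (by simpa using hne))).1 hm

/-- There is an element large at `P` and small at the finitely many other places of `s`. -/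
lemma exists_sep (P : Place k K) (s : Finset (Place k K)) (hP : P ∉ s) :
    ∃ z : K, 1 < P.1 z ∧ ∀ Q ∈ s, Q.1 z < 1 := by
  classical
  induction s using Finset.induction with
  | empty =>
    obtain ⟨z, hz⟩ := exists_val P 1
    exact ⟨z, by rw [hz, ← exp_zero, exp_lt_exp]; omega, by simp⟩
  | @insert R s hR ih =>
    simp only [Finset.mem_insert, not_or] at hP
    obtain ⟨z, hz1, hz2⟩ := ih hP.2
    obtain ⟨w, hw1, hw2⟩ := exists_sep_pair (Ne.symm hP.1)
    have hw0 : w ≠ 0 := fun e => by simp [e] at hw2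
    rcases lt_trichotomy (R.1 z) 1 with hr | hr | hr
    · exact ⟨z, hz1, by simpa [hr] using hz2⟩
    · have h1 : ∀ᶠ m : ℕ in Filter.atTop, ∀ Q ∈ s, Q.1 (z ^ m * w) < 1 :=
        s.eventually_all.2 fun Q hQ => exists_pow_mul_lt_one Q (hz2 Q hQ) w
      obtain ⟨m, hm1, hm2⟩ := (h1.and (exists_pow_mul_gt_one P hz1 hw0)).exists
      refine ⟨z ^ m * w, hm2, ?_⟩
      simp only [Finset.forall_mem_insert]
      exact ⟨by simpa [map_mul, map_pow, hr] using hw1, hm1⟩
    · have h1 : ∀ᶠ m : ℕ in Filter.atTop, ∀ Q ∈ s, Q.1 (z ^ m * w) < 1 :=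
        s.eventually_all.2 fun Q hQ => exists_pow_mul_lt_one Q (hz2 Q hQ) w
      obtain ⟨m, hm1, hm⟩ := (h1.and (Filter.eventually_ge_atTop 1)).exists
      have hm0 : m ≠ 0 := by omega
      have hb : ∀ S : Place k K, 1 < S.1 z → S.1 (1 + z ^ m) = S.1 (z ^ m) := fun S hS =>
        Valuation.map_add_eq_of_lt_right _ (by rw [map_one, map_pow]; exact one_lt_pow₀ hS hm0)
      have hsm : ∀ Q ∈ s, Q.1 (1 + z ^ m) = 1 := fun Q hQ =>
        Valuation.map_one_add_of_lt _ (by rw [map_pow]; exact pow_lt_one₀ zero_le' (hz2 Q hQ) hm0)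
      have hne : ∀ S : Place k K, 1 < S.1 z → S.1 (z ^ m) ≠ 0 := fun S hS => by
        rw [map_pow]; exact pow_ne_zero _ (lt_trans zero_lt_one hS).ne'
      refine ⟨z ^ m * w / (1 + z ^ m), ?_, ?_⟩
      · rw [map_div₀, map_mul, hb P hz1, mul_div_cancel_left₀ _ (hne P hz1)]; exact hw2
      · simp only [Finset.forall_mem_insert]
        refine ⟨?_, fun Q hQ => ?_⟩
        · rw [map_div₀, map_mul, hb R hr, mul_div_cancel_left₀ _ (hne R hr)]; exact hw1
        · rw [map_div₀, hsm Q hQ, div_one]; exact hm1 Q hQ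

/-- Approximate idempotent. -/
lemma exists_idem (P : Place k K) (s : Finset (Place k K)) (hP : P ∉ s) (N : ℤ) :
    ∃ e : K, P.1 (e - 1) ≤ exp (-N) ∧ ∀ Q ∈ s, Q.1 e ≤ exp (-N) := by
  obtain ⟨z, hz1, hz2⟩ := exists_sep P s hP
  obtain ⟨m, hmN, hm⟩ : ∃ m : ℕ, N ≤ m ∧ 1 ≤ m := ⟨N.toNat + 1, by omega, by omega⟩
  have hm0 : m ≠ 0 := by omega
  have hzm : 1 < P.1 (z ^ m) := by rw [map_pow]; exact one_lt_pow₀ hz1 hm0
  have hb : P.1 (1 + z ^ m) = P.1 (z ^ m) := Valuation.map_add_eq_of_lt_right _ (by rwa [map_one])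
  have hle : exp (-(m : ℤ)) ≤ exp (-N) := exp_le_exp.2 (by omega)
  refine ⟨z ^ m / (1 + z ^ m), ?_, fun Q hQ => ?_⟩
  · have hne : (1 + z ^ m : K) ≠ 0 := fun e => by
      rw [e, map_zero] at hb
      exact absurd hb (lt_trans zero_lt_one hzm).ne
    rw [div_sub_one hne, map_div₀, hb, show z ^ m - (1 + z ^ m) = -1 by ring, Valuation.map_neg,
      map_one, one_div, ← map_inv₀, ← inv_pow]
    exact (val_lt_one_pow_le P (by rw [map_inv₀]; exact inv_lt_one_of_one_lt₀ hz1) m).trans hle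
  · rw [map_div₀, Valuation.map_one_add_of_lt _
      (by rw [map_pow]; exact pow_lt_one₀ zero_le' (hz2 Q hQ) hm0), div_one]
    exact (val_lt_one_pow_le Q (hz2 Q hQ) m).trans hle

/-- Weak approximation. -/
lemma approx (s : Finset (Place k K)) (x : Place k K → K) (n : Place k K → ℤ) :
    ∃ y : K, ∀ P ∈ s, P.1 (y - x P) ≤ exp (n P) := by
  classical
  obtain ⟨N, hN⟩ : ∃ N : ℤ, ∀ P ∈ s, ∀ Q ∈ s, -N - Q.ord (x P) ≤ n Q := by
    refine ⟨((((s ×ˢ s).image fun p => (-n p.2 - p.2.ord (x p.1)).toNat).sup id : ℕ) : ℤ), fun P hP Q hQ => ?_⟩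
    have := Finset.le_sup (f := id) (Finset.mem_image_of_mem (fun p : Place k K × Place k K =>
      (-n p.2 - p.2.ord (x p.1)).toNat) (Finset.mk_mem_product hP hQ))
    simp only [id] at this
    omega
  choose e he using fun P : Place k K => exists_idem P (s.erase P) (Finset.notMem_erase P s) N
  have hmul : ∀ P ∈ s, ∀ Q ∈ s, ∀ a : K, Q.1 a ≤ exp (-N) → Q.1 (a * x P) ≤ exp (n Q) := by
    intro P hP Q hQ a ha
    rcases eq_or_ne (x P) 0 with h | h
    · simp [h]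
    rw [map_mul, val_eq_exp_ord Q h]
    refine (mul_le_mul_left ha _).trans ?_
    rw [← exp_add, exp_le_exp]; linarith [hN P hP Q hQ]
  refine ⟨∑ P ∈ s, e P * x P, fun Q hQ => ?_⟩
  rw [← Finset.add_sum_erase _ _ hQ, add_sub_right_comm, ← sub_one_mul]
  refine (Q.1.map_add _ _).trans (max_le (hmul Q hQ Q hQ _ (he Q).1) ?_)
  refine Q.1.map_sum_le fun P hP => ?_
  obtain ⟨hPQ, hPs⟩ := Finset.mem_erase.1 hP
  exact hmul P hPs Q hQ _ ((he P).2 Q (Finset.mem_erase.2 ⟨hPQ.symm, hQ⟩))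

/-- Weak approximation with exact values. -/
lemma approx_eq (s : Finset (Place k K)) (x : Place k K → K) (n : Place k K → ℤ) :
    ∃ y : K, ∀ P ∈ s, P.1 (y - x P) = exp (n P) := by
  choose c hc using fun P : Place k K => exists_val P (n P)
  obtain ⟨y, hy⟩ := approx s (fun P => x P + c P) (fun P => n P - 1)
  refine ⟨y, fun P hP => ?_⟩
  have h : y - x P = (y - (x P + c P)) + c P := by ring
  rw [h, Valuation.map_add_eq_of_lt_right _ ((hy P hP).trans_lt (by rw [hc, exp_lt_exp]; omega)), hc]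

end Groth.Agent.FF
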