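import Groth.Agent.FF.RatPlaces
import Groth.Agent.FF.RR
import Mathlib.RingTheory.Polynomial.Tower
import Mathlib.FieldTheory.Minpoly.IsConjRoot
import Mathlib.FieldTheory.Normal.Basic

/-! Hyperelliptic function fields `y² = f(x)` in characteristic different from 2. -/

set_option autoImplicit false
set_option linter.unusedSectionVars false
set_option linter.style.haveILetI false

open FunFld WithZero IntermediateField

namespace Groth.Agent.FF

section Residue

variable {k K K' : Type*} [Field k] [Field K] [Field K'] [Algebra k K] [Algebra K K'] [Algebra k K']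
  [IsScalarTower k K K']

lemma deg_le_over (hK' : IsFF k K') {Q : Place k K'} {P : Place k K} (h : IsOver Q P) : P.deg ≤ Q.deg := by
  let g0 : P.O →+* Q.O := ((algebraMap K K').comp P.O.subtype).codRestrict Q.O
    fun a => (val_algebraMap_le_one_iff h _).2 a.2
  let g : P.O →ₐ[k] IsLocalRing.ResidueField Q.O :=
    { ((IsLocalRing.residue Q.O).comp g0 : P.O →+* IsLocalRing.ResidueField Q.O) with
      commutes' := fun c => congrArg (IsLocalRing.residue Q.O) (Subtype.ext
        (IsScalarTower.algebraMap_apply k K K' c).symm) }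
  let g' : IsLocalRing.ResidueField P.O →ₐ[k] IsLocalRing.ResidueField Q.O :=
    Ideal.Quotient.liftₐ _ g fun a ha => (IsLocalRing.residue_eq_zero_iff _).2
      ((mem_maximalIdeal Q).2 ((val_algebraMap_lt_one_iff h _).2 ((mem_maximalIdeal P).1 ha)))
  haveI := finiteDimensional_residueField hK' Q
  exact LinearMap.finrank_le_finrank_of_injective (f := g'.toLinearMap) g'.toRingHom.injective

variable [FiniteDimensional K K']

/-- a place ramified in a quadratic extension -/
lemma quadratic_ramified (hK : IsFF k K) (h2 : Module.finrank K K' = 2) (P : Place k K)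
    (h : ∀ Q : Place k K', IsOver Q P → 2 ≤ ramIdx Q P) :
    (∃! Q : Place k K', IsOver Q P) ∧
      ∀ Q : Place k K', IsOver Q P → IsOverWith Q P 2 ∧ Q.deg = P.deg := by
  classical
  obtain ⟨hfin, hs⟩ := fundamental (K' := K') hK P
  have hsum := hs hfin.toFinset (by simp)
  rw [h2] at hsum
  have hterm : ∀ Q ∈ hfin.toFinset, 2 * P.deg ≤ ramIdx Q P * Q.deg := fun Q hQ =>
    Nat.mul_le_mul (h Q (by simpa using hQ)) (deg_le_over (isFF_ext hK) (by simpa using hQ))
  obtain ⟨Q0, hQ0⟩ := exists_over (K' := K') hK P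
  have hmem : Q0 ∈ hfin.toFinset := by simpa using hQ0
  have huniq : ∀ Q, IsOver Q P → Q = Q0 := by
    intro Q hQ
    by_contra hne
    have h3 := Finset.sum_le_sum_of_subset (f := fun R => ramIdx R P * R.deg)
      (Finset.insert_subset (hfin.mem_toFinset.2 hQ) (Finset.singleton_subset_iff.2 hmem))
    rw [Finset.sum_pair hne, hsum] at h3
    have := hterm Q (by simpa using hQ)
    have := hterm Q0 hmem
    have := deg_pos hK P
    omega
  refine ⟨⟨Q0, hQ0, huniq⟩, fun Q hQ => ?_⟩
  obtain rfl := huniq Q hQ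
  have h4 : hfin.toFinset = {Q} := Finset.eq_singleton_iff_unique_mem.2 ⟨hmem, fun R hR => huniq R (by simpa using hR)⟩
  rw [h4, Finset.sum_singleton] at hsum
  have hd := deg_le_over (isFF_ext hK) hQ
  have hp := deg_pos hK P
  have he := h Q hQ
  have hdeg : Q.deg = P.deg := le_antisymm (by nlinarith) hd
  refine ⟨?_, hdeg⟩
  rw [hdeg] at hsum
  have h5 := Nat.eq_of_mul_eq_mul_right hp hsum
  exact h5 ▸ isOverWith_ramIdx hQ

end Residue

variable {k K : Type*} [Field k] [Field K] [Algebra k K] [Algebra (RatFunc k) K]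
  [IsScalarTower k (RatFunc k) K]

/-- `y² = f(x)`, `[K : k(x)] = 2`, characteristic not 2 -/
structure IsHyper (y : K) (f : Polynomial k) : Prop where
  two : (2 : k) ≠ 0
  finrank : Module.finrank (RatFunc k) K = 2
  sqf : Squarefree f
  natDegree_pos : 0 < f.natDegree
  eq : y ^ 2 = algebraMap (RatFunc k) K (algebraMap (Polynomial k) (RatFunc k) f)

lemma IsHyper.of (h2 : ringChar k ≠ 2) (hdeg : Module.finrank (RatFunc k) K = 2) {y : K}
    {f : Polynomial k} (hf : Squarefree f) (hd : 1 ≤ f.natDegree)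
    (heq : y ^ 2 = algebraMap (RatFunc k) K (algebraMap (Polynomial k) (RatFunc k) f)) : IsHyper y f :=
  ⟨Ring.two_ne_zero h2, hdeg, hf, hd, heq⟩

variable {y : K} {f : Polynomial k}

namespace IsHyper

variable (H : IsHyper y f)
include H

lemma finite : FiniteDimensional (RatFunc k) K :=
  Module.finite_of_finrank_pos (by rw [H.finrank]; exact two_pos)

lemma ne_zero_f : f ≠ 0 := H.sqf.ne_zero

lemma not_sq (r : RatFunc k) : r ^ 2 ≠ algebraMap (Polynomial k) (RatFunc k) f := fun h => by
  have hi : IsIntegral (Polynomial k) r :=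
    IsIntegral.of_pow two_pos (by rw [h]; exact isIntegral_algebraMap)
  obtain ⟨a, rfl⟩ := IsIntegrallyClosed.algebraMap_eq_of_integral hi
  rw [← map_pow] at h
  have ha := RatFunc.algebraMap_injective k h
  have hu : IsUnit a := H.sqf a ⟨1, by rw [← ha]; ring⟩
  have := Polynomial.natDegree_eq_zero_of_isUnit hu
  have := H.natDegree_pos
  rw [← ha, Polynomial.natDegree_pow] at this
  omega

lemma y_notMem (r : RatFunc k) : algebraMap (RatFunc k) K r ≠ y := fun h => H.not_sq r
  ((algebraMap (RatFunc k) K).injective (by rw [map_pow, h, H.eq]))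

lemma y_ne_zero : y ≠ 0 := fun h => H.y_notMem 0 (by rw [map_zero, h])

lemma span_eq_top : Submodule.span (RatFunc k) ({1, y} : Set K) = ⊤ := by
  haveI := H.finite
  have hli : LinearIndependent (RatFunc k) ![(1 : K), y] := by
    rw [LinearIndependent.pair_iff' one_ne_zero]
    exact fun a => by rw [Algebra.smul_def, mul_one]; exact H.y_notMem a
  have := hli.span_eq_top_of_card_eq_finrank (by rw [H.finrank]; rfl)
  rwa [Matrix.range_cons, Matrix.range_cons, Matrix.range_empty, Set.union_empty, Set.singleton_union] at this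

lemma exists_decomp (z : K) : ∃ a b : RatFunc k,
    z = algebraMap (RatFunc k) K a + algebraMap (RatFunc k) K b * y := by
  have hz : z ∈ Submodule.span (RatFunc k) ({1, y} : Set K) := by rw [H.span_eq_top]; trivial
  obtain ⟨a, b, h⟩ := Submodule.mem_span_pair.1 hz
  exact ⟨a, b, by rw [← h, Algebra.smul_def, Algebra.smul_def, mul_one]⟩

lemma adjoin_eq_top : IntermediateField.adjoin (RatFunc k) ({y} : Set K) = ⊤ :=
  eq_top_iff.2 fun z _ => by
    obtain ⟨a, b, rfl⟩ := H.exists_decomp z
    exact add_mem (IntermediateField.algebraMap_mem _ a)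
      (mul_mem (IntermediateField.algebraMap_mem _ b) (mem_adjoin_simple_self _ y))

lemma two_ratFunc : (2 : RatFunc k) ≠ 0 := by
  rw [← map_ofNat (algebraMap k (RatFunc k)) 2]
  exact (map_ne_zero _).2 H.two

lemma two_K : (2 : K) ≠ 0 := by
  rw [← map_ofNat (algebraMap k K) 2]
  exact (map_ne_zero _).2 H.two

lemma minpoly_eq {z : K} (hz : ∀ r, algebraMap (RatFunc k) K r ≠ z) {c : RatFunc k}
    (hc : z ^ 2 = algebraMap (RatFunc k) K c) :
    minpoly (RatFunc k) z = Polynomial.X ^ 2 - Polynomial.C c := by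
  haveI := H.finite
  have hz1 : Polynomial.aeval z (Polynomial.X ^ 2 - Polynomial.C c) = 0 := by simp [hc]
  refine (Polynomial.eq_of_monic_of_dvd_of_natDegree_le (minpoly.monic (Algebra.IsIntegral.isIntegral z))
    (Polynomial.monic_X_pow_sub_C c two_ne_zero) (minpoly.dvd _ _ hz1) ?_).symm
  rw [Polynomial.natDegree_X_pow_sub_C]
  exact (minpoly.two_le_natDegree_iff (Algebra.IsIntegral.isIntegral z)).2 fun ⟨r, hr⟩ => hz r hr

lemma exists_conj : ∃ σ : K ≃ₐ[RatFunc k] K, σ y = -y := by
  haveI : Algebra.IsQuadraticExtension (RatFunc k) K := { finrank_eq_two' := H.finrank }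
  haveI : Normal (RatFunc k) K := inferInstance
  refine IsConjRoot.exists_algEquiv (?_ : IsConjRoot (RatFunc k) (-y) y)
  rw [IsConjRoot, H.minpoly_eq H.y_notMem H.eq,
    H.minpoly_eq (z := -y) (fun r h => H.y_notMem (-r) (by rw [map_neg, h, neg_neg])) (by rw [neg_sq, H.eq])]

lemma isFF : IsFF k K := by
  haveI := H.finite
  exact isFF_ext isFunctionField_ratFunc.1

lemma two_ord_y {P : Place k K} {P₀ : Place k (RatFunc k)} {e : ℕ} (h : IsOverWith P P₀ e) :
    2 * P.ord y = e * P₀.ord (algebraMap (Polynomial k) (RatFunc k) f) := by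
  rw [← IsOverWith_ord h, ← H.eq, ord_pow]
  norm_num

lemma ord_f_of_zero {P₀ : Place k (RatFunc k)} {p : Polynomial k} (hp : Irreducible p) (hpf : p ∣ f)
    (hP₀ : P₀.1 (algebraMap (Polynomial k) (RatFunc k) p) < 1) :
    P₀.ord (algebraMap (Polynomial k) (RatFunc k) f) = 1 := by
  rw [ord_of_val_eq P₀ (rat_val_squarefree P₀ hp hP₀ H.sqf hpf), neg_neg]

lemma ord_f_inf {P₀ : Place k (RatFunc k)} (hX : 1 < P₀.1 RatFunc.X) :
    P₀.ord (algebraMap (Polynomial k) (RatFunc k) f) = -(f.natDegree : ℤ) :=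
  ord_of_val_eq P₀ (rat_val_eq_exp_natDegree P₀ hX H.ne_zero_f)

lemma ramified_of_odd {P₀ : Place k (RatFunc k)}
    (h : Odd (P₀.ord (algebraMap (Polynomial k) (RatFunc k) f))) :
    (∃! P : Place k K, IsOver P P₀) ∧
      ∀ P : Place k K, IsOver P P₀ → IsOverWith P P₀ 2 ∧ P.deg = P₀.deg := by
  haveI := H.finite
  refine quadratic_ramified isFunctionField_ratFunc.1 H.finrank P₀ fun P hP => ?_
  have h1 := H.two_ord_y (isOverWith_ramIdx hP)
  have h2 : 0 < ramIdx P P₀ := ramIdx_pos hP
  obtain ⟨m, hm⟩ := h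
  by_contra h3
  rw [show ramIdx P P₀ = 1 by omega, hm] at h1
  push_cast at h1
  omega

lemma ord_y_eq_one {P : Place k K} {P₀ : Place k (RatFunc k)} (hP : IsOver P P₀)
    (h : P₀.ord (algebraMap (Polynomial k) (RatFunc k) f) = 1) : P.ord y = 1 := by
  have h1 := H.two_ord_y ((H.ramified_of_odd (P₀ := P₀) (by rw [h]; exact odd_one)).2 P hP).1
  rw [h] at h1
  omega

/-- the trichotomy for `ord y` -/
lemma ord_y_cases {P : Place k K} {P₀ : Place k (RatFunc k)} (hP : IsOver P P₀) (hX : P₀.1 RatFunc.X ≤ 1) :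
    P.ord y = 0 ∧ P₀.ord (algebraMap (Polynomial k) (RatFunc k) f) = 0 ∨
      P.ord y = 1 ∧ P₀.ord (algebraMap (Polynomial k) (RatFunc k) f) = 1 := by
  rcases rat_val_squarefree_cases P₀ hX H.sqf with h | h
  · have h0 := (val_eq_one_iff P₀ (polyToRat_ne_zero H.ne_zero_f)).1 h
    have h1 := H.two_ord_y (isOverWith_ramIdx hP)
    rw [h0, mul_zero] at h1
    exact .inl ⟨by omega, h0⟩
  · have h0 : P₀.ord (algebraMap (Polynomial k) (RatFunc k) f) = 1 := by rw [ord_of_val_eq P₀ h, neg_neg]
    exact .inr ⟨H.ord_y_eq_one hP h0, h0⟩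

lemma even_unramified {P₀ : Place k (RatFunc k)} (hX : 1 < P₀.1 RatFunc.X) (hev : Even f.natDegree)
    (P : Place k K) (hP : IsOver P P₀) : IsOverWith P P₀ 1 := by
  haveI := H.finite
  have hw := isOverWith_ramIdx hP
  rcases Nat.lt_or_ge (ramIdx P P₀) 2 with he | he
  · rwa [show ramIdx P P₀ = 1 by have := ramIdx_pos hP; omega] at hw
  · exfalso
    -- `P` is the only place above `P₀` and it has degree one
    have hd : ramIdx P P₀ * P.deg ≤ 2 := by
      have := deg_dvd_over (K' := K) isFunctionField_ratFunc.1 hP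
      rwa [H.finrank, rat_deg_inf P₀ hX] at this
    have hpos := deg_pos H.isFF P
    have hdeg : P.deg = 1 := by nlinarith
    have huniq : ∀ Q : Place k K, IsOver Q P₀ → Q = P := by
      classical
      obtain ⟨hfin, hs⟩ := fundamental (K' := K) isFunctionField_ratFunc.1 P₀
      intro Q hQ
      by_contra hne
      have h3 := Finset.sum_le_sum_of_subset (f := fun R => ramIdx R P₀ * R.deg)
        (Finset.insert_subset (hfin.mem_toFinset.2 hQ) (Finset.singleton_subset_iff.2 (hfin.mem_toFinset.2 hP)))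
      rw [Finset.sum_pair hne, hs hfin.toFinset (by simp), H.finrank, rat_deg_inf P₀ hX] at h3
      have := Nat.mul_pos (ramIdx_pos hQ) (deg_pos H.isFF Q)
      nlinarith
    -- normalised square root of the leading coefficient
    obtain ⟨m, hm⟩ := hev
    set z : K := y / algebraMap (RatFunc k) K RatFunc.X ^ m with hz
    have hvX := rat_val_X_of_inf P₀ hX
    have hvz : P.1 z = 1 := by
      have hyo := H.two_ord_y hw
      rw [H.ord_f_inf hX, hm] at hyo
      have hx0 : algebraMap (RatFunc k) K RatFunc.X ^ m ≠ 0 := pow_ne_zero _ ((map_ne_zero _).2 RatFunc.X_ne_zero)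
      rw [val_eq_one_iff P (div_ne_zero H.y_ne_zero hx0), ord_div P H.y_ne_zero hx0, ord_pow,
        IsOverWith_ord hw, ord_of_val_eq P₀ hvX]
      push_cast at hyo ⊢
      linarith
    -- a residue in `k`
    haveI := finiteDimensional_residueField H.isFF P
    have hsurj : Function.Surjective (algebraMap k (IsLocalRing.ResidueField P.O)) :=
      fun a => Subalgebra.bot_eq_top_of_finrank_eq_one hdeg ▸ Algebra.mem_top (x := a) |> Algebra.mem_bot.1
    obtain ⟨c, hc⟩ := hsurj (resHom P ⟨z, (mem_O P).2 hvz.le⟩)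
    have hlt : P.1 (z - algebraMap k K c) < 1 :=
      (resHom_eq_zero_iff P (a := ⟨z, (mem_O P).2 hvz.le⟩ - algebraMap k P.O c)).1 (by
        rw [map_sub, ← hc]; exact sub_self _)
    obtain ⟨σ, hσ⟩ := H.exists_conj
    have hcomp : ∀ x : K, P.1 (σ x) = P.1 x := by
      let Q : Place k K := ⟨P.1.comap (σ : K →+* K), fun c => by
        show P.1 (σ (algebraMap k K c)) ≤ 1
        rw [IsScalarTower.algebraMap_apply k (RatFunc k) K, σ.commutes, ← IsScalarTower.algebraMap_apply]
        exact val_const_le P c, fun n => by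
        obtain ⟨x, hx⟩ := P.2.2 n
        exact ⟨σ.symm x, by show P.1 (σ (σ.symm x)) = n; rw [σ.apply_symm_apply, hx]⟩⟩
      have hQ : Q = P := huniq Q ⟨_, fun x => by
        show P.1 (σ (algebraMap (RatFunc k) K x)) = _
        rw [σ.commutes, hw x]⟩
      exact fun x => DFunLike.congr_fun (congrArg Subtype.val hQ) x
    have hσz : σ z = -z := by rw [hz, map_div₀, map_pow, σ.commutes, hσ, neg_div]
    have hσc : σ (algebraMap k K c) = algebraMap k K c := by
      rw [IsScalarTower.algebraMap_apply k (RatFunc k) K, σ.commutes]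
    have hlt' : P.1 (z + algebraMap k K c) < 1 := by
      rw [← hcomp, map_add, hσz, hσc, neg_add_eq_sub, Valuation.map_sub_swap]
      exact hlt
    have h2z : P.1 (algebraMap k K 2 * z) < 1 := by
      rw [map_ofNat, show (2 : K) * z = (z - algebraMap k K c) + (z + algebraMap k K c) by ring]
      exact (P.1.map_add _ _).trans_lt (max_lt hlt hlt')
    rw [map_mul, hvz, val_const P H.two, mul_one] at h2z
    exact lt_irrefl _ h2z

/-- the pole divisor of `x` -/
noncomputable def Dinf (_H : IsHyper y f) : Divisor k K :=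
  conorm K (Finsupp.single (exists_rat_inf (k := k)).choose 1)

lemma deg_Dinf : H.Dinf.deg = 2 := by
  haveI := H.finite
  rw [Dinf, deg_conorm isFunctionField_ratFunc, deg_single, H.finrank,
    rat_deg_inf _ exists_rat_inf.choose_spec]
  norm_num

lemma Dinf_apply {P : Place k K} {P₀ : Place k (RatFunc k)} {e : ℕ} (h : IsOverWith P P₀ e) :
    (1 < P₀.1 RatFunc.X → H.Dinf P = e) ∧ (P₀.1 RatFunc.X ≤ 1 → H.Dinf P = 0) := by
  classical
  haveI := H.finite
  rw [Dinf, conorm_apply isFunctionField_ratFunc.1 _ ⟨e, h⟩, ramIdx_eq h, Finsupp.single_apply]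
  constructor
  · intro hX
    rw [if_pos (rat_inf_unique _ exists_rat_inf.choose_spec hX), mul_one]
  · intro hX
    have hne : ¬ (exists_rat_inf (k := k)).choose = P₀ := fun he => by
      have := (exists_rat_inf (k := k)).choose_spec
      rw [he] at this
      exact not_lt.2 hX this
    rw [if_neg hne, mul_zero]

lemma comap_mem_L {z : K} {n : ℕ} (hz : z ∈ L ((n : ℤ) • H.Dinf)) (σ : K ≃ₐ[RatFunc k] K) :
    σ z ∈ L ((n : ℤ) • H.Dinf) := by
  intro P
  haveI := H.finite
  obtain ⟨P₀, e, he⟩ := exists_below (K' := K) isFunctionField_ratFunc.1 P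
  let Q : Place k K := ⟨P.1.comap (σ : K →+* K), fun c => by
    show P.1 (σ (algebraMap k K c)) ≤ 1
    rw [IsScalarTower.algebraMap_apply k (RatFunc k) K, σ.commutes, ← IsScalarTower.algebraMap_apply]
    exact val_const_le P c, fun n => by
    obtain ⟨x, hx⟩ := P.2.2 n
    exact ⟨σ.symm x, by show P.1 (σ (σ.symm x)) = n; rw [σ.apply_symm_apply, hx]⟩⟩
  have hQ : IsOverWith Q P₀ e := fun x => by
    show P.1 (σ (algebraMap (RatFunc k) K x)) = _
    rw [σ.commutes, he x]
  have h1 : H.Dinf P = H.Dinf Q := by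
    rcases le_or_gt (P₀.1 RatFunc.X) 1 with hX | hX
    · rw [(H.Dinf_apply he).2 hX, (H.Dinf_apply hQ).2 hX]
    · rw [(H.Dinf_apply he).1 hX, (H.Dinf_apply hQ).1 hX]
  have h2 : P.1 (σ z) ≤ exp (((n : ℤ) • H.Dinf) Q) := hz Q
  rwa [Finsupp.smul_apply, ← h1, ← Finsupp.smul_apply] at h2

lemma eq_poly_of_mem_L {r : RatFunc k} {n : ℕ}
    (h : algebraMap (RatFunc k) K r ∈ L ((n : ℤ) • H.Dinf)) :
    ∃ q : Polynomial k, r = algebraMap (Polynomial k) (RatFunc k) q ∧ q.natDegree ≤ n := by
  haveI := H.finite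
  have hb : ∀ P₀ : Place k (RatFunc k), ∃ (P : Place k K) (e : ℕ), 0 < e ∧ IsOverWith P P₀ e ∧
      P₀.1 r ^ e ≤ exp ((n : ℤ) * H.Dinf P) := fun P₀ => by
    obtain ⟨P, e, he⟩ := exists_over (K' := K) isFunctionField_ratFunc.1 P₀
    refine ⟨P, e, IsOverWith_pos he, he, ?_⟩
    have := h P
    rwa [he r, Finsupp.smul_apply, smul_eq_mul] at this
  obtain ⟨q, rfl⟩ := rat_eq_poly fun P₀ hX => by
    obtain ⟨P, e, he0, he, hv⟩ := hb P₀
    rw [(H.Dinf_apply he).2 hX, mul_zero, exp_zero] at hv
    exact (pow_le_one_iff he0.ne').1 hv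
  refine ⟨q, rfl, ?_⟩
  rcases eq_or_ne q 0 with rfl | hq
  · simp
  obtain ⟨P₀, hX⟩ := exists_rat_inf (k := k)
  obtain ⟨P, e, he0, he, hv⟩ := hb P₀
  rw [(H.Dinf_apply he).1 hX, rat_val_eq_exp_natDegree P₀ hX hq, ← exp_nsmul, exp_le_exp, nsmul_eq_mul] at hv
  have he0' : (0 : ℤ) < e := by exact_mod_cast he0
  exact_mod_cast le_of_mul_le_mul_left (by linarith : (e : ℤ) * q.natDegree ≤ (e : ℤ) * n) he0'

lemma poly_of_sq_mul {b : RatFunc k} {c : Polynomial k}
    (h : b ^ 2 * algebraMap (Polynomial k) (RatFunc k) f = algebraMap (Polynomial k) (RatFunc k) c) :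
    ∃ q : Polynomial k, b = algebraMap (Polynomial k) (RatFunc k) q := by
  have hd := polyToRat_ne_zero b.denom_ne_zero
  have h1 : b.num ^ 2 * f = c * b.denom ^ 2 := RatFunc.algebraMap_injective k (by
    rw [← RatFunc.num_div_denom b, div_pow, div_mul_eq_mul_div, div_eq_iff (pow_ne_zero _ hd)] at h
    rw [map_mul, map_mul, map_pow, map_pow, h])
  have h2 : b.denom ^ 2 ∣ f :=
    ((RatFunc.isCoprime_num_denom b).symm.pow).dvd_of_dvd_mul_left ⟨c, by rw [h1]; ring⟩
  have hu : IsUnit b.denom := H.sqf _ (by rwa [← sq])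
  refine ⟨b.num, ?_⟩
  conv_lhs => rw [← RatFunc.num_div_denom b, (RatFunc.monic_denom b).eq_one_of_isUnit hu, map_one, div_one]

lemma mem_L_iff {z : K} {n : ℕ} :
    z ∈ L ((n : ℤ) • H.Dinf) ↔ ∃ a b : Polynomial k, a.natDegree ≤ n ∧
      (b = 0 ∨ 2 * b.natDegree + f.natDegree ≤ 2 * n) ∧
      z = algebraMap (RatFunc k) K (algebraMap (Polynomial k) (RatFunc k) a) +
        algebraMap (RatFunc k) K (algebraMap (Polynomial k) (RatFunc k) b) * y := by
  constructor
  · intro hz
    obtain ⟨a, b, rfl⟩ := H.exists_decomp z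
    obtain ⟨σ, hσ⟩ := H.exists_conj
    have hz' := H.comap_mem_L hz σ
    rw [map_add, map_mul, σ.commutes, σ.commutes, hσ, mul_neg] at hz'
    have hhalf : ∀ x : K, x + x ∈ L ((n : ℤ) • H.Dinf) → x ∈ L ((n : ℤ) • H.Dinf) := fun x hx => by
      have h := Submodule.smul_mem _ ((2 : k)⁻¹) hx
      rwa [← two_mul, ← map_ofNat (algebraMap k K) 2, ← Algebra.smul_def, inv_smul_smul₀ H.two] at h
    have ha : algebraMap (RatFunc k) K a ∈ L ((n : ℤ) • H.Dinf) :=
      hhalf _ (by convert! add_mem hz hz' using 1; ring)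
    obtain ⟨a', rfl, ha'⟩ := H.eq_poly_of_mem_L ha
    have hby : algebraMap (RatFunc k) K b * y ∈ L ((n : ℤ) • H.Dinf) :=
      hhalf _ (by convert! sub_mem hz hz' using 1; ring)
    have hsq : algebraMap (RatFunc k) K (b ^ 2 * algebraMap (Polynomial k) (RatFunc k) f) ∈
        L (((2 * n : ℕ) : ℤ) • H.Dinf) := fun P => by
      rw [map_mul, map_pow, ← H.eq, ← mul_pow, map_pow]
      refine (pow_le_pow_left' (hby P) 2).trans_eq ?_
      rw [← exp_nsmul, Finsupp.smul_apply, Finsupp.smul_apply, nsmul_eq_mul]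
      simp only [smul_eq_mul]
      push_cast
      ring_nf
    obtain ⟨c, hc, hc'⟩ := H.eq_poly_of_mem_L hsq
    obtain ⟨b', rfl⟩ := H.poly_of_sq_mul hc
    refine ⟨a', b', ha', ?_, rfl⟩
    rcases eq_or_ne b' 0 with h0 | h0
    · exact .inl h0
    · right
      rw [← map_pow, ← map_mul] at hc
      rw [← RatFunc.algebraMap_injective k hc, Polynomial.natDegree_mul (pow_ne_zero _ h0) H.ne_zero_f,
        Polynomial.natDegree_pow] at hc'
      exact hc'
  · rintro ⟨a, b, ha, hb, rfl⟩ P
    haveI := H.finite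
    obtain ⟨P₀, e, he⟩ := exists_below (K' := K) isFunctionField_ratFunc.1 P
    refine (P.1.map_add _ _).trans (max_le ?_ ?_)
    · rw [he, Finsupp.smul_apply, smul_eq_mul]
      rcases le_or_gt (P₀.1 RatFunc.X) 1 with hX | hX
      · rw [(H.Dinf_apply he).2 hX, mul_zero, exp_zero]
        exact pow_le_one' (rat_val_poly_le P₀ hX a) e
      · rcases eq_or_ne a 0 with rfl | h0
        · rw [map_zero, map_zero, zero_pow (IsOverWith_pos he).ne']; exact zero_le
        rw [(H.Dinf_apply he).1 hX, rat_val_eq_exp_natDegree P₀ hX h0, ← exp_nsmul, exp_le_exp,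
          nsmul_eq_mul, mul_comm]
        exact mul_le_mul_of_nonneg_right (by exact_mod_cast ha) (Int.natCast_nonneg e)
    · rcases hb with rfl | hb
      · rw [map_zero, map_zero, zero_mul, map_zero]; exact zero_le
      rcases eq_or_ne b 0 with rfl | h0
      · rw [map_zero, map_zero, zero_mul, map_zero]; exact zero_le
      refine (pow_le_pow_iff_left₀ zero_le zero_le two_ne_zero).1 ?_
      rw [← map_pow, mul_pow, H.eq, ← map_pow, ← map_pow, ← map_mul, ← map_mul, he, ← exp_nsmul,
        Finsupp.smul_apply, smul_eq_mul, nsmul_eq_mul]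
      rcases le_or_gt (P₀.1 RatFunc.X) 1 with hX | hX
      · rw [(H.Dinf_apply he).2 hX, mul_zero, mul_zero, exp_zero]
        exact pow_le_one' (rat_val_poly_le P₀ hX _) e
      · rw [(H.Dinf_apply he).1 hX,
          rat_val_eq_exp_natDegree P₀ hX (mul_ne_zero (pow_ne_zero _ h0) H.ne_zero_f), ← exp_nsmul,
          exp_le_exp, nsmul_eq_mul, Polynomial.natDegree_mul (pow_ne_zero _ h0) H.ne_zero_f,
          Polynomial.natDegree_pow]
        push_cast
        have : (2 * b.natDegree + f.natDegree : ℤ) ≤ 2 * n := by exact_mod_cast hb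
        nlinarith [Int.natCast_nonneg e]

lemma ell_nsmul_Dinf {n m : ℕ} (hm : m = (f.natDegree + 1) / 2) :
    ell ((n : ℤ) • H.Dinf) = n + 1 + (n + 1 - m) := by
  let c : Polynomial k →ₗ[k] K := (IsScalarTower.toAlgHom k (RatFunc k) K).toLinearMap ∘ₗ
    (IsScalarTower.toAlgHom k (Polynomial k) (RatFunc k)).toLinearMap
  let Φ : (Polynomial.degreeLT k (n + 1) × Polynomial.degreeLT k (n + 1 - m)) →ₗ[k] K :=
    LinearMap.coprod (c ∘ₗ (Polynomial.degreeLT k (n + 1)).subtype)
      ((LinearMap.mulRight k y) ∘ₗ c ∘ₗ (Polynomial.degreeLT k (n + 1 - m)).subtype)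
  have hinj : Function.Injective Φ := by
    rw [injective_iff_map_eq_zero]
    rintro ⟨⟨a, ha⟩, ⟨b, hb⟩⟩ h
    have h' : algebraMap (RatFunc k) K (algebraMap (Polynomial k) (RatFunc k) a) +
        algebraMap (RatFunc k) K (algebraMap (Polynomial k) (RatFunc k) b) * y = 0 := h
    have hb0 : b = 0 := by
      by_contra hb0
      refine H.y_notMem (-(algebraMap (Polynomial k) (RatFunc k) a) / algebraMap (Polynomial k) (RatFunc k) b) ?_
      rw [map_div₀, map_neg, div_eq_iff ((map_ne_zero _).2 (polyToRat_ne_zero hb0))]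
      linear_combination -h'
    subst hb0
    rw [map_zero, map_zero, zero_mul, add_zero] at h'
    have ha0 : a = 0 := RatFunc.algebraMap_injective k
      ((algebraMap (RatFunc k) K).injective (by rw [h', map_zero, map_zero]))
    subst ha0
    rfl
  have hrange : LinearMap.range Φ = L ((n : ℤ) • H.Dinf) := by
    ext z
    rw [H.mem_L_iff, LinearMap.mem_range]
    constructor
    · rintro ⟨⟨⟨a, ha⟩, ⟨b, hb⟩⟩, rfl⟩
      refine ⟨a, b, ?_, ?_, rfl⟩
      · rcases eq_or_ne a 0 with rfl | h0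
        · simp
        have := Polynomial.mem_degreeLT.1 ha
        rw [Polynomial.degree_eq_natDegree h0] at this
        have := Nat.cast_lt.1 this
        omega
      · rcases eq_or_ne b 0 with h0 | h0
        · exact .inl h0
        have := Polynomial.mem_degreeLT.1 hb
        rw [Polynomial.degree_eq_natDegree h0] at this
        have := Nat.cast_lt.1 this
        right; omega
    · rintro ⟨a, b, ha, hb, rfl⟩
      refine ⟨⟨⟨a, Polynomial.mem_degreeLT.2 ?_⟩, ⟨b, Polynomial.mem_degreeLT.2 ?_⟩⟩, rfl⟩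
      · exact lt_of_le_of_lt Polynomial.degree_le_natDegree (by exact_mod_cast Nat.lt_succ_of_le ha)
      · rcases hb with rfl | hb
        · rw [Polynomial.degree_zero]; exact WithBot.bot_lt_coe _
        refine lt_of_le_of_lt Polynomial.degree_le_natDegree ?_
        have : b.natDegree < n + 1 - m := by omega
        exact_mod_cast this
  haveI : ∀ l, Module.Finite k (Polynomial.degreeLT k l) := fun l =>
    Module.Finite.equiv (Polynomial.degreeLTEquiv k l).symm
  rw [ell, ← hrange, LinearMap.finrank_range_of_inj hinj, Module.finrank_prod,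
    (Polynomial.degreeLTEquiv k _).finrank_eq, (Polynomial.degreeLTEquiv k _).finrank_eq,
    Module.finrank_fin_fun, Module.finrank_fin_fun]

theorem genus_eq (hK : IsFunctionField k K) : genus k K = (f.natDegree - 1) / 2 := by
  obtain ⟨N, hN⟩ := riemann hK
  set n := N.toNat + f.natDegree with hn
  have hdeg : ((n : ℤ) • H.Dinf).deg = 2 * (n : ℤ) := by rw [deg_zsmul, H.deg_Dinf]; ring
  have h := hN ((n : ℤ) • H.Dinf) (by rw [hdeg]; omega)
  rw [spec, hdeg, H.ell_nsmul_Dinf rfl] at h
  have := H.natDegree_pos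
  omega

end IsHyper

end Groth.Agent.FF
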