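import Groth.Agent.FF.ASRed
import Groth.Agent.FF.Hyper
import Mathlib.FieldTheory.PrimitiveElement

/-! Quadratic Artin–Schreier function fields `y² + y = f(x)` in characteristic 2. -/

set_option autoImplicit false
set_option linter.unusedSectionVars false
set_option linter.style.haveILetI false

open FunFld WithZero IntermediateField

namespace Groth.Agent.FF

section NormalForm

variable {k K : Type*} [Field k] [Field K] [Algebra (RatFunc k) K]

lemma exists_AS_gen (h2 : (2 : k) = 0) (hdeg : Module.finrank (RatFunc k) K = 2)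
    [Algebra.IsSeparable (RatFunc k) K] :
    ∃ (y : K) (f : RatFunc k), y ^ 2 + y = algebraMap (RatFunc k) K f ∧
      y ∉ Set.range (algebraMap (RatFunc k) K) ∧
      IntermediateField.adjoin (RatFunc k) ({y} : Set K) = ⊤ := by
  haveI : FiniteDimensional (RatFunc k) K := Module.finite_of_finrank_pos (by rw [hdeg]; exact two_pos)
  have h2' : (2 : RatFunc k) = 0 := by
    rw [← map_ofNat (algebraMap k (RatFunc k)) 2, h2, map_zero]
  obtain ⟨y0, htop⟩ := Field.exists_primitive_element (RatFunc k) K
  have hint := Algebra.IsIntegral.isIntegral (R := RatFunc k) y0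
  have hm : (minpoly (RatFunc k) y0).natDegree = 2 := by
    rw [← IntermediateField.adjoin.finrank hint, htop, IntermediateField.finrank_top', hdeg]
  have hn : y0 ∉ Set.range (algebraMap (RatFunc k) K) := fun hr => by
    have := (minpoly.two_le_natDegree_iff hint).1 (by rw [hm])
    exact this hr
  set m := minpoly (RatFunc k) y0 with hmdef
  have hz := minpoly.aeval (RatFunc k) y0
  rw [Polynomial.aeval_eq_sum_range, ← hmdef, hm] at hz
  have hc2 : m.coeff 2 = 1 := by
    rw [← hm]; exact (minpoly.monic hint).coeff_natDegree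
  simp only [Finset.sum_range_succ, Finset.range_zero, Finset.sum_empty, zero_add, pow_zero, pow_one,
    hc2, Algebra.smul_def, mul_one, map_one, one_mul] at hz
  set a := m.coeff 1 with ha
  set b := m.coeff 0 with hb
  have ha0 : a ≠ 0 := fun h0 => by
    have hs : m.Separable := Algebra.IsSeparable.isSeparable (RatFunc k) y0
    have hd : Polynomial.derivative m = 0 := by
      ext i
      rw [Polynomial.coeff_derivative, Polynomial.coeff_zero]
      rcases i with _ | _ | i
      · rw [show m.coeff (0 + 1) = 0 from h0, zero_mul]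
      · push_cast
        linear_combination m.coeff 2 * h2'
      · rw [Polynomial.coeff_eq_zero_of_natDegree_lt (by omega), zero_mul]
    have := hs
    rw [Polynomial.separable_def, hd, isCoprime_zero_right] at this
    have := Polynomial.natDegree_eq_zero_of_isUnit this
    omega
  have hι : algebraMap (RatFunc k) K a ≠ 0 := (map_ne_zero _).2 ha0
  have hneg : ∀ z : K, -z = z := fun z => by
    have : (2 : K) = 0 := by rw [← map_ofNat (algebraMap (RatFunc k) K) 2, h2', map_zero]
    linear_combination -z * this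
  refine ⟨y0 / algebraMap (RatFunc k) K a, b / a ^ 2, ?_, ?_, ?_⟩
  · rw [map_div₀, map_pow]
    field_simp
    linear_combination hz + hneg (algebraMap (RatFunc k) K b)
  · rintro ⟨r, hr⟩
    exact hn ⟨r * a, by rw [map_mul, hr, div_mul_cancel₀ _ hι]⟩
  · rw [eq_top_iff, ← htop, IntermediateField.adjoin_simple_le_iff]
    have := mul_mem (IntermediateField.mem_adjoin_simple_self (RatFunc k) (y0 / algebraMap (RatFunc k) K a))
      (IntermediateField.algebraMap_mem (IntermediateField.adjoin (RatFunc k) {y0 / algebraMap (RatFunc k) K a}) a)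
    rwa [div_mul_cancel₀ _ hι] at this

end NormalForm

section Residue

variable {k K K' : Type*} [Field k] [Field K] [Field K'] [Algebra k K] [Algebra K K'] [Algebra k K']
  [IsScalarTower k K K']

/-- equal degrees: residues come from below -/
lemma exists_residue_below (hK : IsFF k K) (hK' : IsFF k K') {Q : Place k K'} {P : Place k K} (h : IsOver Q P)
    (hd : Q.deg ≤ P.deg) {a : K'} (ha : Q.1 a ≤ 1) :
    ∃ c : K, P.1 c ≤ 1 ∧ Q.1 (a - algebraMap K K' c) < 1 := by
  let g0 : P.O →+* Q.O := ((algebraMap K K').comp P.O.subtype).codRestrict Q.O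
    fun a => (val_algebraMap_le_one_iff h _).2 a.2
  let g : P.O →ₐ[k] IsLocalRing.ResidueField Q.O :=
    { ((IsLocalRing.residue Q.O).comp g0 : P.O →+* IsLocalRing.ResidueField Q.O) with
      commutes' := fun c => congrArg (IsLocalRing.residue Q.O) (Subtype.ext
        (IsScalarTower.algebraMap_apply k K K' c).symm) }
  let g' : IsLocalRing.ResidueField P.O →ₐ[k] IsLocalRing.ResidueField Q.O :=
    Ideal.Quotient.liftₐ _ g fun a ha => (IsLocalRing.residue_eq_zero_iff _).2
      ((mem_maximalIdeal Q).2 ((val_algebraMap_lt_one_iff h _).2 ((mem_maximalIdeal P).1 ha)))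
  haveI := finiteDimensional_residueField hK' Q
  have hinj : Function.Injective g'.toLinearMap := g'.toRingHom.injective
  haveI := finiteDimensional_residueField hK P
  have heq : Module.finrank k (IsLocalRing.ResidueField P.O) = Module.finrank k (IsLocalRing.ResidueField Q.O) :=
    le_antisymm (LinearMap.finrank_le_finrank_of_injective hinj) hd
  obtain ⟨z, hz⟩ := (LinearMap.injective_iff_surjective_of_finrank_eq_finrank heq).1 hinj
    (resHom Q ⟨a, (mem_O Q).2 ha⟩)
  obtain ⟨c, rfl⟩ := resHom_surjective P z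
  refine ⟨c, (mem_O P).1 c.2, ?_⟩
  have h0 : resHom Q (⟨a, (mem_O Q).2 ha⟩ - g0 c) = 0 := by
    rw [map_sub, ← hz]
    exact sub_self _
  exact (resHom_eq_zero_iff Q).1 h0

end Residue

variable {k K : Type*} [Field k] [Field K] [Algebra k K] [Algebra (RatFunc k) K]
  [IsScalarTower k (RatFunc k) K]

/-- `y² + y = f(x)`, `[K : k(x)] = 2`, characteristic 2 -/
structure IsAS (y : K) (f : RatFunc k) : Prop where
  two : (2 : k) = 0
  finrank : Module.finrank (RatFunc k) K = 2
  notMem : y ∉ Set.range (algebraMap (RatFunc k) K)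
  eq : y ^ 2 + y = algebraMap (RatFunc k) K f

/-- `(1 - ord f)/2` at the poles of `f` -/
noncomputable def asE (f : RatFunc k) : Divisor k (RatFunc k) :=
  (FunFld.div k f).mapRange (fun m => if m < 0 then (1 - m) / 2 else 0) (by simp)

lemma asE_apply (f : RatFunc k) (P : Place k (RatFunc k)) :
    asE f P = if P.ord f < 0 then (1 - P.ord f) / 2 else 0 := by
  rw [asE, Finsupp.mapRange_apply, div_apply isFunctionField_ratFunc.1]

lemma asE_nonneg (f : RatFunc k) (P : Place k (RatFunc k)) : 0 ≤ asE f P := by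
  rw [asE_apply]; split_ifs <;> omega

namespace IsAS

variable {y : K} {f : RatFunc k} (H : IsAS y f)
include H

lemma two_ratFunc : (2 : RatFunc k) = 0 := by
  rw [← map_ofNat (algebraMap k (RatFunc k)) 2, H.two, map_zero]

lemma two_K : (2 : K) = 0 := by rw [← map_ofNat (algebraMap k K) 2, H.two, map_zero]

lemma finite : FiniteDimensional (RatFunc k) K :=
  Module.finite_of_finrank_pos (by rw [H.finrank]; exact two_pos)

lemma isFF : IsFF k K := by
  haveI := H.finite
  exact isFF_ext isFunctionField_ratFunc.1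

lemma y_ne_zero : y ≠ 0 := fun h => H.notMem ⟨0, by rw [map_zero, h]⟩

lemma exists_decomp (z : K) : ∃ a b : RatFunc k,
    z = algebraMap (RatFunc k) K a + algebraMap (RatFunc k) K b * y := by
  haveI := H.finite
  have hli : LinearIndependent (RatFunc k) ![(1 : K), y] := by
    rw [LinearIndependent.pair_iff' one_ne_zero]
    exact fun a ha => H.notMem ⟨a, by rw [← ha, Algebra.smul_def, mul_one]⟩
  have := hli.span_eq_top_of_card_eq_finrank (by rw [H.finrank]; rfl)
  rw [Matrix.range_cons, Matrix.range_cons, Matrix.range_empty, Set.union_empty, Set.singleton_union] at this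
  have hz : z ∈ Submodule.span (RatFunc k) ({1, y} : Set K) := by rw [this]; trivial
  obtain ⟨a, b, h⟩ := Submodule.mem_span_pair.1 hz
  exact ⟨a, b, by rw [← h, Algebra.smul_def, Algebra.smul_def, mul_one]⟩

lemma exists_conj : ∃ σ : K ≃ₐ[RatFunc k] K, σ y = y + 1 := by
  haveI := H.finite
  haveI : Algebra.IsQuadraticExtension (RatFunc k) K := { finrank_eq_two' := H.finrank }
  haveI : Normal (RatFunc k) K := inferInstance
  refine IsConjRoot.exists_algEquiv (?_ : IsConjRoot (RatFunc k) (y + 1) y)
  set m : Polynomial (RatFunc k) := Polynomial.X ^ 2 + (Polynomial.X - Polynomial.C f)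
  have hm : m.Monic := Polynomial.monic_X_pow_add (lt_of_le_of_lt (Polynomial.degree_X_sub_C_le f) (by decide))
  have hd : m.natDegree = 2 := by
    simp only [m]
    compute_degree!
  have hmin : ∀ z : K, z ∉ Set.range (algebraMap (RatFunc k) K) → Polynomial.aeval z m = 0 →
      minpoly (RatFunc k) z = m := fun z hz h0 =>
    (Polynomial.eq_of_monic_of_dvd_of_natDegree_le (minpoly.monic (Algebra.IsIntegral.isIntegral z)) hm
      (minpoly.dvd _ _ h0) (by
        rw [hd]; exact (minpoly.two_le_natDegree_iff (Algebra.IsIntegral.isIntegral z)).2 hz)).symm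
  rw [IsConjRoot, hmin y H.notMem (by simp [m, ← H.eq]),
    hmin (y + 1) (fun ⟨r, hr⟩ => H.notMem ⟨r - 1, by rw [map_sub, map_one, hr, add_sub_cancel_right]⟩)
      (by simp [m, ← H.eq]; linear_combination (y + 1) * H.two_K)]

lemma place_facts {P : Place k K} {P₀ : Place k (RatFunc k)} {e : ℕ} (h : IsOverWith P P₀ e) :
    (0 ≤ P₀.ord f → P.1 y ≤ 1) ∧ (P₀.ord f < 0 → 1 < P.1 y ∧ 2 * P.ord y = e * P₀.ord f) := by
  have hv : P.1 (y ^ 2 + y) = P₀.1 f ^ e := by rw [H.eq, h]
  constructor
  · intro hf
    by_contra hy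
    rw [not_le] at hy
    have h1 : P.1 (y ^ 2 + y) = P.1 y ^ 2 := by
      rw [Valuation.map_add_eq_of_lt_left _ (by rw [map_pow]; exact lt_self_pow₀ hy one_lt_two), map_pow]
    rw [h1] at hv
    have h2 : P.1 y ^ 2 ≤ 1 := hv ▸ pow_le_one' ((val_le_one_iff P₀ f).2 hf) e
    exact not_lt.2 h2 (one_lt_pow₀ hy two_ne_zero)
  · intro hf
    have hf1 := (one_lt_val_iff P₀ f).2 hf
    have hy : 1 < P.1 y := by
      by_contra hy
      rw [not_lt] at hy
      refine not_le.2 (one_lt_pow₀ hf1 (IsOverWith_pos h).ne') ?_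
      rw [← hv]
      exact (P.1.map_add _ _).trans (max_le (by rw [map_pow]; exact pow_le_one' hy 2) hy)
    refine ⟨hy, ?_⟩
    have h1 : P.1 (y ^ 2 + y) = P.1 (y ^ 2) :=
      Valuation.map_add_eq_of_lt_left _ (by rw [map_pow]; exact lt_self_pow₀ hy one_lt_two)
    rw [← IsOverWith_ord h, ← H.eq, show P.ord (y ^ 2 + y) = P.ord (y ^ 2) by rw [Place.ord, Place.ord, h1],
      ord_pow]
    norm_num

lemma ramified {P₀ : Place k (RatFunc k)} (hf : P₀.ord f < 0) (ho : Odd (P₀.ord f)) :
    (∃! P : Place k K, IsOver P P₀) ∧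
      ∀ P : Place k K, IsOver P P₀ → IsOverWith P P₀ 2 ∧ P.deg = P₀.deg := by
  haveI := H.finite
  refine quadratic_ramified isFunctionField_ratFunc.1 H.finrank P₀ fun P hP => ?_
  have h1 := ((H.place_facts (isOverWith_ramIdx hP)).2 hf).2
  have h2 : 0 < ramIdx P P₀ := ramIdx_pos hP
  obtain ⟨m, hm⟩ := ho
  by_contra h3
  rw [show ramIdx P P₀ = 1 by omega, hm] at h1
  push_cast at h1
  omega

lemma ord_y_pole {P : Place k K} {P₀ : Place k (RatFunc k)} (h : IsOver P P₀) (hf : P₀.ord f < 0)
    (ho : Odd (P₀.ord f)) : P.ord y = P₀.ord f := by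
  have := ((H.place_facts ((H.ramified hf ho).2 P h).1).2 hf).2
  push_cast at this
  omega

lemma conj_comap (σ : K ≃ₐ[RatFunc k] K) (P : Place k K) :
    ∃ Q : Place k K, (∀ z, Q.1 z = P.1 (σ z)) ∧
      ∀ (P₀ : Place k (RatFunc k)) (e : ℕ), IsOverWith P P₀ e → IsOverWith Q P₀ e :=
  ⟨⟨P.1.comap (σ : K →+* K), fun c => by
      show P.1 (σ (algebraMap k K c)) ≤ 1
      rw [IsScalarTower.algebraMap_apply k (RatFunc k) K, σ.commutes, ← IsScalarTower.algebraMap_apply]
      exact val_const_le P c, fun n => by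
      obtain ⟨x, hx⟩ := P.2.2 n
      exact ⟨σ.symm x, by show P.1 (σ (σ.symm x)) = n; rw [σ.apply_symm_apply, hx]⟩⟩,
    fun _ => rfl, fun P₀ e he x => by
      show P.1 (σ (algebraMap (RatFunc k) K x)) = _
      rw [σ.commutes, he x]⟩

lemma unramified {P₀ : Place k (RatFunc k)} (hf : 0 ≤ P₀.ord f) (P : Place k K) (hP : IsOver P P₀) :
    IsOverWith P P₀ 1 := by
  classical
  haveI := H.finite
  have hw := isOverWith_ramIdx hP
  rcases Nat.lt_or_ge (ramIdx P P₀) 2 with he | he
  · rwa [show ramIdx P P₀ = 1 by have := ramIdx_pos hP; omega] at hw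
  exfalso
  obtain ⟨hfin, hs⟩ := fundamental (K' := K) isFunctionField_ratFunc.1 P₀
  have hsum := hs hfin.toFinset (by simp)
  rw [H.finrank] at hsum
  have hd := deg_le_over H.isFF hP
  have hp := deg_pos isFunctionField_ratFunc.1 P₀
  have hle := Finset.single_le_sum (f := fun Q => ramIdx Q P₀ * Q.deg) (fun _ _ => Nat.zero_le _)
    (hfin.mem_toFinset.2 hP)
  rw [hsum] at hle
  have hdeg : P.deg ≤ P₀.deg := by nlinarith
  have huniq : ∀ Q : Place k K, IsOver Q P₀ → Q = P := by
    intro Q hQ
    by_contra hne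
    have h3 := Finset.sum_le_sum_of_subset (f := fun R => ramIdx R P₀ * R.deg)
      (Finset.insert_subset (hfin.mem_toFinset.2 hQ) (Finset.singleton_subset_iff.2 (hfin.mem_toFinset.2 hP)))
    rw [Finset.sum_pair hne, hsum] at h3
    have := Nat.mul_pos (ramIdx_pos hQ) (deg_pos H.isFF Q)
    nlinarith
  obtain ⟨c, hc, hlt⟩ := exists_residue_below isFunctionField_ratFunc.1 H.isFF hP hdeg ((H.place_facts hw).1 hf)
  obtain ⟨σ, hσ⟩ := H.exists_conj
  obtain ⟨Q, hQ, hQo⟩ := H.conj_comap σ P
  have hQP : Q = P := huniq Q ⟨_, hQo P₀ _ hw⟩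
  have hlt' : P.1 (y + 1 - algebraMap (RatFunc k) K c) < 1 := by
    have h1 := hQ (y - algebraMap (RatFunc k) K c)
    rw [map_sub σ, hσ, σ.commutes, hQP] at h1
    rwa [← h1]
  have h2 : P.1 (1 : K) < 1 := by
    rw [show (1 : K) = (y + 1 - algebraMap (RatFunc k) K c) - (y - algebraMap (RatFunc k) K c) by ring]
    exact (P.1.map_sub _ _).trans_lt (max_lt hlt' hlt)
  rw [map_one] at h2
  exact lt_irrefl _ h2

variable (hodd : ∀ P : Place k (RatFunc k), P.ord f < 0 → Odd (P.ord f))
include hodd

lemma mem_L_iff (D : Divisor k (RatFunc k)) (z : K) :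
    z ∈ L (conorm K D) ↔ ∃ a b : RatFunc k, a ∈ L D ∧ b ∈ L (D - asE f) ∧
      z = algebraMap (RatFunc k) K a + algebraMap (RatFunc k) K b * y := by
  haveI := H.finite
  have hD : ∀ {P : Place k K} {P₀ : Place k (RatFunc k)} {e : ℕ}, IsOverWith P P₀ e →
      conorm K D P = e * D P₀ := fun {P P₀ e} h => by
    rw [conorm_apply isFunctionField_ratFunc.1 D ⟨e, h⟩, ramIdx_eq h]
  have hpow : ∀ {P₀ : Place k (RatFunc k)} {e : ℕ} (r : RatFunc k) (n : ℤ), 0 < e →
      (P₀.1 r ^ e ≤ exp ((e : ℤ) * n) ↔ P₀.1 r ≤ exp n) := fun {P₀ e} r n he => by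
    rw [show exp ((e : ℤ) * n) = exp n ^ e by rw [← exp_nsmul, nsmul_eq_mul]]
    exact pow_le_pow_iff_left₀ zero_le zero_le he.ne'
  constructor
  · intro hz
    obtain ⟨a, b, rfl⟩ := H.exists_decomp z
    obtain ⟨σ, hσ⟩ := H.exists_conj
    refine ⟨a, b, ?_, ?_, rfl⟩ <;> intro P₀
    all_goals
      obtain ⟨P, e, he⟩ := exists_over (K' := K) isFunctionField_ratFunc.1 P₀
      obtain ⟨Q, hQ, hQo⟩ := H.conj_comap σ P
      have hz1 := hz P
      have hz2 := hz Q
      rw [hQ, map_add, map_mul, σ.commutes, σ.commutes, hσ, hD (hQo P₀ e he)] at hz2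
      rw [hD he] at hz1
      have hb : P.1 (algebraMap (RatFunc k) K b) ≤ exp (e * D P₀) := by
        rw [show algebraMap (RatFunc k) K b = (algebraMap (RatFunc k) K a + algebraMap (RatFunc k) K b * (y + 1)) -
          (algebraMap (RatFunc k) K a + algebraMap (RatFunc k) K b * y) by ring]
        exact (P.1.map_sub _ _).trans (max_le hz2 hz1)
      have he0 := IsOverWith_pos he
      -- the two halves separately
      have hsep : P.1 (algebraMap (RatFunc k) K a) ≤ exp (e * D P₀) ∧
          P.1 (algebraMap (RatFunc k) K b * y) ≤ exp (e * D P₀) := by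
        by_cases hf : P₀.ord f < 0
        · by_cases ha : a = 0
          · subst ha
            rw [map_zero, zero_add] at hz1
            refine ⟨?_, hz1⟩
            rw [map_zero]
            exact (map_zero P.1).le.trans zero_le
          by_cases hb0 : b = 0
          · subst hb0
            rw [map_zero, zero_mul, add_zero] at hz1
            refine ⟨hz1, ?_⟩
            rw [map_zero, zero_mul]
            exact (map_zero P.1).le.trans zero_le
          obtain rfl := IsOverWith_unique he ((H.ramified hf (hodd _ hf)).2 P ⟨e, he⟩).1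
          have hne : P.1 (algebraMap (RatFunc k) K a) ≠ P.1 (algebraMap (RatFunc k) K b * y) := fun heq => by
            have h1 : P.ord (algebraMap (RatFunc k) K a) = P.ord (algebraMap (RatFunc k) K b * y) :=
              congrArg (fun v => -WithZero.log v) heq
            rw [ord_mul P ((map_ne_zero _).2 hb0) H.y_ne_zero, IsOverWith_ord he, IsOverWith_ord he,
              H.ord_y_pole ⟨2, he⟩ hf (hodd _ hf)] at h1
            obtain ⟨m, hm⟩ := hodd _ hf
            push_cast at h1
            omega
          rw [Valuation.map_add_of_distinct_val _ hne] at hz1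
          exact ⟨(le_max_left _ _).trans hz1, (le_max_right _ _).trans hz1⟩
        · have hby : P.1 (algebraMap (RatFunc k) K b * y) ≤ exp (e * D P₀) := by
            rw [map_mul]
            exact (mul_le_of_le_one_right' ((H.place_facts he).1 (not_lt.1 hf))).trans hb
          refine ⟨?_, hby⟩
          rw [show algebraMap (RatFunc k) K a = (algebraMap (RatFunc k) K a + algebraMap (RatFunc k) K b * y) -
            algebraMap (RatFunc k) K b * y by ring]
          exact (P.1.map_sub _ _).trans (max_le hz1 hby)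
    · have h1 := hsep.1
      rw [he] at h1
      exact (hpow a _ he0).1 h1
    · rw [Finsupp.sub_apply, asE_apply]
      split_ifs with hf
      · rcases eq_or_ne b 0 with hb0 | hb0
        · rw [hb0, map_zero]; exact zero_le
        obtain rfl := IsOverWith_unique he ((H.ramified hf (hodd _ hf)).2 P ⟨e, he⟩).1
        have h1 := (val_le_exp_iff P (mul_ne_zero ((map_ne_zero _).2 hb0) H.y_ne_zero) _).1 hsep.2
        rw [ord_mul P ((map_ne_zero _).2 hb0) H.y_ne_zero, IsOverWith_ord he,
          H.ord_y_pole ⟨2, he⟩ hf (hodd _ hf)] at h1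
        rw [val_le_exp_iff P₀ hb0]
        obtain ⟨m, hm⟩ := hodd _ hf
        push_cast at h1
        omega
      · rw [sub_zero]
        rw [he] at hb
        exact (hpow b _ he0).1 hb
  · rintro ⟨a, b, ha, hb, rfl⟩ P
    obtain ⟨P₀, e, he⟩ := exists_below (K' := K) isFunctionField_ratFunc.1 P
    have he0 := IsOverWith_pos he
    rw [hD he]
    refine (P.1.map_add _ _).trans (max_le ?_ ?_)
    · rw [he]; exact (hpow a _ he0).2 (ha P₀)
    · have hb' := hb P₀
      rw [Finsupp.sub_apply, asE_apply] at hb'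
      split_ifs at hb' with hf
      · rcases eq_or_ne b 0 with hb0 | hb0
        · rw [hb0, map_zero, zero_mul, map_zero]; exact zero_le
        obtain rfl := IsOverWith_unique he ((H.ramified hf (hodd _ hf)).2 P ⟨e, he⟩).1
        rw [val_le_exp_iff P (mul_ne_zero ((map_ne_zero _).2 hb0) H.y_ne_zero),
          ord_mul P ((map_ne_zero _).2 hb0) H.y_ne_zero, IsOverWith_ord he,
          H.ord_y_pole ⟨2, he⟩ hf (hodd _ hf)]
        rw [val_le_exp_iff P₀ hb0] at hb'
        obtain ⟨m, hm⟩ := hodd _ hf
        push_cast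
        omega
      · rw [sub_zero] at hb'
        rw [map_mul]
        refine (mul_le_of_le_one_right' ((H.place_facts he).1 (not_lt.1 hf))).trans ?_
        rw [he]
        exact (hpow b _ he0).2 hb'

lemma ell_conorm (D : Divisor k (RatFunc k)) :
    ell (conorm K D) = ell D + ell (D - asE f) := by
  haveI := finiteDimensional_L (isFunctionField_ratFunc (k := k)).1 D
  haveI := finiteDimensional_L (isFunctionField_ratFunc (k := k)).1 (D - asE f)
  let c : RatFunc k →ₗ[k] K := (IsScalarTower.toAlgHom k (RatFunc k) K).toLinearMap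
  let Φ : (L D × L (D - asE f)) →ₗ[k] K :=
    LinearMap.coprod (c ∘ₗ (L D).subtype) ((LinearMap.mulRight k y) ∘ₗ c ∘ₗ (L (D - asE f)).subtype)
  have hinj : Function.Injective Φ := by
    rw [injective_iff_map_eq_zero]
    rintro ⟨⟨a, ha⟩, ⟨b, hb⟩⟩ h
    have h' : algebraMap (RatFunc k) K a + algebraMap (RatFunc k) K b * y = 0 := h
    have hb0 : b = 0 := by
      by_contra hb0
      refine H.notMem ⟨-a / b, ?_⟩
      rw [map_div₀, map_neg, div_eq_iff ((map_ne_zero _).2 hb0)]
      linear_combination -h'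
    subst hb0
    rw [map_zero, zero_mul, add_zero, map_eq_zero] at h'
    subst h'
    rfl
  have hrange : LinearMap.range Φ = L (conorm K D) := by
    ext z
    rw [H.mem_L_iff hodd D, LinearMap.mem_range]
    constructor
    · rintro ⟨⟨⟨a, ha⟩, ⟨b, hb⟩⟩, rfl⟩
      exact ⟨a, b, ha, hb, rfl⟩
    · rintro ⟨a, b, ha, hb, rfl⟩
      exact ⟨⟨⟨a, ha⟩, ⟨b, hb⟩⟩, rfl⟩
  rw [ell, ← hrange, LinearMap.finrank_range_of_inj hinj, Module.finrank_prod]
  rfl

theorem genus_eq (hK : IsFunctionField k K) : (genus k K : ℤ) = (asE f).deg - 1 := by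
  haveI := H.finite
  obtain ⟨N, hN⟩ := riemann hK
  obtain ⟨P, hP⟩ := exists_rat_inf (k := k)
  set n := max N (asE f).deg with hn
  have hEnn : 0 ≤ (asE f).deg := by
    have := deg_mono (show (0 : Divisor k (RatFunc k)) ≤ asE f from fun Q => asE_nonneg f Q)
    simpa using this
  set D : Divisor k (RatFunc k) := Finsupp.single P n with hD
  have hdD : D.deg = n := by rw [hD, deg_single, rat_deg_inf P hP]; simp
  have hdeg : (conorm K D).deg = 2 * n := by
    rw [deg_conorm isFunctionField_ratFunc, H.finrank, hdD]; norm_num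
  have h := hN (conorm K D) (by rw [hdeg]; omega)
  rw [spec, hdeg, H.ell_conorm hodd, Nat.cast_add, ell_ratFunc (by rw [hdD]; omega),
    ell_ratFunc (by rw [deg_sub, hdD]; omega), deg_sub, hdD] at h
  omega

lemma genus_eq_sum (hK : IsFunctionField k K) :
    (genus k K : ℤ) = -1 + ∑ P ∈ (FunFld.div k f).support with FunFld.div k f P < 0,
      (1 - FunFld.div k f P) / 2 * (P.deg : ℤ) := by
  classical
  rw [H.genus_eq hodd hK, Divisor.deg, asE, Finsupp.sum_mapRange_index (fun P => by simp), Finsupp.sum,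
    Finset.sum_filter]
  rw [sub_eq_neg_add]
  congr 1
  refine Finset.sum_congr rfl fun P _ => ?_
  split_ifs <;> simp

end IsAS

end Groth.Agent.FF
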