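import Groth.Agent.FF.LinSys
import Groth.Agent.FF.Linear

/-! Automorphisms fixing many places. -/

set_option autoImplicit false
set_option linter.style.haveILetI false
set_option linter.unusedSectionVars false

open FunFld WithZero IntermediateField

namespace Groth.Agent.FF

variable {k K : Type*} [Field k] [Field K] [Algebra k K]

/-- The place `x ↦ P (σ x)`. -/
noncomputable def pullK (P : Place k K) (σ : K ≃ₐ[k] K) : Place k K :=
  ⟨P.1.comap (σ : K →+* K), fun c => by
      show P.1 (σ (algebraMap k K c)) ≤ 1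
      rw [σ.commutes]; exact P.2.1 c,
    fun y => by
      obtain ⟨x, hx⟩ := P.2.2 y
      exact ⟨σ.symm x, by show P.1 (σ (σ.symm x)) = y; rw [σ.apply_symm_apply, hx]⟩⟩

variable [IsAlgClosed k]

lemma val_map_eq_of_fixed (hK : IsFunctionField k K) {P : Place k K} {σ : K ≃ₐ[k] K}
    (hP : ∀ x : K, P.1 x < 1 → P.1 (σ x) < 1) (x : K) : P.1 (σ x) = P.1 x := by
  have h : P = pullK P σ := ext_of_O fun y hy => by
    obtain ⟨a, ha⟩ := exists_residue hK P hy
    have h1 := hP _ ha
    rw [map_sub, σ.commutes] at h1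
    show P.1 (σ y) ≤ 1
    rw [show σ y = (σ y - algebraMap k K a) + algebraMap k K a by ring]
    exact Valuation.map_add_le _ h1.le (P.2.1 a)
  exact (congrArg (fun Q : Place k K => Q.1 x) h).symm

lemma algEquiv_eq_one (hK : IsFunctionField k K) (σ : K ≃ₐ[k] K)
    (h : ((2 * genus k K + 2 : ℕ) : ℕ∞) <
      Set.encard {P : Place k K | ∀ x : K, P.1 x < 1 → P.1 (σ x) < 1}) : σ = 1 := by
  classical
  obtain ⟨t, hts, htc⟩ := Set.exists_subset_encard_eq (Order.add_one_le_of_lt h)
  have htf : t.Finite := Set.finite_of_encard_eq_coe (k := 2 * genus k K + 3) (by rw [htc]; rfl)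
  have hcard : htf.toFinset.card = 2 * genus k K + 3 := by
    have := htf.encard_eq_coe_toFinset_card
    rw [htc] at this
    exact_mod_cast this.symm
  obtain ⟨R, hR⟩ : htf.toFinset.Nonempty := Finset.card_pos.1 (by omega)
  have hRf : ∀ x : K, R.1 (σ x) = R.1 x := val_map_eq_of_fixed hK (hts (htf.mem_toFinset.1 hR))
  have hR1 : R.deg = 1 := deg_eq_one hK R
  -- functions with a single pole at `R` are fixed
  have key : ∀ m : ℕ, m ≤ 2 * genus k K + 1 → ∀ x ∈ L (Finsupp.single R (m : ℤ)), σ x = x := by
    intro m hm x hx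
    rw [← sub_eq_zero]
    by_contra hz
    set s := htf.toFinset.erase R with hs
    have hQ : ∀ Q : Place k K, Q ≠ R → Q.1 x ≤ 1 := fun Q hQ => by
      have := hx Q
      rwa [Finsupp.single_eq_of_ne hQ, exp_zero] at this
    have hQσ : ∀ Q : Place k K, Q ≠ R → Q.1 (σ x) ≤ 1 := fun Q hQR => by
      refine hQ (pullK Q σ) fun e => hQR ?_
      refine ext_of_O fun y hy => ?_
      have h1 := hRf (σ.symm y)
      rw [σ.apply_symm_apply] at h1
      have h2 : R.1 (σ.symm y) = Q.1 (σ (σ.symm y)) := by rw [← e]; rfl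
      rw [σ.apply_symm_apply, ← h1] at h2
      exact h2 ▸ hy
    have hmem : σ x - x ∈ L (Finsupp.single R (m : ℤ) - ∑ P ∈ s, Finsupp.single P (1 : ℤ)) := by
      intro Q
      simp only [Finsupp.sub_apply, Finsupp.coe_finsetSum, Finset.sum_apply, Finsupp.single_apply]
      rw [Finset.sum_ite_eq']
      rcases eq_or_ne Q R with rfl | hQR
      · rw [if_pos rfl, if_neg (by simp [hs]), sub_zero]
        have hxR : Q.1 x ≤ exp (m : ℤ) := by simpa using hx Q
        exact Valuation.map_sub_le Q.1 ((hRf x).trans_le hxR) hxR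
      · rw [if_neg (Ne.symm hQR)]
        by_cases hQs : Q ∈ s
        · rw [if_pos hQs]
          have hQf := val_map_eq_of_fixed hK (hts (htf.mem_toFinset.1 (Finset.mem_of_mem_erase hQs)))
          obtain ⟨a, ha⟩ := exists_residue hK Q (hQ Q hQR)
          have ha2 : Q.1 (σ x - algebraMap k K a) < 1 := by
            rwa [← σ.commutes a, ← map_sub, hQf]
          have : Q.1 (σ x - x) < 1 := by
            rw [show σ x - x = (σ x - algebraMap k K a) - (x - algebraMap k K a) by ring]
            exact lt_of_le_of_lt (Valuation.map_sub _ _ _) (max_lt ha2 ha)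
          have h2 := (lt_exp_iff _ _).1 (this.trans_eq exp_zero.symm)
          simpa using h2
        · rw [if_neg hQs, sub_zero, exp_zero]
          exact Valuation.map_sub_le Q.1 (hQσ Q hQR) (hQ Q hQR)
    have hdeg : Divisor.deg (Finsupp.single R (m : ℤ) - ∑ P ∈ s, Finsupp.single P (1 : ℤ))
        = (m : ℤ) - s.card := by
      rw [deg_sub, deg_single, hR1]
      have : ∀ u : Finset (Place k K),
          Divisor.deg (∑ P ∈ u, Finsupp.single P (1 : ℤ)) = u.card := by
        intro u
        induction u using Finset.induction with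
        | empty => simp
        | @insert a u ha ih =>
          rw [Finset.sum_insert ha, deg_add, ih, deg_single, deg_eq_one hK,
            Finset.card_insert_of_notMem ha]
          push_cast; ring
      rw [this]; ring
    have hbot := L_eq_bot_of_deg_neg hK (D := Finsupp.single R (m : ℤ) - ∑ P ∈ s, Finsupp.single P (1 : ℤ))
      (by rw [hdeg, hs, Finset.card_erase_of_mem hR, hcard]; omega)
    rw [hbot, Submodule.mem_bot] at hmem
    exact hz hmem
  let F : IntermediateField k K :=
    (AlgHom.equalizer (σ : K →ₐ[k] K) (AlgHom.id k K)).toIntermediateField fun x hx => by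
      simp only [AlgHom.mem_equalizer, AlgHom.coe_id, id_eq, map_inv₀] at hx ⊢
      rw [hx]
  -- degrees
  have hdvd : ∀ m : ℕ, 2 * genus k K ≤ m → m ≤ 2 * genus k K + 1 → 0 < m →
      Module.finrank F K ∣ m := by
    intro m h1 h2 h0
    have e1 := ell_eq_of_deg_ge hK (D := Finsupp.single R (m : ℤ)) (by rw [deg_single, hR1]; omega)
    have e2 := ell_eq_of_deg_ge hK (D := Finsupp.single R (m : ℤ) - Finsupp.single R 1)
      (by rw [deg_sub, deg_single, deg_single, hR1]; omega)
    rw [deg_sub, deg_single, deg_single, hR1] at e2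
    rw [deg_single, hR1] at e1
    obtain ⟨x, hx, hxR⟩ := (ell_lt_iff_exists hK (Finsupp.single R (m : ℤ)) R).1 (by omega)
    rw [Finsupp.single_eq_same] at hxR
    have hord : R.ord x = -(m : ℤ) := by
      rw [ord_of_val_eq R hxR]
    have hxt : Transcendental k x := fun ha => by
      have := ord_eq_zero_of_isAlgebraic R ha; omega
    have hfx := finrank_adjoin_eq_neg_ord_mul hK hxt (P := R) (by omega) fun Q hQ => by
      have := hx Q
      rwa [Finsupp.single_eq_of_ne hQ, exp_zero, val_le_one_iff] at this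
    rw [hord, hR1, neg_neg] at hfx
    have hfx' : Module.finrank k⟮x⟯ K = m := by exact_mod_cast (by simpa using hfx)
    have hle : k⟮x⟯ ≤ F := adjoin_simple_le_iff.2 (key m h2 x hx)
    rw [← hfx']
    exact ⟨_, (Nat.mul_comm _ _).trans (IntermediateField.relfinrank_mul_finrank_top hle) |>.symm⟩
  have hF : Module.finrank F K = 1 := by
    have h1 := hdvd (2 * genus k K + 1) (by omega) le_rfl (by omega)
    rcases Nat.eq_zero_or_pos (genus k K) with h0 | h0
    · rw [h0] at h1; simpa using h1
    · have h2 := hdvd (2 * genus k K) le_rfl (by omega) (by omega)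
      exact Nat.dvd_one.1 ((Nat.dvd_add_right h2).1 h1)
  have hFtop : F = ⊤ := IntermediateField.finrank_eq_one_iff_eq_top.1 hF
  ext x
  have : x ∈ F := hFtop ▸ IntermediateField.mem_top
  exact this

end Groth.Agent.FF
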