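import Groth.Agent.FF.GenusOne
import Mathlib.RingTheory.RootsOfUnity.AlgebraicallyClosed
import Mathlib.RingTheory.Localization.FractionRing

/-! Automorphisms of a Weierstrass function field fixing the origin. -/

set_option autoImplicit false
set_option linter.style.haveILetI false
set_option linter.unusedSectionVars false

open FunFld WithZero IntermediateField
open Polynomial (X C aeval)

namespace Groth.Agent.FF

variable {k K : Type*} [Field k] [Field K] [Algebra k K]

/-- `k[x] ⊕ k[x] y` is free -/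
lemma poly_pair_eq_zero (P : Place k K) {x y : K} (hx : P.ord x = -2) (hy : P.ord y = -3) {p q : Polynomial k}
    (h : aeval x p + aeval x q * y = 0) : p = 0 ∧ q = 0 := by
  classical
  have hx0 : x ≠ 0 := fun e => by simp [e] at hx
  have hy0 : y ≠ 0 := fun e => by simp [e] at hy
  set N := p.natDegree + q.natDegree + 1
  let f : Fin N ⊕ Fin N → K := Sum.elim (fun i => x ^ (i : ℕ)) (fun i => x ^ (i : ℕ) * y)
  have hf0 : ∀ i, f i ≠ 0 := by rintro (i | i) <;> simp [f, hx0, hy0]
  have hord : ∀ i, P.ord (f i) = Sum.elim (fun i : Fin N => -(2 * (i : ℤ))) (fun i : Fin N => -(2 * (i : ℤ) + 3)) i := by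
    rintro (i | i)
    · simp [f, ord_pow, hx]; ring
    · simp [f, ord_mul P (pow_ne_zero _ hx0) hy0, ord_pow, hx, hy]; ring
  have hli : LinearIndependent k f := linearIndependent_of_ord_injective P f hf0 fun i j h => by
    simp only [hord] at h
    rcases i with i | i <;> rcases j with j | j <;>
      simp only [Sum.elim_inl, Sum.elim_inr, Sum.inl.injEq, Sum.inr.injEq, Fin.ext_iff] at h ⊢ <;> omega
  have hsum : ∑ i, (Sum.elim (fun i : Fin N => p.coeff i) (fun i : Fin N => q.coeff i)) i • f i = 0 := by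
    rw [Fintype.sum_sum_type]
    simp only [Sum.elim_inl, Sum.elim_inr, f, ← smul_mul_assoc, ← Finset.sum_mul]
    rw [Fin.sum_univ_eq_sum_range (fun i => p.coeff i • x ^ i), Fin.sum_univ_eq_sum_range (fun i => q.coeff i • x ^ i),
      ← Polynomial.aeval_eq_sum_range' (by omega), ← Polynomial.aeval_eq_sum_range' (by omega)]
    exact h
  have hz := Fintype.linearIndependent_iff.1 hli _ hsum
  constructor <;> refine Polynomial.ext fun n => ?_ <;> rw [Polynomial.coeff_zero]
  · by_cases hn : n < N
    · exact hz (Sum.inl ⟨n, hn⟩)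
    · exact Polynomial.coeff_eq_zero_of_natDegree_lt (by omega)
  · by_cases hn : n < N
    · exact hz (Sum.inr ⟨n, hn⟩)
    · exact Polynomial.coeff_eq_zero_of_natDegree_lt (by omega)

/-- a second Weierstrass point with the same coefficients defines an endomorphism -/
lemma exists_hom (P : Place k K) {a b : k} {x y x' y' : K}
    (heq : y ^ 2 = x ^ 3 + algebraMap k K a * x + algebraMap k K b)
    (heq' : y' ^ 2 = x' ^ 3 + algebraMap k K a * x' + algebraMap k K b)
    (hx : P.ord x = -2) (hy : P.ord y = -3) (hx' : P.ord x' = -2) (hy' : P.ord y' = -3)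
    (hxy : k⟮x, y⟯ = (⊤ : IntermediateField k K)) :
    ∃ σ : K →ₐ[k] K, σ x = x' ∧ σ y = y' := by
  classical
  set w : Polynomial k := X ^ 3 + C a * X + C b with hw
  set W : Polynomial (Polynomial k) := X ^ 2 - C w with hW
  have hWm : W.Monic := Polynomial.monic_X_pow_sub_C w two_ne_zero
  have key : ∀ {u v : K}, v ^ 2 = u ^ 3 + algebraMap k K a * u + algebraMap k K b →
      W.eval₂ (aeval u : Polynomial k →ₐ[k] K).toRingHom v = 0 := by
    intro u v huv
    simp [hW, hw, huv, Polynomial.eval₂_pow]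
  let φ : AdjoinRoot W →ₐ[k] K :=
    { AdjoinRoot.lift (aeval x : Polynomial k →ₐ[k] K).toRingHom y (key heq) with
      commutes' := fun c => by
        show AdjoinRoot.lift _ y (key heq) (algebraMap k (AdjoinRoot W) c) = _
        rw [AdjoinRoot.algebraMap_eq' k W]
        simp [AdjoinRoot.lift_of] }
  let φ' : AdjoinRoot W →ₐ[k] K :=
    { AdjoinRoot.lift (aeval x' : Polynomial k →ₐ[k] K).toRingHom y' (key heq') with
      commutes' := fun c => by
        show AdjoinRoot.lift _ y' (key heq') (algebraMap k (AdjoinRoot W) c) = _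
        rw [AdjoinRoot.algebraMap_eq' k W]
        simp [AdjoinRoot.lift_of] }
  have hφx : φ (AdjoinRoot.of W X) = x := by
    show AdjoinRoot.lift _ y (key heq) _ = _
    rw [AdjoinRoot.lift_of]; exact Polynomial.aeval_X x
  have hφy : φ (AdjoinRoot.root W) = y := AdjoinRoot.lift_root (key heq)
  have hφ'x : φ' (AdjoinRoot.of W X) = x' := by
    show AdjoinRoot.lift _ y' (key heq') _ = _
    rw [AdjoinRoot.lift_of]; exact Polynomial.aeval_X x'
  have hφ'y : φ' (AdjoinRoot.root W) = y' := AdjoinRoot.lift_root (key heq')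
  have hinj : ∀ {u v : K} (hord : P.ord u = -2) (hord' : P.ord v = -3)
      (huv : v ^ 2 = u ^ 3 + algebraMap k K a * u + algebraMap k K b),
      Function.Injective (AdjoinRoot.lift (aeval u : Polynomial k →ₐ[k] K).toRingHom v (key huv)) := by
    intro u v hu hv huv
    refine (injective_iff_map_eq_zero _).2 fun z hz => ?_
    obtain ⟨f, rfl⟩ := AdjoinRoot.mk_surjective z
    rw [AdjoinRoot.lift_mk] at hz
    have hmod : AdjoinRoot.mk W f = AdjoinRoot.mk W (f %ₘ W) := by
      rw [AdjoinRoot.mk_eq_mk]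
      exact ⟨f /ₘ W, by rw [sub_eq_iff_eq_add']; exact (Polynomial.modByMonic_add_div f W).symm⟩
    rw [hmod]
    set r := f %ₘ W
    have hdeg : r.natDegree ≤ 1 := by
      have := Polynomial.natDegree_modByMonic_lt f hWm (fun h => by
        have := congrArg Polynomial.natDegree h
        rw [hW, Polynomial.natDegree_X_pow_sub_C, Polynomial.natDegree_one] at this
        omega)
      rw [hW, Polynomial.natDegree_X_pow_sub_C] at this
      show (f %ₘ W).natDegree ≤ 1
      rw [hW]
      omega
    have hr : r.eval₂ (aeval u : Polynomial k →ₐ[k] K).toRingHom v = 0 := by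
      have h1 := congrArg (Polynomial.eval₂ (aeval u : Polynomial k →ₐ[k] K).toRingHom v) (Polynomial.modByMonic_add_div f W)
      rw [Polynomial.eval₂_add, Polynomial.eval₂_mul, key huv, zero_mul, add_zero, hz] at h1
      exact h1
    rw [Polynomial.eq_X_add_C_of_natDegree_le_one hdeg] at hr ⊢
    rw [Polynomial.eval₂_add, Polynomial.eval₂_mul, Polynomial.eval₂_C, Polynomial.eval₂_C, Polynomial.eval₂_X,
      add_comm] at hr
    obtain ⟨h0, h1⟩ := poly_pair_eq_zero P hu hv hr
    rw [h0, h1, map_zero, zero_mul, add_zero, map_zero]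
  letI : Algebra (AdjoinRoot W) K := φ.toRingHom.toAlgebra
  haveI : FaithfulSMul (AdjoinRoot W) K :=
    (faithfulSMul_iff_algebraMap_injective (AdjoinRoot W) K).2 (hinj hx hy heq)
  haveI : IsDomain (AdjoinRoot W) := (hinj hx hy heq).isDomain (φ : AdjoinRoot W →+* K)
  haveI : IsFractionRing (AdjoinRoot W) K := by
    refine IsFractionRing.of_field _ _ fun z => ?_
    have hz : z ∈ (⊤ : IntermediateField k K) := trivial
    rw [← hxy] at hz
    induction hz using IntermediateField.adjoin_induction with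
    | mem t ht =>
      rcases ht with rfl | rfl
      · exact ⟨AdjoinRoot.of W X, 1, by rw [map_one, div_one]; exact hφx.symm⟩
      · exact ⟨AdjoinRoot.root W, 1, by rw [map_one, div_one]; exact hφy.symm⟩
    | algebraMap c => exact ⟨algebraMap k _ c, 1, by rw [map_one, div_one]; exact (φ.commutes c).symm⟩
    | add s t _ _ hs ht =>
      obtain ⟨s1, s2, rfl⟩ := hs
      obtain ⟨t1, t2, rfl⟩ := ht
      rcases eq_or_ne (algebraMap (AdjoinRoot W) K s2) 0 with h2 | h2
      · exact ⟨t1, t2, by simp [h2]⟩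
      rcases eq_or_ne (algebraMap (AdjoinRoot W) K t2) 0 with h3 | h3
      · exact ⟨s1, s2, by simp [h3]⟩
      exact ⟨s1 * t2 + s2 * t1, s2 * t2, by rw [map_add, map_mul, map_mul, map_mul]; exact div_add_div _ _ h2 h3⟩
    | inv s _ hs =>
      obtain ⟨s1, s2, rfl⟩ := hs
      exact ⟨s2, s1, inv_div _ _⟩
    | mul s t _ _ hs ht =>
      obtain ⟨s1, s2, rfl⟩ := hs
      obtain ⟨t1, t2, rfl⟩ := ht
      exact ⟨s1 * t1, s2 * t2, by rw [map_mul, map_mul, div_mul_div_comm]⟩
  have hinj' : Function.Injective φ'.toRingHom := hinj hx' hy' heq'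
  let s : K →+* K := IsFractionRing.lift hinj'
  have hs : ∀ r, s (φ r) = φ' r := fun r => IsFractionRing.lift_algebraMap hinj' r
  exact ⟨{ s with
      commutes' := fun c => by
        show s (algebraMap k K c) = _
        rw [← φ.commutes c, hs, φ'.commutes, φ.commutes] },
    (congrArg s hφx.symm).trans ((hs _).trans hφ'x), (congrArg s hφy.symm).trans ((hs _).trans hφ'y)⟩

theorem card_aut_weierstrass [IsAlgClosed k] (h2 : (2 : k) ≠ 0) (h3 : (3 : k) ≠ 0)
    (hK : IsFunctionField k K) (hgen : genus k K = 1) (P : Place k K) [DecidableEq k]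
    {a b : k} (hdisc : 4 * a ^ 3 + 27 * b ^ 2 ≠ 0) {x y : K}
    (heq : y ^ 2 = x ^ 3 + algebraMap k K a * x + algebraMap k K b)
    (hxy : k⟮x, y⟯ = (⊤ : IntermediateField k K))
    (hx : x ∈ L (Finsupp.single P 2)) (hx2 : P.ord x = -2)
    (hy : y ∈ L (Finsupp.single P 3)) (hy3 : P.ord y = -3) :
    Nat.card {σ : K ≃ₐ[k] K // ∀ z : K, P.1 (σ z) = P.1 z} = if a = 0 then 6 else if b = 0 then 4 else 2 := by
  classical
  have hP : P.deg = 1 := deg_eq_one hK P
  have hx0 : x ≠ 0 := fun e => by simp [e] at hx2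
  have hy0 : y ≠ 0 := fun e => by simp [e] at hy3
  set G := {u : k | u ≠ 0 ∧ a * (u ^ 4 - 1) = 0 ∧ b * (u ^ 6 - 1) = 0} with hG
  -- the automorphism attached to `u`
  have hσ : ∀ u : G, ∃ σ : {σ : K ≃ₐ[k] K // ∀ z : K, P.1 (σ z) = P.1 z},
      σ.1 x = algebraMap k K ((u : k) ^ 2) * x ∧ σ.1 y = algebraMap k K ((u : k) ^ 3) * y := by
    rintro ⟨u, hu0, hua, hub⟩
    have hord : ∀ (n : ℕ) (z : K), z ≠ 0 → P.ord (algebraMap k K (u ^ n) * z) = P.ord z := fun n z hz => by
      rw [ord_mul P ((map_ne_zero _).2 (pow_ne_zero _ hu0)) hz, ord_const, zero_add]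
    have heq' : (algebraMap k K (u ^ 3) * y) ^ 2 = (algebraMap k K (u ^ 2) * x) ^ 3 +
        algebraMap k K a * (algebraMap k K (u ^ 2) * x) + algebraMap k K b := by
      have ha : algebraMap k K a * (algebraMap k K u ^ 4 - 1) = 0 := by
        rw [← map_pow, ← map_one (algebraMap k K), ← map_sub, ← map_mul, hua, map_zero]
      have hb : algebraMap k K b * (algebraMap k K u ^ 6 - 1) = 0 := by
        rw [← map_pow, ← map_one (algebraMap k K), ← map_sub, ← map_mul, hub, map_zero]
      rw [map_pow, map_pow]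
      linear_combination (algebraMap k K u) ^ 6 * heq + (algebraMap k K u) ^ 2 * x * ha + hb
    obtain ⟨σ, hσx, hσy⟩ := exists_hom P heq heq' hx2 hy3 ((hord 2 x hx0).trans hx2) ((hord 3 y hy0).trans hy3) hxy
    have hsurj : Function.Surjective σ := by
      intro z
      have hxm : x ∈ σ.fieldRange := ⟨algebraMap k K (u ^ 2)⁻¹ * x, by
        show σ (_ * x) = x
        rw [map_mul, AlgHom.commutes, hσx, ← mul_assoc, ← map_mul, inv_mul_cancel₀ (pow_ne_zero _ hu0), map_one, one_mul]⟩
      have hym : y ∈ σ.fieldRange := ⟨algebraMap k K (u ^ 3)⁻¹ * y, by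
        show σ (_ * y) = y
        rw [map_mul, AlgHom.commutes, hσy, ← mul_assoc, ← map_mul, inv_mul_cancel₀ (pow_ne_zero _ hu0), map_one, one_mul]⟩
      have hle : k⟮x, y⟯ ≤ σ.fieldRange := IntermediateField.adjoin_le_iff.2 (by
        rintro t (rfl | rfl)
        exacts [hxm, hym])
      exact hle (by rw [hxy]; trivial)
    let e : K ≃ₐ[k] K := AlgEquiv.ofBijective σ ⟨σ.injective, hsurj⟩
    let Q : Place k K := ⟨P.1.comap (σ : K →+* K), fun c => by
        show P.1 (σ (algebraMap k K c)) ≤ 1
        rw [σ.commutes]; exact P.2.1 c, fun r => by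
        obtain ⟨z, hz⟩ := P.2.2 r
        obtain ⟨w, rfl⟩ := hsurj z
        exact ⟨w, hz⟩⟩
    have hQP : Q = P := by
      by_contra hne
      have h1 : Q.1 x ≤ 1 := by
        have := hx Q
        rwa [Finsupp.single_eq_of_ne hne, exp_zero] at this
      have h4 : P.1 (σ x) ≤ 1 := h1
      rw [hσx, val_le_one_iff, hord 2 x hx0, hx2] at h4
      omega
    exact ⟨⟨e, fun z => by
      conv_rhs => rw [← hQP]
      rfl⟩, hσx, hσy⟩
  choose f hfx hfy using hσ
  have hbij : Function.Bijective f := by
    constructor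
    · rintro ⟨u, hu⟩ ⟨v, hv⟩ huv
      have h1 := hfx ⟨u, hu⟩
      have h1' := hfy ⟨u, hu⟩
      rw [huv, hfx] at h1
      rw [huv, hfy] at h1'
      have e2 : v ^ 2 = u ^ 2 := (algebraMap k K).injective (mul_right_cancel₀ hx0 h1)
      have e3 : v ^ 3 = u ^ 3 := (algebraMap k K).injective (mul_right_cancel₀ hy0 h1')
      apply Subtype.ext
      show u = v
      refine (mul_left_cancel₀ (pow_ne_zero 2 hv.1) ?_).symm
      linear_combination e3 - u * e2
    · rintro ⟨σ, hσP⟩
      let σ' : K →+* K := (σ : K →+* K)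
      have hL : ∀ (n : ℤ) (z : K), 0 ≤ n → z ∈ L (Finsupp.single P n) → σ z ∈ L (Finsupp.single P n) := by
        intro n z hn hz Q
        let Q' : Place k K := ⟨Q.1.comap σ', fun c => by
            show Q.1 (σ (algebraMap k K c)) ≤ 1
            rw [σ.commutes]; exact Q.2.1 c, fun r => by
            obtain ⟨w, hw⟩ := Q.2.2 r
            exact ⟨σ.symm w, by show Q.1 (σ (σ.symm w)) = r; rw [σ.apply_symm_apply, hw]⟩⟩
        by_cases hQ : Q = P
        · subst hQ
          rw [hσP]
          exact hz Q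
        · have hQ' : Q' ≠ P := fun h => hQ (ext_of_O fun w hw => by
            have h5 : Q'.1 (σ.symm w) ≤ 1 := by
              show Q.1 (σ (σ.symm w)) ≤ 1
              rw [σ.apply_symm_apply]; exact hw
            rw [h, ← hσP, σ.apply_symm_apply] at h5
            exact h5)
          have := hz Q'
          rw [Finsupp.single_eq_of_ne hQ'] at this
          rw [Finsupp.single_eq_of_ne hQ]
          exact this
      have hordσ : ∀ z : K, P.ord (σ z) = P.ord z := fun z => by simp [Place.ord, hσP z]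
      obtain ⟨-, hspan2⟩ := basis_weierstrass hK hgen hP hx hx2 hy hy3 (n := 2) le_rfl
      obtain ⟨-, hspan3⟩ := basis_weierstrass hK hgen hP hx hx2 hy hy3 (n := 3) (by norm_num)
      have hσx : σ x ∈ L (Finsupp.single P ((2 : ℕ) : ℤ)) := hL 2 x (by norm_num) hx
      have hσy : σ y ∈ L (Finsupp.single P ((3 : ℕ) : ℤ)) := hL 3 y (by norm_num) hy
      rw [← hspan2, Submodule.mem_span_range_iff_exists_fun] at hσx
      rw [← hspan3, Submodule.mem_span_range_iff_exists_fun] at hσy
      obtain ⟨c, hc⟩ := hσx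
      obtain ⟨d, hd⟩ := hσy
      obtain ⟨α, β, hxαβ⟩ : ∃ α β : k, σ x = algebraMap k K α * x + algebraMap k K β :=
        ⟨c (Sum.inl ⟨1, by norm_num⟩), c (Sum.inl ⟨0, by norm_num⟩), by
          rw [← hc, Fintype.sum_sum_type]
          simp [Fin.sum_univ_succ, Algebra.smul_def]
          ring⟩
      obtain ⟨γ, δ, ε, hyγ⟩ : ∃ γ δ ε : k, σ y = algebraMap k K γ * y + algebraMap k K δ * x + algebraMap k K ε :=
        ⟨d (Sum.inr ⟨0, by norm_num⟩), d (Sum.inl ⟨1, by norm_num⟩), d (Sum.inl ⟨0, by norm_num⟩), by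
          rw [← hd, Fintype.sum_sum_type]
          simp [Fin.sum_univ_succ, Algebra.smul_def]
          ring⟩
      have hα : α ≠ 0 := by
        rintro rfl
        rw [map_zero, zero_mul, zero_add] at hxαβ
        have h6 := hordσ x
        rw [hxαβ, ord_const, hx2] at h6
        omega
      have hsub := congrArg σ heq
      simp only [map_add, map_mul, map_pow, AlgEquiv.commutes, hxαβ, hyγ] at hsub
      obtain ⟨hp, hq⟩ := poly_pair_eq_zero P hx2 hy3
        (p := C (γ ^ 2) * (X ^ 3 + C a * X + C b) + C (δ ^ 2) * X ^ 2 + C (2 * δ * ε) * X + C (ε ^ 2) -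
          ((C α * X + C β) ^ 3 + C a * (C α * X + C β) + C b))
        (q := C (2 * γ * δ) * X + C (2 * γ * ε)) (by
          simp only [map_add, map_sub, map_mul, map_pow, Polynomial.aeval_X, Polynomial.aeval_C, map_ofNat]
          linear_combination hsub - (algebraMap k K γ) ^ 2 * heq)
      rw [show C (γ ^ 2) * (X ^ 3 + C a * X + C b) + C (δ ^ 2) * X ^ 2 + C (2 * δ * ε) * X + C (ε ^ 2) -
          ((C α * X + C β) ^ 3 + C a * (C α * X + C β) + C b) =
          C (γ ^ 2 - α ^ 3) * X ^ 3 + C (δ ^ 2 - 3 * α ^ 2 * β) * X ^ 2 +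
            C (γ ^ 2 * a + 2 * δ * ε - 3 * α * β ^ 2 - a * α) * X +
            C (γ ^ 2 * b + ε ^ 2 - β ^ 3 - a * β - b) by
        simp only [map_sub, map_add, map_mul, map_pow, map_ofNat]
        ring] at hp
      have e3 : γ ^ 2 = α ^ 3 := by
        have := congrArg (fun r => Polynomial.coeff r 3) hp
        simp only [Polynomial.coeff_add, Polynomial.coeff_C_mul_X_pow, Polynomial.coeff_C_mul_X, Polynomial.coeff_C, Polynomial.coeff_zero] at this
        norm_num at this
        exact sub_eq_zero.1 this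
      have e2 : δ ^ 2 = 3 * α ^ 2 * β := by
        have := congrArg (fun r => Polynomial.coeff r 2) hp
        simp only [Polynomial.coeff_add, Polynomial.coeff_C_mul_X_pow, Polynomial.coeff_C_mul_X, Polynomial.coeff_C, Polynomial.coeff_zero] at this
        norm_num at this
        exact sub_eq_zero.1 this
      have e1 : γ ^ 2 * a + 2 * δ * ε - 3 * α * β ^ 2 - a * α = 0 := by
        have := congrArg (fun r => Polynomial.coeff r 1) hp
        simp only [Polynomial.coeff_add, Polynomial.coeff_C_mul_X_pow, Polynomial.coeff_C_mul_X, Polynomial.coeff_C, Polynomial.coeff_zero] at this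
        simpa using this
      have e0 : γ ^ 2 * b + ε ^ 2 - β ^ 3 - a * β - b = 0 := by
        have := congrArg (fun r => Polynomial.coeff r 0) hp
        simp only [Polynomial.coeff_add, Polynomial.coeff_C_mul_X_pow, Polynomial.coeff_C_mul_X, Polynomial.coeff_C, Polynomial.coeff_zero] at this
        simpa using this
      have hγ : γ ≠ 0 := by
        rintro rfl
        exact pow_ne_zero 3 hα (by rw [← e3]; simp)
      have hδ : δ = 0 := by
        have := congrArg (fun r => Polynomial.coeff r 1) hq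
        simp [Polynomial.coeff_X, Polynomial.coeff_C, h2, hγ] at this
        exact this
      have hε : ε = 0 := by
        have := congrArg (fun r => Polynomial.coeff r 0) hq
        simp [Polynomial.coeff_X, Polynomial.coeff_C, h2, hγ] at this
        exact this
      have hβ : β = 0 := by
        rw [hδ] at e2
        simpa [h3, hα] using e2.symm
      subst hδ hε hβ
      set u := γ / α with hu
      have hu0 : u ≠ 0 := div_ne_zero hγ hα
      have huα : u ^ 2 = α := by rw [hu, div_pow, e3]; field_simp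
      have huγ : u ^ 3 = γ := by rw [pow_succ, huα, hu, mul_div_cancel₀ _ hα]
      have hmem : u ∈ G := by
        refine ⟨hu0, ?_, ?_⟩
        · refine mul_left_cancel₀ hα ?_
          linear_combination e1 + a * (α * (u ^ 2 + α)) * huα - a * e3
        · linear_combination e0 + b * (u ^ 3 + γ) * huγ
      refine ⟨⟨u, hmem⟩, Subtype.ext (AlgEquiv.ext fun z => ?_)⟩
      have hz : z ∈ k⟮x, y⟯ := by rw [hxy]; trivial
      induction hz using IntermediateField.adjoin_induction with
      | mem t ht =>
        rcases ht with rfl | rfl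
        · rw [hfx, hxαβ]; simp [huα]
        · rw [hfy, hyγ]; simp [huγ]
      | algebraMap c => simp
      | add s t _ _ hs ht => rw [map_add, map_add, hs, ht]
      | inv s _ hs => rw [map_inv₀, map_inv₀, hs]
      | mul s t _ _ hs ht => rw [map_mul, map_mul, hs, ht]
  rw [← Nat.card_congr (Equiv.ofBijective f hbij)]
  have hroots : ∀ n : ℕ, (n : k) ≠ 0 → Nat.card {u : k | u ^ n = 1} = n := by
    intro n hn
    have hn0 : n ≠ 0 := fun h => hn (by rw [h, Nat.cast_zero])
    haveI : NeZero (n : k) := ⟨hn⟩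
    haveI : NeZero n := ⟨hn0⟩
    obtain ⟨ζ, hζ⟩ := HasEnoughRootsOfUnity.exists_primitiveRoot k n
    rw [show {u : k | u ^ n = 1} = ↑(Polynomial.nthRootsFinset n (1 : k)) by
      ext u; simp [Polynomial.mem_nthRootsFinset (Nat.pos_of_ne_zero hn0)]]
    rw [Nat.card_coe_set_eq, Set.ncard_coe_finset, hζ.card_nthRootsFinset]
  split_ifs with ha hb
  · subst ha
    have hb : b ≠ 0 := fun h => hdisc (by rw [h]; ring)
    have hset : G = {u : k | u ^ 6 = 1} := by
      ext u
      simp only [hG, Set.mem_ofPred_eq, zero_mul, true_and, mul_eq_zero, hb, false_or, sub_eq_zero]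
      exact ⟨fun h => h.2, fun h => ⟨fun h0 => by rw [h0] at h; simp at h, h⟩⟩
    rw [hset]
    refine hroots 6 ?_
    rw [show ((6 : ℕ) : k) = 2 * 3 by norm_num]
    exact mul_ne_zero h2 h3
  · subst hb
    have hset : G = {u : k | u ^ 4 = 1} := by
      ext u
      simp only [hG, Set.mem_ofPred_eq, zero_mul, and_true, mul_eq_zero, ha, false_or, sub_eq_zero]
      exact ⟨fun h => h.2, fun h => ⟨fun h0 => by rw [h0] at h; simp at h, h⟩⟩
    rw [hset]
    refine hroots 4 ?_
    rw [show ((4 : ℕ) : k) = 2 * 2 by norm_num]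
    exact mul_ne_zero h2 h2
  · have hset : G = {u : k | u ^ 2 = 1} := by
      ext u
      simp only [hG, Set.mem_ofPred_eq, mul_eq_zero, ha, hb, false_or, sub_eq_zero]
      refine ⟨fun h => ?_, fun h => ⟨fun h0 => by rw [h0] at h; simp at h, ?_, ?_⟩⟩
      · linear_combination h.2.2 - u ^ 2 * h.2.1
      · linear_combination (u ^ 2 + 1) * h
      · linear_combination (u ^ 4 + u ^ 2 + 1) * h
    rw [hset]
    refine hroots 2 ?_
    exact_mod_cast h2

end Groth.Agent.FF
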