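import Groth.Prelude.Def_W4bk4goldsch23FF
import Mathlib

/-! Basic facts on places of `K/k`. -/

set_option autoImplicit false

open FunFld WithZero

namespace Groth.Agent.FF

variable {k K : Type*} [Field k] [Field K] [Algebra k K]

section Val
variable (P : Place k K)

lemma val_const_le (c : k) : P.1 (algebraMap k K c) ≤ 1 := P.2.1 c

lemma val_const {c : k} (hc : c ≠ 0) : P.1 (algebraMap k K c) = 1 := by
  refine le_antisymm (P.2.1 c) ?_
  have h1 : P.1 (algebraMap k K c) * P.1 (algebraMap k K c⁻¹) = 1 := by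
    rw [← map_mul, ← map_mul, mul_inv_cancel₀ hc, map_one, map_one]
  calc (1 : ℤᵐ⁰) = P.1 (algebraMap k K c) * P.1 (algebraMap k K c⁻¹) := h1.symm
    _ ≤ P.1 (algebraMap k K c) * 1 := mul_le_mul_right (P.2.1 _) _
    _ = _ := mul_one _

lemma val_smul_le (c : k) (x : K) : P.1 (c • x) ≤ P.1 x := by
  rw [Algebra.smul_def, map_mul]
  exact (mul_le_mul_left (P.2.1 c) _).trans_eq (one_mul _)

lemma val_smul {c : k} (hc : c ≠ 0) (x : K) : P.1 (c • x) = P.1 x := by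
  rw [Algebra.smul_def, map_mul, val_const P hc, one_mul]

lemma exists_val (n : ℤ) : ∃ x : K, P.1 x = exp n := P.2.2 _

lemma exists_uniformizer : ∃ t : K, P.1 t = exp (-1 : ℤ) := exists_val P _

lemma ne_zero_of_val_eq_exp {x : K} {n : ℤ} (h : P.1 x = exp n) : x ≠ 0 := by
  rintro rfl; simp [exp_ne_zero.symm] at h

lemma val_eq_exp_ord {x : K} (hx : x ≠ 0) : P.1 x = exp (-(P.ord x)) := by
  rw [Place.ord, neg_neg, exp_log (by simpa using hx)]

@[simp] lemma ord_zero : P.ord (0 : K) = 0 := by simp [Place.ord]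

@[simp] lemma ord_one : P.ord (1 : K) = 0 := by simp [Place.ord]

lemma ord_of_val_eq {x : K} {n : ℤ} (h : P.1 x = exp n) : P.ord x = -n := by simp [Place.ord, h]

lemma ord_mul {x y : K} (hx : x ≠ 0) (hy : y ≠ 0) : P.ord (x * y) = P.ord x + P.ord y := by
  simp only [Place.ord, map_mul]
  rw [log_mul (by simpa using hx) (by simpa using hy)]; ring

lemma ord_inv (x : K) : P.ord x⁻¹ = -P.ord x := by
  simp [Place.ord, map_inv₀, log_inv]

lemma ord_div {x y : K} (hx : x ≠ 0) (hy : y ≠ 0) : P.ord (x / y) = P.ord x - P.ord y := by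
  rw [div_eq_mul_inv, ord_mul P hx (inv_ne_zero hy), ord_inv]; ring

lemma ord_pow (x : K) (n : ℕ) : P.ord (x ^ n) = n * P.ord x := by
  simp [Place.ord, map_pow, log_pow]

lemma ord_zpow (x : K) (n : ℤ) : P.ord (x ^ n) = n * P.ord x := by
  simp [Place.ord, map_zpow₀, log_zpow]

lemma ord_const (c : k) : P.ord (algebraMap k K c) = 0 := by
  rcases eq_or_ne c 0 with rfl | hc
  · simp
  · simp [Place.ord, val_const P hc]

lemma ord_smul {c : k} (hc : c ≠ 0) (x : K) : P.ord (c • x) = P.ord x := by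
  simp [Place.ord, val_smul P hc]

lemma val_le_exp_iff {x : K} (hx : x ≠ 0) (n : ℤ) : P.1 x ≤ exp n ↔ -n ≤ P.ord x := by
  rw [val_eq_exp_ord P hx, exp_le_exp]; omega

lemma val_le_one_iff (x : K) : P.1 x ≤ 1 ↔ 0 ≤ P.ord x := by
  rcases eq_or_ne x 0 with rfl | hx
  · simp
  · rw [val_eq_exp_ord P hx, ← exp_zero, exp_le_exp]; omega

lemma val_lt_one_iff {x : K} (hx : x ≠ 0) : P.1 x < 1 ↔ 0 < P.ord x := by
  rw [val_eq_exp_ord P hx, ← exp_zero, exp_lt_exp]; omega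

lemma one_lt_val_iff (x : K) : 1 < P.1 x ↔ P.ord x < 0 := by
  rcases eq_or_ne x 0 with rfl | hx
  · simp
  · rw [val_eq_exp_ord P hx, ← exp_zero, exp_lt_exp]; omega

lemma val_eq_one_iff {x : K} (hx : x ≠ 0) : P.1 x = 1 ↔ P.ord x = 0 := by
  rw [val_eq_exp_ord P hx, ← exp_zero, exp_inj]; omega

lemma lt_exp_iff (y : ℤᵐ⁰) (n : ℤ) : y < exp n ↔ y ≤ exp (n - 1) := by
  rcases eq_or_ne y 0 with rfl | hy
  · simp
  · rw [← exp_log hy, exp_lt_exp, exp_le_exp]; omega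

lemma mem_O {x : K} : x ∈ P.O ↔ P.1 x ≤ 1 := Valuation.mem_valuationSubring_iff _ _

lemma mem_maximalIdeal {a : P.O} : a ∈ IsLocalRing.maximalIdeal P.O ↔ P.1 (a : K) < 1 := by
  rw [IsLocalRing.mem_maximalIdeal, mem_nonunits_iff]
  have ha : P.1 (a : K) ≤ 1 := (mem_O P).1 a.2
  constructor
  · intro h
    refine lt_of_le_of_ne ha fun h1 => h ?_
    have hne : (a : K) ≠ 0 := fun h0 => by simp [h0] at h1
    refine ⟨⟨a, ⟨(a : K)⁻¹, (mem_O P).2 (by simp [map_inv₀, h1])⟩, ?_, ?_⟩, rfl⟩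
    · exact Subtype.ext (mul_inv_cancel₀ hne)
    · exact Subtype.ext (inv_mul_cancel₀ hne)
  · intro h hu
    obtain ⟨b, hb⟩ := hu.exists_left_inv
    have : P.1 (b : K) * P.1 (a : K) = 1 := by
      rw [← map_mul]; exact (congrArg (fun z : P.O => P.1 (z : K)) hb).trans (map_one _)
    have h2 : P.1 (b : K) * P.1 (a : K) ≤ P.1 (a : K) :=
      (mul_le_mul_left ((mem_O P).1 b.2) _).trans_eq (one_mul _)
    rw [this] at h2
    exact absurd h2 (not_le.2 h)

lemma exists_unit_mul_zpow {t : K} (ht : P.1 t = exp (-1 : ℤ)) {x : K} (hx : x ≠ 0) :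
    ∃ u : K, P.1 u = 1 ∧ x = u * t ^ P.ord x := by
  have h0 := ne_zero_of_val_eq_exp P ht
  refine ⟨x * (t ^ P.ord x)⁻¹, ?_, ?_⟩
  · rw [map_mul, map_inv₀, map_zpow₀, ht, val_eq_exp_ord P hx, ← exp_zsmul, ← exp_neg, ← exp_add,
      ← exp_zero]
    simp
  · rw [mul_assoc, inv_mul_cancel₀ (zpow_ne_zero _ h0), mul_one]

/-- `k`-algebra map to the residue field. -/
noncomputable def resHom : P.O →ₐ[k] IsLocalRing.ResidueField P.O where
  __ := IsLocalRing.residue P.O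
  commutes' _ := rfl

lemma resHom_surjective : Function.Surjective (resHom P) := IsLocalRing.residue_surjective

lemma resHom_eq_zero_iff {a : P.O} : resHom P a = 0 ↔ P.1 (a : K) < 1 := by
  rw [← mem_maximalIdeal P]
  exact IsLocalRing.residue_eq_zero_iff a

@[simp] lemma coe_algebraMap_O (c : k) : ((algebraMap k P.O c : P.O) : K) = algebraMap k K c := rfl

lemma coe_smul_O (c : k) (a : P.O) : ((c • a : P.O) : K) = c • (a : K) := by
  rw [Algebra.smul_def, Algebra.smul_def]; rfl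

end Val

lemma ext_of_O {P Q : Place k K} (h : ∀ x : K, P.1 x ≤ 1 → Q.1 x ≤ 1) : P = Q := by
  obtain ⟨t, ht⟩ := exists_uniformizer P
  have h0 := ne_zero_of_val_eq_exp P ht
  have hu : ∀ u : K, P.1 u = 1 → Q.1 u = 1 := by
    intro u hu
    have hne : u ≠ 0 := fun e => by simp [e] at hu
    refine le_antisymm (h _ hu.le) ?_
    have h2 : Q.1 u⁻¹ ≤ 1 := h _ (by simp [map_inv₀, hu])
    rwa [map_inv₀, inv_le_one₀ (zero_lt_iff.2 (by simpa using hne))] at h2
  have key : ∀ x : K, x ≠ 0 → Q.ord x = P.ord x * Q.ord t := by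
    intro x hx
    obtain ⟨u, h1, h2⟩ := exists_unit_mul_zpow P ht hx
    have hne : u ≠ 0 := fun e => by simp [e] at h1
    have hQu : Q.ord u = 0 := (val_eq_one_iff Q hne).1 (hu u h1)
    conv_lhs => rw [h2]
    rw [ord_mul Q hne (zpow_ne_zero _ h0), hQu, ord_zpow, zero_add]
  have hpos : 0 ≤ Q.ord t := (val_le_one_iff Q t).1 (h t (by rw [ht, ← exp_zero, exp_le_exp]; omega))
  obtain ⟨s, hs⟩ := exists_uniformizer Q
  have h1 := key s (ne_zero_of_val_eq_exp Q hs)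
  rw [ord_of_val_eq Q hs, neg_neg] at h1
  have h2 : Q.ord t = 1 := (Int.eq_one_of_mul_eq_one_left hpos h1.symm)
  apply Subtype.ext
  ext x
  rcases eq_or_ne x 0 with rfl | hx
  · simp
  · rw [val_eq_exp_ord P hx, val_eq_exp_ord Q hx, key x hx, h2, mul_one]

lemma exists_sep_pair {P Q : Place k K} (h : P ≠ Q) : ∃ z : K, P.1 z < 1 ∧ 1 < Q.1 z := by
  obtain ⟨a, ha, ha'⟩ : ∃ a : K, P.1 a ≤ 1 ∧ 1 < Q.1 a := by
    by_contra! hc
    exact h (ext_of_O hc)
  obtain ⟨b, hb, hb'⟩ : ∃ b : K, Q.1 b ≤ 1 ∧ 1 < P.1 b := by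
    by_contra! hc
    exact h (ext_of_O hc).symm
  refine ⟨a / b, ?_, ?_⟩
  · rw [map_div₀]
    exact (div_lt_one₀ (lt_trans zero_lt_one hb')).2 (ha.trans_lt hb')
  · rw [map_div₀]
    have hb0 : b ≠ 0 := fun e => by simp [e] at hb'
    exact (one_lt_div₀ (zero_lt_iff.2 (by simpa using hb0))).2 (hb.trans_lt ha')

end Groth.Agent.FF
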