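import Groth.Agent.FF.ZetaCount

/-! The zeta series: logarithmic derivative, rationality, functional equation. -/

set_option autoImplicit false
set_option linter.style.haveILetI false
set_option linter.unusedSectionVars false

open FunFld WithZero PowerSeries

namespace Groth.Agent.FF.Zeta

/-- `N` are the coefficients of `X F'/F`. -/
def LogRec {R : Type*} [CommRing R] (F : PowerSeries R) (N : ℕ → R) : Prop :=
  d⁄dX R F = PowerSeries.mk (fun i => N (i + 1)) * F

section LogRec

variable {R : Type*} [CommRing R] {F G : PowerSeries R} {N M : ℕ → R}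

lemma LogRec.congr (h : LogRec F N) (hNM : ∀ i, 1 ≤ i → N i = M i) : LogRec F M := by
  unfold LogRec at *
  rw [h]; congr 2; funext i; exact hNM _ (by omega)

lemma LogRec.mul (hF : LogRec F N) (hG : LogRec G M) : LogRec (F * G) (N + M) := by
  unfold LogRec at *
  rw [Derivation.leibniz, hF, hG, smul_eq_mul, smul_eq_mul,
    show PowerSeries.mk (fun i => (N + M) (i + 1)) =
      PowerSeries.mk (fun i => N (i + 1)) + PowerSeries.mk (fun i => M (i + 1)) by ext i; simp]
  ring

lemma LogRec.one : LogRec (1 : PowerSeries R) 0 := by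
  unfold LogRec
  rw [Derivation.map_one_eq_zero, show PowerSeries.mk (fun i => (0 : ℕ → R) (i + 1)) = 0 by ext i; simp,
    zero_mul]

lemma LogRec.pow (hF : LogRec F N) (δ : ℕ) : LogRec (F ^ δ) ((δ : R) • N) := by
  induction δ with
  | zero => simpa using LogRec.one
  | succ δ ih =>
    rw [pow_succ]
    refine (ih.mul hF).congr fun i _ => ?_
    simp [add_mul]

lemma LogRec.prod {ι : Type*} (s : Finset ι) (Fs : ι → PowerSeries R) (Ns : ι → ℕ → R)
    (h : ∀ i ∈ s, LogRec (Fs i) (Ns i)) : LogRec (∏ i ∈ s, Fs i) (∑ i ∈ s, Ns i) := by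
  classical
  induction s using Finset.induction with
  | empty => simpa using LogRec.one
  | insert a s ha ih =>
    rw [Finset.prod_insert ha, Finset.sum_insert ha]
    exact (h a (Finset.mem_insert_self a s)).mul (ih fun i hi => h i (Finset.mem_insert_of_mem hi))

lemma LogRec.linear (α : R) : LogRec (1 - PowerSeries.C α * PowerSeries.X) (fun j => -α ^ j) := by
  unfold LogRec
  rw [map_sub, Derivation.map_one_eq_zero, Derivation.leibniz, PowerSeries.derivative_X,
    PowerSeries.derivative_C, smul_zero, add_zero, zero_sub, smul_eq_mul, mul_one, mul_sub, mul_one]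
  ext n
  rcases n with _ | n
  · simp
  · rw [map_sub, mul_left_comm, PowerSeries.coeff_C_mul, PowerSeries.coeff_succ_mul_X,
      PowerSeries.coeff_mk, PowerSeries.coeff_mk, map_neg, PowerSeries.coeff_C]
    simp [pow_succ]
    ring

lemma LogRec.recursion (h : LogRec F N) (n : ℕ) :
    ((n : R) + 1) * PowerSeries.coeff (n + 1) F =
      ∑ p ∈ Finset.HasAntidiagonal.antidiagonal n, N (p.1 + 1) * PowerSeries.coeff p.2 F := by
  have := congrArg (PowerSeries.coeff n) h
  rw [PowerSeries.coeff_derivative, PowerSeries.coeff_mul] at this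
  rw [mul_comm, this]
  simp

lemma LogRec.unique {F G : PowerSeries R} [IsDomain R] [CharZero R] (hF : LogRec F N) (hG : LogRec G N)
    (h0 : PowerSeries.constantCoeff F = PowerSeries.constantCoeff G) : F = G := by
  ext n
  induction n using Nat.strong_induction_on with
  | _ n ih =>
    rcases n with _ | n
    · simpa using h0
    · have h1 := LogRec.recursion hF n
      rw [Finset.sum_congr rfl fun p hp => by
        rw [ih p.2 (by rw [Finset.HasAntidiagonal.mem_antidiagonal] at hp; omega)], ← LogRec.recursion hG n] at h1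
      exact mul_left_cancel₀ (Nat.cast_add_one_ne_zero n) h1

lemma LogRec.unique_log {F : PowerSeries R} (hN : LogRec F N) (hM : LogRec F M)
    (h0 : PowerSeries.constantCoeff F = 1) {i : ℕ} (hi : 1 ≤ i) : N i = M i := by
  induction i using Nat.strong_induction_on with
  | _ i ih =>
    obtain ⟨j, rfl⟩ : ∃ j, i = j + 1 := ⟨i - 1, by omega⟩
    have h := (LogRec.recursion hN j).symm.trans (LogRec.recursion hM j)
    rw [Finset.Nat.sum_antidiagonal_eq_sum_range_succ_mk, Finset.Nat.sum_antidiagonal_eq_sum_range_succ_mk,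
      Finset.sum_range_succ, Finset.sum_range_succ] at h
    rw [Finset.sum_congr rfl fun p hp => by
      rw [ih (p + 1) (by rw [Finset.mem_range] at hp; omega) (by omega)]] at h
    simpa [h0] using h

lemma LogRec.map {S : Type*} [CommRing S] (f : R →+* S) (h : LogRec F N) :
    LogRec (PowerSeries.map f F) (fun i => f (N i)) := by
  unfold LogRec at *
  have h' := congrArg (PowerSeries.map f) h
  rw [map_mul, show PowerSeries.map f (PowerSeries.mk fun i => N (i + 1)) =
    PowerSeries.mk (fun i => f (N (i + 1))) by ext i; simp] at h'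
  rw [← h']
  ext i
  simp [PowerSeries.coeff_derivative, PowerSeries.coeff_map]

end LogRec

/-- A series that is eventually geometric of ratio `Q`. -/
lemma exists_poly_of_eventually {b : ℕ → ℤ} {Q R : ℤ} {M : ℕ} (h : ∀ m, M ≤ m → b (m + 1) - Q * b m = R) :
    ∃ p : Polynomial ℤ, (p : PowerSeries ℤ) =
      (1 - PowerSeries.X) * (1 - PowerSeries.C Q * PowerSeries.X) * PowerSeries.mk b ∧ p.eval 1 = R := by
  classical
  set B : PowerSeries ℤ := (1 - PowerSeries.C Q * PowerSeries.X) * PowerSeries.mk b with hB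
  set L : PowerSeries ℤ := (1 - PowerSeries.X) * B with hL
  have hBs : ∀ m, PowerSeries.coeff (m + 1) B = b (m + 1) - Q * b m := fun m => by
    rw [hB, sub_mul, one_mul, mul_assoc, map_sub, PowerSeries.coeff_C_mul,
      PowerSeries.coeff_succ_X_mul, PowerSeries.coeff_mk, PowerSeries.coeff_mk]
  have hLs : ∀ m, PowerSeries.coeff (m + 1) L = PowerSeries.coeff (m + 1) B - PowerSeries.coeff m B :=
    fun m => by rw [hL, sub_mul, one_mul, map_sub, PowerSeries.coeff_succ_X_mul]
  have htel : ∀ N, ∑ i ∈ Finset.range (N + 1), PowerSeries.coeff i L = PowerSeries.coeff N B := by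
    intro N
    induction N with
    | zero => rw [Finset.sum_range_one, hL, sub_mul, one_mul, map_sub]; simp
    | succ N ih => rw [Finset.sum_range_succ, ih, hLs]; ring
  have hvan : ∀ i, M + 2 ≤ i → PowerSeries.coeff i L = 0 := fun i hi => by
    obtain ⟨j, rfl⟩ : ∃ j, i = j + 2 := ⟨i - 2, by omega⟩
    rw [hLs, hBs, hBs, h _ (by omega), h _ (by omega), sub_self]
  refine ⟨PowerSeries.trunc (M + 2) L, ?_, ?_⟩
  · rw [mul_assoc, ← hB, ← hL]
    ext i
    rw [Polynomial.coeff_coe, PowerSeries.coeff_trunc]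
    split_ifs with hi
    · rfl
    · exact (hvan i (by omega)).symm
  · rw [Polynomial.eval_eq_sum_range' (n := M + 2)
      (by have := PowerSeries.natDegree_trunc_lt L (M + 1); omega)]
    simp only [one_pow, mul_one]
    rw [Finset.sum_congr rfl fun i hi => by
      rw [PowerSeries.coeff_trunc, if_pos (Finset.mem_range.1 hi)], htel, hBs, h _ le_rfl]

variable {k K : Type*} [Field k] [Field K] [Algebra k K] (hK : IsFunctionField k K)

/-- `∑_{deg P ∣ j} deg P`. -/
noncomputable def ptCount (k K : Type*) [Field k] [Field K] [Algebra k K] (j : ℕ) : ℕ :=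
  ∑ᶠ P ∈ {P : Place k K | P.deg ∣ j}, P.deg

/-- `(q - 1) a(n) + h`, extended to all integers. -/
noncomputable def genA (k K : Type*) [Field k] [Field K] [Algebra k K] (n : ℤ) : ℤ :=
  (if 0 ≤ n then ((Nat.card k : ℤ) - 1) * effDivCount k K n.toNat else 0) + classNum k K

include hK
variable [Finite k]

lemma genA_eq [Fintype (Cl0 k K)] {n : ℤ} (D₀ : Divisor k K) (hD₀ : D₀.deg = n) :
    genA k K n = ∑ c : Cl0 k K, (Nat.card k : ℤ) ^ ell (D₀ + rep c) := by
  have hh : (classNum k K : ℤ) = ∑ _c : Cl0 k K, (1 : ℤ) := by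
    rw [classNum, Finset.sum_const, Finset.card_univ, Nat.card_eq_fintype_card]; simp [Cl0]
  rw [genA]
  split_ifs with h
  · rw [card_effDiv_eq hK D₀ (by omega), hh, ← Finset.sum_add_distrib]
    simp
  · rw [zero_add, hh]
    refine Finset.sum_congr rfl fun c _ => ?_
    rw [ell_eq_zero_of_deg_neg hK (by rw [deg_add, deg_rep, hD₀]; omega), pow_zero]

lemma genA_of_ge {n : ℕ} (hn : 2 * genus k K ≤ n + 1) (D₀ : Divisor k K) (hD₀ : D₀.deg = n) :
    genA k K n = classNum k K * (Nat.card k : ℤ) ^ (n + 1 - genus k K) := by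
  haveI := finite_cl0 hK
  haveI := Fintype.ofFinite (Cl0 k K)
  rw [genA_eq hK D₀ hD₀, classNum]
  have h : ∀ c : Cl0 k K, ell (D₀ + rep c) = n + 1 - genus k K := fun c => by
    have := ell_eq_of_deg_ge hK (D := D₀ + rep c) (by rw [deg_add, deg_rep, hD₀]; omega)
    rw [deg_add, deg_rep, hD₀] at this
    omega
  simp [h, Cl0]

omit [Finite k] hK in
lemma card_ge_two (k : Type*) [Field k] [Finite k] : 2 ≤ (Nat.card k : ℤ) := by
  exact_mod_cast Finite.one_lt_card

omit hK in
lemma classNum_pos (hK : IsFunctionField k K) : 0 < classNum k K := by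
  haveI := finite_cl0 hK
  exact Nat.card_pos

lemma genA_reflect (hsurj : ∀ n : ℤ, ∃ D : Divisor k K, D.deg = n) (n : ℤ) :
    (genA k K n : ℚ) = (Nat.card k : ℚ) ^ (n + 1 - genus k K) * genA k K (2 * genus k K - 2 - n) := by
  haveI := finite_cl0 hK
  haveI := Fintype.ofFinite (Cl0 k K)
  obtain ⟨D₀, hD₀⟩ := hsurj n
  obtain ⟨C, hC⟩ := exists_canonical hK
  have hCd := deg_canonical hK hC
  have hq : (Nat.card k : ℚ) ≠ 0 := by exact_mod_cast Nat.card_pos.ne'
  rw [genA_eq hK D₀ hD₀, genA_eq hK (C - D₀) (by rw [deg_sub, hCd, hD₀]), Int.cast_sum, Int.cast_sum,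
    Finset.mul_sum]
  refine Fintype.sum_equiv (Equiv.neg _) _ _ fun c => ?_
  simp only [Equiv.neg_apply, Int.cast_pow, Int.cast_natCast]
  have hneg : cls (-rep c) (by rw [deg_neg, deg_rep, neg_zero]) = -c := by
    conv_rhs => rw [← cls_rep c]
    rfl
  have hell : ell (C - D₀ + rep (-c)) = ell (C - (D₀ + rep c)) := by
    rw [ell_eq_of_cls_eq hK (C - D₀) _ hneg]
    congr 1; abel
  have hrr := riemann_roch hK hC (D₀ + rep c)
  rw [deg_add, deg_rep, hD₀, add_zero] at hrr
  rw [hell, ← zpow_natCast, ← zpow_natCast, ← zpow_add₀ hq]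
  congr 1

omit hK in
lemma coeff_numerZ_mul (i : ℕ) :
    ((Nat.card k : ℤ) - 1) * PowerSeries.coeff i (numerZ k K) =
      genA k K i - ((Nat.card k : ℤ) + 1) * genA k K ((i : ℤ) - 1) + (Nat.card k : ℤ) * genA k K ((i : ℤ) - 2) := by
  rw [numerZ, zetaZ]
  set q : ℤ := (Nat.card k : ℤ)
  rw [show (1 - PowerSeries.X) * (1 - PowerSeries.C q * PowerSeries.X) =
    (1 : PowerSeries ℤ) - PowerSeries.C (q + 1) * PowerSeries.X +
      PowerSeries.C q * (PowerSeries.X * PowerSeries.X) by rw [map_add, map_one]; ring]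
  simp only [add_mul, sub_mul, one_mul, mul_assoc, map_add, map_sub, PowerSeries.coeff_C_mul]
  rcases i with _ | _ | i
  · simp [genA]; ring
  · simp [genA, PowerSeries.coeff_succ_X_mul]; ring
  · rw [PowerSeries.coeff_succ_X_mul, PowerSeries.coeff_succ_X_mul, PowerSeries.coeff_succ_X_mul,
      PowerSeries.coeff_mk, PowerSeries.coeff_mk, PowerSeries.coeff_mk]
    simp only [genA]
    rw [if_pos (by omega), if_pos (by omega), if_pos (by omega),
      show ((i + 1 + 1 : ℕ) : ℤ).toNat = i + 1 + 1 by omega,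
      show (((i + 1 + 1 : ℕ) : ℤ) - 1).toNat = i + 1 by omega,
      show (((i + 1 + 1 : ℕ) : ℤ) - 2).toNat = i by omega]
    ring

omit hK in
lemma sum_dvd_Icc {d n : ℕ} (hd : 0 < d) (φ : ℕ → ℕ) :
    ∑ j ∈ (Finset.Icc 1 n).filter (fun j => d ∣ j), φ j =
      ∑ i ∈ (Finset.Icc 1 n).filter (fun i => i * d ≤ n), φ (i * d) := by
  refine Finset.sum_bij' (fun j _ => j / d) (fun i _ => i * d) ?_ ?_ ?_ ?_ ?_
  · intro j hj
    simp only [Finset.mem_filter, Finset.mem_Icc] at hj ⊢
    obtain ⟨⟨h1, h2⟩, c, rfl⟩ := hj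
    rw [Nat.mul_div_cancel_left c hd, mul_comm c d]
    have : c ≠ 0 := fun e => by subst e; omega
    exact ⟨⟨by omega, (Nat.le_mul_of_pos_left c hd).trans h2⟩, h2⟩
  · intro i hi
    simp only [Finset.mem_filter, Finset.mem_Icc] at hi ⊢
    exact ⟨⟨Nat.mul_pos (by omega : 0 < i) hd, hi.2⟩, dvd_mul_left _ _⟩
  · intro j hj
    exact Nat.div_mul_cancel (Finset.mem_filter.1 hj).2
  · intro i _
    exact Nat.mul_div_cancel i hd
  · intro j hj
    rw [Nat.div_mul_cancel (Finset.mem_filter.1 hj).2]

lemma effDivCount_recursion (n : ℕ) :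
    n * effDivCount k K n = ∑ j ∈ Finset.Icc 1 n, ptCount k K j * effDivCount k K (n - j) := by
  classical
  haveI := finite_effDiv hK.1 n
  haveI := Fintype.ofFinite {D : Divisor k K // 0 ≤ D ∧ D.deg = n}
  set E := {D : Divisor k K // 0 ≤ D ∧ D.deg = n}
  set S := (finite_deg_le hK.1 n).toFinset with hS
  have hmemS : ∀ P : Place k K, P ∈ S ↔ P.deg ≤ n := fun P => Set.Finite.mem_toFinset _
  have hnn : ∀ (G : E) (P : Place k K), 0 ≤ G.1 P := fun G P => by
    have := G.2.1 P; simpa using this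
  have h1 : ∀ G : E, (n : ℤ) = ∑ P ∈ S, G.1 P * P.deg := fun G => by
    refine G.2.2.symm.trans ?_
    rw [Divisor.deg]
    refine Finsupp.sum_of_support_subset G.1 ?_ _ fun P _ => zero_mul _
    intro P hP
    rw [hmemS]
    have hle := single_coeff_le G.2.1 P
    rw [G.2.2] at hle
    have h2 : 1 ≤ G.1 P := by
      have := hnn G P
      have := Finsupp.mem_support_iff.1 hP
      omega
    have : (P.deg : ℤ) ≤ G.1 P * P.deg := le_mul_of_one_le_left (by omega) h2
    omega
  have hcnt : ∀ (P : Place k K) (i : ℕ), 1 ≤ i → i * P.deg ≤ n →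
      ((Finset.univ.filter fun G : E => (i : ℤ) ≤ G.1 P).card = effDivCount k K (n - i * P.deg)) := by
    intro P i hi hle
    rw [effDivCount, ← Fintype.card_subtype, ← Nat.card_eq_fintype_card]
    refine Nat.card_congr
      { toFun := fun G => ⟨G.1.1 - Finsupp.single P (i : ℤ), fun R => by
            rw [Finsupp.coe_zero, Pi.zero_apply, Finsupp.sub_apply, Finsupp.single_apply]
            split_ifs with e
            · subst e; have := G.2; omega
            · have := hnn G.1 R; omega, by
          rw [deg_sub, deg_single, G.1.2.2, Nat.cast_sub hle]; push_cast; ring⟩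
        invFun := fun H => ⟨⟨H.1 + Finsupp.single P (i : ℤ),
            add_nonneg H.2.1 (Finsupp.single_nonneg.2 (by omega)), by
          rw [deg_add, deg_single, H.2.2, Nat.cast_sub hle]; push_cast; ring⟩, by
          show (i : ℤ) ≤ (H.1 + Finsupp.single P (i : ℤ)) P
          rw [Finsupp.add_apply, Finsupp.single_eq_same]
          have := H.2.1 P
          simp only [Finsupp.coe_zero, Pi.zero_apply] at this
          omega⟩
        left_inv := fun G => Subtype.ext (Subtype.ext (sub_add_cancel _ _))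
        right_inv := fun H => Subtype.ext (add_sub_cancel_right _ _) }
  have h2 : ∀ P ∈ S, ∑ G : E, (G.1 P).toNat * P.deg =
      ∑ j ∈ (Finset.Icc 1 n).filter (fun j => P.deg ∣ j), P.deg * effDivCount k K (n - j) := by
    intro P hP
    have hd := deg_pos hK.1 P
    rw [sum_dvd_Icc hd]
    have hb : ∀ G : E, (G.1 P).toNat * P.deg =
        ∑ i ∈ (Finset.Icc 1 n).filter (fun i => i * P.deg ≤ n), if (i : ℤ) ≤ G.1 P then P.deg else 0 := by
      intro G
      rw [← Finset.sum_filter, Finset.sum_const, smul_eq_mul]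
      congr 1
      have hle := single_coeff_le G.2.1 P
      rw [G.2.2] at hle
      have h0 := hnn G P
      rw [show ((Finset.Icc 1 n).filter (fun i => i * P.deg ≤ n)).filter (fun i : ℕ => (i : ℤ) ≤ G.1 P) =
        Finset.Icc 1 (G.1 P).toNat from ?_, Nat.card_Icc]
      · omega
      ext i
      simp only [Finset.mem_filter, Finset.mem_Icc]
      constructor
      · rintro ⟨⟨⟨a, -⟩, -⟩, c⟩; exact ⟨a, by omega⟩
      · rintro ⟨a, b⟩
        have hi2 : (i : ℤ) * P.deg ≤ G.1 P * P.deg := mul_le_mul_of_nonneg_right (by omega) (by omega)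
        have hi3 : i ≤ i * P.deg := Nat.le_mul_of_pos_right i hd
        have hi4 : i * P.deg ≤ n := by zify; omega
        exact ⟨⟨⟨a, hi3.trans hi4⟩, hi4⟩, by omega⟩
    rw [Finset.sum_congr rfl fun G _ => hb G, Finset.sum_comm]
    refine Finset.sum_congr rfl fun i hi => ?_
    simp only [Finset.mem_filter, Finset.mem_Icc] at hi
    rw [← Finset.sum_filter, Finset.sum_const, smul_eq_mul, hcnt P i hi.1.1 hi.2, mul_comm]
  have hpt : ∀ j ∈ Finset.Icc 1 n, ptCount k K j = ∑ P ∈ S.filter (fun P => P.deg ∣ j), P.deg := by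
    intro j hj
    rw [Finset.mem_Icc] at hj
    rw [ptCount]
    refine finsum_mem_eq_sum_of_inter_support_eq _ ?_
    ext P
    simp only [Set.mem_inter_iff, Set.mem_setOf_eq, Finset.coe_filter, hmemS, Function.mem_support]
    exact ⟨fun h => ⟨⟨(Nat.le_of_dvd (by omega) h.1).trans hj.2, h.1⟩, h.2⟩, fun h => ⟨h.1.2, h.2⟩⟩
  have h3 : n * effDivCount k K n = ∑ G : E, ∑ P ∈ S, (G.1 P).toNat * P.deg := by
    have : ∀ G : E, ∑ P ∈ S, (G.1 P).toNat * P.deg = n := fun G => by
      zify
      refine Eq.trans ?_ (h1 G).symm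
      refine Finset.sum_congr rfl fun P _ => ?_
      rw [Int.toNat_of_nonneg (hnn G P)]
    rw [Finset.sum_congr rfl fun G _ => this G, Finset.sum_const, Finset.card_univ, smul_eq_mul,
      effDivCount, Nat.card_eq_fintype_card, mul_comm]
  rw [Finset.sum_congr rfl fun j hj => by rw [hpt j hj, Finset.sum_mul], h3, Finset.sum_comm,
    Finset.sum_congr rfl h2]
  simp only [Finset.sum_filter]
  exact Finset.sum_comm

lemma effDivCount_zero : effDivCount k K 0 = 1 := by
  rw [effDivCount, Nat.card_eq_one_iff_unique]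
  refine ⟨⟨fun a b => ?_⟩, ⟨⟨0, le_rfl, deg_zero'⟩⟩⟩
  have key : ∀ G : {D : Divisor k K // 0 ≤ D ∧ D.deg = (0 : ℕ)}, G.1 = 0 := fun G => Finsupp.ext fun P => by
    have h := single_coeff_le G.2.1 P
    rw [G.2.2] at h
    have h0 : (0 : ℤ) ≤ G.1 P := G.2.1 P
    have hd : (1 : ℤ) ≤ P.deg := by exact_mod_cast deg_pos hK.1 P
    have : G.1 P ≤ G.1 P * P.deg := le_mul_of_one_le_right h0 hd
    simp only [Finsupp.coe_zero, Pi.zero_apply]
    omega
  exact Subtype.ext ((key a).trans (key b).symm)

lemma logRec_zetaZ : LogRec (zetaZ k K) (fun j => (ptCount k K j : ℤ)) := by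
  unfold LogRec
  ext n
  rw [PowerSeries.coeff_derivative, PowerSeries.coeff_mul, zetaZ]
  simp only [PowerSeries.coeff_mk]
  have h := effDivCount_recursion hK (n + 1)
  zify at h
  rw [mul_comm]
  push_cast at h
  rw [show (↑n + 1 : ℤ) * (effDivCount k K (n + 1) : ℤ) = _ from h,
    Finset.Nat.sum_antidiagonal_eq_sum_range_succ_mk, Finset.range_eq_Ico,
    show Finset.Icc 1 (n + 1) = Finset.Ico 1 (n + 2) by ext; simp; omega, Finset.sum_Ico_eq_sum_range,
    Finset.sum_Ico_eq_sum_range]
  refine Finset.sum_congr (by simp) fun i hi => ?_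
  simp only [Nat.sub_zero, zero_add]
  rw [show n + 1 - (1 + i) = n - i by omega, add_comm 1 i]

end Groth.Agent.FF.Zeta
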