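import Groth.Agent.FF.GalRam
import Groth.Agent.FF.ZetaSeries
import Mathlib.FieldTheory.Finite.Extension

/-! Constant field extensions over a finite field. -/

set_option autoImplicit false
set_option linter.style.haveILetI false
set_option linter.unusedSectionVars false

open FunFld WithZero Polynomial

namespace Groth.Agent.FF.CE

variable {k K k' K' : Type*} [Field k] [Field K] [Algebra k K] [Field k'] [Field K'] [Algebra k k']
  [Algebra K K'] [Algebra k' K'] [Algebra k K'] [IsScalarTower k K K'] [IsScalarTower k k' K']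

variable [Finite k] [Finite k']

lemma finiteDimensional (hce : IsConstExt k K k' K') : FiniteDimensional K K' := by
  haveI : Module.Finite k k' := Module.Finite.of_finite
  exact Module.finite_of_finrank_pos (hce.2.2 ▸ Module.finrank_pos)

lemma isGalois (hce : IsConstExt k K k' K') : IsGalois K K' := by
  classical
  haveI := finiteDimensional hce
  haveI := Fintype.ofFinite k'
  set Q := Fintype.card k' with hQ
  let p := ringChar k'
  haveI : CharP K' p := charP_of_injective_algebraMap (algebraMap k' K').injective p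
  haveI : CharP K p := ((algebraMap K K').charP_iff (algebraMap K K').injective p).2 inferInstance
  have hp : p ∣ Q := (CharP.cast_eq_zero_iff k' p Q).1 (Nat.cast_card_eq_zero k')
  have hQ1 : 1 < Q := Fintype.one_lt_card
  have hne : (X ^ Q - X : K[X]) ≠ 0 := FiniteField.X_pow_card_sub_X_ne_zero K hQ1
  haveI : (X ^ Q - X : K[X]).IsSplittingField K K' := by
    refine ⟨?_, ?_⟩
    · have h : ((X ^ Q - X : k'[X])).Splits := by
        rw [Polynomial.splits_iff_card_roots, FiniteField.roots_X_pow_card_sub_X k',
          FiniteField.X_pow_card_sub_X_natDegree_eq k' hQ1]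
        rfl
      have := h.map (algebraMap k' K')
      simpa using this
    · rw [eq_top_iff, ← hce.2.1]
      refine Algebra.adjoin_mono ?_
      rintro _ ⟨c, rfl⟩
      rw [Polynomial.mem_rootSet]
      refine ⟨hne, ?_⟩
      rw [map_sub, Polynomial.aeval_X_pow, Polynomial.aeval_X, ← map_pow, hQ, FiniteField.pow_card, sub_self]
  exact IsGalois.of_separable_splitting_field (galois_poly_separable p Q hp)

/-- Automorphisms over `K` are determined by their values on the new constants. -/
lemma ext_const (hce : IsConstExt k K k' K') {σ : K' ≃ₐ[K] K'}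
    (h : ∀ c : k', σ (algebraMap k' K' c) = algebraMap k' K' c) : σ = 1 := by
  refine AlgEquiv.ext fun x => ?_
  have hx : x ∈ Algebra.adjoin K (Set.range (algebraMap k' K')) := by rw [hce.2.1]; trivial
  induction hx using Algebra.adjoin_induction with
  | mem x hx => obtain ⟨c, rfl⟩ := hx; exact h c
  | algebraMap r => simp
  | add x y _ _ hx hy => simp only [map_add, hx, hy, AlgEquiv.one_apply]
  | mul x y _ _ hx hy => simp only [map_mul, hx, hy, AlgEquiv.one_apply]

lemma exists_res (σ : K' ≃ₐ[K] K') (c : k') :
    ∃ c' : k', σ (algebraMap k' K' c) = algebraMap k' K' c' := by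
  classical
  haveI := Fintype.ofFinite k'
  set Q := Fintype.card k'
  have hQ1 : 1 < Q := Fintype.one_lt_card
  have hne : (X ^ Q - X : K'[X]) ≠ 0 := FiniteField.X_pow_card_sub_X_ne_zero K' hQ1
  have hspl : (X ^ Q - X : K'[X]) = ∏ c : k', (X - C (algebraMap k' K' c)) := by
    have h : (X ^ Q - X : k'[X]) = ∏ c : k', (X - C c) := by
      have hs : ((X ^ Q - X : k'[X])).Splits := by
        rw [Polynomial.splits_iff_card_roots, FiniteField.roots_X_pow_card_sub_X k',
          FiniteField.X_pow_card_sub_X_natDegree_eq k' hQ1]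
        rfl
      conv_lhs => rw [hs.eq_prod_roots_of_monic (monic_X_pow_sub (by
        rw [degree_X]; exact_mod_cast hQ1)), FiniteField.roots_X_pow_card_sub_X k']
      rfl
    have h2 := congrArg (Polynomial.map (algebraMap k' K')) h
    simpa [Polynomial.map_prod] using h2
  have hroot : (X ^ Q - X : K'[X]).eval (σ (algebraMap k' K' c)) = 0 := by
    simp [← map_pow, Q, FiniteField.pow_card]
  rw [hspl, eval_prod, Finset.prod_eq_zero_iff] at hroot
  obtain ⟨c', -, hc'⟩ := hroot
  exact ⟨c', by simpa [sub_eq_zero] using hc'⟩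

lemma res_injective (Q : Place k K') (c c' : k')
    (h : Q.1 (algebraMap k' K' c - algebraMap k' K' c') < 1) : c = c' := by
  by_contra hne
  rw [← map_sub] at h
  have := val_eq_one_of_isAlgebraic (k := k) Q.1 (fun a ha => val_const Q ha)
    (y := algebraMap k' K' (c - c')) ((Algebra.IsAlgebraic.isAlgebraic (c - c')).algebraMap)
    (by simpa [sub_eq_zero] using hne)
  rw [this] at h
  exact lt_irrefl _ h

/-- A place over `k` is a place over `k'`. -/
def toTop (Q : Place k K') : Place k' K' :=
  ⟨Q.1, fun c => by
    rcases eq_or_ne c 0 with rfl | hc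
    · simp
    · haveI : Module.Finite k k' := Module.Finite.of_finite
      exact (val_eq_one_of_isAlgebraic (k := k) Q.1 (fun a ha => val_const Q ha)
        ((Algebra.IsAlgebraic.isAlgebraic c).algebraMap) (by simpa using hc)).le, Q.2.2⟩

/-- A place over `k'` is a place over `k`. -/
def toBot (Q : Place k' K') : Place k K' :=
  ⟨Q.1, fun c => by rw [IsScalarTower.algebraMap_apply k k' K']; exact Q.2.1 _, Q.2.2⟩

lemma deg_toBot (Q : Place k' K') : (toBot (k := k) Q).deg = Module.finrank k k' * Q.deg := by
  let F := IsLocalRing.ResidueField Q.O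
  letI : Module k' F := Algebra.toModule
  letI : Algebra k F := ((algebraMap k' F).comp (algebraMap k k')).toAlgebra
  letI : Module k F := Algebra.toModule
  haveI : IsScalarTower k k' F := IsScalarTower.of_algebraMap_eq fun _ => rfl
  have h : Module.finrank k k' * Module.finrank k' F = Module.finrank k F :=
    Module.finrank_mul_finrank k k' F
  refine Eq.trans ?_ h.symm
  let e : IsLocalRing.ResidueField (toBot (k := k) Q).O ≃ₗ[k] F :=
    { (RingEquiv.refl F).toAddEquiv with
      map_smul' := fun c x => by
        obtain ⟨a, rfl⟩ := IsLocalRing.residue_surjective x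
        exact congrArg (IsLocalRing.residue Q.O) (Subtype.ext (show
          algebraMap k K' c * (a : K') = algebraMap k' K' (algebraMap k k' c) * (a : K') by
            rw [← IsScalarTower.algebraMap_apply k k' K'])) }
  exact e.finrank_eq

variable (hK : IsFunctionField k K) (hce : IsConstExt k K k' K')

include hK hce

lemma local_structure {P : Place k K} {Q : Place k K'} (h : IsOver Q P) :
    IsOverWith Q P 1 ∧ Nat.card {Q' : Place k K' // IsOver Q' P} = Nat.gcd P.deg (Module.finrank k k') ∧
      Q.deg * Nat.gcd P.deg (Module.finrank k k') = Module.finrank k k' * P.deg := by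
  classical
  haveI := finiteDimensional hce
  haveI := isGalois hce
  haveI : Module.Finite k k' := Module.Finite.of_finite
  set F := IsLocalRing.ResidueField Q.O
  letI : Module k F := Algebra.toModule
  have hK' : IsFF k K' := isFF_ext hK.1
  haveI : Module.Finite k F := finiteDimensional_residueField hK' Q
  haveI : Finite F := Module.finite_of_finite k
  haveI : Algebra.IsSeparable k F := inferInstance
  obtain ⟨e, he⟩ := h
  set n := Module.finrank k k'
  set d := P.deg
  set D := (Q.O).decompositionSubgroup K
  have hI : inertiaG (K := K) Q = ⊥ := by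
    rw [Subgroup.eq_bot_iff_forall]
    intro σ hσ
    refine ext_const hce fun c => ?_
    obtain ⟨c', hc'⟩ := exists_res σ c
    have hc1 : Q.1 (algebraMap k' K' c) ≤ 1 := (toTop Q).2.1 c
    have h1 := (inertia_map_iff Q σ).1 hσ _ hc1
    rw [hc', le_exp_neg_one_iff] at h1
    rw [hc', res_injective Q c' c h1]
  have he1 : e = 1 := by
    rw [← card_inertia hK.1 he, hI, Subgroup.card_bot]
  subst he1
  have hov : IsOver Q P := ⟨1, he⟩
  have hDd : Nat.card D * d = Q.deg := by rw [card_decomposition_mul_deg hK.1 he, one_mul]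
  -- `n ∣ deg Q`
  have hnQ : n ∣ Q.deg := ⟨(toTop (k' := k') Q).deg, deg_toBot (k := k) (toTop (k' := k') Q)⟩
  have hGn : Nat.card (K' ≃ₐ[K] K') = n := by rw [IsGalois.card_aut_eq_finrank, hce.2.2]
  -- restriction to the constants
  choose res hres using fun σ : K' ≃ₐ[K] K' => exists_res (k' := k') σ
  have hresA : ∀ σ : K' ≃ₐ[K] K', ∃ ρ : k' ≃ₐ[k] k', ∀ c, σ (algebraMap k' K' c) = algebraMap k' K' (ρ c) := fun σ => by
    let f : k' →ₐ[k] k' :=
      { toFun := res σ
        map_one' := (algebraMap k' K').injective (by rw [← hres]; simp)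
        map_mul' := fun a b => (algebraMap k' K').injective (by rw [← hres, map_mul, map_mul, map_mul, hres, hres])
        map_zero' := (algebraMap k' K').injective (by rw [← hres]; simp)
        map_add' := fun a b => (algebraMap k' K').injective (by rw [← hres, map_add, map_add, map_add, hres, hres])
        commutes' := fun a => (algebraMap k' K').injective (by
          rw [← hres, ← IsScalarTower.algebraMap_apply, IsScalarTower.algebraMap_apply k K K', σ.commutes]) }
    exact ⟨AlgEquiv.ofBijective f (Finite.injective_iff_bijective.1 (RingHom.injective f.toRingHom)), hres σ⟩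
  choose ρ hρ using hresA
  have hρinj : Function.Injective ρ := fun σ τ hst => by
    have h1 : τ⁻¹ * σ = 1 := ext_const hce fun c => by
      rw [AlgEquiv.mul_apply, hρ, hst, ← hρ]
      exact τ.symm_apply_apply _
    exact (inv_mul_eq_one.1 h1).symm
  -- the subfield fixed by the decomposition group
  haveI := Fintype.ofFinite k
  let φ := FiniteField.frobeniusAlgEquivOfAlgebraic k k'
  set g := Nat.gcd d n with hg
  have hgn : g ∣ n := Nat.gcd_dvd_right d n
  have hφ : orderOf φ = n := FiniteField.orderOf_frobeniusAlgEquivOfAlgebraic k k'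
  let H := Subgroup.zpowers (φ ^ g)
  have hgpos : 0 < g := Nat.gcd_pos_of_pos_left n (deg_pos hK.1 P)
  have hHcard : Nat.card H = n / g := by
    rw [Nat.card_zpowers, orderOf_pow' _ hgpos.ne', hφ, Nat.gcd_eq_right hgn]
  let E := IntermediateField.fixedField H
  have hEcard : Module.finrank k E = g := by
    have h1 : Module.finrank E k' = n / g := by rw [IntermediateField.finrank_fixedField_eq_card, hHcard]
    have h2 := Module.finrank_mul_finrank k E k'
    rw [h1] at h2
    have h3 : 0 < n / g := Nat.div_pos (Nat.le_of_dvd Module.finrank_pos hgn) hgpos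
    exact Nat.eq_of_mul_eq_mul_right h3 (h2.trans (Nat.mul_div_cancel' hgn).symm)
  have hEpow : ∀ c ∈ E, c ^ (Nat.card k) ^ d = c := by
    intro c hc
    haveI : Finite E := Subtype.finite
    haveI := Fintype.ofFinite E
    obtain ⟨a, ha⟩ := Nat.gcd_dvd_left d n
    have hcd : (⟨c, hc⟩ : E) ^ (Fintype.card E) ^ a = ⟨c, hc⟩ := FiniteField.pow_card_pow a _
    have hce' : Fintype.card E = Nat.card k ^ g := by
      rw [← Nat.card_eq_fintype_card, Module.natCard_eq_pow_finrank (K := k), hEcard]
    rw [hce', ← pow_mul] at hcd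
    rw [ha]
    exact congrArg Subtype.val hcd
  -- elements of `D` fix `E`
  have hfix : ∀ σ ∈ D, ρ σ ∈ IntermediateField.fixingSubgroup E := by
    intro σ hσ
    rw [IntermediateField.mem_fixingSubgroup_iff]
    intro c hc
    have hc1 : Q.1 (algebraMap k' K' c) ≤ 1 := (toTop Q).2.1 c
    set y : F := resHom Q ⟨algebraMap k' K' c, (mem_O Q).2 hc1⟩ with hy
    have hyp : y ^ (Nat.card k) ^ d = y := by
      rw [hy, ← map_pow]
      congr 1
      exact Subtype.ext (by rw [SubmonoidClass.coe_pow, ← map_pow, hEpow c hc])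
    obtain ⟨b, hb⟩ : ∃ b : P.O, resEmb hov (resHom P b) = y := by
      letI : Module k (IsLocalRing.ResidueField P.O) := Algebra.toModule
      haveI : Module.Finite k (IsLocalRing.ResidueField P.O) := finiteDimensional_residueField hK.1 P
      haveI : Finite (IsLocalRing.ResidueField P.O) := Module.finite_of_finite k
      haveI := Fintype.ofFinite (IsLocalRing.ResidueField P.O)
      have hcardP : Fintype.card (IsLocalRing.ResidueField P.O) = Nat.card k ^ d := by
        rw [← Nat.card_eq_fintype_card, Module.natCard_eq_pow_finrank (K := k)]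
        rfl
      let T : Finset F := Finset.univ.image (resEmb hov)
      have hT : T.card = Nat.card k ^ d := by
        have hinjR : Function.Injective (resEmb hov) := (resEmb hov).toRingHom.injective
        rw [Finset.card_image_of_injective _ hinjR, Finset.card_univ, hcardP]
      have hq1 : 1 < Nat.card k ^ d := Nat.one_lt_pow (deg_pos hK.1 P).ne' Finite.one_lt_card
      set f : F[X] := X ^ (Nat.card k ^ d) - X
      have hf0 : f ≠ 0 := FiniteField.X_pow_card_sub_X_ne_zero F hq1
      have hsub : insert y T ⊆ f.roots.toFinset := by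
        intro z hz
        rw [Multiset.mem_toFinset, mem_roots hf0, IsRoot]
        rcases Finset.mem_insert.1 hz with rfl | hz
        · rw [eval_sub, eval_pow, eval_X, hyp, sub_self]
        · obtain ⟨u, -, rfl⟩ := Finset.mem_image.1 hz
          rw [eval_sub, eval_pow, eval_X, ← map_pow, ← hcardP, FiniteField.pow_card, sub_self]
      have hle := (Finset.card_le_card hsub).trans ((Multiset.toFinset_card_le _).trans (card_roots' f))
      rw [FiniteField.X_pow_card_sub_X_natDegree_eq F hq1] at hle
      by_contra hno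
      have hyT : y ∉ T := fun hyT => by
        obtain ⟨u, -, hu⟩ := Finset.mem_image.1 hyT
        obtain ⟨b, rfl⟩ := resHom_surjective P u
        exact hno ⟨b, hu⟩
      rw [Finset.card_insert_of_notMem hyT, hT] at hle
      omega
    rw [resEmb_res, hy, ← sub_eq_zero, ← map_sub, resHom_eq_zero_iff] at hb
    have hb' : Q.1 (algebraMap K K' (b : K) - algebraMap k' K' c) < 1 := hb
    have h3 : Q.1 (algebraMap K K' (b : K) - algebraMap k' K' (ρ σ c)) < 1 := by
      have := hb'
      rw [← le_one_of_mem_decomposition hσ, map_sub, σ.commutes, hρ] at this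
      exact this
    symm
    refine res_injective Q c (ρ σ c) ?_
    rw [show algebraMap k' K' c - algebraMap k' K' (ρ σ c) =
      (algebraMap K K' (b : K) - algebraMap k' K' (ρ σ c)) - (algebraMap K K' (b : K) - algebraMap k' K' c) by ring]
    exact (Q.1.map_sub _ _).trans_lt (max_lt h3 hb')
  have hDle : Nat.card D ≤ n / g := by
    rw [← hHcard, ← IntermediateField.fixingSubgroup_fixedField H]
    exact Nat.card_le_card_of_injective (fun σ : D => (⟨ρ σ.1, hfix σ.1 σ.2⟩ : IntermediateField.fixingSubgroup E))
      fun σ τ hst => Subtype.ext (hρinj (congrArg Subtype.val hst))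
  have hDge : n / g ≤ Nat.card D := by
    have h1 : n ∣ Nat.card D * d := hDd ▸ hnQ
    refine Nat.le_of_dvd Nat.card_pos ?_
    have hco : Nat.Coprime (n / g) (d / g) := by
      rw [Nat.coprime_comm]; exact Nat.coprime_div_gcd_div_gcd hgpos
    refine hco.dvd_of_dvd_mul_right ?_
    obtain ⟨a, ha⟩ := Nat.gcd_dvd_left d n
    rw [← hg] at ha
    obtain ⟨b, hb⟩ := hgn
    rw [ha, hb, ← mul_assoc, mul_comm (Nat.card D) g, mul_assoc] at h1
    rw [ha, hb, Nat.mul_div_cancel_left _ hgpos, Nat.mul_div_cancel_left _ hgpos]
    exact Nat.dvd_of_mul_dvd_mul_left hgpos h1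
  have hDeq : Nat.card D = n / g := le_antisymm hDle hDge
  refine ⟨he, ?_, ?_⟩
  · have h1 := card_over_mul_card_decomposition hK.1 (⟨1, he⟩ : IsOver Q P)
    rw [hce.2.2, hDeq] at h1
    have h3 : 0 < n / g := Nat.div_pos (Nat.le_of_dvd Module.finrank_pos hgn) hgpos
    exact Nat.eq_of_mul_eq_mul_right h3 (h1.trans (Nat.mul_div_cancel' hgn).symm)
  · rw [← hDd, hDeq, mul_right_comm, Nat.div_mul_cancel hgn]

lemma ptCount_constExt {m : ℕ} (hm : 1 ≤ m) :
    Zeta.ptCount k' K' m = Zeta.ptCount k K (Module.finrank k k' * m) := by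
  classical
  haveI := finiteDimensional hce
  haveI : Module.Finite k k' := Module.Finite.of_finite
  set n := Module.finrank k k'
  have hn : 0 < n := Module.finrank_pos
  have hnm : 0 < n * m := Nat.mul_pos hn hm
  choose below hbelow using fun Q : Place k' K' => exists_below (K := K) hK.1 (toBot (k := k) Q)
  have hkey : ∀ Q : Place k' K', (Q.deg ∣ m ↔ (below Q).deg ∣ n * m) ∧
      Q.deg * Nat.gcd (below Q).deg n = (below Q).deg := by
    intro Q
    obtain ⟨-, -, h3⟩ := local_structure hK hce (hbelow Q)
    rw [deg_toBot, mul_assoc] at h3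
    have h4 : Q.deg * Nat.gcd (below Q).deg n = (below Q).deg := Nat.eq_of_mul_eq_mul_left hn h3
    refine ⟨?_, h4⟩
    set d := (below Q).deg
    set g := Nat.gcd d n
    have hgpos : 0 < g := Nat.gcd_pos_of_pos_right d hn
    obtain ⟨b, hb⟩ : g ∣ n := Nat.gcd_dvd_right d n
    have hco : Nat.Coprime Q.deg b := by
      have := Nat.coprime_div_gcd_div_gcd (m := d) (n := n) hgpos
      rwa [Nat.div_eq_of_eq_mul_left hgpos h4.symm, Nat.div_eq_of_eq_mul_right hgpos hb] at this
    rw [← h4, hb, mul_comm Q.deg g, mul_assoc]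
    exact ⟨fun h => Nat.mul_dvd_mul_left g (h.mul_left b),
      fun h => hco.dvd_of_dvd_mul_left (Nat.dvd_of_mul_dvd_mul_left hgpos h)⟩
  let S := (Zeta.finite_deg_le hK.1 (n * m)).toFinset.filter fun P => P.deg ∣ n * m
  have hS : ∀ P : Place k K, P ∈ S ↔ P.deg ∣ n * m := fun P => by
    simp only [S, Finset.mem_filter, Set.Finite.mem_toFinset, Set.mem_setOf_eq]
    exact ⟨And.right, fun h => ⟨Nat.le_of_dvd hnm h, h⟩⟩
  have hinj : Function.Injective (toBot (k := k) : Place k' K' → Place k K') := fun a b h =>
    Subtype.ext (congrArg (fun R : Place k K' => R.1) h)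
  have hfinT : {Q : Place k' K' | Q.deg ∣ m}.Finite := by
    refine ((Set.Finite.biUnion S.finite_toSet fun P _ => finite_over (K' := K') hK.1 P).preimage
      hinj.injOn).subset fun Q hQ => ?_
    exact Set.mem_iUnion₂.2 ⟨below Q, (hS _).2 ((hkey Q).1.1 hQ), hbelow Q⟩
  rw [Zeta.ptCount, Zeta.ptCount, finsum_mem_eq_finite_toFinset_sum _ hfinT,
    finsum_mem_eq_sum_of_inter_support_eq _ (t := S) (by ext P; simp [hS])]
  rw [← Finset.sum_fiberwise_of_maps_to (g := below) (t := S)
    (fun Q hQ => (hS _).2 ((hkey Q).1.1 (hfinT.mem_toFinset.1 hQ)))]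
  refine Finset.sum_congr rfl fun P hP => ?_
  have hg : 0 < Nat.gcd P.deg n := Nat.gcd_pos_of_pos_right _ hn
  refine Nat.eq_of_mul_eq_mul_right hg ?_
  rw [Finset.sum_mul, Finset.sum_congr rfl fun Q hQ => by
    rw [← (Finset.mem_filter.1 hQ).2, (hkey Q).2, (Finset.mem_filter.1 hQ).2], Finset.sum_const,
    smul_eq_mul, mul_comm P.deg]
  congr 1
  obtain ⟨Q₀, hQ₀⟩ := exists_over (K' := K') hK.1 P
  rw [← (local_structure hK hce hQ₀).2.1, ← Nat.card_eq_finsetCard]
  refine Nat.card_congr
    { toFun := fun Q => ⟨toBot (k := k) Q.1, by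
        have := hbelow Q.1; rwa [(Finset.mem_filter.1 Q.2).2] at this⟩
      invFun := fun Q => ⟨toTop Q.1, Finset.mem_filter.2 ⟨hfinT.mem_toFinset.2 ?_, ?_⟩⟩
      left_inv := fun Q => Subtype.ext (Subtype.ext rfl)
      right_inv := fun Q => Subtype.ext (Subtype.ext rfl) }
  · have hb : below (toTop Q.1) = P := isOver_unique (hbelow _) (by exact Q.2)
    rw [Set.mem_setOf_eq, (hkey _).1, hb]
    exact (hS P).1 hP
  · exact isOver_unique (hbelow _) (by exact Q.2)

end Groth.Agent.FF.CE
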