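import Groth.Agent.FF.ConstExt

/-! Existence of constant field extensions, Schmidt's theorem, the zeta function. -/

set_option autoImplicit false
set_option linter.style.haveILetI false
set_option linter.unusedSectionVars false

open FunFld WithZero Polynomial

namespace Groth.Agent.FF

lemma irreducible_map {k K : Type*} [Field k] [Field K] [Algebra k K]
    (hK : IsFunctionField k K) {f : k[X]} (hf : f.Monic) (hi : Irreducible f) :
    Irreducible (f.map (algebraMap k K)) := by
  have h1 := (hf.irreducible_iff_natDegree).1 hi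
  refine ((hf.map _).irreducible_iff_natDegree).2 ⟨?_, ?_⟩
  · intro h
    exact h1.1 (Polynomial.map_injective _ (algebraMap k K).injective (by rw [h, Polynomial.map_one]))
  intro g g' hg hg' hgg'
  have key : ∀ a : K[X], a.Monic → a ∣ f.map (algebraMap k K) → a ∈ lifts (algebraMap k K) := by
    intro a ha hdvd
    have h := integralClosure.mem_lifts_of_monic_of_dvd_map K hf ha hdvd
    rw [lifts_iff_coeff_lifts] at h ⊢
    intro n
    obtain ⟨⟨c, hc⟩, hcn⟩ := h n
    rw [← hcn]
    exact hK.2 c (IsIntegral.isAlgebraic hc)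
  obtain ⟨a, ha, hadeg, ham⟩ := lifts_and_natDegree_eq_and_monic (key g hg ⟨g', hgg'.symm⟩) hg
  obtain ⟨b, hb, hbdeg, hbm⟩ := lifts_and_natDegree_eq_and_monic
    (key g' hg' ⟨g, by rw [← hgg', mul_comm]⟩) hg'
  rw [← hadeg, ← hbdeg]
  exact h1.2 a b ham hbm (Polynomial.map_injective _ (algebraMap k K).injective
    (by rw [Polynomial.map_mul, ha, hb, hgg']))

lemma isFunctionField_constExt {k K k' K' : Type*} [Field k] [Finite k] [Field K] [Algebra k K]
    [Field k'] [Finite k'] [Field K'] [Algebra k k'] [Algebra K K'] [Algebra k' K'] [Algebra k K']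
    [IsScalarTower k K K'] [IsScalarTower k k' K']
    (hK : IsFunctionField k K) (hce : IsConstExt k K k' K') : IsFunctionField k' K' := by
  classical
  haveI := CE.finiteDimensional hce
  haveI : Module.Finite k k' := Module.Finite.of_finite
  obtain ⟨x, hx, hfin⟩ := isFF_ext (K' := K') hK.1
  refine ⟨⟨x, hx.extendScalars k', ?_⟩, fun y hy => ?_⟩
  · haveI := hfin
    let b := Module.finBasis (IntermediateField.adjoin k ({x} : Set K')) K'
    refine Module.finite_def.2 (Submodule.fg_def.2 ⟨Set.range b, Set.finite_range b, eq_top_iff.2 fun z _ => ?_⟩)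
    rw [← b.sum_repr z]
    refine Submodule.sum_mem _ fun i _ => ?_
    have hle : (IntermediateField.adjoin k ({x} : Set K')) ≤
        (IntermediateField.adjoin k' ({x} : Set K')).restrictScalars k :=
      IntermediateField.adjoin_le_iff.2 (IntermediateField.subset_adjoin k' _)
    have h2 := Submodule.smul_mem (Submodule.span (IntermediateField.adjoin k' ({x} : Set K')) (Set.range b))
      ⟨(b.repr z i : K'), hle (b.repr z i).2⟩ (Submodule.subset_span ⟨i, rfl⟩)
    exact h2
  · have hyk : IsAlgebraic k y := hy.restrictScalars k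
    let ι : k' →ₐ[k] K' := IsScalarTower.toAlgHom k k' K'
    let E : IntermediateField k K' := ι.fieldRange ⊔ IntermediateField.adjoin k ({y} : Set K')
    haveI : FiniteDimensional k ι.fieldRange :=
      Module.Finite.equiv (AlgEquiv.ofInjectiveField ι).toLinearEquiv
    haveI : FiniteDimensional k (IntermediateField.adjoin k ({y} : Set K')) :=
      IntermediateField.adjoin.finiteDimensional hyk.isIntegral
    haveI : FiniteDimensional k E := IntermediateField.finiteDimensional_sup _ _
    haveI : Finite E := Module.finite_of_finite k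
    obtain ⟨z, hz⟩ := Field.exists_primitive_element k E
    have hzi : IsIntegral k z := IsIntegral.of_finite k z
    have hzi' : IsIntegral k (z : K') := hzi.map E.val
    have h1 : (minpoly k (z : K')).natDegree = Module.finrank k E := by
      rw [show minpoly k (z : K') = minpoly k z from minpoly.algHom_eq E.val E.val.injective z,
        ← IntermediateField.adjoin.finrank hzi, hz, IntermediateField.finrank_top']
    have h2 : minpoly K (z : K') = (minpoly k (z : K')).map (algebraMap k K) :=
      (minpoly.eq_of_irreducible_of_monic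
        (irreducible_map hK (minpoly.monic hzi') (minpoly.irreducible hzi'))
        (by rw [Polynomial.aeval_map_algebraMap, minpoly.aeval]) ((minpoly.monic hzi').map _)).symm
    have h3 : Module.finrank k E ≤ Module.finrank k k' := by
      rw [← h1, ← Polynomial.natDegree_map (algebraMap k K), ← h2, ← hce.2.2]
      exact minpoly.natDegree_le _
    have hle : ι.fieldRange ≤ E := le_sup_left
    have hcr : Module.finrank k k' = Module.finrank k ι.fieldRange :=
      (AlgEquiv.ofInjectiveField ι).toLinearEquiv.finrank_eq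
    have heq : ι.fieldRange = E := IntermediateField.eq_of_le_of_finrank_le hle (by
      rw [← hcr]; exact h3)
    have : y ∈ ι.fieldRange := heq ▸ (le_sup_right : IntermediateField.adjoin k ({y} : Set K') ≤ E)
      (IntermediateField.mem_adjoin_simple_self k y)
    exact this

/-- A constant extension of every degree exists. -/
lemma exists_constExt {k K : Type*} [Field k] [Finite k] [Field K] [Algebra k K]
    (hK : IsFunctionField k K) (δ : ℕ) [NeZero δ] (p : ℕ) [Fact p.Prime] [CharP k p] :
    ∃ (f : K[X]) (_ : Fact (Irreducible f)) (φ : FiniteField.Extension k p δ →+* AdjoinRoot f),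
      @IsConstExt k K _ _ _ (FiniteField.Extension k p δ) (AdjoinRoot f) _ _ _ _ φ.toAlgebra := by
  classical
  let k' := FiniteField.Extension k p δ
  let pb := Field.powerBasisOfFiniteOfSeparable k k'
  have hgi : IsIntegral k pb.gen := IsIntegral.of_finite k pb.gen
  let f : K[X] := (minpoly k pb.gen).map (algebraMap k K)
  haveI hf : Fact (Irreducible f) := ⟨irreducible_map hK (minpoly.monic hgi) (minpoly.irreducible hgi)⟩
  have hroot : Polynomial.aeval (AdjoinRoot.root f) (minpoly k pb.gen) = 0 := by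
    rw [← Polynomial.aeval_map_algebraMap K]; exact AdjoinRoot.eval₂_root f
  let φ : k' →ₐ[k] AdjoinRoot f := pb.lift (AdjoinRoot.root f) hroot
  letI : Algebra k' (AdjoinRoot f) := φ.toRingHom.toAlgebra
  refine ⟨f, hf, φ.toRingHom, fun c => (φ.commutes c).symm, ?_, ?_⟩
  · rw [eq_top_iff, ← AdjoinRoot.adjoinRoot_eq_top (f := f)]
    refine Algebra.adjoin_mono ?_
    rw [Set.singleton_subset_iff]
    exact ⟨pb.gen, pb.lift_gen _ hroot⟩
  · rw [(AdjoinRoot.powerBasis hf.1.ne_zero).finrank, AdjoinRoot.powerBasis_dim, pb.finrank]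
    show f.natDegree = pb.dim
    rw [Polynomial.natDegree_map, PowerBasis.natDegree_minpoly]

namespace Zeta

variable {k K : Type*} [Field k] [Field K] [Algebra k K]

lemma exists_period (hK : IsFunctionField k K) :
    ∃ δ : ℕ, 0 < δ ∧ (∀ D : Divisor k K, (δ : ℤ) ∣ D.deg) ∧ ∃ D : Divisor k K, D.deg = δ := by
  obtain ⟨a, ha⟩ := Int.subgroup_cyclic (degHom k K).range
  obtain ⟨P⟩ := nonempty_place hK.1
  have hmem : ∀ D : Divisor k K, a ∣ D.deg := fun D => by
    have h : D.deg ∈ AddSubgroup.closure ({a} : Set ℤ) := ha ▸ (⟨D, rfl⟩ : D.deg ∈ (degHom k K).range)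
    obtain ⟨n, hn⟩ := AddSubgroup.mem_closure_singleton.1 h
    exact ⟨n, by rw [← hn, smul_eq_mul, mul_comm]⟩
  obtain ⟨D, hD⟩ : a ∈ (degHom k K).range := ha ▸ AddSubgroup.subset_closure rfl
  have ha0 : a ≠ 0 := by
    rintro rfl
    have := zero_dvd_iff.1 (hmem (Finsupp.single P 1))
    rw [deg_single, one_mul] at this
    have := deg_pos hK.1 P
    omega
  refine ⟨a.natAbs, Int.natAbs_pos.2 ha0, fun D => Int.natAbs_dvd.2 (hmem D), ?_⟩
  rcases Int.natAbs_eq a with e | e
  · exact ⟨D, by rw [← e]; exact hD⟩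
  · refine ⟨-D, ?_⟩
    rw [deg_neg]
    have hD' : D.deg = a := hD
    omega

variable [Finite k]

/-- Rationality along a period. -/
lemma exists_poly_period (hK : IsFunctionField k K) {δ : ℕ} (hδ : 0 < δ) {D₁ : Divisor k K}
    (hD₁ : D₁.deg = δ) :
    ∃ p : ℤ[X], (p : PowerSeries ℤ) = (1 - PowerSeries.X) *
        (1 - PowerSeries.C ((Nat.card k : ℤ) ^ δ) * PowerSeries.X) *
          PowerSeries.mk (fun m => (effDivCount k K (δ * m) : ℤ)) ∧
      ((Nat.card k : ℤ) - 1) * p.eval 1 = classNum k K * ((Nat.card k : ℤ) ^ δ - 1) := by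
  set q : ℤ := (Nat.card k : ℤ)
  set g := genus k K
  set M := 2 * g
  have hA : ∀ m, M ≤ m → (q - 1) * (effDivCount k K (δ * m) : ℤ) + classNum k K =
      classNum k K * q ^ (δ * m + 1 - g) := by
    intro m hm
    have h1 : m ≤ δ * m := Nat.le_mul_of_pos_left m hδ
    have := genA_of_ge hK (n := δ * m) (by omega) ((m : ℤ) • D₁) (by rw [deg_zsmul, hD₁]; push_cast; ring)
    rw [genA, if_pos (Int.natCast_nonneg _), Int.toNat_natCast] at this
    exact this
  have hq1 : q - 1 ≠ 0 := by have := card_ge_two k; omega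
  obtain ⟨R, hR⟩ : ∃ R : ℤ, ∀ m, M ≤ m →
      (effDivCount k K (δ * (m + 1)) : ℤ) - q ^ δ * effDivCount k K (δ * m) = R ∧
        (q - 1) * R = classNum k K * (q ^ δ - 1) := by
    refine ⟨(effDivCount k K (δ * (M + 1)) : ℤ) - q ^ δ * effDivCount k K (δ * M), fun m hm => ?_⟩
    have key : ∀ j, M ≤ j → (q - 1) * ((effDivCount k K (δ * (j + 1)) : ℤ) - q ^ δ * effDivCount k K (δ * j)) =
        classNum k K * (q ^ δ - 1) := by
      intro j hj
      have a1 := hA j hj
      have a2 := hA (j + 1) (by omega)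
      have h1 : j ≤ δ * j := Nat.le_mul_of_pos_left j hδ
      rw [show δ * (j + 1) + 1 - g = (δ * j + 1 - g) + δ by rw [mul_add, mul_one]; omega, pow_add] at a2
      linear_combination a2 - q ^ δ * a1
    exact ⟨mul_left_cancel₀ hq1 ((key m hm).trans (key M le_rfl).symm), key M le_rfl⟩
  obtain ⟨p, hp, hpR⟩ := exists_poly_of_eventually (b := fun m => (effDivCount k K (δ * m) : ℤ))
    (M := M) fun m hm => (hR m hm).1
  exact ⟨p, hp, by rw [hpR]; exact (hR M le_rfl).2⟩

lemma effDivCount_eq_zero (δ : ℕ) (h : ∀ D : Divisor k K, (δ : ℤ) ∣ D.deg) {n : ℕ} (hn : ¬ δ ∣ n) :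
    effDivCount k K n = 0 := by
  haveI : IsEmpty {D : Divisor k K // 0 ≤ D ∧ D.deg = n} :=
    ⟨fun D => hn (Int.natCast_dvd_natCast.1 (D.2.2 ▸ h D.1))⟩
  exact Nat.card_of_isEmpty

/-- F. K. Schmidt's theorem. -/
theorem period_eq_one (hK : IsFunctionField k K) :
    ∃ D : Divisor k K, D.deg = 1 := by
  classical
  obtain ⟨δ, hδ, hdvd, D₁, hD₁⟩ := exists_period hK
  rcases (show δ = 1 ∨ 2 ≤ δ by omega) with rfl | h2
  · exact ⟨D₁, hD₁⟩
  exfalso
  haveI : NeZero δ := ⟨by omega⟩
  obtain ⟨ch, hch⟩ := CharP.exists k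
  haveI : Fact ch.Prime := ⟨CharP.char_is_prime k ch⟩
  obtain ⟨f, hf, φ, hce⟩ := exists_constExt hK δ ch
  let k' := FiniteField.Extension k ch δ
  letI : Algebra k' (AdjoinRoot f) := φ.toAlgebra
  haveI : IsScalarTower k k' (AdjoinRoot f) := IsScalarTower.of_algebraMap_eq fun c => by
    rw [← hce.1 c]; rfl
  have hK' : IsFunctionField k' (AdjoinRoot f) := isFunctionField_constExt hK hce
  have hn : Module.finrank k k' = δ := FiniteField.finrank_extension k ch δ
  -- a divisor of degree one upstairs
  haveI := CE.finiteDimensional hce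
  choose ovr hover using fun P : Place k K => exists_over (K' := AdjoinRoot f) hK.1 P
  have hdeg' : ∀ P : Place k K, ((CE.toTop (k' := k') (ovr P)).deg : ℤ) * δ = P.deg := by
    intro P
    have h3 := (CE.local_structure hK hce (hover P)).2.2
    have hg : Nat.gcd P.deg δ = δ := Nat.gcd_eq_right (Int.natCast_dvd_natCast.1 (by
      have := hdvd (Finsupp.single P 1); rwa [deg_single, one_mul] at this))
    rw [hn, hg, mul_comm δ] at h3
    have h4 : (ovr P).deg = P.deg := Nat.eq_of_mul_eq_mul_right hδ h3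
    have h5 : (CE.toBot (k := k) (CE.toTop (k' := k') (ovr P))).deg = δ * (CE.toTop (k' := k') (ovr P)).deg := by
      rw [CE.deg_toBot, hn]
    rw [show CE.toBot (k := k) (CE.toTop (k' := k') (ovr P)) = ovr P from Subtype.ext rfl, h4] at h5
    rw [h5]; push_cast; ring
  obtain ⟨E, hE⟩ : ∃ E : Divisor k' (AdjoinRoot f), E.deg = 1 := by
    refine ⟨D₁.sum fun P n => Finsupp.single (CE.toTop (k' := k') (ovr P)) n, ?_⟩
    have hδ' : (δ : ℤ) ≠ 0 := by omega
    refine mul_right_cancel₀ hδ' ?_
    rw [one_mul, ← degHom_apply, map_finsuppSum, Finsupp.sum_mul]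
    refine Eq.trans ?_ hD₁
    rw [Divisor.deg]
    refine Finsupp.sum_congr fun P _ => ?_
    rw [degHom_apply, deg_single, mul_assoc, hdeg']
  obtain ⟨p, hp, hpe⟩ := exists_poly_period hK hδ hD₁
  obtain ⟨p', hp', -⟩ := exists_poly_period hK' one_pos (D₁ := E) (by rw [hE]; rfl)
  set Q : ℤ := (Nat.card k : ℤ) ^ δ
  have hQ' : (Nat.card k' : ℤ) ^ 1 = Q := by
    rw [pow_one, Module.natCard_eq_pow_finrank (K := k) (V := k'), hn]; push_cast; rfl
  set S : PowerSeries ℤ := PowerSeries.mk (fun m => (effDivCount k K (δ * m) : ℤ)) with hS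
  set S' : PowerSeries ℤ := PowerSeries.mk (fun m => (effDivCount k' (AdjoinRoot f) (1 * m) : ℤ)) with hS'
  -- `S' = S ^ δ`
  have hSlog : LogRec (PowerSeries.map (Int.castRingHom ℚ) S)
      (fun j => (ptCount k K (δ * j) : ℚ) / δ) := by
    unfold LogRec
    ext m
    rw [PowerSeries.coeff_derivative, PowerSeries.coeff_mul, Finset.Nat.sum_antidiagonal_eq_sum_range_succ_mk]
    simp only [hS, PowerSeries.coeff_map, PowerSeries.coeff_mk, eq_intCast, Int.cast_natCast]
    have hrec := effDivCount_recursion hK (δ * (m + 1))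
    rw [← Finset.sum_subset (Finset.filter_subset (fun j => δ ∣ j) (Finset.Icc 1 (δ * (m + 1))))
      (fun j hj hj' => by
        rw [effDivCount_eq_zero δ hdvd (fun hh => hj' (Finset.mem_filter.2 ⟨hj, ?_⟩)), mul_zero]
        have hle := (Finset.mem_Icc.1 hj).2
        have := Nat.dvd_sub (Dvd.intro (m + 1) rfl) hh
        rwa [Nat.sub_sub_self hle] at this),
      sum_dvd_Icc hδ] at hrec
    have hset : (Finset.Icc 1 (δ * (m + 1))).filter (fun i => i * δ ≤ δ * (m + 1)) = Finset.Ico 1 (m + 2) := by
      ext i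
      simp only [Finset.mem_filter, Finset.mem_Icc, Finset.mem_Ico]
      constructor
      · rintro ⟨⟨a, -⟩, b⟩
        rw [mul_comm] at b
        have := Nat.le_of_mul_le_mul_left b hδ
        omega
      · rintro ⟨a, b⟩
        have : i * δ ≤ δ * (m + 1) := by rw [mul_comm]; exact Nat.mul_le_mul_left δ (by omega)
        exact ⟨⟨a, (Nat.le_mul_of_pos_right i hδ).trans this⟩, this⟩
    rw [hset, Finset.sum_Ico_eq_sum_range, show m + 2 - 1 = m + 1 by omega] at hrec
    have hrecQ : ((δ : ℚ) * ((m : ℚ) + 1)) * effDivCount k K (δ * (m + 1)) =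
        ∑ i ∈ Finset.range (m + 1), (ptCount k K (δ * (i + 1)) : ℚ) * effDivCount k K (δ * (m - i)) := by
      have := congrArg (Nat.cast : ℕ → ℚ) hrec
      push_cast at this
      rw [this]
      refine Finset.sum_congr rfl fun i hi => ?_
      rw [show δ * (m + 1) - (1 + i) * δ = δ * (m - i) by
        rw [mul_comm (1 + i) δ, ← Nat.mul_sub, show m + 1 - (1 + i) = m - i by omega],
        show (1 + i) * δ = δ * (i + 1) by ring]
    have hδQ : (δ : ℚ) ≠ 0 := by exact_mod_cast hδ.ne'
    calc _ = (1 / (δ : ℚ)) * (((δ : ℚ) * ((m : ℚ) + 1)) * effDivCount k K (δ * (m + 1))) := by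
          field_simp
      _ = _ := by
          rw [hrecQ, Finset.mul_sum]
          exact Finset.sum_congr rfl fun i _ => by field_simp
  have hS'log : LogRec (PowerSeries.map (Int.castRingHom ℚ) S')
      (fun j => (ptCount k K (δ * j) : ℚ)) := by
    have h := (logRec_zetaZ hK').map (Int.castRingHom ℚ)
    simp only [hS', one_mul]
    refine h.congr fun j hj => ?_
    rw [CE.ptCount_constExt hK hce hj, hn]
    simp
  have hpow : PowerSeries.map (Int.castRingHom ℚ) (S ^ δ) = PowerSeries.map (Int.castRingHom ℚ) S' := by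
    rw [map_pow]
    refine LogRec.unique (LogRec.congr (hSlog.pow δ) fun j _ => ?_) hS'log ?_
    · have hδQ : (δ : ℚ) ≠ 0 := by exact_mod_cast hδ.ne'
      simp only [Pi.smul_apply, smul_eq_mul]
      field_simp
    · rw [map_pow, ← PowerSeries.coeff_zero_eq_constantCoeff_apply,
        ← PowerSeries.coeff_zero_eq_constantCoeff_apply, PowerSeries.coeff_map, PowerSeries.coeff_map]
      simp [hS, hS', effDivCount_zero hK, effDivCount_zero hK']
  have hSS : S ^ δ = S' := PowerSeries.map_injective _ Int.cast_injective hpow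
  rw [hQ', ← hSS] at hp'
  obtain ⟨e, rfl⟩ : ∃ e, δ = e + 2 := ⟨δ - 2, by omega⟩
  have hpol : p ^ (e + 2) = p' * ((1 - Polynomial.X) * (1 - Polynomial.C Q * Polynomial.X)) ^ (e + 1) := by
    apply Polynomial.coe_injective
    push_cast
    rw [hp, hp']
    generalize (1 - PowerSeries.X : PowerSeries ℤ) = A
    generalize (1 - PowerSeries.C Q * PowerSeries.X : PowerSeries ℤ) = B
    ring
  have := congrArg (Polynomial.eval 1) hpol
  rw [Polynomial.eval_pow, Polynomial.eval_mul, Polynomial.eval_pow, Polynomial.eval_mul] at this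
  simp only [Polynomial.eval_sub, Polynomial.eval_one, Polynomial.eval_X, sub_self, zero_mul,
    zero_pow (Nat.succ_ne_zero e), mul_zero] at this
  rw [eq_zero_of_pow_eq_zero this, mul_zero] at hpe
  simp only [Q] at hpe
  have hq := card_ge_two k
  have h1 : (1 : ℤ) < (Nat.card k : ℤ) ^ (e + 2) := one_lt_pow₀ (by omega) (by omega)
  have hh : (0 : ℤ) < classNum k K := by exact_mod_cast classNum_pos hK
  have : (0 : ℤ) < classNum k K * ((Nat.card k : ℤ) ^ (e + 2) - 1) := mul_pos hh (by omega)
  omega

lemma deg_surjective (hK : IsFunctionField k K) (n : ℤ) : ∃ D : Divisor k K, D.deg = n := by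
  obtain ⟨D, hD⟩ := period_eq_one hK
  exact ⟨n • D, by rw [deg_zsmul, hD, mul_one]⟩

end Zeta

end Groth.Agent.FF
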