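import Groth.Agent.FF.Hyper2
import Groth.Agent.FF.ASStatements

/-! Uniqueness of a rational subfield of index two. -/

set_option autoImplicit false
set_option linter.unusedSectionVars false
set_option linter.style.haveILetI false

open FunFld WithZero IntermediateField

namespace Groth.Agent.FF

variable {k K : Type*} [Field k] [Field K] [Algebra k K] [Algebra (RatFunc k) K]
  [IsScalarTower k (RatFunc k) K] (hK : IsFunctionField k K)
include hK

theorem mem_range_of_degree_two_of (hg : 2 ≤ genus k K) {M : Divisor k K}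
    (hMdeg : M.deg = 2 * ((genus k K : ℤ) - 1)) (hMell : ell M = genus k K)
    (hzero : ∀ {z : K}, z ∈ L M → z ∈ Set.range (algebraMap (RatFunc k) K)) {t : K}
    (ht : Module.finrank k⟮t⟯ K = 2) : t ∈ Set.range (algebraMap (RatFunc k) K) := by
  classical
  set g := genus k K with hgdef
  have htt : Transcendental k t := by
    refine transcendental_of_notMem hK fun ⟨c, hc⟩ => ?_
    obtain ⟨u, hu⟩ := exists_transcendental hK.1
    haveI : FiniteDimensional k⟮t⟯ K := Module.finite_of_finrank_pos (by rw [ht]; exact two_pos)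
    have hb : k⟮t⟯ = ⊥ := adjoin_simple_eq_bot_iff.2 (IntermediateField.mem_bot.2 ⟨c, hc⟩)
    have hu' : IsAlgebraic k⟮t⟯ u := Algebra.IsAlgebraic.isAlgebraic u
    rw [hb] at hu'
    exact hu (hu'.restrictScalars k)
  set D' : Divisor k K := zeroDiv (k := k) t⁻¹ with hD'
  have htinv : Transcendental k t⁻¹ := fun e => htt (by simpa using e.inv)
  have hdeg' : D'.deg = 2 := by
    have he : k⟮t⁻¹⟯ = k⟮t⟯ := by
      apply le_antisymm <;> rw [adjoin_simple_le_iff]
      · exact inv_mem (mem_adjoin_simple_self k t)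
      · have := inv_mem (mem_adjoin_simple_self k t⁻¹)
        rwa [inv_inv] at this
    have := deg_zeroDiv hK htinv
    rw [he, ht] at this
    exact this.symm ▸ rfl
  have ht0 : t ≠ 0 := fun e => htt (e ▸ isAlgebraic_zero)
  have hD'0 : 0 ≤ D' := fun P => by simp [hD', zeroDiv]
  have htL : ∀ P : Place k K, P.1 t ≤ exp (D' P) := fun P => by
    rw [val_le_exp_iff P ht0]
    simp only [hD', zeroDiv, Finsupp.sup_apply, div_apply hK.1, ord_inv, Finsupp.coe_zero, Pi.zero_apply]
    omega
  obtain ⟨C, hC⟩ := exists_canonical hK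
  have h1 : 2 ≤ ell D' := by
    haveI := finiteDimensional_L hK D'
    have hmem : ∀ i : Fin 2, ![(1 : K), t] i ∈ L D' := fun i P => by
      fin_cases i
      · show P.1 1 ≤ _
        rw [map_one, ← exp_zero]
        exact exp_le_exp.2 (hD'0 P)
      · exact htL P
    have hli : LinearIndependent k (fun i : Fin 2 => (⟨_, hmem i⟩ : L D')) := by
      refine LinearIndependent.of_comp (L D').subtype ?_
      show LinearIndependent k ![(1 : K), t]
      rw [LinearIndependent.pair_iff' one_ne_zero]
      exact fun a ha => notMem_of_transcendental htt ⟨a, by rw [← ha, Algebra.smul_def, mul_one]⟩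
    have := hli.fintype_card_le_finrank
    rw [Fintype.card_fin] at this
    exact this
  have h2 : g - 1 ≤ ell (C - D') := by
    have := riemann_roch hK hC D'
    rw [hdeg'] at this
    omega
  have h3 : ell (C - M) = 1 := by
    have := riemann_roch hK hC M
    rw [hMdeg, hMell] at this
    omega
  obtain ⟨w, hw0, hw⟩ : ∃ w : K, w ≠ 0 ∧ w ∈ L (C - M) := by
    obtain ⟨w, hw, hw0⟩ := Submodule.exists_mem_ne_zero_of_ne_bot (p := L (C - M)) (fun h => by
      rw [ell, h, finrank_bot] at h3; omega)
    exact ⟨w, hw0, hw⟩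
  have hdiv : C - M + FunFld.div k w = 0 := by
    have hnn : 0 ≤ C - M + FunFld.div k w := fun P => by
      have := (val_le_exp_iff P hw0 _).1 (hw P)
      simp only [Finsupp.add_apply, div_apply hK.1, Finsupp.coe_zero, Pi.zero_apply]
      omega
    set E := C - M + FunFld.div k w
    have hE : E.deg = 0 := by
      simp only [E]
      rw [deg_add, deg_div hK, deg_sub, deg_canonical hK hC, hMdeg]
      omega
    ext P
    have h4 : Finsupp.single P (E P) ≤ E := fun Q => by
      rw [Finsupp.single_apply]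
      split_ifs with h
      · rw [h]
      · exact hnn Q
    have h5 := deg_mono h4
    rw [deg_single, hE] at h5
    have h6 : 0 ≤ E P := hnn P
    rw [Finsupp.coe_zero, Pi.zero_apply]
    have h7 : (0 : ℤ) < P.deg := by exact_mod_cast deg_pos hK.1 P
    nlinarith
  have hCeq : ∀ P : Place k K, C P = M P - P.ord w := fun P => by
    have := DFunLike.congr_fun hdiv P
    simp only [Finsupp.add_apply, Finsupp.sub_apply, div_apply hK.1, Finsupp.coe_zero, Pi.zero_apply] at this
    omega
  obtain ⟨q, hq, hq0⟩ := Submodule.exists_mem_ne_zero_of_ne_bot (p := L (C - D')) (fun h => by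
    rw [ell, h, finrank_bot] at h2; omega)
  have hmulw : ∀ {z : K}, z ∈ L C → z * w⁻¹ ∈ L M := fun {z} hz P => by
    rw [map_mul, map_inv₀, val_eq_exp_ord P hw0, ← exp_neg, neg_neg]
    calc P.1 z * exp (P.ord w) ≤ exp (C P) * exp (P.ord w) := mul_le_mul' (hz P) le_rfl
      _ = exp (M P) := by rw [← exp_add, hCeq P]; congr 1; ring
  have hqC : q ∈ L C := fun P => (hq P).trans (exp_le_exp.2 (by
    have := hD'0 P
    simp only [Finsupp.sub_apply, Finsupp.coe_zero, Pi.zero_apply] at this ⊢
    omega))
  have htqC : t * q ∈ L C := fun P => by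
    rw [map_mul]
    refine (mul_le_mul' (htL P) (hq P)).trans_eq ?_
    rw [← exp_add, Finsupp.sub_apply]; congr 1; ring
  obtain ⟨r1, hr1⟩ := hzero (hmulw htqC)
  obtain ⟨r2, hr2⟩ := hzero (hmulw hqC)
  refine ⟨r1 / r2, ?_⟩
  rw [map_div₀, hr1, hr2]
  field_simp

variable [PerfectField k] [Algebra.IsSeparable (RatFunc k) K]

theorem mem_range_of_degree_two_char_two (h2 : (2 : k) = 0) (hdeg : Module.finrank (RatFunc k) K = 2)
    (hg : 2 ≤ genus k K) {t : K} (ht : Module.finrank k⟮t⟯ K = 2) :
    t ∈ Set.range (algebraMap (RatFunc k) K) := by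
  obtain ⟨y, f, h1, h3, hodd⟩ := exists_AS_gen_reduced (K := K) h2 hdeg
  have hy : y ∉ Set.range (algebraMap (RatFunc k) K) := fun hy => by
    have hb : IntermediateField.adjoin (RatFunc k) ({y} : Set K) = ⊥ :=
      adjoin_simple_eq_bot_iff.2 (IntermediateField.mem_bot.2 hy)
    rw [h3] at hb
    have h4 := IntermediateField.finrank_top' (F := RatFunc k) (E := K)
    rw [hb, IntermediateField.finrank_bot, hdeg] at h4
    omega
  have H : IsAS y f := ⟨h2, hdeg, hy, h1⟩
  haveI := H.finite
  obtain ⟨Pinf, hinf⟩ := exists_rat_inf (k := k)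
  set g := genus k K with hgdef
  set D : Divisor k (RatFunc k) := Finsupp.single Pinf ((g : ℤ) - 1) with hD
  have hge := H.genus_eq hodd hK
  have hdD : D.deg = (g : ℤ) - 1 := by
    rw [hD, deg_single, rat_deg_inf Pinf hinf]; simp
  have hneg : L (D - asE f) = ⊥ := L_eq_bot_of_deg_neg isFunctionField_ratFunc (by
    rw [deg_sub, hdD]; omega)
  refine mem_range_of_degree_two_of hK hg (M := conorm K D) ?_ ?_ ?_ ht
  · rw [deg_conorm isFunctionField_ratFunc, H.finrank, hdD, ← hgdef]; norm_num
  · have h := H.ell_conorm hodd D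
    have h5 := ell_ratFunc (D := D) (by rw [hdD]; omega)
    have h6 : ell (D - asE f) = 0 := by rw [ell, hneg, finrank_bot]
    rw [hdD] at h5
    omega
  · intro z hz
    obtain ⟨a, b, -, hb, rfl⟩ := (H.mem_L_iff hodd D z).1 hz
    rw [hneg, Submodule.mem_bot] at hb
    exact ⟨a, by rw [hb, map_zero, zero_mul, add_zero]⟩

end Groth.Agent.FF
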