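import Mathlib

/-! Relative dimension of nested subspaces. -/

set_option autoImplicit false
set_option linter.style.haveILetI false

namespace Groth.Agent.FF

variable {k M N : Type*} [Field k] [AddCommGroup M] [Module k M] [AddCommGroup N] [Module k N]

/-- `A ≤ B` with `dim B/A = d`. -/
def RelDim (A B : Submodule k M) (d : ℕ) : Prop :=
  A ≤ B ∧ FiniteDimensional k (↥B ⧸ A.comap B.subtype) ∧
    Module.finrank k (↥B ⧸ A.comap B.subtype) = d

lemma relDim_of_surjective {V : Type*} [AddCommGroup V] [Module k V] [Module.Finite k V]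
    {A B : Submodule k M} (hAB : A ≤ B) (f : ↥B →ₗ[k] V) (hf : Function.Surjective f)
    (hker : LinearMap.ker f = A.comap B.subtype) : RelDim A B (Module.finrank k V) := by
  let e := (Submodule.quotEquivOfEq _ _ hker.symm).trans (f.quotKerEquivOfSurjective hf)
  exact ⟨hAB, e.symm.finiteDimensional, e.finrank_eq⟩

lemma relDim_of_surjective' {V : Type*} [AddCommMonoid V] [Module k V] [Module.Finite k V]
    {A B : Submodule k M} (hAB : A ≤ B) (f : ↥B →ₗ[k] V) (hf : Function.Surjective f)
    (hker : LinearMap.ker f = A.comap B.subtype) : RelDim A B (Module.finrank k V) := by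
  letI : AddCommGroup V := Module.addCommMonoidToAddCommGroup k
  exact relDim_of_surjective hAB f hf hker

lemma relDim_refl (A : Submodule k M) : RelDim A A 0 := by
  have h : A.comap A.subtype = ⊤ := by simp
  refine ⟨le_rfl, ?_, ?_⟩
  · rw [h]; infer_instance
  · rw [h]
    exact Module.finrank_zero_of_subsingleton

lemma RelDim.le {A B : Submodule k M} {d : ℕ} (h : RelDim A B d) : A ≤ B := h.1

lemma RelDim.unique {A B : Submodule k M} {d e : ℕ} (h : RelDim A B d) (h' : RelDim A B e) :
    d = e := h.2.2.symm.trans h'.2.2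

lemma RelDim.trans {A B C : Submodule k M} {d e : ℕ} (h₁ : RelDim A B d) (h₂ : RelDim B C e) :
    RelDim A C (d + e) := by
  obtain ⟨hAB, hf₁, hd⟩ := h₁
  obtain ⟨hBC, hf₂, he⟩ := h₂
  let q : (↥C ⧸ A.comap C.subtype) →ₗ[k] (↥C ⧸ B.comap C.subtype) :=
    Submodule.factor (Submodule.comap_mono hAB)
  let j : (↥B ⧸ A.comap B.subtype) →ₗ[k] (↥C ⧸ A.comap C.subtype) :=
    Submodule.mapQ _ _ (Submodule.inclusion hBC) fun x hx => hx
  have hj : Function.Injective j := by
    rw [← LinearMap.ker_eq_bot, Submodule.eq_bot_iff]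
    intro x hx
    induction x using Submodule.Quotient.induction_on with
    | _ x => exact (Submodule.Quotient.mk_eq_zero _).2 ((Submodule.Quotient.mk_eq_zero _).1 hx : _)
  have hq : Function.Surjective q := Submodule.factor_surjective _
  have hex : LinearMap.ker q = LinearMap.range j := by
    apply le_antisymm
    · intro x hx
      induction x using Submodule.Quotient.induction_on with
      | _ x => exact ⟨Submodule.Quotient.mk ⟨(x : M), ((Submodule.Quotient.mk_eq_zero (B.comap C.subtype)).1 hx : x ∈ B.comap C.subtype)⟩, rfl⟩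
    · rintro _ ⟨y, rfl⟩
      induction y using Submodule.Quotient.induction_on with
      | _ y => exact (Submodule.Quotient.mk_eq_zero _).2 y.2
  haveI : FiniteDimensional k (LinearMap.ker q) := hex ▸ (inferInstance : FiniteDimensional k _)
  haveI : FiniteDimensional k ((↥C ⧸ A.comap C.subtype) ⧸ LinearMap.ker q) :=
    (q.quotKerEquivOfSurjective hq).symm.finiteDimensional
  haveI : FiniteDimensional k (↥C ⧸ A.comap C.subtype) := Module.Finite.of_submodule_quotient (LinearMap.ker q)
  refine ⟨hAB.trans hBC, inferInstance, ?_⟩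
  have h3 := q.finrank_range_add_finrank_ker
  rw [LinearMap.range_eq_top.2 hq, finrank_top, hex, LinearMap.finrank_range_of_inj hj] at h3
  omega

lemma relDim_bot (B : Submodule k M) [FiniteDimensional k B] :
    RelDim ⊥ B (Module.finrank k B) :=
  relDim_of_surjective bot_le LinearMap.id Function.surjective_id (by
    rw [LinearMap.ker_id, Submodule.comap_bot, Submodule.ker_subtype])

lemma RelDim.finiteDimensional {A B : Submodule k M} {d : ℕ} (h : RelDim A B d)
    [FiniteDimensional k A] : FiniteDimensional k B := by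
  haveI := h.2.1
  haveI : FiniteDimensional k (A.comap B.subtype : Submodule k ↥B) :=
    (Submodule.comapSubtypeEquivOfLe h.le).symm.finiteDimensional
  exact Module.Finite.of_submodule_quotient (A.comap B.subtype)

lemma RelDim.finrank_eq {A B : Submodule k M} {d : ℕ} (h : RelDim A B d)
    [FiniteDimensional k A] : Module.finrank k B = Module.finrank k A + d := by
  haveI := h.2.1
  haveI := h.finiteDimensional
  rw [← Submodule.finrank_quotient_add_finrank (A.comap B.subtype), h.2.2,
    (Submodule.comapSubtypeEquivOfLe h.le).finrank_eq, add_comm]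

/-- Intersecting with `R` can only decrease relative dimensions. -/
lemma RelDim.inf {A B : Submodule k M} {d : ℕ} (h : RelDim A B d) (R : Submodule k M) :
    ∃ e ≤ d, RelDim (A ⊓ R) (B ⊓ R) e := by
  haveI := h.2.1
  let f : ↥(B ⊓ R) →ₗ[k] (↥B ⧸ A.comap B.subtype) :=
    (A.comap B.subtype).mkQ ∘ₗ Submodule.inclusion inf_le_left
  refine ⟨Module.finrank k (LinearMap.range f), h.2.2 ▸ Submodule.finrank_le _, ?_⟩
  refine relDim_of_surjective (inf_le_inf_right _ h.le) f.rangeRestrict f.surjective_rangeRestrict ?_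
  ext x
  rw [LinearMap.ker_rangeRestrict, LinearMap.mem_ker]
  refine (Submodule.Quotient.mk_eq_zero _).trans ?_
  simp only [Submodule.mem_comap, Submodule.subtype_apply, Submodule.coe_inclusion, Submodule.mem_inf]
  exact ⟨fun hx => ⟨hx, x.2.2⟩, And.left⟩

/-- Adding `R`: `dim (B+R)/(A+R) + dim (B∩R)/(A∩R) = dim B/A`. -/
lemma RelDim.sup {A B : Submodule k M} {d : ℕ} (h : RelDim A B d) (R : Submodule k M) :
    ∃ e₁ e₂ : ℕ, e₁ + e₂ = d ∧ RelDim (A ⊔ R) (B ⊔ R) e₁ ∧ RelDim (A ⊓ R) (B ⊓ R) e₂ := by
  haveI := h.2.1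
  obtain ⟨e₂, -, h₂⟩ := h.inf R
  let g : (↥B ⧸ A.comap B.subtype) →ₗ[k] (↥(B ⊔ R) ⧸ (A ⊔ R).comap (B ⊔ R).subtype) :=
    Submodule.mapQ _ _ (Submodule.inclusion le_sup_left) fun x hx => Submodule.mem_sup_left hx
  have hg : Function.Surjective g := by
    intro y
    induction y using Submodule.Quotient.induction_on with
    | _ y =>
      obtain ⟨b, hb, r, hr, hy⟩ := Submodule.mem_sup.1 y.2
      refine ⟨Submodule.Quotient.mk ⟨b, hb⟩, (Submodule.Quotient.eq _).2 ?_⟩
      refine Submodule.mem_sup_right ?_
      show b - (y : M) ∈ R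
      rw [← hy, sub_add_cancel_left]
      exact R.neg_mem hr
  let i : (↥(B ⊓ R) ⧸ (A ⊓ R).comap (B ⊓ R).subtype) →ₗ[k] (↥B ⧸ A.comap B.subtype) :=
    Submodule.mapQ _ _ (Submodule.inclusion inf_le_left) fun x hx => (Submodule.mem_inf.1 hx).1
  have hi : Function.Injective i := by
    rw [← LinearMap.ker_eq_bot, Submodule.eq_bot_iff]
    intro x hx
    induction x using Submodule.Quotient.induction_on with
    | _ x =>
      have hxA : (x : M) ∈ A := (Submodule.Quotient.mk_eq_zero (A.comap B.subtype)).1 hx
      exact (Submodule.Quotient.mk_eq_zero _).2 (Submodule.mem_inf.2 ⟨hxA, x.2.2⟩)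
  have hex : LinearMap.ker g = LinearMap.range i := by
    apply le_antisymm
    · intro x hx
      induction x using Submodule.Quotient.induction_on with
      | _ x =>
        have hxA : (x : M) ∈ A ⊔ R :=
          (Submodule.Quotient.mk_eq_zero ((A ⊔ R).comap (B ⊔ R).subtype)).1 hx
        obtain ⟨a, ha, r, hr, hax⟩ := Submodule.mem_sup.1 hxA
        have hr' : r = (x : M) - a := eq_sub_of_add_eq' hax
        refine ⟨Submodule.Quotient.mk ⟨r, hr' ▸ B.sub_mem x.2 (h.le ha), hr⟩,
          (Submodule.Quotient.eq _).2 ?_⟩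
        show r - (x : M) ∈ A
        rw [hr', sub_sub_cancel_left]
        exact A.neg_mem ha
    · rintro _ ⟨y, rfl⟩
      induction y using Submodule.Quotient.induction_on with
      | _ y => exact (Submodule.Quotient.mk_eq_zero _).2 (Submodule.mem_sup_right y.2.2)
  haveI := Module.Finite.of_surjective g hg
  refine ⟨_, e₂, ?_, ⟨sup_le_sup_right h.le _, inferInstance, rfl⟩, h₂⟩
  have h3 := g.finrank_range_add_finrank_ker
  rw [LinearMap.range_eq_top.2 hg, finrank_top, hex, LinearMap.finrank_range_of_inj hi, h₂.2.2,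
    h.2.2] at h3
  exact h3

/-- Image under an injective linear map. -/
lemma RelDim.map {A B : Submodule k M} {d : ℕ} (h : RelDim A B d) (f : M →ₗ[k] N)
    (hf : Function.Injective f) : RelDim (A.map f) (B.map f) d := by
  haveI := h.2.1
  let e := Submodule.equivMapOfInjective f hf B
  let g : ↥(B.map f) →ₗ[k] (↥B ⧸ A.comap B.subtype) := (A.comap B.subtype).mkQ ∘ₗ e.symm.toLinearMap
  have := relDim_of_surjective (Submodule.map_mono h.le) g
    ((Submodule.mkQ_surjective _).comp e.symm.surjective) (by
      ext x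
      rw [LinearMap.mem_ker]
      refine (Submodule.Quotient.mk_eq_zero _).trans ?_
      obtain ⟨y, rfl⟩ := e.surjective x
      simp [e, Submodule.mem_map, hf.eq_iff])
  rwa [h.2.2] at this

end Groth.Agent.FF
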