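import Groth.Agent.FF.Exist
import Groth.Agent.FF.RelDim

/-! Divisors, `L(D)`, `A(D)`, and the degree of principal divisors. -/

set_option autoImplicit false
set_option linter.style.haveILetI false
set_option linter.unusedSectionVars false

open FunFld WithZero IntermediateField

namespace Groth.Agent.FF

variable {k K : Type*} [Field k] [Field K] [Algebra k K]

section General

@[simp] lemma deg_zero' : (0 : Divisor k K).deg = 0 := Finsupp.sum_zero_index

lemma deg_add (D E : Divisor k K) : (D + E).deg = D.deg + E.deg :=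
  Finsupp.sum_add_index' (fun _ => zero_mul _) fun _ _ _ => add_mul _ _ _

lemma deg_neg (D : Divisor k K) : (-D).deg = -D.deg := by
  have := deg_add D (-D)
  rw [add_neg_cancel, deg_zero'] at this
  omega

lemma deg_sub (D E : Divisor k K) : (D - E).deg = D.deg - E.deg := by
  rw [sub_eq_add_neg, deg_add, deg_neg]; ring

lemma deg_single (P : Place k K) (n : ℤ) :
    Divisor.deg (Finsupp.single P n) = n * P.deg :=
  Finsupp.sum_single_index (zero_mul _)

lemma deg_zsmul (n : ℤ) (D : Divisor k K) : (n • D).deg = n * D.deg := by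
  induction n using Int.induction_on with
  | zero => rw [zero_smul, deg_zero']; ring
  | succ n ih => rw [add_smul, one_smul, deg_add, ih]; ring
  | pred n ih => rw [sub_smul, one_smul, deg_sub, ih]; ring

lemma deg_nonneg {D : Divisor k K} (h : 0 ≤ D) : 0 ≤ D.deg :=
  Finset.sum_nonneg fun P _ => mul_nonneg (h P) (Int.natCast_nonneg _)

lemma deg_mono {D E : Divisor k K} (h : D ≤ E) : D.deg ≤ E.deg := by
  have := deg_nonneg (sub_nonneg.2 h)
  rw [deg_sub] at this; omega

lemma mem_L {D : Divisor k K} {x : K} : x ∈ L D ↔ ∀ P, P.1 x ≤ exp (D P) := Iff.rfl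

lemma mem_AD {D : Divisor k K} {a : Place k K → K} : a ∈ AD D ↔ ∀ P, P.1 (a P) ≤ exp (D P) := Iff.rfl

lemma mem_adele {a : Place k K → K} :
    a ∈ adele k K ↔ {P : Place k K | ¬ P.1 (a P) ≤ 1}.Finite := Iff.rfl

lemma AD_mono {D E : Divisor k K} (h : D ≤ E) : AD D ≤ AD E :=
  fun _ ha P => (ha P).trans (exp_le_exp.2 (h P))

lemma L_mono {D E : Divisor k K} (h : D ≤ E) : L D ≤ L E :=
  fun _ ha P => (ha P).trans (exp_le_exp.2 (h P))

lemma AD_le_adele (D : Divisor k K) : AD D ≤ adele k K := by
  intro a ha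
  refine Set.Finite.subset D.support.finite_toSet fun P hP => ?_
  simp only [Finset.mem_coe, Finsupp.mem_support_iff]
  intro h0
  exact hP ((ha P).trans_eq (by rw [h0, exp_zero]))

lemma L_eq_comap (D : Divisor k K) : L D = (AD D).comap (diag k K) := rfl

lemma diag_injective [Nonempty (Place k K)] : Function.Injective (diag k K) := fun x y h => by
  obtain ⟨P⟩ := (inferInstance : Nonempty (Place k K))
  exact congrFun h P

lemma AD_sup (D₁ D₂ : Divisor k K) : AD (D₁ ⊔ D₂) = AD D₁ ⊔ AD D₂ := by
  classical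
  refine le_antisymm (fun a ha => ?_) (sup_le (AD_mono le_sup_left) (AD_mono le_sup_right))
  refine Submodule.mem_sup.2 ⟨fun P => if D₂ P ≤ D₁ P then a P else 0, fun P => ?_,
    fun P => if D₂ P ≤ D₁ P then 0 else a P, fun P => ?_, funext fun P => ?_⟩
  · dsimp only
    split_ifs with h
    · refine (ha P).trans_eq ?_
      rw [Finsupp.sup_apply, sup_of_le_left h]
    · simp
  · dsimp only
    split_ifs with h
    · simp
    · refine (ha P).trans_eq ?_
      rw [Finsupp.sup_apply, sup_of_le_right (le_of_not_ge h)]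
  · simp only [Pi.add_apply]
    split_ifs <;> simp

/-- Elements of `K` of value at most `exp n` at `P`. -/
def Val (P : Place k K) (n : ℤ) : Submodule k K where
  carrier := {x | P.1 x ≤ exp n}
  add_mem' {x y} hx hy := (P.1.map_add x y).trans (max_le hx hy)
  zero_mem' := by simp
  smul_mem' c x hx := (val_smul_le P c x).trans hx

lemma mem_Val {P : Place k K} {n : ℤ} {x : K} : x ∈ Val P n ↔ P.1 x ≤ exp n := Iff.rfl

end General

section

variable (hK : IsFF k K)

include hK

lemma div_apply (x : K) (P : Place k K) : div k x P = P.ord x := by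
  unfold FunFld.div
  rw [dif_pos (finite_support_ord hK x)]
  rfl

lemma div_mul {x y : K} (hx : x ≠ 0) (hy : y ≠ 0) : div k (x * y) = div k x + div k y := by
  ext P; simp [div_apply hK, ord_mul P hx hy]

lemma div_inv (x : K) : div k x⁻¹ = - div k x := by
  ext P; simp [div_apply hK, ord_inv]

lemma div_const (c : k) : div k (algebraMap k K c) = 0 := by
  ext P; simp [div_apply hK, ord_const]

lemma mem_L_iff {D : Divisor k K} {x : K} (hx : x ≠ 0) : x ∈ L D ↔ 0 ≤ D + div k x := by
  rw [mem_L, Finsupp.le_def]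
  simp only [Finsupp.add_apply, div_apply hK, val_le_exp_iff _ hx, Finsupp.coe_zero, Pi.zero_apply]
  exact forall_congr' fun P => by omega

lemma nonempty_place : Nonempty (Place k K) := by
  obtain ⟨x, hx⟩ := exists_transcendental hK
  exact ⟨(exists_zero hK hx).choose⟩

lemma relDim_Val_step (P : Place k K) (n : ℤ) : RelDim (Val P (n - 1)) (Val P n) P.deg := by
  haveI := finiteDimensional_residueField hK P
  obtain ⟨t, ht⟩ := exists_val P (-n)
  have ht0 := ne_zero_of_val_eq_exp P ht
  have hm : ∀ x : Val P n, (x : K) * t ∈ P.O := fun x => by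
    rw [mem_O, map_mul, ht]
    calc P.1 (x : K) * exp (-n) ≤ exp n * exp (-n) := mul_le_mul_left x.2 _
      _ = 1 := by rw [← exp_add, add_neg_cancel, exp_zero]
  let m : Val P n →ₗ[k] P.O :=
    { toFun := fun x => ⟨(x : K) * t, hm x⟩
      map_add' := fun x y => Subtype.ext (add_mul (x : K) y t)
      map_smul' := fun c x => Subtype.ext (by
        rw [RingHom.id_apply, coe_smul_O]; exact smul_mul_assoc c (x : K) t) }
  refine relDim_of_surjective (fun x hx => (hx : P.1 x ≤ _).trans (exp_le_exp.2 (by omega)))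
    ((resHom P).toLinearMap ∘ₗ m) ?_ ?_
  · intro r
    obtain ⟨a, rfl⟩ := resHom_surjective P r
    refine ⟨⟨(a : K) / t, ?_⟩, congrArg (resHom P) (Subtype.ext (div_mul_cancel₀ _ ht0))⟩
    rw [mem_Val, map_div₀, ht, div_le_iff₀ (by simp [exp_pos]), ← exp_add, add_neg_cancel, exp_zero]
    exact (mem_O P).1 a.2
  · ext x
    refine LinearMap.mem_ker.trans ((resHom_eq_zero_iff P (a := m x)).trans ?_)
    simp only [Submodule.mem_comap, Submodule.subtype_apply, mem_Val]
    show P.1 ((x : K) * t) < 1 ↔ _
    rw [map_mul, ht, ← lt_exp_iff]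
    rw [← mul_lt_mul_iff_left₀ (exp_pos (a := n)) (b := P.1 (x : K) * exp (-n)), mul_assoc, ← exp_add,
      neg_add_cancel, exp_zero, mul_one, one_mul]

lemma relDim_Val (P : Place k K) {m n : ℤ} (h : m ≤ n) :
    RelDim (Val P m) (Val P n) ((n - m).toNat * P.deg) := by
  induction n, h using Int.leInduction with
  | base => simpa using relDim_refl (Val P m)
  | succ n hn ih =>
    have h2 := relDim_Val_step hK P (n + 1)
    rw [add_sub_cancel_right] at h2
    convert! ih.trans h2 using 1
    rw [show (n + 1 - m).toNat = (n - m).toNat + 1 by omega]; ring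

lemma relDim_AD {D₁ D₂ : Divisor k K} (h : D₁ ≤ D₂) :
    RelDim (AD D₁) (AD D₂) (D₂.deg - D₁.deg).toNat := by
  classical
  set s := (D₂ - D₁).support with hs
  have hfd : ∀ P : s, RelDim (Val (P : Place k K) (D₁ P)) (Val (P : Place k K) (D₂ P))
      ((D₂ P - D₁ P).toNat * (P : Place k K).deg) := fun P => relDim_Val hK _ (h _)
  haveI := fun P => (hfd P).2.1
  let f : ↥(AD D₂) →ₗ[k] ((P : s) → (↥(Val (P : Place k K) (D₂ P)) ⧸ (Val (P : Place k K) (D₁ P)).comap (Val (P : Place k K) (D₂ P)).subtype)) := LinearMap.pi fun P =>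
    Submodule.mkQ _ ∘ₗ LinearMap.codRestrict (Val (P : Place k K) (D₂ P))
      ((LinearMap.proj (R := k) (φ := fun _ : Place k K => K) (P : Place k K)) ∘ₗ (AD D₂).subtype) fun a => a.2 (P : Place k K)
  have hsurj : Function.Surjective f := by
    intro v
    choose w hw using fun P : s => Submodule.mkQ_surjective _ (v P)
    refine ⟨⟨fun P => if hP : P ∈ s then (w ⟨P, hP⟩ : K) else 0, fun P => ?_⟩, funext fun P => ?_⟩
    · dsimp only
      split_ifs with hP
      · exact (w ⟨P, hP⟩).2
      · simp
    · rw [← hw P]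
      exact congrArg (Submodule.mkQ _) (Subtype.ext (dif_pos P.2))
  have hker : LinearMap.ker f = (AD D₁).comap (AD D₂).subtype := by
    ext a
    constructor
    · intro ha P
      by_cases hP : P ∈ s
      · exact (Submodule.Quotient.mk_eq_zero _).1 (congrFun (LinearMap.mem_ker.1 ha) ⟨P, hP⟩)
      · refine (a.2 P).trans_eq ?_
        simp only [hs, Finsupp.mem_support_iff, Finsupp.sub_apply, ne_eq, not_not, sub_eq_zero] at hP
        rw [hP]
    · intro ha
      exact funext fun P => (Submodule.Quotient.mk_eq_zero _).2 (ha P)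
  have hR := relDim_of_surjective' (V := ((P : s) → (↥(Val (P : Place k K) (D₂ P)) ⧸ (Val (P : Place k K) (D₁ P)).comap (Val (P : Place k K) (D₂ P)).subtype)))
    (AD_mono h) f hsurj hker
  convert! hR using 1
  haveI hfree : ∀ P : s, Module.Free k (↥(Val (P : Place k K) (D₂ P)) ⧸
      (Val (P : Place k K) (D₁ P)).comap (Val (P : Place k K) (D₂ P)).subtype) := fun P =>
    Module.Free.of_divisionRing k _
  rw [Module.finrank_pi_fintype]
  zify [deg_mono h]
  rw [Int.toNat_of_nonneg (sub_nonneg.2 (deg_mono h)), ← deg_sub, Divisor.deg, Finsupp.sum,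
    ← Finset.sum_coe_sort]
  refine Finset.sum_congr rfl fun P _ => ?_
  rw [(hfd P).2.2, Nat.cast_mul, Int.toNat_of_nonneg (sub_nonneg.2 (h _)), Finsupp.sub_apply]

lemma diag_mem_adele (x : K) : diag k K x ∈ adele k K :=
  mem_adele.2 ((finite_poles hK x).subset fun _ h => not_le.1 h)

lemma range_diag_le_adele : LinearMap.range (diag k K) ≤ adele k K := by
  rintro _ ⟨x, rfl⟩
  exact diag_mem_adele hK x

lemma mul_mem_adele (x : K) : ∀ a ∈ adele k K, x • a ∈ adele k K := fun a ha =>
  mem_adele.2 (((finite_poles hK x).union (mem_adele.1 ha)).subset fun P hP => by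
    by_contra hc
    simp only [Set.mem_union, Set.mem_ofPred_eq, not_or, not_lt, not_not] at hc
    exact hP (by simpa using mul_le_one' hc.1 hc.2))

lemma AD_inf_range (D : Divisor k K) :
    AD D ⊓ LinearMap.range (diag k K) = (L D).map (diag k K) := by
  rw [L_eq_comap, Submodule.map_comap_eq, inf_comm]

omit hK in
lemma L_zero_le_of_const (c : k) : algebraMap k K c ∈ L (0 : Divisor k K) := fun P => by
  simpa using val_const_le P c

lemma finrank_one : Module.finrank k (1 : Submodule k K) = 1 := by
  rw [Submodule.one_eq_span]; exact finrank_span_singleton one_ne_zero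

lemma relDim_L {D₁ D₂ : Divisor k K} (h : D₁ ≤ D₂) :
    ∃ e : ℕ, (e : ℤ) ≤ D₂.deg - D₁.deg ∧ RelDim (L D₁) (L D₂) e := by
  obtain ⟨e, he, hR⟩ := (relDim_AD hK h).inf (LinearMap.range (diag k K))
  rw [AD_inf_range hK, AD_inf_range hK] at hR
  haveI := nonempty_place hK
  refine ⟨e, by have := deg_mono h; omega, ?_⟩
  have hle : L D₁ ≤ L D₂ := L_mono h
  haveI := hR.2.1
  let g : ↥(L D₂) →ₗ[k] (↥((L D₂).map (diag k K)) ⧸ ((L D₁).map (diag k K)).comap
      ((L D₂).map (diag k K)).subtype) :=
    Submodule.mkQ _ ∘ₗ (Submodule.equivMapOfInjective _ diag_injective (L D₂)).toLinearMap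
  have := relDim_of_surjective hle g
    ((Submodule.mkQ_surjective _).comp (LinearEquiv.surjective _)) (by
      ext x
      rw [LinearMap.mem_ker]
      refine (Submodule.Quotient.mk_eq_zero _).trans ?_
      simp [Submodule.mem_map, diag_injective.eq_iff])
  rwa [hR.2.2] at this

lemma isAlgebraic_of_mem_L_zero {x : K} (h : x ∈ L (0 : Divisor k K)) : IsAlgebraic k x := by
  by_contra htr
  have htr : Transcendental k x := htr
  have hx0 : x ≠ 0 := fun e => htr (e ▸ isAlgebraic_zero)
  obtain ⟨P, hP⟩ := exists_zero hK (x := x⁻¹) (fun e => htr (by simpa using e.inv))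
  have h1 := h P
  rw [map_inv₀, inv_lt_one₀ (zero_lt_iff.2 (by simpa using hx0))] at hP
  rw [Finsupp.coe_zero, Pi.zero_apply, exp_zero] at h1
  exact absurd hP (not_lt.2 h1)

lemma finiteDimensional_L (D : Divisor k K) : FiniteDimensional k (L D) := by
  haveI : FiniteDimensional k (L (0 : Divisor k K)) := by
    obtain ⟨P⟩ := nonempty_place hK
    haveI := finiteDimensional_residueField hK P
    let f : L (0 : Divisor k K) →ₗ[k] P.O :=
      { toFun := fun x => ⟨(x : K), (mem_O P).2 ((x.2 P).trans_eq (by simp))⟩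
        map_add' := fun x y => rfl
        map_smul' := fun c x => Subtype.ext (by rw [RingHom.id_apply, coe_smul_O]; rfl) }
    haveI : IsNoetherian k (IsLocalRing.ResidueField P.O) :=
      @isNoetherian_of_isNoetherianRing_of_finite k _ _ _ _ _ (finiteDimensional_residueField hK P)
    let g : L (0 : Divisor k K) →ₗ[k] IsLocalRing.ResidueField P.O :=
      { toFun := fun x => resHom P (f x)
        map_add' := fun x y => by rw [map_add, map_add]
        map_smul' := fun c x => by rw [map_smul, map_smul]; rfl }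
    refine Module.Finite.of_injective g ?_
    rw [← LinearMap.ker_eq_bot, Submodule.eq_bot_iff]
    intro x hx
    have h1 : P.1 (x : K) < 1 := (resHom_eq_zero_iff P (a := f x)).1 hx
    by_contra hne
    have hx0 : (x : K) ≠ 0 := fun e => hne (Subtype.ext e)
    have h2 := val_eq_one_of_isAlgebraic P.1 (fun c hc => val_const P hc)
      (isAlgebraic_of_mem_L_zero hK x.2) hx0
    rw [h2] at h1
    exact lt_irrefl _ h1
  obtain ⟨e, -, h⟩ := relDim_L hK (D₂ := D ⊔ 0) le_sup_right
  haveI := h.finiteDimensional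
  exact Submodule.finiteDimensional_of_le (L_mono (le_sup_left : D ≤ D ⊔ 0))

lemma relDim_L_ell {D₁ D₂ : Divisor k K} (h : D₁ ≤ D₂) :
    ell D₁ ≤ ell D₂ ∧ (ell D₂ : ℤ) - ell D₁ ≤ D₂.deg - D₁.deg ∧
      RelDim (L D₁) (L D₂) (ell D₂ - ell D₁) := by
  obtain ⟨e, he, hR⟩ := relDim_L hK h
  haveI := finiteDimensional_L hK D₁
  have h2 : ell D₂ = ell D₁ + e := hR.finrank_eq
  refine ⟨by omega, by omega, ?_⟩
  rwa [h2, Nat.add_sub_cancel_left]

lemma ell_le_deg_add {D : Divisor k K} (h : 0 ≤ D) :
    (ell D : ℤ) ≤ D.deg + ell (0 : Divisor k K) := by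
  have := (relDim_L_ell hK h).2.1
  rw [deg_zero'] at this
  omega

/-- Divisor of zeros. -/
noncomputable def zeroDiv (x : K) : Divisor k K := (div k x) ⊔ 0

omit hK in
lemma zeroDiv_nonneg (x : K) : 0 ≤ zeroDiv (k := k) x := le_sup_right

lemma deg_zeroDiv_eq_sum (x : K) :
    (zeroDiv (k := k) x).deg =
      ∑ P ∈ (div k x).support with 0 < div k x P, div k x P * (P.deg : ℤ) := by
  rw [Divisor.deg, Finsupp.sum]
  have hsupp : (zeroDiv (k := k) x).support = (div k x).support.filter fun P => 0 < div k x P := by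
    ext P
    simp only [zeroDiv, Finsupp.mem_support_iff, Finsupp.sup_apply, Finsupp.coe_zero, Pi.zero_apply,
      Finset.mem_filter]
    omega
  rw [hsupp]
  refine Finset.sum_congr rfl fun P hP => ?_
  rw [Finset.mem_filter] at hP
  rw [zeroDiv, Finsupp.sup_apply, Finsupp.coe_zero, Pi.zero_apply, sup_of_le_left hP.2.le]

/-- `deg (x)₀ = [K : k(x)]`. -/
lemma deg_zeroDiv {x : K} (hx : Transcendental k x) :
    (zeroDiv (k := k) x).deg = Module.finrank k⟮x⟯ K := by
  classical
  have hx0 : x ≠ 0 := fun h => hx (h ▸ isAlgebraic_zero)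
  haveI := finite_adjoin hK hx
  apply le_antisymm
  · rw [deg_zeroDiv_eq_sum hK]
    have h := sum_ord_deg_le hK hx ((div k x).support.filter fun P => 0 < div k x P) (fun P hP => by
      rw [Finset.mem_filter, div_apply hK] at hP
      exact (val_lt_one_iff P hx0).2 hP.2)
    refine le_trans (le_of_eq ?_) (Int.ofNat_le.2 h)
    push_cast
    refine Finset.sum_congr rfl fun P hP => ?_
    rw [Finset.mem_filter, div_apply hK] at hP
    rw [div_apply hK, Int.toNat_of_nonneg hP.2.le]
  · set n := Module.finrank k⟮x⟯ K with hn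
    let b := Module.finBasis k⟮x⟯ K
    set A := zeroDiv (k := k) x with hA
    let C : Divisor k K := ∑ i, ((- div k (b i)) ⊔ 0)
    have hC : ∀ i, ∀ P : Place k K, 0 ≤ C P ∧ -(P.ord (b i)) ≤ C P := by
      intro i P
      have h1 : ∀ j, 0 ≤ ((- div k (b j)) ⊔ 0 : Divisor k K) P := fun j => by simp
      have h2 := Finset.single_le_sum (fun j _ => h1 j) (Finset.mem_univ i)
      simp only [C, Finsupp.coe_finsetSum, Finset.sum_apply]
      simp only [Finsupp.sup_apply, Finsupp.neg_apply, div_apply hK, Finsupp.coe_zero,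
        Pi.zero_apply, sup_le_iff] at h2 ⊢
      omega
    set e0 := ell (0 : Divisor k K) with he0
    have key : ∀ l : ℕ, (n : ℤ) * (l + 1) ≤ l * A.deg + C.deg + e0 := by
      intro l
      let f : (Fin (l + 1) × Fin n) → L ((l : ℤ) • A + C) := fun p => ⟨(x⁻¹) ^ (p.1 : ℕ) * b p.2, by
        have hne : (x⁻¹) ^ (p.1 : ℕ) * b p.2 ≠ 0 := mul_ne_zero (pow_ne_zero _ (inv_ne_zero hx0)) (b.ne_zero _)
        intro P
        rw [val_le_exp_iff P hne, ord_mul P (pow_ne_zero _ (inv_ne_zero hx0)) (b.ne_zero _), ord_pow, ord_inv]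
        simp only [Finsupp.add_apply, Finsupp.smul_apply, smul_eq_mul, hA, zeroDiv, Finsupp.sup_apply,
          div_apply hK, Finsupp.coe_zero, Pi.zero_apply]
        obtain ⟨h1, h2⟩ := hC p.2 P
        have h3 : ((p.1 : ℕ) : ℤ) * (P.ord x) ≤ l * max (P.ord x) 0 :=
          (mul_le_mul_of_nonneg_left (le_max_left _ 0) (by omega)).trans
            (mul_le_mul_of_nonneg_right (by omega) (le_max_right _ _))
        have : P.ord x ⊔ 0 = max (P.ord x) 0 := rfl
        rw [this]; linarith⟩
      have hf : LinearIndependent k f := by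
        apply LinearIndependent.of_comp (L ((l : ℤ) • A + C)).subtype
        have hxinv : Transcendental k x⁻¹ := fun h => hx (by simpa using h.inv)
        have hpow : LinearIndependent k fun j : Fin (l + 1) =>
            (⟨x⁻¹, inv_mem (mem_adjoin_simple_self k x)⟩ : k⟮x⟯) ^ (j : ℕ) := by
          rw [Fintype.linearIndependent_iff]
          intro g hg
          have h0 : Polynomial.aeval x⁻¹ (∑ j : Fin (l + 1), Polynomial.C (g j) * Polynomial.X ^ (j : ℕ)) = 0 := by
            have := congrArg (IntermediateField.val k⟮x⟯) hg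
            simpa [Algebra.smul_def] using this
          have h1 : (∑ j : Fin (l + 1), Polynomial.C (g j) * Polynomial.X ^ (j : ℕ)) = 0 := by
            by_contra hne; exact hxinv ⟨_, hne, h0⟩
          intro j
          have := congrArg (Polynomial.coeff · (j : ℕ)) h1
          simpa [Polynomial.coeff_X_pow, Fin.val_inj] using this
        have h3 := linearIndependent_smul hpow b.linearIndependent
        convert! h3 using 1
      haveI := finiteDimensional_L hK ((l : ℤ) • A + C)
      have h1 := hf.fintype_card_le_finrank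
      simp only [Fintype.card_prod, Fintype.card_fin] at h1
      have hnn : 0 ≤ (l : ℤ) • A + C := add_nonneg
        (fun P => by simp only [Finsupp.coe_zero, Pi.zero_apply, Finsupp.smul_apply, smul_eq_mul]; exact mul_nonneg (by omega) (zeroDiv_nonneg x P))
        (Finset.sum_nonneg fun i _ => le_sup_right)
      have h2 := ell_le_deg_add hK hnn
      rw [deg_add, deg_zsmul] at h2
      have : ((l + 1) * n : ℤ) ≤ ell ((l : ℤ) • A + C) := by exact_mod_cast h1
      linarith
    by_contra hc
    have := key (C.deg + e0).toNat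
    have hd : ((C.deg + e0).toNat : ℤ) ≥ C.deg + e0 := Int.self_le_toNat _
    have : ((C.deg + e0).toNat : ℤ) * A.deg + (C.deg + e0).toNat ≤ (C.deg + e0).toNat * (n : ℤ) := by
      have h' : A.deg + 1 ≤ (n : ℤ) := by omega
      calc _ = ((C.deg + e0).toNat : ℤ) * (A.deg + 1) := by ring
        _ ≤ _ := mul_le_mul_of_nonneg_left h' (by omega)
    have hn0 : 0 < n := Module.finrank_pos
    nlinarith

/-- Principal divisors have degree zero. -/
lemma deg_div (x : K) : (div k x).deg = 0 := by
  by_cases hx : IsAlgebraic k x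
  · have : div k x = 0 := by ext P; simp [div_apply hK, ord_eq_zero_of_isAlgebraic P hx]
    rw [this, deg_zero']
  · have h1 : Transcendental k x := hx
    have h2 : Transcendental k x⁻¹ := fun h => h1 (by simpa using h.inv)
    have : div k x = zeroDiv (k := k) x - zeroDiv (k := k) x⁻¹ := by
      ext P
      simp only [zeroDiv, div_inv hK, Finsupp.sub_apply, Finsupp.sup_apply, Finsupp.neg_apply,
        Finsupp.coe_zero, Pi.zero_apply]
      omega
    rw [this, deg_sub, deg_zeroDiv hK h1, deg_zeroDiv hK h2]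
    have : k⟮x⁻¹⟯ = k⟮x⟯ := by
      apply le_antisymm <;> rw [adjoin_simple_le_iff]
      · exact inv_mem (mem_adjoin_simple_self k x)
      · have := inv_mem (mem_adjoin_simple_self k x⁻¹)
        rwa [inv_inv] at this
    rw [this, sub_self]

end

section Constants

variable {k K : Type*} [Field k] [Field K] [Algebra k K] (hK : IsFunctionField k K)

include hK

lemma L_zero : L (0 : Divisor k K) = 1 := by
  ext x
  rw [Submodule.mem_one]
  refine ⟨fun h => ?_, ?_⟩
  · by_contra hx
    have hx' : x ∉ Set.range (algebraMap k K) := fun ⟨c, hc⟩ => hx ⟨c, hc⟩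
    have htr := transcendental_of_notMem hK hx'
    have hx0 : x ≠ 0 := fun e => htr (e ▸ isAlgebraic_zero)
    obtain ⟨P, hP⟩ := exists_zero hK (x := x⁻¹) (fun e => htr (by simpa using e.inv))
    have h1 := h P
    rw [map_inv₀, inv_lt_one₀ (zero_lt_iff.2 (by simpa using hx0))] at hP
    rw [Finsupp.coe_zero, Pi.zero_apply, exp_zero] at h1
    exact absurd hP (not_lt.2 h1)
  · rintro ⟨c, rfl⟩
    exact L_zero_le_of_const c

lemma ell_zero : ell (0 : Divisor k K) = 1 := by
  rw [ell, L_zero hK, finrank_one hK]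

lemma ell_le_of_nonneg {D : Divisor k K} (h : 0 ≤ D) : (ell D : ℤ) ≤ D.deg + 1 := by
  have := (relDim_L_ell hK h).2.1
  rw [ell_zero hK, deg_zero'] at this
  omega

end Constants

end Groth.Agent.FF
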