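import Groth.Agent.FF.Fund

/-! Places from valuation subrings, existence of zeros, finiteness of zeros and poles. -/

set_option autoImplicit false
set_option linter.style.haveILetI false

open FunFld WithZero IntermediateField

namespace Groth.Agent.FF

variable {k K : Type*} [Field k] [Field K] [Algebra k K]

lemma valuation_le_one_of_mem (O : ValuationSubring K) (hkO : ∀ c : k, algebraMap k K c ∈ O)
    {y : K} (hy : O.valuation y ≤ 1) (q : Polynomial k) :
    O.valuation (Polynomial.aeval y q) ≤ 1 := by
  rw [Polynomial.aeval_eq_sum_range]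
  refine Valuation.map_sum_le _ fun i _ => ?_
  rw [Algebra.smul_def, map_mul, map_pow]
  exact mul_le_one' ((O.valuation_le_one_iff _).2 (hkO _)) (pow_le_one₀ zero_le hy)

lemma valuation_algebraMap (O : ValuationSubring K) (hkO : ∀ c : k, algebraMap k K c ∈ O) {c : k}
    (hc : c ≠ 0) : O.valuation (algebraMap k K c) = 1 := by
  refine le_antisymm ((O.valuation_le_one_iff _).2 (hkO c)) ?_
  have h := (O.valuation_le_one_iff _).2 (hkO c⁻¹)
  rwa [map_inv₀, map_inv₀, inv_le_one₀ (zero_lt_iff.2 (by simpa using hc))] at h

variable (hK : IsFF k K)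

include hK

/-- An element of positive order is transcendental. -/
lemma transcendental_of_val_lt_one (P : Place k K) {x : K} (hx0 : x ≠ 0) (hx : P.1 x < 1) :
    Transcendental k x := by
  intro h
  exact absurd hx (not_lt.2 (val_eq_one_of_isAlgebraic P.1 (fun c hc => val_const P hc) h hx0).ge)

lemma finiteDimensional_residueField (P : Place k K) :
    FiniteDimensional k (IsLocalRing.ResidueField P.O) := by
  classical
  obtain ⟨t, ht⟩ := exists_uniformizer P
  have ht0 := ne_zero_of_val_eq_exp P ht
  have hlt : P.1 t < 1 := (val_lt_one_iff P ht0).2 (by rw [ord_of_val_eq P ht]; omega)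
  have htr := transcendental_of_val_lt_one hK P ht0 hlt
  have hbd : ∀ (d : ℕ) (r : Fin d → IsLocalRing.ResidueField P.O), LinearIndependent k r →
      d ≤ Module.finrank k⟮t⟯ K := by
    intro d r hr
    have hall : ∀ Q : Place k K, ∃ (d' : ℕ) (r' : Fin d' → IsLocalRing.ResidueField Q.O),
        LinearIndependent k r' ∧ (Q = P → d' = d) := by
      intro Q
      by_cases h : Q = P
      · subst h; exact ⟨d, r, hr, fun _ => rfl⟩
      · exact ⟨0, Fin.elim0, linearIndependent_empty_type, fun e => absurd e h⟩
    choose d' r' hr' hd using hall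
    have := sum_le_finrank hK htr {P} (by simpa using hlt) d' r' hr'
    simpa [ord_of_val_eq P ht, hd P rfl] using this
  refine Module.rank_lt_aleph0_iff.1 ?_
  refine lt_of_le_of_lt (rank_le (n := Module.finrank k⟮t⟯ K) fun s hs => ?_) (Cardinal.natCast_lt_aleph0)
  exact hbd s.card (fun a => (s.equivFin.symm a : IsLocalRing.ResidueField P.O))
    (hs.comp _ s.equivFin.symm.injective)

lemma deg_pos (P : Place k K) : 0 < P.deg := by
  haveI := finiteDimensional_residueField hK P
  exact Module.finrank_pos

/-- For finitely many zeros of `x`, the sum of `ord · deg` is at most `[K : k(x)]`. -/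
lemma sum_ord_deg_le {x : K} (hx : Transcendental k x) (s : Finset (Place k K))
    (hs : ∀ P ∈ s, P.1 x < 1) :
    ∑ P ∈ s, (P.ord x).toNat * P.deg ≤ Module.finrank k⟮x⟯ K := by
  haveI := fun P : Place k K => finiteDimensional_residueField hK P
  exact sum_le_finrank hK hx s hs (fun P => P.deg)
    (fun P => Module.finBasis k (IsLocalRing.ResidueField P.O))
    fun P => (Module.finBasis k (IsLocalRing.ResidueField P.O)).linearIndependent

lemma finite_zeros {x : K} (hx : Transcendental k x) : {P : Place k K | P.1 x < 1}.Finite := by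
  by_contra hinf
  obtain ⟨s, hsub, hcard⟩ := Set.Infinite.exists_subset_card_eq hinf (Module.finrank k⟮x⟯ K + 1)
  have h := sum_ord_deg_le hK hx s hsub
  have hx0 : x ≠ 0 := fun h => hx (h ▸ isAlgebraic_zero)
  have h1 : ∀ P ∈ s, 1 ≤ (P.ord x).toNat * P.deg := fun P hP => by
    have := (val_lt_one_iff P hx0).1 (hsub hP)
    exact Nat.mul_pos (by omega) (deg_pos hK P)
  have := Finset.card_nsmul_le_sum s _ 1 h1
  simp only [smul_eq_mul, mul_one] at this
  omega

lemma finite_support_ord (x : K) : (Function.support fun P : Place k K => P.ord x).Finite := by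
  by_cases hx : IsAlgebraic k x
  · have : ∀ P : Place k K, P.ord x = 0 := fun P => ord_eq_zero_of_isAlgebraic P hx
    simp [this]
  · have h1 : Transcendental k x := hx
    have hx0 : x ≠ 0 := fun h => h1 (h ▸ isAlgebraic_zero)
    have h2 : Transcendental k x⁻¹ := fun h => h1 (by simpa using h.inv)
    refine Set.Finite.subset ((finite_zeros hK h1).union (finite_zeros hK h2)) fun P hP => ?_
    rcases lt_or_gt_of_ne (Function.mem_support.1 hP) with h | h
    · refine Or.inr ((val_lt_one_iff P (inv_ne_zero hx0)).2 ?_)
      rw [ord_inv]; omega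
    · exact Or.inl ((val_lt_one_iff P hx0).2 h)

lemma finite_poles (x : K) : {P : Place k K | 1 < P.1 x}.Finite :=
  (finite_support_ord hK x).subset fun P hP => ((one_lt_val_iff P x).1 hP).ne

/-- A set of elements with values in `(v y, 1)` has at most `[K : k(y)]` distinct values. -/
lemma card_le_finrank_of_valuation (O : ValuationSubring K) (hkO : ∀ c : k, algebraMap k K c ∈ O)
    {y : K} (hy0 : y ≠ 0) (hy : O.valuation y < 1) (s : Finset K)
    (hs : ∀ z ∈ s, O.valuation y < O.valuation z ∧ O.valuation z < 1)
    (hinj : Set.InjOn O.valuation (s : Set K)) : s.card ≤ Module.finrank k⟮y⟯ K := by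
  classical
  have htr : Transcendental k y := by
    intro h
    rw [val_eq_one_of_isAlgebraic O.valuation (fun c hc => valuation_algebraMap O hkO hc) h hy0] at hy
    exact lt_irrefl _ hy
  haveI := finite_adjoin hK htr
  have hind : LinearIndependent (Algebra.adjoin k ({y} : Set K)) (fun z : s => (z : K)) := by
    rw [Fintype.linearIndependent_iff]
    intro g hg
    have hg' : ∀ i, ∃ p : Polynomial k, Polynomial.aeval y p = (g i : K) := fun i =>
      (AlgHom.mem_range _).1 ((Algebra.adjoin_singleton_eq_range_aeval k y).le (g i).2)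
    choose p hp using hg'
    suffices h : ∀ (n : ℕ) (p : s → Polynomial k), (∀ i m, n ≤ m → (p i).coeff m = 0) →
        ∑ i, Polynomial.aeval y (p i) * (i : K) = 0 → ∀ i, p i = 0 by
      intro i
      have := h ((Finset.univ.sup fun i => (p i).natDegree) + 1) p (fun i m hm =>
        Polynomial.coeff_eq_zero_of_natDegree_lt
          ((Finset.le_sup (f := fun i => (p i).natDegree) (Finset.mem_univ i)).trans_lt hm))
        (by simpa [hp, Algebra.smul_def] using hg) i
      exact Subtype.ext (by rw [← hp, this, map_zero]; rfl)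
    intro n
    induction n with
    | zero => exact fun p h _ i => Polynomial.ext fun m => by simpa using h i m (Nat.zero_le _)
    | succ n ih =>
      intro p hdeg hsum
      have hc : ∀ i, (p i).coeff 0 = 0 := by
        by_contra! hne
        obtain ⟨i₀, hi₀⟩ := hne
        obtain ⟨j, hj, hmax⟩ := (Finset.univ.filter fun i => (p i).coeff 0 ≠ 0).exists_max_image
          (fun i : s => O.valuation (i : K)) ⟨i₀, by simpa using hi₀⟩
        simp only [Finset.mem_filter, Finset.mem_univ, true_and] at hj hmax
        have hsplit : ∀ i : s, Polynomial.aeval y (p i) * (i : K) =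
            algebraMap k K ((p i).coeff 0) * i + y * Polynomial.aeval y (p i).divX * i := fun i => by
          nth_rw 1 [← Polynomial.X_mul_divX_add (p i)]
          simp only [map_add, map_mul, Polynomial.aeval_X, Polynomial.aeval_C]
          ring
        simp only [hsplit] at hsum
        have hrest : O.valuation (∑ i, y * Polynomial.aeval y (p i).divX * (i : K)) ≤ O.valuation y := by
          refine Valuation.map_sum_le _ fun i _ => ?_
          rw [map_mul, map_mul]
          refine (mul_le_mul' (mul_le_mul' le_rfl (valuation_le_one_of_mem O hkO hy.le _))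
            (hs i i.2).2.le).trans ?_
          simp
        have hjv : O.valuation (algebraMap k K ((p j).coeff 0) * (j : K)) = O.valuation (j : K) := by
          rw [map_mul, valuation_algebraMap O hkO hj, one_mul]
        have hmain : O.valuation (∑ i, algebraMap k K ((p i).coeff 0) * (i : K)) = O.valuation (j : K) := by
          rw [← Finset.add_sum_erase _ _ (Finset.mem_univ j), Valuation.map_add_eq_of_lt_left, hjv]
          rw [hjv]
          refine Valuation.map_sum_lt _ (ne_of_gt (lt_of_le_of_lt zero_le (hs j j.2).1)) fun i hi => ?_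
          rw [map_mul]
          rcases eq_or_ne ((p i).coeff 0) 0 with h0 | h0
          · simp only [h0, map_zero, zero_mul]; exact lt_of_le_of_lt zero_le (hs j j.2).1
          · rw [valuation_algebraMap O hkO h0, one_mul]
            refine lt_of_le_of_ne (hmax i h0) fun e => ?_
            exact (Finset.mem_erase.1 hi).1 (Subtype.ext (hinj i.2 j.2 e))
        rw [Finset.sum_add_distrib] at hsum
        rw [eq_neg_of_add_eq_zero_left hsum, Valuation.map_neg] at hmain
        exact absurd (hmain ▸ hrest) (not_le.2 (hs j j.2).1)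
      have hdiv : ∀ i, p i = Polynomial.X * (p i).divX := fun i => by
        conv_lhs => rw [← Polynomial.X_mul_divX_add (p i)]
        rw [hc, map_zero, add_zero]
      have h0 : ∀ i, (p i).divX = 0 := by
        refine ih (fun i => (p i).divX) (fun i m hm => ?_) ?_
        · rw [Polynomial.coeff_divX]; exact hdeg i _ (by omega)
        · refine (mul_eq_zero.1 (?_ : y * _ = 0)).resolve_left hy0
          rw [Finset.mul_sum]
          refine (Finset.sum_congr rfl fun i _ => ?_).trans hsum
          conv_rhs => rw [hdiv i]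
          rw [map_mul, Polynomial.aeval_X, mul_assoc]
      intro i
      rw [hdiv i, h0 i, mul_zero]
  open scoped algebraAdjoinAdjoin in
  have h := ((LinearIndependent.iff_fractionRing (R := Algebra.adjoin k ({y} : Set K))
    (K := k⟮y⟯)).1 hind).fintype_card_le_finrank
  simpa using h

/-- Every valuation ring of `K/k` other than `K` is the ring of a place. -/
lemma exists_place_O_eq (O : ValuationSubring K) (hkO : ∀ c : k, algebraMap k K c ∈ O)
    (hO : O ≠ ⊤) : ∃ P : Place k K, P.O = O := by
  classical
  obtain ⟨x, hx⟩ : ∃ x : K, x ∉ O := by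
    by_contra! h
    exact hO (ValuationSubring.ext _ _ fun x => ⟨fun _ => trivial, fun _ => h x⟩)
  have hx0 : x ≠ 0 := fun e => hx (e ▸ O.zero_mem)
  have hv1 : 1 < O.valuation x := not_le.1 fun h => hx ((O.valuation_le_one_iff x).1 h)
  have hy : O.valuation x⁻¹ < 1 := by rw [map_inv₀]; exact inv_lt_one_of_one_lt₀ hv1
  -- a uniformizer
  obtain ⟨t, ht0, ht1, htmax⟩ : ∃ t : K, t ≠ 0 ∧ O.valuation t < 1 ∧
      ∀ z : K, O.valuation z < 1 → O.valuation z ≤ O.valuation t := by
    by_contra! hno
    have hstep : ∀ n : ℕ, ∃ s : Finset K, s.card = n ∧ Set.InjOn O.valuation (s : Set K) ∧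
        ∀ z ∈ s, O.valuation x⁻¹ < O.valuation z ∧ O.valuation z < 1 := by
      intro n
      induction n with
      | zero => exact ⟨∅, rfl, by simp, by simp⟩
      | succ n ih =>
        obtain ⟨s, hcard, hinj, hs⟩ := ih
        obtain ⟨m, hm, hmv⟩ := (insert x⁻¹ s).exists_max_image (fun z => O.valuation z)
          (Finset.insert_nonempty _ _)
        have hm1 : O.valuation m < 1 ∧ O.valuation x⁻¹ ≤ O.valuation m := by
          rcases Finset.mem_insert.1 hm with h | h
          · exact ⟨h ▸ hy, h ▸ le_rfl⟩
          · exact ⟨(hs m h).2, (hs m h).1.le⟩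
        have hm0 : m ≠ 0 := by
          rintro rfl
          have := hm1.2
          rw [map_zero] at this
          exact inv_ne_zero hx0 (by simpa using le_zero_iff.1 this)
        obtain ⟨z, hz1, hz2⟩ := hno m hm0 hm1.1
        have hzs : ∀ w ∈ s, O.valuation w < O.valuation z := fun w hw =>
          (hmv w (Finset.mem_insert_of_mem hw)).trans_lt hz2
        have hzn : z ∉ s := fun h => lt_irrefl _ (hzs z h)
        refine ⟨insert z s, by rw [Finset.card_insert_of_notMem hzn, hcard], ?_, ?_⟩
        · rw [Finset.coe_insert, Set.injOn_insert (by exact_mod_cast hzn)]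
          refine ⟨hinj, ?_⟩
          rintro ⟨w, hw, hwz⟩
          exact (hzs w hw).ne hwz
        · simp only [Finset.forall_mem_insert]
          exact ⟨⟨hm1.2.trans_lt hz2, hz1⟩, hs⟩
    obtain ⟨s, hcard, hinj, hs⟩ := hstep (Module.finrank k⟮x⁻¹⟯ K + 1)
    have := card_le_finrank_of_valuation hK O hkO (inv_ne_zero hx0) hy s hs hinj
    omega
  let tO : O := ⟨t, (O.valuation_le_one_iff t).1 ht1.le⟩
  have hdiv : ∀ a : O, ¬ IsUnit a → ∃ b : O, a = tO * b := by
    intro a ha
    have hlt : O.valuation (a : K) < 1 := (O.valuation_lt_one_iff a).1 ha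
    have hb : O.valuation ((a : K) / t) ≤ 1 := by
      rw [map_div₀]
      exact (div_le_one₀ (zero_lt_iff.2 (by simpa using ht0))).2 (htmax _ hlt)
    exact ⟨⟨_, (O.valuation_le_one_iff _).1 hb⟩, Subtype.ext (by simp [tO]; field_simp)⟩
  have htu : ¬ IsUnit tO := (O.valuation_lt_one_iff tO).2 ht1
  have hirr : Irreducible tO := by
    refine irreducible_iff.2 ⟨htu, fun a b hab => ?_⟩
    by_contra! h
    obtain ⟨a', rfl⟩ := hdiv a h.1
    obtain ⟨b', rfl⟩ := hdiv b h.2
    refine htu (IsUnit.of_mul_eq_one (a := tO) (a' * b') ?_)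
    have hne : tO ≠ 0 := fun e => ht0 (congrArg Subtype.val e)
    apply mul_left_cancel₀ hne
    rw [mul_one]
    conv_rhs => rw [hab]
    ring
  have hfact : IsDiscreteValuationRing.HasUnitMulPowIrreducibleFactorization O := by
    refine ⟨tO, hirr, fun {a} ha => ?_⟩
    by_contra! hnot
    have hall : ∀ n : ℕ, ∃ b : O, ¬ IsUnit b ∧ a = tO ^ n * b := by
      intro n
      induction n with
      | zero =>
        refine ⟨a, fun hu => hnot 0 ?_, by simp⟩
        rw [pow_zero]; exact (associated_one_iff_isUnit.2 hu).symm
      | succ n ih =>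
        obtain ⟨b, hb, hab⟩ := ih
        obtain ⟨c, rfl⟩ := hdiv b hb
        exact ⟨c, fun hu => hnot (n + 1) ⟨hu.unit, by rw [hab, pow_succ]; simp [mul_assoc]⟩,
          by rw [hab, pow_succ, mul_assoc]⟩
    have ha1 : O.valuation (a : K) < 1 := by
      refine (O.valuation_lt_one_iff a).1 fun hu => ?_
      obtain ⟨b, hb, hab⟩ := hall 0
      exact hb (by simpa [hab] using hu)
    have hpow : StrictAnti fun n : ℕ => O.valuation t ^ n := pow_right_strictAnti₀ (zero_lt_iff.2 (by simpa using ht0)) ht1
    let d := Module.finrank k⟮(a : K)⟯ K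
    let s := (Finset.range (d + 1)).image fun n => t ^ (n + 1)
    have hinjp : Function.Injective fun n : ℕ => t ^ (n + 1) := fun m n h => by
      have := congrArg O.valuation h
      simp only [map_pow] at this
      exact Nat.succ_injective (hpow.injective this)
    have hle := card_le_finrank_of_valuation hK O hkO (y := (a : K)) (fun e => ha (Subtype.ext e)) ha1
      s ?_ ?_
    · simp only [s, Finset.card_image_of_injective _ hinjp, Finset.card_range, d] at hle
      omega
    · intro z hz
      obtain ⟨n, -, rfl⟩ := Finset.mem_image.1 hz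
      obtain ⟨b, hb, hab⟩ := hall (n + 1)
      refine ⟨?_, by rw [map_pow]; exact pow_lt_one₀ zero_le ht1 n.succ_ne_zero⟩
      have : (a : K) = t ^ (n + 1) * (b : K) := by simpa [tO] using congrArg Subtype.val hab
      rw [this, map_mul]
      exact mul_lt_of_lt_one_right (zero_lt_iff.2 (by simp [ht0]))
        ((O.valuation_lt_one_iff b).1 hb)
    · intro z hz w hw h
      obtain ⟨m, -, rfl⟩ := Finset.mem_image.1 (Finset.mem_coe.1 hz)
      obtain ⟨n, -, rfl⟩ := Finset.mem_image.1 (Finset.mem_coe.1 hw)
      simp only [map_pow] at h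
      have : m + 1 = n + 1 := hpow.injective h
      rw [this]
  haveI : IsDiscreteValuationRing O :=
    IsDiscreteValuationRing.ofHasUnitMulPowIrreducibleFactorization hfact
  let v := (IsDiscreteValuationRing.maximalIdeal O).valuation K
  have hk : ∀ c : k, v (algebraMap k K c) ≤ 1 := fun c =>
    IsDedekindDomain.HeightOneSpectrum.valuation_le_one _ (⟨_, hkO c⟩ : O)
  refine ⟨⟨v, hk, IsDedekindDomain.HeightOneSpectrum.valuation_surjective _ _⟩, ?_⟩
  ext z
  refine (mem_O _).trans ?_
  constructor
  · intro h
    obtain ⟨b, rfl⟩ := IsDiscreteValuationRing.exists_lift_of_le_one h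
    exact b.2
  · exact fun h => IsDedekindDomain.HeightOneSpectrum.valuation_le_one _ (⟨z, h⟩ : O)

/-- Every transcendental element has a zero. -/
lemma exists_zero {x : K} (hx : Transcendental k x) : ∃ P : Place k K, P.1 x < 1 := by
  let A : Subring K := (Algebra.adjoin k ({x} : Set K)).toSubring
  let I : Ideal A := Ideal.span {⟨x, Algebra.self_mem_adjoin_singleton k x⟩}
  have hI : I ≠ ⊤ := by
    rw [Ne, Ideal.span_singleton_eq_top]
    intro hu
    obtain ⟨⟨b, hb⟩, hb'⟩ := hu.exists_left_inv
    obtain ⟨q, rfl⟩ := (AlgHom.mem_range _).1 ((Algebra.adjoin_singleton_eq_range_aeval k x).le hb)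
    have h0 : Polynomial.aeval x (q * Polynomial.X - 1) = 0 := by
      have := congrArg Subtype.val hb'
      simpa [sub_eq_zero] using this
    have h1 : q * Polynomial.X - 1 = 0 := by
      by_contra hne; exact hx ⟨_, hne, h0⟩
    simpa using congrArg (Polynomial.coeff · 0) h1
  obtain ⟨B, hB, hI'⟩ := Ideal.image_subset_nonunits_valuationSubring I hI
  have hkB : ∀ c : k, algebraMap k K c ∈ B := fun c => hB (Subalgebra.algebraMap_mem (Algebra.adjoin k _) c)
  have hxB : x ∈ B.nonunits := hI' ⟨_, Ideal.subset_span rfl, rfl⟩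
  have hne : B ≠ ⊤ := by
    rintro rfl
    rw [ValuationSubring.mem_nonunits_iff_or] at hxB
    exact hxB.elim (fun h => hx (h ▸ isAlgebraic_zero)) fun h => h trivial
  obtain ⟨P, hP⟩ := exists_place_O_eq hK B hkB hne
  refine ⟨P, not_le.1 fun h => ?_⟩
  rw [ValuationSubring.mem_nonunits_iff_or, ← hP] at hxB
  refine hxB.elim (fun h' => hx (h' ▸ isAlgebraic_zero)) fun h' => h' ((mem_O P).2 ?_)
  rw [map_inv₀]
  exact inv_le_one_of_one_le₀ h

end Groth.Agent.FF
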