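import Groth.Agent.FF.Basic

/-! Consequences of `IsFunctionField`. -/

set_option autoImplicit false

open FunFld WithZero IntermediateField

namespace Groth.Agent.FF

variable {k K : Type*} [Field k] [Field K] [Algebra k K]

lemma finite_adjoin_swap {x y : K} (hx : Transcendental k x) (hy : Transcendental k y)
    [hfin : FiniteDimensional k⟮x⟯ K] : FiniteDimensional k⟮y⟯ K := by
  have halg : IsAlgebraic k⟮y⟯ x :=
    isAlgebraic_adjoin_iff.mpr (.adjoin_singleton hx hy
      (isAlgebraic_adjoin_iff.mp ((Algebra.IsAlgebraic.of_finite k⟮x⟯ K).isAlgebraic y)))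
  let Fyx := restrictScalars k k⟮y⟯⟮x⟯
  let Fxy := restrictScalars k k⟮x⟯⟮y⟯
  let : Algebra k⟮y⟯ Fyx := k⟮y⟯⟮x⟯.algebra
  let : Module k⟮y⟯ Fyx := Algebra.toModule
  let : SMul k⟮y⟯ Fyx := Algebra.toSMul
  let : Algebra k⟮x⟯ Fxy := k⟮x⟯⟮y⟯.algebra
  let : Module k⟮x⟯ Fxy := Algebra.toModule
  let : SMul k⟮x⟯ Fxy := Algebra.toSMul
  have : FiniteDimensional k⟮y⟯ Fyx :=
    adjoin.finiteDimensional (isAlgebraic_iff_isIntegral.mp halg)
  have : FiniteDimensional Fyx K := by
    unfold Fyx
    rw [adjoin_simple_comm]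
    have : IsScalarTower k⟮x⟯ Fxy K := isScalarTower_mid' k⟮x⟯⟮y⟯
    exact .right k⟮x⟯ Fxy K
  have : IsScalarTower k⟮y⟯ Fyx K := isScalarTower_mid' k⟮y⟯⟮x⟯
  exact .trans k⟮y⟯ Fyx K

/-- Finite over a rational function field; the constant field is allowed to be larger than `k`. -/
def IsFF (k K : Type*) [Field k] [Field K] [Algebra k K] : Prop :=
  ∃ x : K, Transcendental k x ∧ FiniteDimensional k⟮x⟯ K

instance instCoeIsFF : Coe (IsFunctionField k K) (IsFF k K) := ⟨fun h => h.1⟩

/-- A valuation that is trivial on `k` is trivial on elements algebraic over `k`. -/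
lemma val_eq_one_of_isAlgebraic {Γ : Type*} [LinearOrderedCommGroupWithZero Γ] (v : Valuation K Γ)
    (hv : ∀ c : k, c ≠ 0 → v (algebraMap k K c) = 1) {y : K} (hy : IsAlgebraic k y) (hy0 : y ≠ 0) :
    v y = 1 := by
  have key : ∀ z : K, IsAlgebraic k z → z ≠ 0 → ¬ v z < 1 := by
    intro z hz hz0 hlt
    have hi := hz.isIntegral
    have h0 : (minpoly k z).coeff 0 ≠ 0 := minpoly.coeff_zero_ne_zero hi hz0
    have hc : ∀ c : k, v (algebraMap k K c) ≤ 1 := fun c => by
      rcases eq_or_ne c 0 with rfl | hc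
      · simp
      · exact (hv c hc).le
    have hq : v (Polynomial.aeval z (minpoly k z).divX) ≤ 1 := by
      rw [Polynomial.aeval_eq_sum_range]
      refine Valuation.map_sum_le _ fun i _ => ?_
      rw [Algebra.smul_def, map_mul, map_pow]
      exact mul_le_one' (hc _) (pow_le_one₀ zero_le hlt.le)
    have h1 := minpoly.aeval k z
    rw [← Polynomial.X_mul_divX_add (minpoly k z), map_add, map_mul, Polynomial.aeval_X,
      Polynomial.aeval_C, add_eq_zero_iff_eq_neg'] at h1
    have h2 := congrArg v h1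
    rw [hv _ h0, Valuation.map_neg, map_mul] at h2
    have h3 : v z * v (Polynomial.aeval z (minpoly k z).divX) ≤ v z * 1 := mul_le_mul' le_rfl hq
    rw [← h2, mul_one] at h3
    exact not_lt.2 h3 hlt
  refine le_antisymm ?_ (not_lt.1 (key y hy hy0))
  have := not_lt.1 (key y⁻¹ hy.inv (inv_ne_zero hy0))
  rwa [map_inv₀, one_le_inv₀ (zero_lt_iff.2 (by simpa using hy0))] at this

lemma ord_eq_zero_of_isAlgebraic (P : Place k K) {y : K} (hy : IsAlgebraic k y) : P.ord y = 0 := by
  rcases eq_or_ne y 0 with rfl | hy0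
  · simp
  · exact (val_eq_one_iff P hy0).1 (val_eq_one_of_isAlgebraic P.1 (fun c hc => val_const P hc) hy hy0)

section

variable (hK : IsFunctionField k K)

include hK

lemma transcendental_of_notMem {y : K} (hy : y ∉ Set.range (algebraMap k K)) : Transcendental k y :=
  fun h => hy (hK.2 y h)

omit hK in
lemma notMem_of_transcendental {y : K} (hy : Transcendental k y) :
    y ∉ Set.range (algebraMap k K) := by
  rintro ⟨c, rfl⟩
  exact hy (isAlgebraic_algebraMap c)

end

section

variable (hK : IsFF k K)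

include hK

lemma finite_adjoin {y : K} (hy : Transcendental k y) : FiniteDimensional k⟮y⟯ K := by
  obtain ⟨x, hx, hfin⟩ := hK
  exact finite_adjoin_swap hx hy

lemma exists_transcendental : ∃ x : K, Transcendental k x :=
  hK.imp fun _ h => h.1

end

end Groth.Agent.FF
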