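import Groth.Agent.FF.Ext

/-! Elements integral over a place: local bases, the norm, and the discriminant criterion. -/

set_option autoImplicit false
set_option linter.style.haveILetI false
set_option linter.unusedSectionVars false

open FunFld WithZero

namespace Groth.Agent.FF

variable {k K K' : Type*} [Field k] [Field K] [Field K'] [Algebra k K] [Algebra K K'] [Algebra k K']

variable (K') in
/-- `{z | v_Q(z) ≥ -n Q` for all `Q` over `P}` -/
noncomputable def Loc (P : Place k K) (n : Place k K' → ℤ) : Submodule k K' where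
  carrier := {z | ∀ Q : Place k K', IsOver Q P → Q.1 z ≤ exp (n Q)}
  add_mem' {x y} hx hy Q hQ := (Q.1.map_add x y).trans (max_le (hx Q hQ) (hy Q hQ))
  zero_mem' Q hQ := by simp
  smul_mem' c x hx Q hQ := (val_smul_le Q c x).trans (hx Q hQ)

lemma mem_Loc {P : Place k K} {n : Place k K' → ℤ} {z : K'} :
    z ∈ Loc K' P n ↔ ∀ Q : Place k K', IsOver Q P → Q.1 z ≤ exp (n Q) := Iff.rfl

lemma Loc_mono {P : Place k K} {m n : Place k K' → ℤ} (h : ∀ Q, IsOver Q P → m Q ≤ n Q) :
    Loc K' P m ≤ Loc K' P n := fun _ hz Q hQ => (hz Q hQ).trans (exp_le_exp.2 (h Q hQ))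

lemma smul_mem_Loc {P : Place k K} {n : Place k K' → ℤ} {c : K} {z : K'} (hc : P.1 c ≤ 1)
    (hz : z ∈ Loc K' P n) : c • z ∈ Loc K' P n := fun Q hQ => by
  rw [Algebra.smul_def, map_mul]
  exact (mul_le_mul' ((val_algebraMap_le_one_iff hQ c).2 hc) (hz Q hQ)).trans_eq (one_mul _)

variable (K') in
/-- integral at all places over `P` -/
noncomputable abbrev IntP (P : Place k K) : Submodule k K' := Loc K' P (fun _ => 0)

variable (K') in
/-- divisible by a uniformizer of `P` -/
noncomputable abbrev TP (P : Place k K) : Submodule k K' := Loc K' P (fun Q => -(ramIdx Q P : ℤ))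

lemma mem_IntP {P : Place k K} {z : K'} :
    z ∈ IntP K' P ↔ ∀ Q : Place k K', IsOver Q P → Q.1 z ≤ 1 := by
  simp [mem_Loc]

lemma smul_mem_TP {P : Place k K} {c : K} {z : K'} (hc : P.1 c < 1) (hz : z ∈ IntP K' P) :
    c • z ∈ TP K' P := fun Q hQ => by
  rw [Algebra.smul_def, map_mul, (isOverWith_ramIdx hQ) c]
  have h1 : P.1 c ≤ exp (-1 : ℤ) := by
    simpa using (lt_exp_iff (P.1 c) 0).1 (hc.trans_eq exp_zero.symm)
  refine (mul_le_mul' (pow_le_pow_left₀ zero_le h1 _) (hz Q hQ)).trans_eq ?_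
  rw [← exp_nsmul, ← exp_add]; simp

lemma mul_mem_Loc {P : Place k K} {n : Place k K' → ℤ} {w z : K'} (hw : w ∈ IntP K' P)
    (hz : z ∈ Loc K' P n) : w * z ∈ Loc K' P n := fun Q hQ => by
  rw [map_mul]
  exact (mul_le_mul' (mem_IntP.1 hw Q hQ) (hz Q hQ)).trans_eq (one_mul _)

/-- independence of a finite family modulo `J`, over the residue field of `P` -/
def Indep (P : Place k K) (J : Submodule k K') (s : Finset K') : Prop :=
  ∀ c : K' → K, (∀ b ∈ s, P.1 (c b) ≤ 1) → ∑ b ∈ s, c b • b ∈ J → ∀ b ∈ s, P.1 (c b) < 1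

variable {P : Place k K}

lemma Indep.mono {J J' : Submodule k K'} {s : Finset K'} (h : J' ≤ J) (hs : Indep P J s) :
    Indep P J' s := fun c hc hm => hs c hc (h hm)

lemma exists_max_coeff (P : Place k K) {ι : Type*} (c : ι → K) (s : Finset ι) {j : ι} (hj : j ∈ s)
    (h : c j ≠ 0) : ∃ m ∈ s, c m ≠ 0 ∧ ∀ i ∈ s, P.1 (c i) ≤ P.1 (c m) := by
  obtain ⟨m, hm, hmax⟩ := s.exists_max_image (fun i => P.1 (c i)) ⟨j, hj⟩
  refine ⟨m, hm, fun e => ?_, hmax⟩
  have := hmax j hj
  rw [e, map_zero, le_zero_iff] at this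
  exact h (by simpa using this)

lemma div_val_le {c d : K} (hd : d ≠ 0) (h : P.1 c ≤ P.1 d) : P.1 (c / d) ≤ 1 := by
  rw [map_div₀, div_le_one₀ (zero_lt_iff.2 (by simpa using hd))]
  exact h

lemma Indep.linearIndependent {J : Submodule k K'} {s : Finset K'} (hs : Indep P J s) :
    LinearIndependent K (fun b : s => (b : K')) := by
  classical
  refine linearIndependent_iff_finset_linearIndependent.2 fun u => ?_
  rw [Fintype.linearIndependent_iff]
  intro a ha j
  by_contra hne
  let t : Finset K' := u.map (Function.Embedding.subtype _)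
  have hts : ∀ b ∈ t, b ∈ s := fun b hb => by
    obtain ⟨x, -, rfl⟩ := Finset.mem_map.1 hb
    exact x.2
  let c : K' → K := fun b => if h : ∃ i : u, ((i : s) : K') = b then a h.choose else 0
  have hc : ∀ i : u, c ((i : s) : K') = a i := fun i => by
    have h : ∃ i' : u, ((i' : s) : K') = ((i : s) : K') := ⟨i, rfl⟩
    simp only [c, dif_pos h]
    congr 1
    exact Subtype.ext (Subtype.ext h.choose_spec)
  obtain ⟨m, hm, hm0, hmax⟩ := exists_max_coeff P a Finset.univ (Finset.mem_univ j) hne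
  have h1 := hs (fun b => c b / a m) (fun b _ => ?_) ?_ _ (m : s).2
  · rw [hc, div_self hm0, map_one] at h1
    exact lt_irrefl _ h1
  · refine div_val_le hm0 ?_
    simp only [c]
    split_ifs with h
    · exact hmax _ (Finset.mem_univ _)
    · simp
  · have hz : ∑ b ∈ s, (c b / a m) • b = (a m)⁻¹ • ∑ b ∈ s, c b • b := by
      rw [Finset.smul_sum]
      exact Finset.sum_congr rfl fun b _ => by rw [smul_smul, div_eq_inv_mul]
    have h2 : ∑ b ∈ s, c b • b = ∑ b ∈ t, c b • b := by
      refine (Finset.sum_subset hts fun b _ hb => ?_).symm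
      simp only [c]
      rw [dif_neg, zero_smul]
      rintro ⟨i, rfl⟩
      exact hb (Finset.mem_map.2 ⟨i.1, i.2, rfl⟩)
    have h3 : ∑ b ∈ t, c b • b = 0 := by
      rw [Finset.sum_map, ← Finset.sum_coe_sort, ← ha]
      exact Finset.sum_congr rfl fun i _ => by
        rw [Function.Embedding.coe_subtype, hc]; rfl
    rw [hz, h2, h3, smul_zero]
    exact Submodule.zero_mem _

variable [IsScalarTower k K K'] [FiniteDimensional K K']

lemma Indep.card_le {J : Submodule k K'} {s : Finset K'} (hs : Indep P J s) :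
    s.card ≤ Module.finrank K K' := by
  simpa using hs.linearIndependent.fintype_card_le_finrank

/-- A maximal independent extension by elements of `S` spans `S` modulo `J`. -/
lemma exists_max {J S : Submodule k K'} (hJ : ∀ c : K, P.1 c ≤ 1 → ∀ z ∈ J, c • z ∈ J)
    (hTJ : TP K' P ≤ J) (hS : S ≤ IntP K' P) {g : Finset K'} (hg : Indep P J g) :
    ∃ s : Finset K', g ⊆ s ∧ (∀ b ∈ s, b ∈ g ∨ b ∈ S) ∧ Indep P J s ∧
      ∀ z ∈ S, ∃ c : K' → K, (∀ b ∈ s, P.1 (c b) ≤ 1) ∧ z - ∑ b ∈ s, c b • b ∈ J := by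
  classical
  let Q : ℕ → Prop := fun m => ∃ s : Finset K', s.card = m ∧ g ⊆ s ∧ (∀ b ∈ s, b ∈ g ∨ b ∈ S) ∧ Indep P J s
  have hQg : Q g.card := ⟨g, rfl, subset_rfl, fun b hb => Or.inl hb, hg⟩
  obtain ⟨s, hcard, hgs, hsS, hind⟩ :=
    Nat.findGreatest_spec (P := Q) (n := Module.finrank K K') hg.card_le hQg
  refine ⟨s, hgs, hsS, hind, fun z hz => ?_⟩
  by_contra! hno
  have hzs : z ∉ s := fun hzs => by
    refine hno (fun b => if b = z then 1 else 0) (fun b _ => by by_cases h : b = z <;> simp [h]) ?_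
    simp [ite_smul, hzs]
  have hins : Indep P J (insert z s) := by
    intro c hc hm
    rw [Finset.sum_insert hzs] at hm
    have hcz : P.1 (c z) < 1 := by
      refine lt_of_le_of_ne (hc z (Finset.mem_insert_self _ _)) fun h1 => ?_
      have hne : c z ≠ 0 := fun e => by simp [e] at h1
      refine hno (fun b => -(c b / c z)) (fun b hb => ?_) ?_
      · rw [Valuation.map_neg, map_div₀, h1, div_one]
        exact hc b (Finset.mem_insert_of_mem hb)
      · have h2 := hJ (c z)⁻¹ (by rw [map_inv₀, h1, inv_one]) _ hm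
        rw [smul_add, smul_smul, inv_mul_cancel₀ hne, one_smul, Finset.smul_sum] at h2
        convert h2 using 1
        rw [sub_eq_add_neg, ← Finset.sum_neg_distrib]
        congr 1
        refine Finset.sum_congr rfl fun b _ => ?_
        rw [neg_smul, neg_neg, smul_smul, div_eq_inv_mul]
    have h3 : ∑ b ∈ s, c b • b ∈ J := by
      have := Submodule.sub_mem _ hm (hTJ (smul_mem_TP hcz (hS hz)))
      rwa [add_sub_cancel_left] at this
    intro b hb
    rcases Finset.mem_insert.1 hb with rfl | hb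
    · exact hcz
    · exact hind c (fun b hb => hc b (Finset.mem_insert_of_mem hb)) h3 b hb
  have hle := hins.card_le
  have hQ' : Q (insert z s).card := ⟨_, rfl, hgs.trans (Finset.subset_insert _ _), fun b hb => by
    rcases Finset.mem_insert.1 hb with rfl | hb
    · exact Or.inr hz
    · exact hsS b hb, hins⟩
  rw [Finset.card_insert_of_notMem hzs] at hle hQ'
  have := Nat.le_findGreatest hle hQ'
  omega

section

variable (hK : IsFF k K)
include hK

lemma relDim_Loc {m n : Place k K' → ℤ} (h : ∀ Q, m Q ≤ n Q) :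
    RelDim (Loc K' P m) (Loc K' P n)
      (∑ Q ∈ (finite_over (K' := K') hK P).toFinset, (n Q - m Q).toNat * Q.deg) := by
  classical
  set s := (finite_over (K' := K') hK P).toFinset with hs
  have hmem : ∀ Q, Q ∈ s ↔ IsOver Q P := fun Q => (finite_over (K' := K') hK P).mem_toFinset
  have hfd : ∀ Q : s, RelDim (Val (Q : Place k K') (m Q)) (Val (Q : Place k K') (n Q))
      ((n Q - m Q).toNat * (Q : Place k K').deg) := fun Q => relDim_Val (isFF_ext hK) _ (h _)
  haveI := fun Q => (hfd Q).2.1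
  let f : ↥(Loc K' P n) →ₗ[k] ((Q : s) → (↥(Val (Q : Place k K') (n Q)) ⧸
      (Val (Q : Place k K') (m Q)).comap (Val (Q : Place k K') (n Q)).subtype)) :=
    LinearMap.pi fun Q => Submodule.mkQ _ ∘ₗ
      LinearMap.codRestrict (Val (Q : Place k K') (n Q)) (Loc K' P n).subtype
        fun z => z.2 _ ((hmem _).1 Q.2)
  have hsurj : Function.Surjective f := by
    intro v
    choose w hw using fun Q : s => Submodule.mkQ_surjective _ (v Q)
    obtain ⟨y, hy⟩ := approx s (fun Q => if hQ : Q ∈ s then (w ⟨Q, hQ⟩ : K') else 0) m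
    have hyn : y ∈ Loc K' P n := fun Q hQ => by
      have hQs := (hmem Q).2 hQ
      have h1 := hy Q hQs
      rw [dif_pos hQs] at h1
      rw [show y = (y - (w ⟨Q, hQs⟩ : K')) + (w ⟨Q, hQs⟩ : K') by ring]
      exact Valuation.map_add_le _ (h1.trans (exp_le_exp.2 (h Q))) (w ⟨Q, hQs⟩).2
    refine ⟨⟨y, hyn⟩, funext fun Q => ?_⟩
    rw [← hw Q]
    refine (Submodule.Quotient.eq _).2 ?_
    have h1 := hy Q Q.2
    rw [dif_pos Q.2] at h1
    exact h1
  have hker : LinearMap.ker f = (Loc K' P m).comap (Loc K' P n).subtype := by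
    ext z
    constructor
    · exact fun hz Q hQ => (Submodule.Quotient.mk_eq_zero _).1
        (congrFun (LinearMap.mem_ker.1 hz) ⟨Q, (hmem Q).2 hQ⟩)
    · exact fun hz => funext fun Q => (Submodule.Quotient.mk_eq_zero _).2 (hz _ ((hmem _).1 Q.2))
  have hR := relDim_of_surjective' (V := ((Q : s) → (↥(Val (Q : Place k K') (n Q)) ⧸
      (Val (Q : Place k K') (m Q)).comap (Val (Q : Place k K') (n Q)).subtype)))
    (Loc_mono fun Q _ => h Q) f hsurj hker
  convert! hR using 1
  haveI hfree : ∀ Q : s, Module.Free k (↥(Val (Q : Place k K') (n Q)) ⧸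
      (Val (Q : Place k K') (m Q)).comap (Val (Q : Place k K') (n Q)).subtype) := fun Q =>
    Module.Free.of_divisionRing k _
  rw [Module.finrank_pi_fintype, ← Finset.sum_coe_sort]
  exact Finset.sum_congr rfl fun Q _ => ((hfd Q).2.2).symm

omit [IsScalarTower k K K'] [FiniteDimensional K K'] in
lemma exists_res_basis (P : Place k K) :
    ∃ u : Fin P.deg → K, (∀ l, P.1 (u l) ≤ 1) ∧
      (∀ a : Fin P.deg → k, P.1 (∑ l, a l • u l) < 1 → a = 0) ∧
      ∀ c, P.1 c ≤ 1 → ∃ a : Fin P.deg → k, P.1 (c - ∑ l, a l • u l) < 1 := by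
  haveI := finiteDimensional_residueField hK P
  let b := Module.finBasisOfFinrankEq k (IsLocalRing.ResidueField P.O) (n := P.deg) rfl
  choose v hv using fun l => resHom_surjective P (b l)
  have hsum : ∀ a : Fin P.deg → k, ((∑ l, a l • v l : P.O) : K) = ∑ l, a l • (v l : K) := fun a => by
    rw [AddSubmonoidClass.coe_finsetSum]
    exact Finset.sum_congr rfl fun l _ => coe_smul_O P _ _
  have hres : ∀ a : Fin P.deg → k, resHom P (∑ l, a l • v l) = ∑ l, a l • b l := fun a => by
    rw [map_sum]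
    exact Finset.sum_congr rfl fun l _ => by rw [map_smul, hv]
  refine ⟨fun l => v l, fun l => (mem_O P).1 (v l).2, fun a ha => ?_, fun c hc => ?_⟩
  · have h1 : resHom P (∑ l, a l • v l) = 0 := (resHom_eq_zero_iff P).2 (by rwa [hsum])
    rw [hres] at h1
    exact funext fun l => (Fintype.linearIndependent_iff.1 b.linearIndependent a h1 l)
  · refine ⟨fun l => b.repr (resHom P ⟨c, (mem_O P).2 hc⟩) l, ?_⟩
    have h1 : resHom P (⟨c, (mem_O P).2 hc⟩ - ∑ l, b.repr (resHom P ⟨c, (mem_O P).2 hc⟩) l • v l) = 0 := by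
      rw [map_sub, hres]
      exact sub_eq_zero.2 (b.sum_repr _).symm
    have h2 := (resHom_eq_zero_iff P).1 h1
    rw [AddSubgroupClass.coe_sub, hsum] at h2
    exact h2

/-- An independent spanning family counts `dim IntP / J`. -/
lemma relDim_card {J : Submodule k K'} (hTJ : TP K' P ≤ J) (hJle : J ≤ IntP K' P)
    {s : Finset K'} (hs : ∀ b ∈ s, b ∈ IntP K' P) (hind : Indep P J s)
    (hspan : ∀ z ∈ IntP K' P, ∃ c : K' → K, (∀ b ∈ s, P.1 (c b) ≤ 1) ∧ z - ∑ b ∈ s, c b • b ∈ J) :
    RelDim J (IntP K' P) (s.card * P.deg) := by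
  classical
  obtain ⟨u, hu, hu1, hu2⟩ := exists_res_basis hK P
  let comb : (s → Fin P.deg → k) → s → K := fun a b => ∑ l, a b l • u l
  have hcomb : ∀ a b, P.1 (comb a b) ≤ 1 := fun a b =>
    Valuation.map_sum_le _ fun l _ => (val_smul_le P _ _).trans (hu l)
  have hint : ∀ a, ∑ b : s, comb a b • (b : K') ∈ IntP K' P := fun a =>
    Submodule.sum_mem _ fun b _ => smul_mem_Loc (hcomb a b) (hs b b.2)
  let g : (s → Fin P.deg → k) →ₗ[k] ↥(IntP K' P) :=
    { toFun := fun a => ⟨∑ b : s, comb a b • (b : K'), hint a⟩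
      map_add' := fun a a' => Subtype.ext (by
        simp [comb, add_smul, Finset.sum_add_distrib])
      map_smul' := fun r a => Subtype.ext (by
        simp only [comb, Pi.smul_apply, RingHom.id_apply, smul_eq_mul, mul_smul, ← Finset.smul_sum,
          smul_assoc, Submodule.coe_smul]) }
  let f := (J.comap (IntP K' P).subtype).mkQ ∘ₗ g
  have hinj : Function.Injective f := by
    rw [← LinearMap.ker_eq_bot, Submodule.eq_bot_iff]
    intro a ha
    have h1 : ∑ b : s, comb a b • (b : K') ∈ J :=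
      (Submodule.Quotient.mk_eq_zero (J.comap (IntP K' P).subtype) (x := g a)).1 (LinearMap.mem_ker.1 ha)
    let c : K' → K := fun b => if hb : b ∈ s then comb a ⟨b, hb⟩ else 0
    have h2 : ∑ b ∈ s, c b • b = ∑ b : s, comb a b • (b : K') := by
      rw [← Finset.sum_coe_sort]
      exact Finset.sum_congr rfl fun b _ => by simp [c, b.2]
    have h3 := hind c (fun b hb => by simp [c, hb, hcomb]) (h2 ▸ h1)
    refine funext fun b => hu1 _ ?_
    have := h3 b b.2
    simp only [c, dif_pos b.2] at this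
    exact this
  have hsurj : Function.Surjective f := by
    intro q
    obtain ⟨z, rfl⟩ := Submodule.mkQ_surjective _ q
    obtain ⟨c, hc, hm⟩ := hspan z z.2
    choose a ha using fun b : s => hu2 (c b) (hc b b.2)
    refine ⟨a, (Submodule.Quotient.eq _).2 ?_⟩
    show ∑ b : s, comb a b • (b : K') - (z : K') ∈ J
    have h1 : ∑ b ∈ s, c b • b - ∑ b : s, comb a b • (b : K') ∈ J := by
      rw [← Finset.sum_coe_sort s, ← Finset.sum_sub_distrib]
      refine Submodule.sum_mem _ fun b _ => ?_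
      rw [← sub_smul]
      exact hTJ (smul_mem_TP (ha b) (hs b b.2))
    have := J.neg_mem (J.add_mem hm h1)
    rwa [sub_add_sub_cancel, neg_sub] at this
  let e := LinearEquiv.ofBijective f ⟨hinj, hsurj⟩
  haveI := e.finiteDimensional
  refine ⟨hJle, e.finiteDimensional, ?_⟩
  rw [← e.finrank_eq, Module.finrank_pi_fintype, Finset.sum_const, Module.finrank_pi,
    Fintype.card_fin, smul_eq_mul, Finset.card_univ, Fintype.card_coe]

lemma relDim_TP : RelDim (TP K' P) (IntP K' P) (Module.finrank K K' * P.deg) := by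
  have h := relDim_Loc (K' := K') hK (P := P) (m := fun Q => -(ramIdx Q P : ℤ)) (n := fun _ => 0)
    (fun Q => by omega)
  have h2 := (fundamental (K' := K') hK P).2 _ (fun Q => (finite_over (K' := K') hK P).mem_toFinset)
  rw [← h2]
  simpa using h

/-- An independent family of full size is a local basis. -/
lemma basis_of_indep {s : Finset K'} (hs : ∀ b ∈ s, b ∈ IntP K' P) (hind : Indep P (TP K' P) s)
    (hcard : s.card = Module.finrank K K') :
    ∃ b : Module.Basis s K K', (∀ i : s, b i = i) ∧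
      ∀ z : K', z ∈ IntP K' P ↔ ∀ i, P.1 (b.repr z i) ≤ 1 := by
  classical
  haveI : Nonempty s := by
    rw [← Fintype.card_pos_iff, Fintype.card_coe, hcard]
    exact Module.finrank_pos
  let b := basisOfLinearIndependentOfCardEqFinrank hind.linearIndependent (by simpa using hcard)
  have hb : ∀ i : s, b i = i := fun i => by simp [b]
  refine ⟨b, hb, fun z => ⟨fun hz i => ?_, fun h => ?_⟩⟩
  · by_contra hi
    rw [not_le] at hi
    obtain ⟨m, -, hm0, hmax⟩ := exists_max_coeff P (fun i => b.repr z i) Finset.univ (Finset.mem_univ i)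
      (fun e => by rw [show b.repr z i = 0 from e, map_zero] at hi; exact absurd hi (by simp))
    have hm1 : P.1 (b.repr z m)⁻¹ < 1 := by
      rw [map_inv₀]
      exact inv_lt_one_of_one_lt₀ (hi.trans_le (hmax i (Finset.mem_univ _)))
    let c : K' → K := fun x => if hx : x ∈ s then b.repr z ⟨x, hx⟩ / b.repr z m else 0
    have h2 : ∑ x ∈ s, c x • x = (b.repr z m)⁻¹ • z := by
      trans (b.repr z m)⁻¹ • ∑ x, b.repr z x • b x
      swap; · rw [b.sum_repr z]
      rw [Finset.smul_sum, ← Finset.sum_coe_sort]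
      exact Finset.sum_congr rfl fun x _ => by
        simp [c, x.2, hb, smul_smul, div_eq_inv_mul]
    have h3 := hind c (fun x hx => by
        simp only [c, dif_pos hx]
        exact div_val_le hm0 (hmax _ (Finset.mem_univ _)))
      (h2 ▸ smul_mem_TP hm1 hz) m m.2
    simp only [c, dif_pos m.2] at h3
    rw [div_self hm0, map_one] at h3
    exact lt_irrefl _ h3
  · rw [← b.sum_repr z]
    exact Submodule.sum_mem _ fun i _ => smul_mem_Loc (h i) (hb i ▸ hs i i.2)

/-- Local basis adapted to a place `Q` over `P`. -/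
lemma exists_adapted_local (Q : Place k K') (hQ : IsOver Q P) :
    ∃ s g : Finset K', ∃ b : Module.Basis s K K', g ⊆ s ∧ g.card * P.deg = Q.deg ∧
      (∀ i : s, b i = i) ∧ (∀ z : K', z ∈ IntP K' P ↔ ∀ i, P.1 (b.repr z i) ≤ 1) ∧
      (∀ z ∈ IntP K' P, Q.1 z < 1 → ∀ i : s, (i : K') ∈ g → P.1 (b.repr z i) < 1) := by
  classical
  let n : Place k K' → ℤ := fun R => if R = Q then -1 else 0
  have hTn : TP K' P ≤ Loc K' P n := Loc_mono fun R hR => by
    have := ramIdx_pos hR
    simp only [n]; split_ifs <;> omega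
  have hnI : Loc K' P n ≤ IntP K' P := Loc_mono fun R _ => by
    simp only [n]; split_ifs <;> omega
  obtain ⟨g, -, hgS, hgind, hgspan⟩ := exists_max (P := P) (J := Loc K' P n) (S := IntP K' P)
    (fun c hc z hz => smul_mem_Loc hc hz) hTn le_rfl (g := ∅) (fun c _ _ b hb => absurd hb (Finset.notMem_empty b))
  have hgI : ∀ b ∈ g, b ∈ IntP K' P := fun b hb => (hgS b hb).resolve_left (Finset.notMem_empty b)
  have hcg : g.card * P.deg = Q.deg := by
    have h1 := relDim_card hK hTn hnI hgI hgind hgspan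
    have h2 := relDim_Loc (K' := K') hK (P := P) (m := n) (n := fun _ => 0)
      (fun R => by simp only [n]; split_ifs <;> omega)
    rw [h1.unique h2, Finset.sum_eq_single Q]
    · simp [n]
    · intro R _ hR; simp [n, hR]
    · exact fun h => absurd ((finite_over (K' := K') hK P).mem_toFinset.2 hQ) h
  obtain ⟨s, hgs, hsS, hsind, hsspan⟩ := exists_max (P := P) (J := TP K' P) (S := Loc K' P n)
    (fun c hc z hz => smul_mem_Loc hc hz) le_rfl hnI (hgind.mono hTn)
  have hsI : ∀ b ∈ s, b ∈ IntP K' P := fun b hb => (hsS b hb).elim (hgI b) fun h => hnI h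
  have hspan : ∀ z ∈ IntP K' P, ∃ c : K' → K, (∀ b ∈ s, P.1 (c b) ≤ 1) ∧
      z - ∑ b ∈ s, c b • b ∈ TP K' P := by
    intro z hz
    obtain ⟨c, hc, hm⟩ := hgspan z hz
    obtain ⟨c', hc', hm'⟩ := hsspan _ hm
    refine ⟨fun b => (if b ∈ g then c b else 0) + c' b, fun b hb => Valuation.map_add_le _ ?_ (hc' b hb), ?_⟩
    · split_ifs with h
      · exact hc b h
      · simp
    · have e : ∑ b ∈ s, ((if b ∈ g then c b else 0) + c' b) • b =
          ∑ b ∈ g, c b • b + ∑ b ∈ s, c' b • b := by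
        simp only [add_smul, Finset.sum_add_distrib, ite_smul, zero_smul]
        rw [← Finset.sum_filter, Finset.filter_mem_eq_inter, Finset.inter_eq_right.2 hgs]
      rw [e, ← sub_sub]
      exact hm'
  have hcs : s.card = Module.finrank K K' :=
    Nat.eq_of_mul_eq_mul_right (deg_pos hK P)
      ((relDim_card hK le_rfl (hTn.trans hnI) hsI hsind hspan).unique (relDim_TP hK))
  obtain ⟨b, hb, hiff⟩ := basis_of_indep hK hsI hsind hcs
  refine ⟨s, g, b, hgs, hcg, hb, hiff, fun z hz hzQ i hi => ?_⟩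
  have hzn : z ∈ Loc K' P n := fun R hR => by
    simp only [n]
    split_ifs with e
    · subst e
      exact (lt_exp_iff (R.1 z) 0).1 (by rwa [exp_zero])
    · exact hz R hR
  let c : K' → K := fun x => if hx : x ∈ s then b.repr z ⟨x, hx⟩ else 0
  have hsum : ∑ x ∈ s, c x • x = z := by
    trans ∑ x, b.repr z x • b x
    swap; · exact b.sum_repr z
    rw [← Finset.sum_coe_sort s]
    exact Finset.sum_congr rfl fun x _ => by simp [c, x.2, hb]
  have h1 : ∑ x ∈ g, c x • x ∈ Loc K' P n := by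
    rw [← Finset.sum_sdiff hgs] at hsum
    rw [eq_sub_of_add_eq' hsum]
    refine Submodule.sub_mem _ hzn (Submodule.sum_mem _ fun x hx => ?_)
    rw [Finset.mem_sdiff] at hx
    refine smul_mem_Loc ?_ ((hsS x hx.1).resolve_left hx.2)
    simp only [c, dif_pos hx.1]
    exact (hiff z).1 hz _
  have h2 := hgind c (fun x hx => by simp only [c, dif_pos (hgs hx)]; exact (hiff z).1 hz _) h1 _ hi
  simp only [c, dif_pos i.2] at h2
  exact h2

/-- A local basis at `P`. -/
lemma exists_local_basis (P : Place k K) :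
    ∃ s : Finset K', ∃ b : Module.Basis s K K', ∀ z : K', z ∈ IntP K' P ↔ ∀ i, P.1 (b.repr z i) ≤ 1 := by
  obtain ⟨Q, hQ⟩ := exists_over (K' := K') hK P
  obtain ⟨s, g, b, -, -, -, h, -⟩ := exists_adapted_local hK Q hQ
  exact ⟨s, b, h⟩

end

end Groth.Agent.FF
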