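import Groth.Agent.FF.AlgClosureDef
import Groth.Agent.FF.Lattice
import Mathlib.FieldTheory.Finite.Basic

/-! Places fixed by Frobenius on `k̄ ⊗ K`. -/

set_option autoImplicit false
set_option linter.style.haveILetI false
set_option linter.unusedSectionVars false

open FunFld WithZero
open scoped TensorProduct

namespace Groth.Agent.FF

variable {k K kb Kb : Type*} [Field k] [Field K] [Algebra k K] [Field kb] [Algebra k kb]
  [Field Kb] [Algebra K Kb] [Algebra kb Kb] [Algebra k Kb] [IsScalarTower k kb Kb] [IsScalarTower k K Kb]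

lemma productMap_surjective (hgen : Algebra.adjoin K (Set.range (algebraMap kb Kb)) = ⊤) :
    Function.Surjective (Algebra.TensorProduct.productMap
      (IsScalarTower.toAlgHom k kb Kb) (IsScalarTower.toAlgHom k K Kb)) := by
  intro z
  have hz : z ∈ Algebra.adjoin K (Set.range (algebraMap kb Kb)) := hgen ▸ Algebra.mem_top
  change z ∈ (Algebra.TensorProduct.productMap (IsScalarTower.toAlgHom k kb Kb) (IsScalarTower.toAlgHom k K Kb)).range
  induction hz using Algebra.adjoin_induction with
  | mem x hx =>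
    obtain ⟨c, rfl⟩ := hx
    exact ⟨c ⊗ₜ 1, by simp⟩
  | algebraMap a => exact ⟨1 ⊗ₜ a, by simp⟩
  | add x y _ _ hx hy => exact add_mem hx hy
  | mul x y _ _ hx hy => exact mul_mem hx hy

lemma const_val_one [Algebra.IsAlgebraic k kb] (Q : Place kb Kb) {c : kb} (hc : c ≠ 0) :
    Q.1 (algebraMap kb Kb c) = 1 := val_const Q hc

/-- the valuation of an independent sum -/
lemma val_sum_lt_iff {P : Place k K} (hdeg : ∀ x : K, P.1 x ≤ 1 → ∃ c : k, P.1 (x - algebraMap k K c) < 1)
    {Q : Place kb Kb} (hQP : ∀ x : K, Q.1 (algebraMap K Kb x) ≤ 1 ↔ P.1 x ≤ 1)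
    {ι : Type*} (s : Finset ι) (B : ι → kb) (hB : LinearIndependent k B) (x : ι → K) :
    Q.1 (∑ j ∈ s, algebraMap kb Kb (B j) * algebraMap K Kb (x j)) < 1 ↔ ∀ j ∈ s, P.1 (x j) < 1 := by
  classical
  have hlt : ∀ a : K, Q.1 (algebraMap K Kb a) < 1 ↔ P.1 a < 1 := by
    intro a
    rcases eq_or_ne a 0 with rfl | ha
    · simp
    · have h := hQP a⁻¹
      rw [map_inv₀, map_inv₀, map_inv₀, inv_le_one₀ (zero_lt_iff.2 (by simpa using ha)),
        inv_le_one₀ (zero_lt_iff.2 (by simpa using ha))] at h
      rw [← not_le, ← not_le, h]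
  constructor
  · intro hsum j hj
    obtain ⟨m, hm, hmax⟩ := s.exists_max_image (fun i => P.1 (x i)) ⟨j, hj⟩
    refine (hmax j hj).trans_lt (not_le.1 fun hm1 => ?_)
    have hm0 : x m ≠ 0 := fun h => by
      rw [h, map_zero] at hm1
      exact (not_le.2 zero_lt_one) hm1
    set u : ι → K := fun i => x i / x m
    have hu : ∀ i ∈ s, P.1 (u i) ≤ 1 := fun i hi => div_val_le hm0 (hmax i hi)
    have hc : ∀ i, ∃ c : k, i ∈ s → P.1 (u i - algebraMap k K c) < 1 := fun i => by
      by_cases hi : i ∈ s
      · obtain ⟨c, hc⟩ := hdeg _ (hu i hi)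
        exact ⟨c, fun _ => hc⟩
      · exact ⟨0, fun h => absurd h hi⟩
    choose c hc using hc
    have hcm : c m = 1 := by
      by_contra hne
      have h := hc m hm
      rw [show u m = algebraMap k K 1 from (div_self hm0).trans (map_one _).symm, ← map_sub,
        val_const P (sub_ne_zero.2 (Ne.symm hne))] at h
      exact lt_irrefl _ h
    set c0 : kb := ∑ i ∈ s, c i • B i
    have hc0 : c0 ≠ 0 := fun h0 => by
      have := linearIndependent_iff'.1 hB s c h0 m hm
      rw [hcm] at this
      exact one_ne_zero this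
    have h1 : Q.1 (∑ i ∈ s, algebraMap kb Kb (B i) * algebraMap K Kb (u i) - algebraMap kb Kb c0) < 1 := by
      simp only [c0, map_sum, ← Finset.sum_sub_distrib]
      refine Valuation.map_sum_lt _ one_ne_zero fun i hi => ?_
      rw [Algebra.smul_def, map_mul, ← IsScalarTower.algebraMap_apply k kb Kb, IsScalarTower.algebraMap_apply k K Kb,
        mul_comm (algebraMap K Kb (algebraMap k K (c i))), ← mul_sub, ← map_sub, map_mul]
      exact (mul_le_of_le_one_left' (Q.2.1 _)).trans_lt ((hlt _).2 (hc i hi))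
    have h2 : Q.1 (∑ i ∈ s, algebraMap kb Kb (B i) * algebraMap K Kb (u i)) = 1 := by
      have h := Valuation.map_add_eq_of_lt_left Q.1 (x := algebraMap kb Kb c0)
        (y := ∑ i ∈ s, algebraMap kb Kb (B i) * algebraMap K Kb (u i) - algebraMap kb Kb c0)
        (by rwa [val_const Q hc0])
      rwa [add_sub_cancel, val_const Q hc0] at h
    have h3 : ∑ i ∈ s, algebraMap kb Kb (B i) * algebraMap K Kb (x i) =
        algebraMap K Kb (x m) * ∑ i ∈ s, algebraMap kb Kb (B i) * algebraMap K Kb (u i) := by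
      rw [Finset.mul_sum]
      refine Finset.sum_congr rfl fun i _ => ?_
      rw [mul_left_comm, ← map_mul, mul_div_cancel₀ _ hm0]
    rw [h3, map_mul, h2, mul_one, hlt] at hsum
    exact (not_lt.2 hm1) hsum
  · intro h
    refine Valuation.map_sum_lt _ one_ne_zero fun j hj => ?_
    rw [map_mul]
    exact (mul_le_of_le_one_left' (Q.2.1 _)).trans_lt ((hlt _).2 (h j hj))

theorem frobenius_fix_iff [Finite k] [IsAlgClosure k kb] (hK : IsFF k K)
    (hgen : Algebra.adjoin K (Set.range (algebraMap kb Kb)) = ⊤)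
    (F : Kb →+* Kb) (hF1 : ∀ c : kb, F (algebraMap kb Kb c) = algebraMap kb Kb c)
    (hF2 : ∀ x : K, F (algebraMap K Kb x) = algebraMap K Kb x ^ Nat.card k) (Q : Place kb Kb) :
    (∀ z : Kb, Q.1 (F z) < 1 ↔ Q.1 z < 1) ↔
      ∃ P : Place k K, (∀ x : K, Q.1 (algebraMap K Kb x) ≤ 1 ↔ P.1 x ≤ 1) ∧ P.deg = 1 := by
  classical
  haveI := IsAlgClosure.isAlgClosed k (K := kb)
  haveI : Algebra.IsAlgebraic k kb := IsAlgClosure.isAlgebraic
  have hs := productMap_surjective (k := k) hgen
  set q := Nat.card k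
  have hq : 1 < q := Finite.one_lt_card
  constructor
  · intro hfix
    let O : ValuationSubring K := Q.1.valuationSubring.comap (algebraMap K Kb)
    have hO : ∀ x : K, x ∈ O ↔ Q.1 (algebraMap K Kb x) ≤ 1 := fun x => by simp [O, Valuation.mem_valuationSubring_iff]
    have hkO : ∀ c : k, algebraMap k K c ∈ O := fun c => by
      rw [hO, ← IsScalarTower.algebraMap_apply, IsScalarTower.algebraMap_apply k kb Kb]
      exact Q.2.1 _
    have htop : O ≠ ⊤ := by
      intro htop
      have hK1 : ∀ x : K, Q.1 (algebraMap K Kb x) ≤ 1 := fun x => (hO x).1 (htop ▸ trivial)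
      have hall : ∀ z : Kb, Q.1 z ≤ 1 := by
        intro z
        obtain ⟨β, rfl⟩ := hs z
        induction β using TensorProduct.induction_on with
        | zero => simp
        | tmul c a =>
          rw [Algebra.TensorProduct.productMap_apply_tmul, map_mul]
          exact mul_le_one' (Q.2.1 _) (hK1 _)
        | add x y hx hy => rw [map_add]; exact (Q.1.map_add _ _).trans (max_le hx hy)
      obtain ⟨z, hz⟩ := exists_val Q 1
      have := hall z
      rw [hz, ← exp_zero, exp_le_exp] at this
      omega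
    obtain ⟨P, hP⟩ := exists_place_O_eq hK O hkO htop
    have hPO : ∀ x : K, Q.1 (algebraMap K Kb x) ≤ 1 ↔ P.1 x ≤ 1 := fun x => by
      rw [← hO, ← hP, mem_O]
    refine ⟨P, hPO, ?_⟩
    have hKb : IsFF kb Kb := isFF_algClosure hs hK
    have hsurj : Function.Surjective (algebraMap k (IsLocalRing.ResidueField P.O)) := by
      intro r
      obtain ⟨x, rfl⟩ := resHom_surjective P r
      have hx : Q.1 (algebraMap K Kb (x : K)) ≤ 1 := (hPO _).2 ((mem_O P).1 x.2)
      haveI : @Module.Finite kb (IsLocalRing.ResidueField Q.O) _ _ Algebra.toModule := finiteDimensional_residueField hKb Q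
      haveI : Algebra.IsAlgebraic kb (IsLocalRing.ResidueField Q.O) := Algebra.IsAlgebraic.of_finite kb _
      obtain ⟨c, hc⟩ := (IsAlgClosed.algebraMap_bijective_of_isIntegral (k := kb) (K := IsLocalRing.ResidueField Q.O)).2
        (resHom Q ⟨_, (mem_O Q).2 hx⟩)
      have hc1 : Q.1 (algebraMap K Kb (x : K) - algebraMap kb Kb c) < 1 := by
        refine (resHom_eq_zero_iff Q (a := ⟨_, (mem_O Q).2 hx⟩ - algebraMap kb Q.O c)).1 ?_
        rw [map_sub, AlgHom.commutes, hc, sub_self]
      obtain ⟨p, hp⟩ := CharP.exists k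
      haveI : Fintype k := Fintype.ofFinite k
      obtain ⟨n, hpp, hn⟩ := FiniteField.card k p
      haveI : Fact p.Prime := ⟨hpp⟩
      haveI : CharP Kb p := charP_of_injective_algebraMap (algebraMap k Kb).injective p
      have hqn : q = p ^ (n : ℕ) := by rw [← hn]; exact Nat.card_eq_fintype_card
      have h2 := (hfix _).2 hc1
      rw [map_sub, hF1, hF2] at h2
      have h3 : Q.1 (algebraMap K Kb (x : K) ^ q - algebraMap kb Kb c ^ q) < 1 := by
        rw [hqn, ← sub_pow_char_pow, map_pow, ← hqn]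
        exact pow_lt_one₀ zero_le hc1 (by omega)
      have h4 : Q.1 (algebraMap kb Kb (c ^ q - c)) < 1 := by
        rw [map_sub, map_pow, show algebraMap kb Kb c ^ q - algebraMap kb Kb c =
          (algebraMap K Kb (x : K) ^ q - algebraMap kb Kb c) - (algebraMap K Kb (x : K) ^ q - algebraMap kb Kb c ^ q) by ring]
        exact (Q.1.map_sub _ _).trans_lt (max_lt h2 h3)
      have h5 : c ^ q = c := by
        by_contra hne
        rw [val_const Q (sub_ne_zero.2 hne)] at h4
        exact lt_irrefl _ h4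
      obtain ⟨a, rfl⟩ : ∃ a : k, algebraMap k kb a = c := by
        have hqF : q = Fintype.card k := Nat.card_eq_fintype_card
        have hroot : c ∈ ((Polynomial.X ^ q - Polynomial.X : Polynomial k).map (algebraMap k kb)).roots := by
          rw [Polynomial.mem_roots (Polynomial.map_ne_zero (FiniteField.X_pow_card_sub_X_ne_zero k hq))]
          simp [h5]
        rw [← Polynomial.roots_map_of_injective_of_card_eq_natDegree (algebraMap k kb).injective
          (by rw [hqF, FiniteField.roots_X_pow_card_sub_X, FiniteField.X_pow_card_sub_X_natDegree_eq k (hqF ▸ hq)]; rfl),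
          Multiset.mem_map] at hroot
        obtain ⟨a, -, ha⟩ := hroot
        exact ⟨a, ha⟩
      refine ⟨a, (sub_eq_zero.1 ?_).symm⟩
      rw [← AlgHom.commutes (resHom P), ← map_sub]
      refine (resHom_eq_zero_iff P).2 ?_
      by_contra hge
      rw [not_lt] at hge
      set d := ((x - algebraMap k P.O a : P.O) : K) with hd
      have hd0 : d ≠ 0 := fun h0 => by
        rw [h0, map_zero] at hge
        exact (not_le.2 zero_lt_one) hge
      have h6 : Q.1 (algebraMap K Kb d⁻¹) ≤ 1 := (hPO _).2 (by rw [map_inv₀]; exact inv_le_one_of_one_le₀ hge)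
      rw [map_inv₀, map_inv₀] at h6
      rw [← IsScalarTower.algebraMap_apply k kb Kb, IsScalarTower.algebraMap_apply k K Kb, ← map_sub] at hc1
      exact (not_lt.2 h6) ((one_lt_inv₀ (zero_lt_iff.2 (by simpa using hd0))).2 hc1)
    let e : k →ₐ[k] IsLocalRing.ResidueField P.O := Algebra.ofId _ _
    exact (AlgEquiv.ofBijective e ⟨RingHom.injective _, hsurj⟩).toLinearEquiv.finrank_eq.symm.trans (Module.finrank_self k)
  · rintro ⟨P, hPO, hdeg⟩ z
    have hres : ∀ x : K, P.1 x ≤ 1 → ∃ c : k, P.1 (x - algebraMap k K c) < 1 := by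
      intro x hx
      obtain ⟨c, hc⟩ := exists_smul_eq_of_finrank_eq_one (K := k) (V := IsLocalRing.ResidueField P.O) hdeg one_ne_zero
        (resHom P ⟨x, (mem_O P).2 hx⟩)
      refine ⟨c, ?_⟩
      refine (resHom_eq_zero_iff P (a := ⟨x, (mem_O P).2 hx⟩ - algebraMap k P.O c)).1 ?_
      rw [map_sub, sub_eq_zero, AlgHom.commutes, Algebra.algebraMap_eq_smul_one]
      exact hc.symm
    obtain ⟨β, rfl⟩ := hs z
    let B := Module.Basis.ofVectorSpace k kb
    obtain ⟨f, rfl⟩ := (TensorProduct.equivFinsuppOfBasisLeft (M := kb) (N := K) B).symm.surjective β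
    rw [TensorProduct.equivFinsuppOfBasisLeft_symm_apply, Finsupp.sum, map_sum, map_sum]
    simp only [Algebra.TensorProduct.productMap_apply_tmul, IsScalarTower.toAlgHom_apply, map_mul, hF1, hF2]
    simp only [← map_pow]
    rw [val_sum_lt_iff hres hPO _ _ B.linearIndependent, val_sum_lt_iff hres hPO _ _ B.linearIndependent]
    refine forall₂_congr fun j _ => ?_
    rw [map_pow]
    exact pow_lt_one_iff (by omega)

end Groth.Agent.FF
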