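import Groth.Agent.FF.Field
import Groth.Agent.FF.Approx

/-! The fundamental inequality, finiteness of residue fields and of zeros and poles. -/

set_option autoImplicit false
set_option linter.style.haveILetI false

open FunFld WithZero IntermediateField

open scoped algebraAdjoinAdjoin

namespace Groth.Agent.FF

variable {k K : Type*} [Field k] [Field K] [Algebra k K]

/-- Leading-term argument at one place. -/
lemma eq_zero_of_val_sum_le (P : Place k K) {t : K} (ht : P.1 t = exp (-1 : ℤ)) {e d : ℕ}
    (z : Fin d → K) (hz : ∀ c : Fin d → k, c ≠ 0 → P.1 (∑ a, c a • z a) = 1)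
    (hz' : ∀ c : Fin d → k, P.1 (∑ a, c a • z a) ≤ 1) (c : Fin e → Fin d → k)
    (h : P.1 (∑ j, ∑ a, c j a • (t ^ (j : ℕ) * z a)) ≤ exp (-(e : ℤ))) : c = 0 := by
  classical
  by_contra hc
  obtain ⟨j₀, hj₀⟩ := Function.ne_iff.1 hc
  obtain ⟨j, hj, hmin⟩ := (Finset.univ.filter fun j => c j ≠ 0).exists_min_image id
    ⟨j₀, by simpa using hj₀⟩
  simp only [Finset.mem_filter, Finset.mem_univ, true_and, id] at hj hmin
  have hterm : ∀ i : Fin e, ∑ a, c i a • (t ^ (i : ℕ) * z a) = t ^ (i : ℕ) * ∑ a, c i a • z a := by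
    intro i; simp [Finset.mul_sum, mul_smul_comm]
  simp only [hterm] at h
  have htp : ∀ i : ℕ, P.1 (t ^ i) = exp (-(i : ℤ)) := fun i => by
    rw [map_pow, ht, ← exp_nsmul]; simp
  rw [← Finset.add_sum_erase _ _ (Finset.mem_univ j), Valuation.map_add_eq_of_lt_left] at h
  · rw [map_mul, hz _ hj, mul_one, htp, exp_le_exp] at h
    omega
  · rw [map_mul, hz _ hj, mul_one, htp]
    refine Valuation.map_sum_lt _ exp_ne_zero fun i hi => ?_
    rw [Finset.mem_erase] at hi
    rcases eq_or_ne (c i) 0 with h0 | h0
    · simp [h0]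
    · rw [map_mul, hz _ h0, mul_one, htp, exp_lt_exp]
      have := hmin i h0
      have : (j : ℕ) < i := lt_of_le_of_ne this fun e => hi.1 (Fin.ext e.symm)
      omega

/-- Lifts of residues that are linearly independent over `k`. -/
lemma exists_lifts (P : Place k K) {d : ℕ} (r : Fin d → IsLocalRing.ResidueField P.O)
    (hr : LinearIndependent k r) :
    ∃ z : Fin d → K, (∀ a, P.1 (z a) ≤ 1) ∧ (∀ c : Fin d → k, P.1 (∑ a, c a • z a) ≤ 1) ∧
      ∀ c : Fin d → k, c ≠ 0 → P.1 (∑ a, c a • z a) = 1 := by
  choose w hw using fun a => resHom_surjective P (r a)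
  have hsum : ∀ c : Fin d → k, ∑ a, c a • ((w a : P.O) : K) = ((∑ a, c a • w a : P.O) : K) := by
    intro c
    rw [AddSubmonoidClass.coe_finsetSum]
    exact Finset.sum_congr rfl fun a _ => (coe_smul_O P _ _).symm
  have hle : ∀ c : Fin d → k, P.1 (∑ a, c a • ((w a : P.O) : K)) ≤ 1 := fun c => by
    rw [hsum]; exact (mem_O P).1 (∑ a, c a • w a : P.O).2
  refine ⟨fun a => (w a : K), fun a => (mem_O P).1 (w a).2, hle, fun c hc => ?_⟩
  refine le_antisymm (hle c) (not_lt.1 fun hlt => hc ?_)
  rw [hsum, ← resHom_eq_zero_iff] at hlt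
  simp only [map_sum, map_smul, hw] at hlt
  exact funext (Fintype.linearIndependent_iff.1 hr c hlt)

lemma val_aeval_le (P : Place k K) {x : K} (hx : P.1 x ≤ 1) (q : Polynomial k) :
    P.1 (Polynomial.aeval x q) ≤ 1 := by
  rw [Polynomial.aeval_eq_sum_range]
  refine Valuation.map_sum_le _ fun i _ => (val_smul_le P _ _).trans ?_
  rw [map_pow]
  exact pow_le_one₀ zero_le hx

variable (hK : IsFF k K)

include hK

/-- Independent residues, lifted and multiplied by powers of uniformizers at finitely many zeros
of `x`, are at most `[K : k(x)]` in number. -/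
lemma sum_le_finrank {x : K} (hx : Transcendental k x) (s : Finset (Place k K))
    (hs : ∀ P ∈ s, P.1 x < 1) (d : Place k K → ℕ)
    (r : ∀ P, Fin (d P) → IsLocalRing.ResidueField P.O) (hr : ∀ P, LinearIndependent k (r P)) :
    ∑ P ∈ s, (P.ord x).toNat * d P ≤ Module.finrank k⟮x⟯ K := by
  classical
  haveI := finite_adjoin hK hx
  have hx0 : x ≠ 0 := fun h => hx (h ▸ isAlgebraic_zero)
  choose z hz hz2 hz3 using fun P => exists_lifts P (r P) (hr P)
  choose t ht using fun P : Place k K => exists_uniformizer P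
  let e : Place k K → ℕ := fun P => (P.ord x).toNat
  let ι := (P : s) × (Fin (e P.1) × Fin (d P.1))
  have hw : ∀ i : ι, ∃ w : K, ∀ Q ∈ s,
      Q.1 (w - (if Q = i.1.1 then t i.1.1 ^ (i.2.1 : ℕ) * z i.1.1 i.2.2 else 0)) ≤ exp (-(e Q : ℤ)) :=
    fun i => approx s _ _
  choose w hw using hw
  have hind : LinearIndependent (Algebra.adjoin k ({x} : Set K)) w := by
    rw [Fintype.linearIndependent_iff]
    intro g hg
    have hg' : ∀ i, ∃ p : Polynomial k, Polynomial.aeval x p = (g i : K) := fun i =>
      (AlgHom.mem_range _).1 ((Algebra.adjoin_singleton_eq_range_aeval k x).le (g i).2)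
    choose p hp using hg'
    suffices h : ∀ (n : ℕ) (p : ι → Polynomial k), (∀ i m, n ≤ m → (p i).coeff m = 0) →
        ∑ i, Polynomial.aeval x (p i) * w i = 0 → ∀ i, p i = 0 by
      intro i
      have := h ((Finset.univ.sup fun i => (p i).natDegree) + 1) p (fun i m hm =>
        Polynomial.coeff_eq_zero_of_natDegree_lt
          ((Finset.le_sup (f := fun i => (p i).natDegree) (Finset.mem_univ i)).trans_lt hm))
        (by simpa [hp, Algebra.smul_def] using hg) i
      exact Subtype.ext (by rw [← hp, this, map_zero]; rfl)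
    intro n
    induction n with
    | zero => exact fun p h _ i => Polynomial.ext fun m => by simpa using h i m (Nat.zero_le _)
    | succ n ih =>
      intro p hdeg hsum
      have hc : ∀ i, (p i).coeff 0 = 0 := by
        rintro ⟨⟨P, hP⟩, ja⟩
        have hlow : ∀ i : ι, ∀ Q ∈ s, Q.1 (Polynomial.aeval x (p i) * w i -
            (p i).coeff 0 • (if Q = i.1.1 then t i.1.1 ^ (i.2.1 : ℕ) * z i.1.1 i.2.2 else 0))
            ≤ exp (-(e Q : ℤ)) := by
          intro i Q hQ
          have hw1 : Q.1 (w i) ≤ 1 := by
            have h1 := hw i Q hQ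
            set v := (if Q = i.1.1 then t i.1.1 ^ (i.2.1 : ℕ) * z i.1.1 i.2.2 else 0) with hv
            have h2 : Q.1 v ≤ 1 := by
              rw [hv]; split_ifs with h
              · rw [h, map_mul, map_pow]
                refine mul_le_one' (pow_le_one₀ zero_le ?_) (hz _ _)
                rw [ht, ← exp_zero, exp_le_exp]; omega
              · simp
            have h3 : w i = (w i - v) + v := by ring
            rw [h3]
            refine (Q.1.map_add _ _).trans (max_le (h1.trans ?_) h2)
            rw [← exp_zero, exp_le_exp]; omega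
          have hsplit : Polynomial.aeval x (p i) * w i -
              (p i).coeff 0 • (if Q = i.1.1 then t i.1.1 ^ (i.2.1 : ℕ) * z i.1.1 i.2.2 else 0) =
              (p i).coeff 0 • (w i - (if Q = i.1.1 then t i.1.1 ^ (i.2.1 : ℕ) * z i.1.1 i.2.2 else 0))
              + x * Polynomial.aeval x (p i).divX * w i := by
            nth_rw 1 [← Polynomial.X_mul_divX_add (p i)]
            simp only [map_add, map_mul, Polynomial.aeval_X, Polynomial.aeval_C, Algebra.smul_def]
            ring
          rw [hsplit]
          refine (Q.1.map_add _ _).trans (max_le ((val_smul_le Q _ _).trans (hw i Q hQ)) ?_)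
          rw [map_mul, map_mul]
          refine (mul_le_mul' (mul_le_mul' le_rfl (val_aeval_le Q (hs Q hQ).le _)) hw1).trans ?_
          have := (val_lt_one_iff Q hx0).1 (hs Q hQ)
          rw [mul_one, mul_one, val_eq_exp_ord Q hx0, exp_le_exp]
          simp only [e]
          omega
        have key : P.1 (∑ j : Fin (e P), ∑ a : Fin (d P),
            (p ⟨⟨P, hP⟩, (j, a)⟩).coeff 0 • (t P ^ (j : ℕ) * z P a)) ≤ exp (-(e P : ℤ)) := by
          have h1 : (∑ j : Fin (e P), ∑ a : Fin (d P),
              (p ⟨⟨P, hP⟩, (j, a)⟩).coeff 0 • (t P ^ (j : ℕ) * z P a)) =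
              - ∑ i : ι, (Polynomial.aeval x (p i) * w i -
                (p i).coeff 0 • (if P = i.1.1 then t i.1.1 ^ (i.2.1 : ℕ) * z i.1.1 i.2.2 else 0)) := by
            rw [Finset.sum_sub_distrib, hsum, zero_sub, neg_neg]
            rw [Fintype.sum_sigma, Finset.sum_eq_single (⟨P, hP⟩ : s)]
            · rw [Fintype.sum_prod_type]; simp
            · intro Q _ hQ
              have : P ≠ Q.1 := fun h => hQ (Subtype.ext h.symm)
              simp [this]
            · simp
          rw [h1, Valuation.map_neg]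
          exact Valuation.map_sum_le _ fun i _ => hlow i P hP
        have := eq_zero_of_val_sum_le P (ht P) (z P) (hz3 P) (hz2 P)
          (fun j a => (p ⟨⟨P, hP⟩, (j, a)⟩).coeff 0) key
        exact congrFun (congrFun this ja.1) ja.2
      have hdiv : ∀ i, p i = Polynomial.X * (p i).divX := fun i => by
        conv_lhs => rw [← Polynomial.X_mul_divX_add (p i)]
        rw [hc, map_zero, add_zero]
      have h0 : ∀ i, (p i).divX = 0 := by
        refine ih (fun i => (p i).divX) (fun i m hm => ?_) ?_
        · rw [Polynomial.coeff_divX]; exact hdeg i _ (by omega)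
        · refine (mul_eq_zero.1 (?_ : x * _ = 0)).resolve_left hx0
          rw [Finset.mul_sum]
          refine (Finset.sum_congr rfl fun i _ => ?_).trans hsum
          conv_rhs => rw [hdiv i]
          rw [map_mul, Polynomial.aeval_X, mul_assoc]
      intro i
      rw [hdiv i, h0 i, mul_zero]
  have hind' : LinearIndependent k⟮x⟯ w :=
    (LinearIndependent.iff_fractionRing (R := Algebra.adjoin k ({x} : Set K)) (K := k⟮x⟯)).1 hind
  have h := hind'.fintype_card_le_finrank
  simpa [ι, e, Fintype.card_sigma, Finset.sum_attach s (fun P => (P.ord x).toNat * d P)] using h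

end Groth.Agent.FF
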