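import Groth.Agent.FF.Ext
import Mathlib.RingTheory.Valuation.RamificationGroup

/-! Galois action on places: transitivity, decomposition groups. -/

set_option autoImplicit false
set_option linter.style.haveILetI false
set_option linter.unusedSectionVars false

open FunFld WithZero
open scoped Pointwise

namespace Groth.Agent.FF

variable {k K K' : Type*} [Field k] [Field K] [Field K'] [Algebra k K] [Algebra K K'] [Algebra k K']
  [IsScalarTower k K K']

/-- `x ↦ Q (σ x)`. -/
def pull (Q : Place k K') (σ : K' ≃ₐ[K] K') : Place k K' :=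
  ⟨Q.1.comap (σ : K' →+* K'), fun c => by
      show Q.1 (σ (algebraMap k K' c)) ≤ 1
      rw [IsScalarTower.algebraMap_apply k K K', σ.commutes, ← IsScalarTower.algebraMap_apply]
      exact Q.2.1 c,
    fun y => by
      obtain ⟨x, hx⟩ := Q.2.2 y
      exact ⟨σ.symm x, by show Q.1 (σ (σ.symm x)) = y; rw [σ.apply_symm_apply, hx]⟩⟩

lemma pull_val (Q : Place k K') (σ : K' ≃ₐ[K] K') (x : K') : (pull Q σ).1 x = Q.1 (σ x) := rfl

lemma pull_one (Q : Place k K') : pull Q (1 : K' ≃ₐ[K] K') = Q := Subtype.ext (Valuation.ext fun _ => rfl)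

lemma pull_mul (Q : Place k K') (σ τ : K' ≃ₐ[K] K') : pull Q (σ * τ) = pull (pull Q σ) τ :=
  Subtype.ext (Valuation.ext fun _ => rfl)

lemma isOverWith_pull {Q : Place k K'} {P : Place k K} {e : ℕ} (h : IsOverWith Q P e)
    (σ : K' ≃ₐ[K] K') : IsOverWith (pull Q σ) P e := fun x => by
  rw [pull_val, σ.commutes]; exact h x

lemma isOver_pull {Q : Place k K'} {P : Place k K} (h : IsOver Q P) (σ : K' ≃ₐ[K] K') :
    IsOver (pull Q σ) P := h.imp fun _ he => isOverWith_pull he σ

/-- Residue fields of conjugate places. -/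
lemma deg_pull (Q : Place k K') (σ : K' ≃ₐ[K] K') : (pull Q σ).deg = Q.deg := by
  let f : (pull Q σ).O ≃+* Q.O :=
    { toFun := fun x => ⟨σ (x : K'), (mem_O Q).2 ((mem_O (pull Q σ)).1 x.2)⟩
      invFun := fun x => ⟨σ.symm (x : K'), (mem_O _).2 (by
        rw [pull_val, σ.apply_symm_apply]; exact (mem_O Q).1 x.2)⟩
      left_inv := fun x => Subtype.ext (σ.symm_apply_apply _)
      right_inv := fun x => Subtype.ext (σ.apply_symm_apply _)
      map_mul' := fun x y => Subtype.ext (map_mul σ _ _)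
      map_add' := fun x y => Subtype.ext (map_add σ _ _) }
  let g : IsLocalRing.ResidueField (pull Q σ).O ≃ₐ[k] IsLocalRing.ResidueField Q.O :=
    AlgEquiv.ofRingEquiv (f := IsLocalRing.ResidueField.mapEquiv f) fun c => by
      show IsLocalRing.residue Q.O (f (algebraMap k (pull Q σ).O c)) = IsLocalRing.residue Q.O (algebraMap k Q.O c)
      congr 1
      exact Subtype.ext (by
        show σ (algebraMap k K' c) = algebraMap k K' c
        rw [IsScalarTower.algebraMap_apply k K K', σ.commutes])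
  exact g.toLinearEquiv.finrank_eq

variable [FiniteDimensional K K'] [IsGalois K K']

/-- Transitivity on the places over a place. -/
lemma exists_pull_eq (hK : IsFF k K) {P : Place k K} {Q₁ Q₂ : Place k K'} (h₁ : IsOver Q₁ P)
    (h₂ : IsOver Q₂ P) : ∃ σ : K' ≃ₐ[K] K', pull Q₁ σ = Q₂ := by
  classical
  by_contra! hne
  let s : Finset (Place k K') := (finite_over (K' := K') hK P).toFinset
  have hmem : ∀ R, IsOver R P → R ∈ s := fun R h => (finite_over (K' := K') hK P).mem_toFinset.2 h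
  obtain ⟨y, hy⟩ := approx s (fun R => if R = Q₂ then 0 else 1) (fun _ => -1)
  have hy2 : Q₂.1 y < 1 := by
    have := hy Q₂ (hmem _ h₂)
    rw [if_pos rfl, sub_zero] at this
    exact this.trans_lt (by rw [← exp_zero, exp_lt_exp]; norm_num)
  have hy1 : ∀ σ : K' ≃ₐ[K] K', Q₁.1 (σ y) = 1 := fun σ => by
    have := hy (pull Q₁ σ) (hmem _ (isOver_pull h₁ σ))
    rw [if_neg (hne σ)] at this
    rw [← pull_val, show y = (y - 1) + 1 by ring, Valuation.map_add_eq_of_lt_right, map_one]
    rw [map_one]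
    exact this.trans_lt (by rw [← exp_zero, exp_lt_exp]; norm_num)
  have hN : algebraMap K K' (Algebra.norm K y) = ∏ σ : K' ≃ₐ[K] K', σ y :=
    Algebra.norm_eq_prod_automorphisms K y
  have hQ2 : Q₂.1 (algebraMap K K' (Algebra.norm K y)) < 1 := by
    have hint : ∀ σ : K' ≃ₐ[K] K', Q₂.1 (σ y) ≤ 1 := fun σ => by
      have := hy (pull Q₂ σ) (hmem _ (isOver_pull h₂ σ))
      rw [← pull_val]
      refine le_trans ((le_of_eq (by rw [sub_add_cancel])).trans
        (Valuation.map_add (pull Q₂ σ).1 (y - (if pull Q₂ σ = Q₂ then 0 else 1))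
          (if pull Q₂ σ = Q₂ then 0 else 1))) (max_le ?_ ?_)
      · exact this.trans (by rw [← exp_zero, exp_le_exp]; norm_num)
      · split_ifs <;> simp
    rw [hN, map_prod, ← Finset.mul_prod_erase Finset.univ (fun σ : K' ≃ₐ[K] K' => Q₂.1 (σ y))
      (Finset.mem_univ 1)]
    refine lt_of_le_of_lt (mul_le_of_le_one_right zero_le ?_) hy2
    exact Finset.prod_le_one' fun σ _ => hint σ
  have hP := (val_algebraMap_lt_one_iff h₂ _).1 hQ2
  have hQ1 := (val_algebraMap_lt_one_iff h₁ _).2 hP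
  rw [hN, map_prod, Finset.prod_eq_one fun σ _ => hy1 σ] at hQ1
  exact lt_irrefl _ hQ1

lemma smul_O (Q : Place k K') (σ : K' ≃ₐ[K] K') : σ • Q.O = (pull Q σ⁻¹).O := by
  ext x
  rw [ValuationSubring.mem_pointwise_smul_iff_inv_smul_mem, mem_O, mem_O, pull_val, AlgEquiv.smul_def]

lemma mem_decomposition_iff (Q : Place k K') (σ : K' ≃ₐ[K] K') :
    σ ∈ (Q.O).decompositionSubgroup K ↔ pull Q σ = Q := by
  rw [MulAction.mem_stabilizer_iff, smul_O]
  constructor
  · intro h
    have h1 : pull Q σ⁻¹ = Q := ext_of_O fun x hx => (mem_O Q).1 (h ▸ (mem_O _).2 hx)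
    have h2 := congrArg (fun R => pull R σ) h1
    simp only [← pull_mul, inv_mul_cancel, pull_one] at h2
    exact h2.symm
  · intro h
    have h2 := congrArg (fun R => pull R σ⁻¹) h
    simp only [← pull_mul, mul_inv_cancel, pull_one] at h2
    rw [← h2]

lemma le_one_of_mem_decomposition {Q : Place k K'} {σ : K' ≃ₐ[K] K'}
    (h : σ ∈ (Q.O).decompositionSubgroup K) (x : K') : Q.1 (σ x) = Q.1 x := by
  rw [← pull_val, (mem_decomposition_iff Q σ).1 h]

lemma card_over_mul_card_decomposition (hK : IsFF k K) {P : Place k K} {Q : Place k K'}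
    (h : IsOver Q P) :
    Nat.card {Q' : Place k K' // IsOver Q' P} * Nat.card ((Q.O).decompositionSubgroup K) =
      Module.finrank K K' := by
  classical
  letI : MulAction (K' ≃ₐ[K] K') {Q' : Place k K' // IsOver Q' P} :=
    { smul := fun σ R => ⟨pull R.1 σ⁻¹, isOver_pull R.2 σ⁻¹⟩
      one_smul := fun R => Subtype.ext (by show pull R.1 (1 : K' ≃ₐ[K] K')⁻¹ = R.1; rw [inv_one, pull_one])
      mul_smul := fun σ τ R => Subtype.ext (by
        show pull R.1 (σ * τ)⁻¹ = pull (pull R.1 τ⁻¹) σ⁻¹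
        rw [mul_inv_rev, pull_mul]) }
  have horb : MulAction.orbit (K' ≃ₐ[K] K') (⟨Q, h⟩ : {Q' : Place k K' // IsOver Q' P}) = Set.univ := by
    refine Set.eq_univ_of_forall fun R => ?_
    obtain ⟨σ, hσ⟩ := exists_pull_eq hK h R.2
    exact ⟨σ⁻¹, Subtype.ext (by show pull Q σ⁻¹⁻¹ = R.1; rw [inv_inv, hσ])⟩
  have hstab : MulAction.stabilizer (K' ≃ₐ[K] K') (⟨Q, h⟩ : {Q' : Place k K' // IsOver Q' P}) =
      (Q.O).decompositionSubgroup K := by
    ext σ
    rw [MulAction.mem_stabilizer_iff, Subtype.ext_iff]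
    show pull Q σ⁻¹ = Q ↔ _
    rw [← mem_decomposition_iff, inv_mem_iff]
  have h1 := (MulAction.orbitProdStabilizerEquivGroup (K' ≃ₐ[K] K')
    (⟨Q, h⟩ : {Q' : Place k K' // IsOver Q' P}))
  have h2 := Nat.card_congr h1
  rw [Nat.card_prod, horb, Nat.card_congr (Equiv.Set.univ _), hstab] at h2
  rw [h2, IsGalois.card_aut_eq_finrank]

lemma card_decomposition_mul_deg (hK : IsFF k K) {P : Place k K} {Q : Place k K'} {e : ℕ}
    (he : IsOverWith Q P e) :
    Nat.card ((Q.O).decompositionSubgroup K) * P.deg = e * Q.deg := by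
  classical
  obtain ⟨hfin, hsum⟩ := fundamental (K' := K') hK P
  have h := hsum hfin.toFinset (fun R => hfin.mem_toFinset)
  have hc := card_over_mul_card_decomposition hK ⟨e, he⟩
  have hconst : ∀ R ∈ hfin.toFinset, ramIdx R P * R.deg = e * Q.deg := fun R hR => by
    obtain ⟨σ, rfl⟩ := exists_pull_eq hK ⟨e, he⟩ (hfin.mem_toFinset.1 hR)
    rw [deg_pull, ramIdx_eq (isOverWith_pull he σ)]
  rw [Finset.sum_congr rfl hconst, Finset.sum_const, smul_eq_mul,
    ← Nat.card_eq_card_finite_toFinset hfin, ← hc, Set.coe_setOf, mul_assoc] at h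
  have hpos : 0 < Nat.card {Q' : Place k K' // IsOver Q' P} := by
    rcases Nat.eq_zero_or_pos (Nat.card {Q' : Place k K' // IsOver Q' P}) with h0 | h0
    · rw [h0, zero_mul] at hc
      have := Module.finrank_pos (R := K) (M := K')
      omega
    · exact h0
  exact (Nat.eq_of_mul_eq_mul_left hpos h).symm

end Groth.Agent.FF
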