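import Groth.Agent.FF.GalRam

/-! Inertia field. -/

set_option autoImplicit false
set_option linter.style.haveILetI false
set_option linter.unusedSectionVars false

open FunFld WithZero IntermediateField
open scoped Pointwise

namespace Groth.Agent.FF

variable {k K K' : Type*} [Field k] [Field K] [Field K'] [Algebra k K] [Algebra K K'] [Algebra k K']
  [IsScalarTower k K K'] [FiniteDimensional K K'] [IsGalois K K']

local instance tower_mid (E : IntermediateField K K') : IsScalarTower k E K' :=
  IsScalarTower.of_algebraMap_eq fun _ => rfl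

lemma card_inertia_inter (Q : Place k K') (E : IntermediateField K K') :
    Nat.card (inertiaG (K := E) Q) = Nat.card ↥(inertiaG (K := K) Q ⊓ E.fixingSubgroup) := by
  refine Nat.card_congr ?_
  exact
    { toFun := fun σ => ⟨(IntermediateField.fixingSubgroupEquiv E).symm σ.1,
        (inertia_map_iff Q _).2 (fun x hx => (inertia_map_iff Q σ.1).1 σ.2 x hx),
        ((IntermediateField.fixingSubgroupEquiv E).symm σ.1).2⟩
      invFun := fun σ => ⟨IntermediateField.fixingSubgroupEquiv E ⟨σ.1, σ.2.2⟩,
        (inertia_map_iff Q _).2 (fun x hx => (inertia_map_iff Q σ.1).1 σ.2.1 x hx)⟩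
      left_inv := fun σ => Subtype.ext ((IntermediateField.fixingSubgroupEquiv E).apply_symm_apply σ.1)
      right_inv := fun ⟨σ, h1, h2⟩ => Subtype.ext (show
        (((IntermediateField.fixingSubgroupEquiv E).symm ((IntermediateField.fixingSubgroupEquiv E) ⟨σ, h2⟩) :
          E.fixingSubgroup) : K' ≃ₐ[K] K') = σ by rw [MulEquiv.symm_apply_apply]) }

lemma exists_isOverWith_mid (hK : IsFF k K) (Q : Place k K')
    [Algebra.IsSeparable k (IsLocalRing.ResidueField Q.O)] (E : IntermediateField K K') :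
    ∃ QE : Place k E,
      IsOverWith Q QE (Nat.card ↥(inertiaG (K := K) Q ⊓ E.fixingSubgroup)) := by
  have hE : IsFF k E := isFF_ext hK
  obtain ⟨QE, a, ha⟩ := exists_below (K := E) hE Q
  refine ⟨QE, ?_⟩
  rw [← card_inertia_inter, card_inertia (K := E) hE ha]
  exact ha

lemma range_comap {L L' : Type*} [Field L] [Field L'] [Algebra k L] [Algebra k L'] [Algebra L L']
    {Q : Place k L'} {P : Place k L} {e : ℕ} (h : IsOverWith Q P e) :
    Set.range (Q.1.comap (algebraMap L L')) = Set.range fun v : ℤᵐ⁰ => v ^ e := by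
  ext v
  constructor
  · rintro ⟨x, rfl⟩; exact ⟨P.1 x, (h x).symm⟩
  · rintro ⟨w, rfl⟩; obtain ⟨x, rfl⟩ := P.2.2 w; exact ⟨x, h x⟩

lemma unramified_iff (hK : IsFF k K) (Q : Place k K')
    [Algebra.IsSeparable k (IsLocalRing.ResidueField Q.O)] (E : IntermediateField K K') :
    Set.range (Q.1.comap (algebraMap E K')) = Set.range (Q.1.comap (algebraMap K K')) ↔
      E ≤ IntermediateField.fixedField (inertiaG (K := K) Q) := by
  obtain ⟨P, e, he⟩ := exists_below (K := K) hK Q
  obtain ⟨QE, hQE⟩ := exists_isOverWith_mid hK Q E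
  rw [range_comap hQE, range_comap he, IntermediateField.le_iff_le]
  constructor
  · intro h
    obtain ⟨w, hw⟩ := (h.le ⟨exp 1, rfl⟩ : exp (1 : ℤ) ^ Nat.card ↥(inertiaG (K := K) Q ⊓ E.fixingSubgroup) ∈ _)
    simp only at hw
    have hw0 : w ≠ 0 := fun e0 => by
      rw [e0, zero_pow (IsOverWith_pos he).ne'] at hw
      exact pow_ne_zero _ exp_ne_zero hw.symm
    rw [← exp_log hw0, ← exp_nsmul, ← exp_nsmul, exp_inj, nsmul_eq_mul, nsmul_eq_mul, mul_one] at hw
    have hdvd : e ∣ Nat.card ↥(inertiaG (K := K) Q ⊓ E.fixingSubgroup) :=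
      Int.natCast_dvd_natCast.1 ⟨_, hw.symm⟩
    have hle : e ≤ Nat.card ↥(inertiaG (K := K) Q ⊓ E.fixingSubgroup) :=
      Nat.le_of_dvd Nat.card_pos hdvd
    rw [← card_inertia hK he] at hle
    have heq := Subgroup.eq_of_le_of_card_ge
      (inf_le_left : inertiaG (K := K) Q ⊓ E.fixingSubgroup ≤ inertiaG (K := K) Q) hle
    exact inf_eq_left.1 heq
  · intro h
    rw [inf_eq_left.2 h, card_inertia hK he]

lemma totally_ramified_inertia (hK : IsFF k K) (Q : Place k K')
    [Algebra.IsSeparable k (IsLocalRing.ResidueField Q.O)] :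
    ∃ Q₁ : Place k ↥(IntermediateField.fixedField (inertiaG (K := K) Q)),
      IsOverWith Q Q₁ (Module.finrank ↥(IntermediateField.fixedField (inertiaG (K := K) Q)) K') := by
  classical
  obtain ⟨Q₁, h⟩ := exists_isOverWith_mid hK Q (IntermediateField.fixedField (inertiaG (K := K) Q))
  refine ⟨Q₁, ?_⟩
  rw [IntermediateField.fixingSubgroup_fixedField, inf_idem] at h
  rw [IntermediateField.finrank_fixedField_eq_card]
  exact h

end Groth.Agent.FF
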