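import Groth.Agent.FF.GalBasic

/-! Inertia group of a place: order, residue lifts fixed by inertia. -/

set_option autoImplicit false
set_option linter.style.haveILetI false
set_option linter.unusedSectionVars false

open FunFld WithZero IntermediateField Polynomial
open scoped Pointwise

namespace Groth.Agent.FF

section Aux

variable {S F : Type*} [Field S] [Field F] [Algebra S F]

/-- A monic polynomial over `S` split in `F` bounds the degree of a separable root. -/
lemma natDegree_minpoly_le (x : F) (hsep : IsSeparable S x) {h : S[X]} (hh : Polynomial.aeval x h = 0)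
    {ι : Type*} (s : Finset ι) (r : ι → F) (hspl : h.map (algebraMap S F) = ∏ i ∈ s, (X - C (r i)))
    {T : Finset F}
    (hT : ∀ i ∈ s, Polynomial.aeval (r i) (minpoly S x) = 0 → r i ∈ T) :
    (minpoly S x).natDegree ≤ T.card := by
  classical
  have hne : (∏ i ∈ s, (X - C (r i))) ≠ 0 := Finset.prod_ne_zero_iff.2 fun i _ => X_sub_C_ne_zero _
  have hm : (minpoly S x).map (algebraMap S F) ∣ ∏ i ∈ s, (X - C (r i)) :=
    hspl ▸ Polynomial.map_dvd _ (minpoly.dvd S x hh)
  have hs : ((minpoly S x).map (algebraMap S F)).Splits :=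
    (Polynomial.Splits.prod (fun i _ => Polynomial.Splits.X_sub_C (r i))).of_dvd hne hm
  rw [← Polynomial.natDegree_map (algebraMap S F), hs.natDegree_eq_card_roots,
    ← Multiset.toFinset_card_of_nodup (Polynomial.nodup_roots (Polynomial.Separable.map hsep))]
  refine Finset.card_le_card fun y hy => ?_
  rw [Multiset.mem_toFinset, Polynomial.mem_roots'] at hy
  have hy2 : (∏ i ∈ s, (X - C (r i))).IsRoot y := hy.2.dvd hm
  rw [Polynomial.IsRoot, Polynomial.eval_prod, Finset.prod_eq_zero_iff] at hy2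
  obtain ⟨i, hi, hiy⟩ := hy2
  rw [Polynomial.eval_sub, Polynomial.eval_X, Polynomial.eval_C, sub_eq_zero] at hiy
  subst hiy
  exact hT i hi (by rw [Polynomial.aeval_def, ← Polynomial.eval_map]; exact hy.2)

end Aux

variable {k K K' : Type*} [Field k] [Field K] [Field K'] [Algebra k K] [Algebra K K'] [Algebra k K']
  [IsScalarTower k K K'] [FiniteDimensional K K'] [IsGalois K K']

/-- Automorphisms congruent to the identity modulo `Q ^ i`. -/
def InRam (Q : Place k K') (σ : K' ≃ₐ[K] K') (i : ℤ) : Prop :=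
  ∀ x : K', Q.1 x ≤ 1 → Q.1 (σ x - x) ≤ exp (-i)

lemma exp_neg_one_le : exp (-1 : ℤ) ≤ (1 : ℤᵐ⁰) := by rw [← exp_zero, exp_le_exp]; omega

lemma le_exp_neg_one_iff (v : ℤᵐ⁰) : v ≤ exp (-1 : ℤ) ↔ v < 1 := by
  rw [← exp_zero, lt_exp_iff]; norm_num

lemma le_one_of_inRam {Q : Place k K'} {σ : K' ≃ₐ[K] K'} {i : ℤ} (hi : 1 ≤ i) (h : InRam Q σ i)
    {x : K'} (hx : Q.1 x ≤ 1) : Q.1 (σ x) ≤ 1 := by
  rw [show σ x = (σ x - x) + x by ring]
  exact (Q.1.map_add _ _).trans (max_le ((h x hx).trans (by rw [← exp_zero, exp_le_exp]; omega)) hx)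

lemma pull_eq_of_inRam {Q : Place k K'} {σ : K' ≃ₐ[K] K'} {i : ℤ} (hi : 1 ≤ i) (h : InRam Q σ i) :
    pull Q σ = Q :=
  (ext_of_O (P := Q) (Q := pull Q σ) fun _ hx => le_one_of_inRam hi h hx).symm

lemma inertia_map_iff (Q : Place k K') (σ : K' ≃ₐ[K] K') :
    σ ∈ ((Q.O).inertiaSubgroup K).map ((Q.O).decompositionSubgroup K).subtype ↔ InRam Q σ 1 := by
  constructor
  · rintro ⟨τ, hτ, rfl⟩ x hx
    have h1 := RingEquiv.congr_fun (MonoidHom.mem_ker.1 hτ)
      (IsLocalRing.residue Q.O ⟨x, (mem_O Q).2 hx⟩)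
    rw [MulSemiringAction.toRingAut_apply, MulSemiringAction.toRingEquiv_apply,
      ← IsLocalRing.ResidueField.residue_smul] at h1
    rw [RingAut.one_apply] at h1
    rw [← sub_eq_zero, ← map_sub, IsLocalRing.residue_eq_zero_iff, mem_maximalIdeal] at h1
    rw [le_exp_neg_one_iff]
    exact h1
  · intro h
    have hd : σ ∈ (Q.O).decompositionSubgroup K :=
      (mem_decomposition_iff Q σ).2 (pull_eq_of_inRam le_rfl h)
    refine ⟨⟨σ, hd⟩, ?_, rfl⟩
    refine MonoidHom.mem_ker.2 (RingEquiv.ext fun y => ?_)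
    obtain ⟨⟨x, hx⟩, rfl⟩ := IsLocalRing.residue_surjective y
    rw [MulSemiringAction.toRingAut_apply, MulSemiringAction.toRingEquiv_apply,
      ← IsLocalRing.ResidueField.residue_smul]
    show IsLocalRing.residue Q.O _ = IsLocalRing.residue Q.O _
    rw [← sub_eq_zero, ← map_sub, IsLocalRing.residue_eq_zero_iff, mem_maximalIdeal, ← le_exp_neg_one_iff]
    exact h x ((mem_O Q).1 hx)

/-- The inertia group inside `Gal(K'/K)`. -/
noncomputable abbrev inertiaG (Q : Place k K') : Subgroup (K' ≃ₐ[K] K') :=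
  ((Q.O).inertiaSubgroup K).map ((Q.O).decompositionSubgroup K).subtype

lemma card_inertiaG (Q : Place k K') :
    Nat.card (inertiaG (K := K) Q) = Nat.card ((Q.O).inertiaSubgroup K) :=
  Nat.card_congr ((Subgroup.equivMapOfInjective _ _ (Subgroup.subtype_injective _)).symm.toEquiv)

section Poly

lemma coeff_prod_fixed (H : Subgroup (K' ≃ₐ[K] K')) [Fintype H] (a : K') (τ : K' ≃ₐ[K] K') (hτ : τ ∈ H)
    (n : ℕ) : τ ((∏ σ : H, (X - C ((σ : K' ≃ₐ[K] K') a))).coeff n) =
      (∏ σ : H, (X - C ((σ : K' ≃ₐ[K] K') a))).coeff n := by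
  have h : (∏ σ : H, (X - C ((σ : K' ≃ₐ[K] K') a))).map (τ : K' →+* K') =
      ∏ σ : H, (X - C ((σ : K' ≃ₐ[K] K') a)) := by
    rw [Polynomial.map_prod]
    refine Fintype.prod_equiv (Equiv.mulLeft (⟨τ, hτ⟩ : H)) _ _ fun σ => ?_
    simp only [Polynomial.map_sub, Polynomial.map_X, Polynomial.map_C, Equiv.coe_mulLeft]
    rfl
  conv_rhs => rw [← h, Polynomial.coeff_map]
  rfl

lemma map_prod_O (Q : Place k K') {ι : Type*} (s : Finset ι) (r : ι → Q.O) :
    (∏ i ∈ s, (X - C (r i))).map (algebraMap Q.O K') = ∏ i ∈ s, (X - C ((r i : K'))) := by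
  rw [Polynomial.map_prod]
  refine Finset.prod_congr rfl fun i _ => ?_
  rw [Polynomial.map_sub, Polynomial.map_X, Polynomial.map_C]
  rfl

end Poly

/-- The residue embedding. -/
noncomputable def resEmb {Q : Place k K'} {P : Place k K} (h : IsOver Q P) :
    IsLocalRing.ResidueField P.O →ₐ[k] IsLocalRing.ResidueField Q.O :=
  let ι : P.O →+* Q.O :=
    { toFun := fun x => ⟨algebraMap K K' x, (mem_O Q).2 ((val_algebraMap_le_one_iff h _).2 ((mem_O P).1 x.2))⟩
      map_one' := Subtype.ext (map_one (algebraMap K K'))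
      map_mul' := fun x y => Subtype.ext (map_mul (algebraMap K K') _ _)
      map_zero' := Subtype.ext (map_zero (algebraMap K K'))
      map_add' := fun x y => Subtype.ext (map_add (algebraMap K K') _ _) }
  { toRingHom := Ideal.Quotient.lift _ ((IsLocalRing.residue Q.O).comp ι) fun x hx => by
      rw [mem_maximalIdeal] at hx
      rw [RingHom.comp_apply, IsLocalRing.residue_eq_zero_iff, mem_maximalIdeal]
      exact (val_algebraMap_lt_one_iff h _).2 hx
    commutes' := fun c => congrArg (IsLocalRing.residue Q.O) (Subtype.ext (by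
      show algebraMap K K' (algebraMap k K c) = algebraMap k K' c
      rw [← IsScalarTower.algebraMap_apply])) }

lemma resEmb_res {Q : Place k K'} {P : Place k K} (h : IsOver Q P) (x : P.O) :
    resEmb h (resHom P x) =
      resHom Q ⟨algebraMap K K' x, (mem_O Q).2 ((val_algebraMap_le_one_iff h _).2 ((mem_O P).1 x.2))⟩ := rfl

/-- The inertia group has order `e`. -/
lemma card_inertia (hK : IsFF k K) {P : Place k K} {Q : Place k K'} {e : ℕ} (he : IsOverWith Q P e)
    [Algebra.IsSeparable k (IsLocalRing.ResidueField Q.O)] :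
    Nat.card (inertiaG (K := K) Q) = e := by
  classical
  have hov : IsOver Q P := ⟨e, he⟩
  have hK' : IsFF k K' := isFF_ext hK
  set F := IsLocalRing.ResidueField Q.O
  let S := IsLocalRing.ResidueField P.O
  letI : Module k F := Algebra.toModule
  letI : Module k S := Algebra.toModule
  haveI : Module.Finite k F := finiteDimensional_residueField hK' Q
  letI : Algebra S F := (resEmb hov).toRingHom.toAlgebra
  haveI : IsScalarTower k S F := IsScalarTower.of_algebraMap_eq fun c => ((resEmb hov).commutes c).symm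
  have hSdeg : Module.finrank k S = P.deg := rfl
  haveI : Module.Finite S F := Module.Finite.of_restrictScalars_finite k S F
  haveI : Algebra.IsSeparable S F := Algebra.isSeparable_tower_top_of_isSeparable k S F
  obtain ⟨α, hα, hα0⟩ : ∃ α : F, S⟮α⟯ = ⊤ ∧ α ≠ 0 := by
    obtain ⟨α, hα⟩ := Field.exists_primitive_element S F
    rcases eq_or_ne α 0 with rfl | h0
    · refine ⟨1, ?_, one_ne_zero⟩
      rw [IntermediateField.adjoin_one, ← hα, IntermediateField.adjoin_zero]
    · exact ⟨α, hα, h0⟩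
  obtain ⟨a₀, ha₀⟩ := resHom_surjective Q α
  -- a lift vanishing at the other places over `P`
  have hfin := finite_over (K' := K') hK P
  obtain ⟨a, haQ⟩ := approx hfin.toFinset (fun R => if R = Q then (a₀ : K') else 0) (fun _ => -1)
  have haQ1 : Q.1 (a - a₀) < 1 := by
    have := haQ Q (hfin.mem_toFinset.2 hov)
    rw [if_pos rfl] at this
    rwa [le_exp_neg_one_iff] at this
  have haR : ∀ R, IsOver R P → R ≠ Q → R.1 a < 1 := fun R hR hne => by
    have := haQ R (hfin.mem_toFinset.2 hR)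
    rw [if_neg hne, sub_zero] at this
    rwa [le_exp_neg_one_iff] at this
  have haint : ∀ σ : K' ≃ₐ[K] K', Q.1 (σ a) ≤ 1 := fun σ => by
    rw [← pull_val]
    by_cases h : pull Q σ = Q
    · rw [h, show a = (a - a₀) + a₀ by ring]
      exact (Q.1.map_add _ _).trans (max_le haQ1.le ((mem_O Q).1 a₀.2))
    · exact (haR _ (isOver_pull hov σ) h).le
  let r : (K' ≃ₐ[K] K') → F := fun σ => resHom Q ⟨σ a, (mem_O Q).2 (haint σ)⟩
  have hr1 : r 1 = α := by
    rw [← ha₀, ← sub_eq_zero]
    show resHom Q _ - _ = 0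
    rw [← map_sub, resHom_eq_zero_iff]
    exact haQ1
  have hr0 : ∀ σ, σ ∉ (Q.O).decompositionSubgroup K → r σ = 0 := fun σ hσ => by
    refine (resHom_eq_zero_iff Q).2 ?_
    show Q.1 (σ a) < 1
    rw [← pull_val]
    exact haR _ (isOver_pull hov σ) fun h => hσ ((mem_decomposition_iff Q σ).2 h)
  -- every residue is a polynomial in `α`
  have hgen : ∀ y : F, ∃ p : S[X], Polynomial.aeval α p = y := fun y => by
    have h1 : y ∈ (S⟮α⟯ : IntermediateField S F).toSubalgebra := by rw [hα]; trivial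
    rw [IntermediateField.adjoin_simple_toSubalgebra_of_isAlgebraic (Algebra.IsAlgebraic.isAlgebraic α),
      Algebra.adjoin_singleton_eq_range_aeval] at h1
    exact h1
  -- coefficients in `S` lift to `K`
  have hlift : ∀ c : S, ∃ b : K, ∃ hb : Q.1 (algebraMap K K' b) ≤ 1,
      algebraMap S F c = resHom Q ⟨algebraMap K K' b, (mem_O Q).2 hb⟩ := by
    intro c
    obtain ⟨b, rfl⟩ := resHom_surjective P c
    exact ⟨b, (val_algebraMap_le_one_iff hov _).2 ((mem_O P).1 b.2), resEmb_res hov b⟩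
  choose bf hbf hbf' using hlift
  -- residue of the conjugate of a polynomial expression
  have hact : ∀ σ : K' ≃ₐ[K] K', ∀ hσ : σ ∈ (Q.O).decompositionSubgroup K, ∀ p : S[X],
      ∀ z : K', ∀ hz : Q.1 z ≤ 1, Polynomial.aeval α p = resHom Q ⟨z, (mem_O Q).2 hz⟩ →
        Polynomial.aeval (r σ) p =
          resHom Q ⟨σ z, (mem_O Q).2 ((le_one_of_mem_decomposition hσ z).trans_le hz)⟩ := by
    intro σ hσ p z hz hpz
    let w : ((K' ≃ₐ[K] K')) → K' := fun τ => ∑ i ∈ p.support, algebraMap K K' (bf (p.coeff i)) * (τ a) ^ i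
    let wO : ((K' ≃ₐ[K] K')) → Q.O := fun τ => ∑ i ∈ p.support,
      ⟨algebraMap K K' (bf (p.coeff i)), (mem_O Q).2 (hbf _)⟩ * (⟨τ a, (mem_O Q).2 (haint τ)⟩ : Q.O) ^ i
    have hw : ∀ τ, ((wO τ : Q.O) : K') = w τ := fun τ => by
      simp only [wO, w]; push_cast; rfl
    have he : ∀ τ, Polynomial.aeval (r τ) p = resHom Q (wO τ) := fun τ => by
      rw [Polynomial.aeval_eq_sum_range' (n := p.natDegree + 1) (Nat.lt_succ_self _)]
      rw [← Finset.sum_subset (s₁ := p.support) (fun i hi => Finset.mem_range_succ_iff.2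
        (Polynomial.le_natDegree_of_mem_supp i hi))
        (fun i _ hi => by rw [Polynomial.notMem_support_iff.1 hi, zero_smul])]
      simp only [wO, map_sum, map_mul, map_pow]
      refine Finset.sum_congr rfl fun i _ => ?_
      rw [Algebra.smul_def, ← hbf']
    have h1 : Q.1 (w 1 - z) < 1 := by
      have := he 1
      rw [hr1, hpz, ← sub_eq_zero, ← map_sub, resHom_eq_zero_iff] at this
      rw [← hw, Valuation.map_sub_swap]
      exact this
    rw [he σ, ← sub_eq_zero, ← map_sub, resHom_eq_zero_iff]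
    show Q.1 (((wO σ : Q.O) : K') - σ z) < 1
    rw [hw, show w σ = σ (w 1) by simp [w], ← map_sub, le_one_of_mem_decomposition hσ]
    exact h1
  have hsep : IsSeparable S α := Algebra.IsSeparable.isSeparable S α
  set m := minpoly S α
  have hroot : ∀ σ ∈ (Q.O).decompositionSubgroup K, Polynomial.aeval (r σ) m = 0 := fun σ hσ => by
    have h := hact σ hσ m 0 (by simp) (by rw [minpoly.aeval]; exact (map_zero (resHom Q)).symm)
    rw [h, resHom_eq_zero_iff]
    show Q.1 (σ 0) < 1
    simp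
  let T : Finset F := (Finset.univ.filter fun σ => σ ∈ (Q.O).decompositionSubgroup K).image r
  have hTle : T.card ≤ m.natDegree := by
    rw [← Polynomial.natDegree_map (algebraMap S F)]
    refine le_trans ?_ ((Multiset.toFinset_card_le _).trans (Polynomial.card_roots' _))
    refine Finset.card_le_card fun y hy => ?_
    obtain ⟨σ, hσ, rfl⟩ := Finset.mem_image.1 hy
    rw [Multiset.mem_toFinset, Polynomial.mem_roots_map (minpoly.ne_zero (Algebra.IsIntegral.isIntegral α)),
      ← Polynomial.aeval_def]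
    exact hroot σ (Finset.mem_filter.1 hσ).2
  have hTge : m.natDegree ≤ T.card := by
    let G : K'[X] := ∏ σ : (⊤ : Subgroup (K' ≃ₐ[K] K')), (X - C ((σ : K' ≃ₐ[K] K') a))
    let GO : Q.O[X] := ∏ σ : (⊤ : Subgroup (K' ≃ₐ[K] K')), (X - C ⟨(σ : K' ≃ₐ[K] K') a, (mem_O Q).2 (haint _)⟩)
    have hGO : GO.map (algebraMap Q.O K') = G := map_prod_O Q _ _
    have hlifts : GO.map (resHom Q).toRingHom ∈ Polynomial.lifts (algebraMap S F) := by
      rw [Polynomial.lifts_iff_coeff_lifts]
      intro n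
      obtain ⟨b, hb⟩ := (IsGalois.mem_bot_iff_fixed (F := K) (E := K') (G.coeff n)).2
        fun τ => coeff_prod_fixed ⊤ a τ (Subgroup.mem_top τ) n
      have hb' : algebraMap K K' b = ((GO.coeff n : Q.O) : K') := by
        rw [← hGO, Polynomial.coeff_map] at hb; exact hb
      have hbP : P.1 b ≤ 1 := (val_algebraMap_le_one_iff hov b).1 (by rw [hb']; exact (mem_O Q).1 (GO.coeff n).2)
      refine ⟨resHom P ⟨b, (mem_O P).2 hbP⟩, ?_⟩
      rw [Polynomial.coeff_map]
      show resEmb hov (resHom P ⟨b, (mem_O P).2 hbP⟩) = resHom Q (GO.coeff n)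
      rw [resEmb_res]
      exact congrArg (resHom Q) (Subtype.ext hb')
    obtain ⟨h, hh⟩ := (Polynomial.mem_lifts _).1 hlifts
    have hspl : h.map (algebraMap S F) = ∏ σ : (⊤ : Subgroup (K' ≃ₐ[K] K')), (X - C (r σ)) := by
      rw [hh, Polynomial.map_prod]
      refine Finset.prod_congr rfl fun σ _ => ?_
      rw [Polynomial.map_sub, Polynomial.map_X, Polynomial.map_C]
      rfl
    have hh0 : Polynomial.aeval α h = 0 := by
      rw [Polynomial.aeval_def, ← Polynomial.eval_map, hspl, Polynomial.eval_prod]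
      exact Finset.prod_eq_zero (Finset.mem_univ 1) (by simp [hr1])
    refine natDegree_minpoly_le α hsep hh0 _ _ hspl fun σ _ hσ => ?_
    refine Finset.mem_image.2 ⟨σ, Finset.mem_filter.2 ⟨Finset.mem_univ _, ?_⟩, rfl⟩
    by_contra hnd
    rw [hr0 _ hnd] at hσ
    have h0 : algebraMap S F (Polynomial.coeff m 0) = 0 := by
      rw [Polynomial.aeval_def, Polynomial.eval₂_at_zero] at hσ; exact hσ
    exact (minpoly.coeff_zero_ne_zero (Algebra.IsIntegral.isIntegral α) hα0)
      ((map_eq_zero (algebraMap S F)).1 h0)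
  have hm : m.natDegree = Module.finrank S F := by
    rw [← IntermediateField.adjoin.finrank (Algebra.IsIntegral.isIntegral α), hα,
      IntermediateField.finrank_top']
  -- fibres of `r` are cosets of the inertia group
  have hI : ∀ σ ∈ (Q.O).decompositionSubgroup K, (r σ = r 1 ↔ σ ∈ inertiaG (K := K) Q) := by
    intro σ hσ
    rw [inertia_map_iff, hr1]
    constructor
    · intro h x hx
      obtain ⟨p, hp⟩ := hgen (resHom Q ⟨x, (mem_O Q).2 hx⟩)
      have h2 := hact σ hσ p x hx hp
      rw [h, hp, ← sub_eq_zero, ← map_sub, resHom_eq_zero_iff] at h2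
      rw [le_exp_neg_one_iff, Valuation.map_sub_swap]
      exact h2
    · intro h
      rw [← hr1, ← sub_eq_zero]
      show resHom Q _ - resHom Q _ = 0
      rw [← map_sub, resHom_eq_zero_iff, ← le_exp_neg_one_iff]
      exact h a (haint 1)
  have hfib : ∀ σ ∈ (Q.O).decompositionSubgroup K, ∀ τ ∈ (Q.O).decompositionSubgroup K,
      (r σ = r τ ↔ τ⁻¹ * σ ∈ inertiaG (K := K) Q) := by
    intro σ hσ τ hτ
    rw [← hI _ (mul_mem (inv_mem hτ) hσ)]
    show resHom Q _ = resHom Q _ ↔ resHom Q _ = resHom Q _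
    rw [← sub_eq_zero, ← map_sub, resHom_eq_zero_iff, ← sub_eq_zero (a := resHom Q _), ← map_sub,
      resHom_eq_zero_iff]
    show Q.1 (σ a - τ a) < 1 ↔ Q.1 (τ⁻¹ (σ a) - (1 : K' ≃ₐ[K] K') a) < 1
    have : σ a - τ a = τ (τ⁻¹ (σ a) - (1 : K' ≃ₐ[K] K') a) := by
      rw [map_sub, show τ (τ⁻¹ (σ a)) = σ a from τ.apply_symm_apply _]; rfl
    rw [this, le_one_of_mem_decomposition hτ]
  have hcount : Nat.card ((Q.O).decompositionSubgroup K) = T.card * Nat.card (inertiaG (K := K) Q) := by
    rw [Nat.card_eq_fintype_card, Fintype.card_subtype,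
      Finset.card_eq_sum_card_image r, ← smul_eq_mul, ← Finset.sum_const]
    refine Finset.sum_congr rfl fun y hy => ?_
    obtain ⟨τ, hτ, rfl⟩ := Finset.mem_image.1 hy
    have hτ' := (Finset.mem_filter.1 hτ).2
    rw [Nat.card_eq_fintype_card, Fintype.card_subtype]
    refine Finset.card_bij' (fun σ _ => τ⁻¹ * σ) (fun σ _ => τ * σ) ?_ ?_ (fun σ _ => mul_inv_cancel_left τ σ)
      (fun σ _ => inv_mul_cancel_left τ σ)
    · intro σ hσ
      simp only [Finset.mem_filter, Finset.mem_univ, true_and] at hσ ⊢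
      exact (hfib σ hσ.1 τ hτ').1 hσ.2
    · intro σ hσ
      simp only [Finset.mem_filter, Finset.mem_univ, true_and] at hσ ⊢
      have hσd : σ ∈ (Q.O).decompositionSubgroup K :=
        (mem_decomposition_iff Q σ).2 (pull_eq_of_inRam le_rfl ((inertia_map_iff Q σ).1 hσ))
      refine ⟨mul_mem hτ' hσd, (hfib _ (mul_mem hτ' hσd) τ hτ').2 ?_⟩
      rwa [inv_mul_cancel_left]
  have hD := card_decomposition_mul_deg hK he
  rw [hcount, le_antisymm hTle hTge, hm] at hD
  have htow : P.deg * Module.finrank S F = Q.deg := by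
    rw [← hSdeg]; exact Module.finrank_mul_finrank k S F
  have hpos : 0 < Q.deg := deg_pos hK' Q
  rw [← htow] at hpos hD
  refine Nat.eq_of_mul_eq_mul_right hpos ?_
  rw [← hD]; ring

end Groth.Agent.FF
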