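import Groth.Agent.FF.GalInertia

/-! Higher ramification groups. -/

set_option autoImplicit false
set_option linter.style.haveILetI false
set_option linter.unusedSectionVars false

open FunFld WithZero IntermediateField Polynomial
open scoped Pointwise

namespace Groth.Agent.FF

variable {k K K' : Type*} [Field k] [Field K] [Field K'] [Algebra k K] [Algebra K K'] [Algebra k K']
  [IsScalarTower k K K'] [FiniteDimensional K K'] [IsGalois K K']

lemma inertia_le_one {Q : Place k K'} {σ : K' ≃ₐ[K] K'} (h : σ ∈ inertiaG (K := K) Q) (x : K') :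
    Q.1 (σ x) = Q.1 x := by
  rw [← pull_val, pull_eq_of_inRam le_rfl ((inertia_map_iff Q σ).1 h)]

/-- Residues lift to elements fixed by the inertia group. -/
lemma exists_fixed_lift (hK : IsFF k K) (Q : Place k K')
    [Algebra.IsSeparable k (IsLocalRing.ResidueField Q.O)] {x : K'} (hx : Q.1 x ≤ 1) :
    ∃ y : K', Q.1 y ≤ 1 ∧ (∀ σ ∈ inertiaG (K := K) Q, σ y = y) ∧ Q.1 (x - y) < 1 := by
  classical
  have hK' : IsFF k K' := isFF_ext hK
  set F := IsLocalRing.ResidueField Q.O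
  letI : Module k F := Algebra.toModule
  haveI : Module.Finite k F := finiteDimensional_residueField hK' Q
  let A0 : Subalgebra k Q.O :=
    { carrier := {z | ∀ σ ∈ inertiaG (K := K) Q, σ (z : K') = z}
      mul_mem' := fun {a b} ha hb σ hσ => by
        show σ ((a : K') * b) = (a : K') * b
        rw [map_mul, ha σ hσ, hb σ hσ]
      add_mem' := fun {a b} ha hb σ hσ => by
        show σ ((a : K') + b) = (a : K') + b
        rw [map_add, ha σ hσ, hb σ hσ]
      algebraMap_mem' := fun c σ _ => by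
        rw [coe_algebraMap_O, IsScalarTower.algebraMap_apply k K K', σ.commutes] }
  let T : IntermediateField k F := (A0.map (resHom Q)).toIntermediateField fun z hz =>
    (A0.map (resHom Q)).inv_mem_of_algebraic (x := ⟨z, hz⟩) (Algebra.IsAlgebraic.isAlgebraic z)
  set α : F := resHom Q ⟨x, (mem_O Q).2 hx⟩ with hα
  have hint : ∀ σ : inertiaG (K := K) Q, Q.1 ((σ : K' ≃ₐ[K] K') x) ≤ 1 := fun σ =>
    (inertia_le_one σ.2 x).trans_le hx
  let GO : Q.O[X] := ∏ σ : inertiaG (K := K) Q, (X - C ⟨(σ : K' ≃ₐ[K] K') x, (mem_O Q).2 (hint σ)⟩)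
  have hlifts : GO.map (resHom Q).toRingHom ∈ Polynomial.lifts (algebraMap T F) := by
    rw [Polynomial.lifts_iff_coeff_lifts]
    intro n
    refine ⟨⟨resHom Q (GO.coeff n), GO.coeff n, fun τ hτ => ?_, rfl⟩, ?_⟩
    · have h := coeff_prod_fixed (inertiaG (K := K) Q) x τ hτ n
      rw [← map_prod_O Q Finset.univ (fun σ : inertiaG (K := K) Q =>
        (⟨(σ : K' ≃ₐ[K] K') x, (mem_O Q).2 (hint σ)⟩ : Q.O)), Polynomial.coeff_map] at h
      exact h
    · exact (Polynomial.coeff_map (resHom Q).toRingHom n).symm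
  obtain ⟨h, hh⟩ := (Polynomial.mem_lifts _).1 hlifts
  have hspl : h.map (algebraMap T F) = ∏ _σ : inertiaG (K := K) Q, (X - C α) := by
    rw [hh, Polynomial.map_prod]
    refine Finset.prod_congr rfl fun σ _ => ?_
    rw [Polynomial.map_sub, Polynomial.map_X, Polynomial.map_C]
    congr 2
    rw [hα, ← sub_eq_zero]
    show resHom Q _ - _ = 0
    rw [← map_sub, resHom_eq_zero_iff, ← le_exp_neg_one_iff]
    exact (inertia_map_iff Q _).1 σ.2 x hx
  haveI : IsScalarTower k T F := IsScalarTower.of_algebraMap_eq fun c => rfl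
  haveI : Algebra.IsSeparable T F := Algebra.isSeparable_tower_top_of_isSeparable k T F
  have hh0 : Polynomial.aeval α h = 0 := by
    rw [Polynomial.aeval_def, ← Polynomial.eval_map, hspl, Polynomial.eval_prod]
    exact Finset.prod_eq_zero (Finset.mem_univ (1 : inertiaG (K := K) Q)) (by simp)
  have hle := natDegree_minpoly_le α (Algebra.IsSeparable.isSeparable T α) hh0 Finset.univ _ hspl
    (T := {α}) (fun _ _ _ => Finset.mem_singleton_self _)
  have h1 : (minpoly T α).natDegree = 1 := by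
    have hpos := minpoly.natDegree_pos (A := T) (Algebra.IsSeparable.isIntegral T α)
    rw [Finset.card_singleton] at hle
    omega
  obtain ⟨⟨_, y, hy, rfl⟩, hαy⟩ := minpoly.natDegree_eq_one_iff.1 h1
  refine ⟨y, (mem_O Q).1 y.2, hy, ?_⟩
  have h2 : resHom Q y = α := hαy
  rw [hα, ← sub_eq_zero, ← map_sub, resHom_eq_zero_iff] at h2
  rw [Valuation.map_sub_swap]
  exact h2

lemma inRam_mono {Q : Place k K'} {σ : K' ≃ₐ[K] K'} {i j : ℤ} (h : InRam Q σ j) (hij : i ≤ j) :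
    InRam Q σ i := fun x hx => (h x hx).trans (exp_le_exp.2 (by omega))

variable {Q : Place k K'} {σ τ : K' ≃ₐ[K] K'} {t : K'}

lemma exists_eq_t_mul (ht : Q.1 t = exp (-1)) {z : K'} {m : ℤ} (hz : Q.1 z ≤ exp (-m)) :
    ∃ w : K', z = t * w ∧ Q.1 w ≤ exp (-(m - 1)) := by
  have h0 := ne_zero_of_val_eq_exp Q ht
  refine ⟨t⁻¹ * z, (mul_inv_cancel_left₀ h0 z).symm, ?_⟩
  rw [map_mul, map_inv₀, ht, ← exp_neg]
  refine (mul_le_mul_right hz _).trans_eq ?_
  rw [← exp_add]; congr 1; ring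

/-- `σ` is in the `j`-th group as soon as it moves a uniformizer that little. -/
lemma inRam_of_uniformizer (hK : IsFF k K) [Algebra.IsSeparable k (IsLocalRing.ResidueField Q.O)]
    (hσ : InRam Q σ 1) (ht : Q.1 t = exp (-1)) {j : ℕ} (h : Q.1 (σ t - t) ≤ exp (-(j : ℤ))) :
    InRam Q σ j := by
  suffices H : ∀ n : ℕ, n ≤ j → InRam Q σ n from H j le_rfl
  intro n
  induction n with
  | zero =>
    intro _ x hx
    refine (hσ x hx).trans ?_
    rw [exp_le_exp]; omega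
  | succ n ih =>
    intro hn x hx
    obtain ⟨y, hy1, hy2, hy3⟩ := exists_fixed_lift (K := K) hK Q hx
    obtain ⟨w, hw, hw1⟩ := exists_eq_t_mul ht (z := x - y) (m := 1) (by rwa [le_exp_neg_one_iff])
    rw [sub_self, neg_zero, exp_zero] at hw1
    have hmem : σ ∈ inertiaG (K := K) Q := (inertia_map_iff Q σ).2 hσ
    have : σ x - x = (σ t - t) * σ w + t * (σ w - w) := by
      rw [show x = y + t * w by rw [← hw]; ring, map_add, map_mul, hy2 σ hmem]; ring
    rw [this]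
    refine (Q.1.map_add _ _).trans (max_le ?_ ?_)
    · rw [map_mul]
      refine (mul_le_mul' h ((inertia_le_one hmem w).trans_le hw1)).trans ?_
      rw [mul_one, exp_le_exp]; push_cast; omega
    · rw [map_mul, ht]
      refine (mul_le_mul' le_rfl (ih (by omega) w hw1)).trans ?_
      rw [← exp_add, exp_le_exp]; push_cast; omega

/-- A cyclic generator of `G₁/G₂`. -/
lemma exists_cyclic_gen (hK : IsFF k K) [Algebra.IsSeparable k (IsLocalRing.ResidueField Q.O)] :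
    ∃ σ₀ : K' ≃ₐ[K] K', InRam Q σ₀ 1 ∧ ∀ σ : K' ≃ₐ[K] K', InRam Q σ 1 →
      ∃ n : ℕ, InRam Q ((σ₀ ^ n)⁻¹ * σ) 2 := by
  classical
  obtain ⟨t, ht⟩ := exists_uniformizer Q
  have h0 := ne_zero_of_val_eq_exp Q ht
  have hu : ∀ σ : inertiaG (K := K) Q, Q.1 ((σ : K' ≃ₐ[K] K') t / t) = 1 := fun σ => by
    rw [map_div₀, inertia_le_one σ.2, div_self (by simpa using h0)]
  let f : inertiaG (K := K) Q →* IsLocalRing.ResidueField Q.O :=
    { toFun := fun σ => resHom Q ⟨(σ : K' ≃ₐ[K] K') t / t, (mem_O Q).2 (hu σ).le⟩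
      map_one' := by
        rw [← map_one (resHom Q)]
        congr 1
        exact Subtype.ext (div_self h0)
      map_mul' := fun a b => by
        rw [← map_mul, ← sub_eq_zero, ← map_sub, resHom_eq_zero_iff, ← le_exp_neg_one_iff]
        show Q.1 (((a : K' ≃ₐ[K] K') * b) t / t - (a : K' ≃ₐ[K] K') t / t * ((b : K' ≃ₐ[K] K') t / t)) ≤ _
        have : ((a : K' ≃ₐ[K] K') * b) t / t - (a : K' ≃ₐ[K] K') t / t * ((b : K' ≃ₐ[K] K') t / t) =
            (a : K' ≃ₐ[K] K') t / t *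
              ((a : K' ≃ₐ[K] K') ((b : K' ≃ₐ[K] K') t / t) - (b : K' ≃ₐ[K] K') t / t) := by
          have hat : (a : K' ≃ₐ[K] K') t ≠ 0 := fun e => h0 (by simpa using e)
          rw [map_div₀, AlgEquiv.mul_apply]
          field_simp
        rw [this, map_mul, hu a, one_mul]
        exact (inertia_map_iff Q _).1 a.2 _ (hu b).le }
  obtain ⟨g, hg⟩ := IsCyclic.exists_generator (α := f.toHomUnits.range)
  obtain ⟨_, σ₀, rfl⟩ := g
  refine ⟨σ₀, (inertia_map_iff Q _).1 σ₀.2, fun σ hσ => ?_⟩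
  let s : inertiaG (K := K) Q := ⟨σ, (inertia_map_iff Q σ).2 hσ⟩
  have h2 := (mem_powers_iff_mem_zpowers (x := (⟨f.toHomUnits σ₀, ⟨σ₀, rfl⟩⟩ : f.toHomUnits.range))
    (y := ⟨f.toHomUnits s, ⟨s, rfl⟩⟩)).2 (hg _)
  obtain ⟨n, hn⟩ := h2
  refine ⟨n, ?_⟩
  have h3 : f ((σ₀ ^ n)⁻¹ * s) = 1 := by
    have h4 : f.toHomUnits ((σ₀ ^ n)⁻¹ * s) = 1 := by
      have h5 : f.toHomUnits σ₀ ^ n = f.toHomUnits s := congrArg Subtype.val hn
      rw [map_mul, map_inv, map_pow, h5, inv_mul_cancel]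
    rw [← MonoidHom.coe_toHomUnits, h4, Units.val_one]
  have hmem : ((σ₀ : K' ≃ₐ[K] K') ^ n)⁻¹ * σ ∈ inertiaG (K := K) Q :=
    mul_mem (inv_mem (pow_mem σ₀.2 n)) s.2
  refine inRam_of_uniformizer hK ((inertia_map_iff Q _).1 hmem) ht (j := 2) ?_
  rw [← map_one (resHom Q), ← sub_eq_zero] at h3
  change resHom Q _ - _ = 0 at h3
  rw [← map_sub, resHom_eq_zero_iff, ← le_exp_neg_one_iff] at h3
  change Q.1 ((((σ₀ : K' ≃ₐ[K] K') ^ n)⁻¹ * σ) t / t - 1) ≤ _ at h3
  rw [div_sub_one h0, map_div₀, ht, div_le_iff₀ (by simp), ← exp_add] at h3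
  exact h3

/-- Moves of elements of `Q²` by `G_i`, `i ≥ 2`. -/
lemma move_sq (hσ : InRam Q σ 1) (ht : Q.1 t = exp (-1)) {i : ℤ} (hi : InRam Q σ i) {z : K'}
    (hz : Q.1 z ≤ exp (-2)) : Q.1 (σ z - z) ≤ exp (-(i + 1)) := by
  obtain ⟨w, rfl, hw⟩ := exists_eq_t_mul ht (m := 2) hz
  obtain ⟨v, hv, hv1⟩ := exists_eq_t_mul ht (z := w) (m := 1) (by simpa using hw)
  rw [sub_self, neg_zero, exp_zero] at hv1
  have hmem : σ ∈ inertiaG (K := K) Q := (inertia_map_iff Q σ).2 hσ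
  have hw' : Q.1 w ≤ 1 := hw.trans (by rw [← exp_zero, exp_le_exp]; omega)
  have ht1 : Q.1 t ≤ 1 := by rw [ht, ← exp_zero, exp_le_exp]; omega
  rw [map_mul, show σ t * σ w - t * w = (σ t - t) * σ w + t * (σ w - w) by ring]
  refine (Q.1.map_add _ _).trans (max_le ?_ ?_)
  · rw [map_mul, inertia_le_one hmem]
    refine (mul_le_mul' (hi t ht1) hw).trans ?_
    rw [← exp_add, exp_le_exp]; omega
  · rw [map_mul, ht]
    refine (mul_le_mul' le_rfl (hi w hw')).trans ?_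
    rw [← exp_add, exp_le_exp]; omega

/-- `τ ↦ τ t - t` is additive on `G_i` modulo `Q^(i+1)`. -/
lemma move_mul {i : ℤ} (h2 : 2 ≤ i) (hσ : InRam Q σ i) (hτ : InRam Q τ i) (ht : Q.1 t = exp (-1)) :
    Q.1 ((σ * τ) t - t - ((σ t - t) + (τ t - t))) ≤ exp (-(i + 1)) := by
  rw [show (σ * τ) t - t - ((σ t - t) + (τ t - t)) = σ (τ t - t) - (τ t - t) by
    rw [AlgEquiv.mul_apply, map_sub]; ring]
  refine move_sq (inRam_mono hσ (by omega)) ht hσ ((hτ t ?_).trans (exp_le_exp.2 (by omega)))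
  rw [ht, ← exp_zero, exp_le_exp]; omega

lemma inRam_mul {i : ℤ} (hi : 1 ≤ i) (hσ : InRam Q σ i) (hτ : InRam Q τ i) : InRam Q (σ * τ) i :=
  fun x hx => by
    rw [AlgEquiv.mul_apply, show σ (τ x) - x = (σ (τ x) - τ x) + (τ x - x) by ring]
    exact (Q.1.map_add _ _).trans (max_le (hσ _ (le_one_of_inRam hi hτ hx)) (hτ x hx))

lemma inRam_one (Q : Place k K') (i : ℤ) : InRam Q (1 : K' ≃ₐ[K] K') i := fun x _ => by simp

lemma inRam_inv {i : ℤ} (hi : 1 ≤ i) (hσ : InRam Q σ i) : InRam Q σ⁻¹ i := fun x hx => by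
  have hmem : σ⁻¹ ∈ inertiaG (K := K) Q := inv_mem ((inertia_map_iff Q σ).2 (inRam_mono hσ hi))
  have := hσ (σ⁻¹ x) ((inertia_le_one hmem x).trans_le hx)
  rw [show σ (σ⁻¹ x) = x from σ.apply_symm_apply x, Valuation.map_sub_swap] at this
  exact this

lemma move_pow {i : ℤ} (h2 : 2 ≤ i) (hσ : InRam Q σ i) (ht : Q.1 t = exp (-1)) (n : ℕ) :
    InRam Q (σ ^ n) i ∧ Q.1 ((σ ^ n) t - t - (n : K') * (σ t - t)) ≤ exp (-(i + 1)) := by
  induction n with
  | zero => exact ⟨by rw [pow_zero]; exact inRam_one Q i, by simp⟩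
  | succ n ih =>
    refine ⟨by rw [pow_succ]; exact inRam_mul (by omega) ih.1 hσ, ?_⟩
    rw [pow_succ, show (σ ^ n * σ) t - t - ((n + 1 : ℕ) : K') * (σ t - t) =
      ((σ ^ n * σ) t - t - (((σ ^ n) t - t) + (σ t - t))) + ((σ ^ n) t - t - (n : K') * (σ t - t)) by
        push_cast; ring]
    exact (Q.1.map_add _ _).trans (max_le (move_mul h2 ih.1 hσ ht) ih.2)

lemma move_commutator (hK : IsFF k K) [Algebra.IsSeparable k (IsLocalRing.ResidueField Q.O)] {i : ℕ}
    (h2 : 2 ≤ i) (hσ : InRam Q σ i) (hτ : InRam Q τ i) :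
    InRam Q (σ * τ * σ⁻¹ * τ⁻¹) ((i + 1 : ℕ) : ℤ) := by
  obtain ⟨t, ht⟩ := exists_uniformizer Q
  have hi : (2 : ℤ) ≤ (i : ℤ) := by omega
  have hσ' := inRam_inv (by omega) hσ
  have hτ' := inRam_inv (by omega) hτ
  have hc : InRam Q (σ * τ * σ⁻¹ * τ⁻¹) (i : ℤ) :=
    inRam_mul (by omega) (inRam_mul (by omega) (inRam_mul (by omega) hσ hτ) hσ') hτ'
  refine inRam_of_uniformizer hK (inRam_mono hc (by omega)) ht ?_
  have a1 := move_mul hi hσ hτ ht
  have a2 := move_mul hi (inRam_mul (by omega) hσ hτ) hσ' ht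
  have a3 := move_mul hi (inRam_mul (by omega) (inRam_mul (by omega) hσ hτ) hσ') hτ' ht
  have b1 := move_mul hi hσ hσ' ht
  have b2 := move_mul hi hτ hτ' ht
  rw [mul_inv_cancel, AlgEquiv.one_apply] at b1 b2
  rw [show ((i + 1 : ℕ) : ℤ) = (i : ℤ) + 1 by push_cast; ring]
  rw [show (σ * τ * σ⁻¹ * τ⁻¹) t - t =
      ((σ * τ * σ⁻¹ * τ⁻¹) t - t - (((σ * τ * σ⁻¹) t - t) + (τ⁻¹ t - t))) +
      (((σ * τ * σ⁻¹) t - t - (((σ * τ) t - t) + (σ⁻¹ t - t))) +
      (((σ * τ) t - t - ((σ t - t) + (τ t - t))) +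
      (-(t - t - ((σ t - t) + (σ⁻¹ t - t))) + -(t - t - ((τ t - t) + (τ⁻¹ t - t)))))) by ring]
  refine (Q.1.map_add _ _).trans (max_le a3 ((Q.1.map_add _ _).trans (max_le a2
    ((Q.1.map_add _ _).trans (max_le a1 ((Q.1.map_add _ _).trans (max_le ?_ ?_)))))))
  · rw [Valuation.map_neg]; exact b1
  · rw [Valuation.map_neg]; exact b2

lemma pow_p_mem (hK : IsFF k K) [Algebra.IsSeparable k (IsLocalRing.ResidueField Q.O)] {i : ℕ}
    (h2 : 2 ≤ i) (hσ : InRam Q σ i) {p : ℕ} (hp : ringChar K = p) :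
    InRam Q (σ ^ p) ((i + 1 : ℕ) : ℤ) := by
  obtain ⟨t, ht⟩ := exists_uniformizer Q
  have h := move_pow (by omega) hσ ht p
  refine inRam_of_uniformizer hK (inRam_mono h.1 (by omega)) ht ?_
  have hp0 : (p : K') = 0 := by
    rw [← map_natCast (algebraMap K K'), ← hp, ringChar.Nat.cast_ringChar, map_zero]
  rw [show ((i + 1 : ℕ) : ℤ) = (i : ℤ) + 1 by push_cast; ring]
  simpa [hp0] using h.2

lemma trivial_of_char_zero (hK : IsFF k K) [Algebra.IsSeparable k (IsLocalRing.ResidueField Q.O)]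
    {i : ℕ} (h2 : 2 ≤ i) (hσ : InRam Q σ i) (h0 : ringChar K = 0) :
    InRam Q σ ((i + 1 : ℕ) : ℤ) := by
  obtain ⟨t, ht⟩ := exists_uniformizer Q
  set n := orderOf σ with hn
  have hnpos : 0 < n := orderOf_pos σ
  have h := (move_pow (i := (i : ℤ)) (by omega) hσ ht n).2
  rw [hn, pow_orderOf_eq_one, ← hn, AlgEquiv.one_apply, sub_self, zero_sub, Valuation.map_neg,
    map_mul] at h
  have hval : Q.1 (n : K') = 1 := by
    haveI : CharZero K := (CharP.ringChar_zero_iff_CharZero K).1 h0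
    have hnk : (n : k) ≠ 0 := fun e => hnpos.ne'
      (Nat.cast_eq_zero.1 (show (n : K) = 0 by rw [← map_natCast (algebraMap k K) n, e, map_zero]))
    rw [← map_natCast (algebraMap k K') n]
    exact val_const Q hnk
  rw [hval, one_mul] at h
  exact inRam_of_uniformizer hK (inRam_mono hσ (by omega)) ht (by push_cast; exact h)

end Groth.Agent.FF
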