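import Groth.Agent.FF.Norm
import Groth.Agent.FF.Linear
import Groth.Agent.FF.RR
import Groth.Agent.FF.Ext
import Groth.Agent.FFCurve.Special

/-!
# The genus does not grow in subfields

Over an algebraically closed field of constants, by norms of functions with prescribed zeros.
-/

set_option autoImplicit false
set_option linter.style.haveILetI false
set_option linter.unusedSectionVars false

open FunFld WithZero

namespace Groth.Agent.FF

variable {k K K' : Type*} [Field k] [IsAlgClosed k] [Field K] [Field K'] [Algebra k K] [Algebra K K']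
  [Algebra k K'] [IsScalarTower k K K'] [FiniteDimensional K K']

/-- Enough general points cut all the sections of a divisor. -/
lemma exists_points_cut (hK : IsFunctionField k K) (F : Divisor k K) (P₀ : Place k K) :
    ∀ m : ℕ, m ≤ ell F → ∃ s : Finset (Place k K), P₀ ∉ s ∧ s.card = m ∧
      ell (F - ∑ P ∈ s, Finsupp.single P 1) + m ≤ ell F := by
  classical
  intro m
  induction m with
  | zero => exact fun _ => ⟨∅, by simp, by simp, by simp⟩
  | succ m ih =>
    intro hm
    obtain ⟨s, hP₀, hcard, hle⟩ := ih (by omega)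
    set G := F - ∑ P ∈ s, Finsupp.single P (1 : ℤ) with hG
    by_cases h0 : ell G = 0
    · obtain ⟨P, hP⟩ := FFCurve.exists_place_not_mem hK (insert P₀ s)
      rw [Finset.mem_insert, not_or] at hP
      refine ⟨insert P s, by simp [hP₀, Ne.symm hP.1], by rw [Finset.card_insert_of_notMem hP.2, hcard], ?_⟩
      have := (ell_sub_single_le hK G P).1
      rw [Finset.sum_insert hP.2, show F - (Finsupp.single P (1 : ℤ) + ∑ Q ∈ s, Finsupp.single Q 1) =
        G - Finsupp.single P 1 by rw [hG]; abel]
      omega
    · obtain ⟨y, hy, hy0⟩ := Submodule.exists_mem_ne_zero_of_ne_bot (p := FunFld.L G) fun e => h0 (by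
        rw [ell, e]; exact finrank_bot k K)
      obtain ⟨P, hP⟩ := FFCurve.exists_place_not_mem hK (insert P₀ (s ∪ F.support ∪ (div k y).support))
      simp only [Finset.mem_insert, Finset.mem_union, Finsupp.mem_support_iff, ne_eq, not_or, not_not] at hP
      obtain ⟨hPP, ⟨hPs, hPF⟩, hPy⟩ := hP
      rw [div_apply hK.1] at hPy
      have hlt : ell (G - Finsupp.single P 1) < ell G := by
        refine (ell_lt_iff_exists hK G P).2 ⟨y, hy, ?_⟩
        have hGP : G P = 0 := by
          rw [hG, Finsupp.sub_apply, hPF, Finsupp.coe_finsetSum, Finset.sum_apply,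
            Finset.sum_eq_zero fun Q hQ => Finsupp.single_eq_of_ne fun e : P = Q => hPs (e ▸ hQ)]
          rfl
        rw [hGP, val_eq_exp_ord P hy0, hPy, neg_zero]
      refine ⟨insert P s, by simp [hP₀, Ne.symm hPP], by rw [Finset.card_insert_of_notMem hPs, hcard], ?_⟩
      rw [Finset.sum_insert hPs, show F - (Finsupp.single P (1 : ℤ) + ∑ Q ∈ s, Finsupp.single Q 1) =
        G - Finsupp.single P 1 by rw [hG]; abel]
      omega

/-- The genus of a subfield of finite index is at most the genus. -/
theorem genus_le_of_subfield (hK : IsFunctionField k K) (hK' : IsFunctionField k K') :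
    genus k K ≤ genus k K' := by
  classical
  by_contra hlt
  obtain ⟨P₀, -⟩ := FFCurve.exists_place_not_mem hK (∅ : Finset (Place k K))
  set n := Module.finrank K K'
  have hn : 0 < n := Module.finrank_pos
  set a : ℕ := 2 * genus k K
  set F : Divisor k K := Finsupp.single P₀ ((n * a : ℕ) : ℤ) with hF
  have hFd : F.deg = (n * a : ℕ) := by rw [hF, deg_single, deg_eq_one hK]; simp
  have hna : a ≤ n * a := Nat.le_mul_of_pos_left _ hn
  have hFl : (ell F : ℤ) = (n * a : ℕ) + 1 - genus k K := by
    rw [ell_eq_of_deg_ge hK (by rw [hFd]; omega), hFd]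
  obtain ⟨s, hP₀, hcard, hle⟩ := exists_points_cut hK F P₀ (ell F) le_rfl
  choose lift hlift using exists_over (K' := K') hK.1
  have hinj : Set.InjOn lift s := fun P _ P' _ e => isOver_unique (hlift P) (e ▸ hlift P')
  set D : Divisor k K' := conorm K' (Finsupp.single P₀ (a : ℤ)) with hD
  have hDd : D.deg = n * a := by rw [hD, deg_conorm hK, deg_single, deg_eq_one hK]; simp [n]
  set D' := D - ∑ Q ∈ s.image lift, Finsupp.single Q (1 : ℤ) with hD'
  have hsum : ∀ t : Finset (Place k K'), (∑ Q ∈ t, Finsupp.single Q (1 : ℤ) : Divisor k K').deg = t.card := by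
    intro t
    induction t using Finset.induction with
    | empty => simp [deg_zero']
    | @insert Q t hQ ih =>
      rw [Finset.sum_insert hQ, deg_add, ih, deg_single, deg_eq_one hK', Finset.card_insert_of_notMem hQ]
      push_cast; ring
  have hD'd : D'.deg = (n * a : ℕ) - (ell F : ℤ) := by
    rw [hD', deg_sub, hDd, hsum, Finset.card_image_of_injOn hinj, hcard]
    push_cast; ring
  have hspec := spec_le_genus hK' D'
  rw [spec, hD'd, hFl] at hspec
  have hpos : 0 < ell D' := by omega
  obtain ⟨z, hz, hz0⟩ := Submodule.exists_mem_ne_zero_of_ne_bot (p := FunFld.L D') fun e => by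
    rw [ell, e, finrank_bot] at hpos; omega
  have hval : ∀ Q : Place k K', Q.1 z ≤ exp (D' Q) := hz
  have hD'le : ∀ Q : Place k K', D' Q ≤ D Q := fun Q => by
    have h0 : 0 ≤ (∑ R ∈ s.image lift, Finsupp.single R (1 : ℤ)) Q := by
      rw [Finsupp.coe_finsetSum, Finset.sum_apply]
      exact Finset.sum_nonneg fun R _ => by rw [Finsupp.single_apply]; split_ifs <;> norm_num
    rw [hD', Finsupp.sub_apply]; omega
  have hmem : ∀ P ∈ s, (lift P).1 z < 1 := fun P hP => by
    have hDQ : D (lift P) = 0 := by
      rw [hD, conorm_apply hK.1 _ (hlift P), Finsupp.single_eq_of_ne (fun e : P = P₀ => hP₀ (e ▸ hP))]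
      simp
    have hsQ : (∑ R ∈ s.image lift, Finsupp.single R (1 : ℤ)) (lift P) = 1 := by
      rw [Finsupp.coe_finsetSum, Finset.sum_apply, Finset.sum_eq_single (lift P)]
      · rw [Finsupp.single_eq_same]
      · exact fun R _ hne => Finsupp.single_eq_of_ne (Ne.symm hne)
      · exact fun h => absurd (Finset.mem_image_of_mem lift hP) h
    refine (hval _).trans_lt ?_
    rw [hD', Finsupp.sub_apply, hDQ, hsQ, ← exp_zero]
    exact exp_lt_exp.2 (by norm_num)
  have hN0 : Algebra.norm K z ≠ 0 := Algebra.norm_ne_zero_iff.2 hz0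
  have hbad : Algebra.norm K z ∈ FunFld.L (F - ∑ P ∈ s, Finsupp.single P (1 : ℤ)) := fun P => by
    rcases eq_or_ne P P₀ with rfl | hne
    · obtain ⟨u, hu⟩ := exists_val P (a : ℤ)
      have hu0 := ne_zero_of_val_eq_exp P hu
      have hint : z * (algebraMap K K' u)⁻¹ ∈ IntP K' P := mem_IntP.2 fun Q hQ => by
        have h1 : Q.1 z ≤ Q.1 (algebraMap K K' u) := by
          refine ((hval Q).trans (exp_le_exp.2 (hD'le Q))).trans ?_
          rw [hD, conorm_apply hK.1 _ hQ, Finsupp.single_eq_same, (isOverWith_ramIdx hQ) u, hu, ← exp_nsmul]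
          simp
        rw [map_mul, map_inv₀, ← div_eq_mul_inv]
        exact div_le_one_of_le₀ h1 zero_le
      have h2 := norm_val_le hK.1 hint
      rw [map_mul, norm_inv, Algebra.norm_algebraMap, map_mul, map_inv₀, map_pow, hu, ← div_eq_mul_inv,
        ← exp_nsmul] at h2
      have h3 := (div_le_one₀ (exp_pos)).1 h2
      refine h3.trans (exp_le_exp.2 (le_of_eq ?_))
      rw [Finsupp.sub_apply, hF, Finsupp.single_eq_same, Finsupp.coe_finsetSum, Finset.sum_apply,
        Finset.sum_eq_zero fun R hR => Finsupp.single_eq_of_ne fun e : P = R => hP₀ (e ▸ hR)]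
      simp [n]
    · have hint : z ∈ IntP K' P := mem_IntP.2 fun Q hQ => by
        refine ((hval Q).trans (exp_le_exp.2 (hD'le Q))).trans ?_
        rw [hD, conorm_apply hK.1 _ hQ, Finsupp.single_eq_of_ne hne]
        simp
      rw [Finsupp.sub_apply, hF, Finsupp.single_eq_of_ne hne, Finsupp.coe_finsetSum, Finset.sum_apply]
      by_cases hPs : P ∈ s
      · rw [Finset.sum_eq_single P (fun R _ h => Finsupp.single_eq_of_ne (Ne.symm h)) (fun h => absurd hPs h),
          Finsupp.single_eq_same, val_le_exp_iff P hN0]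
        have h := deg_le_deg_mul_ord_norm hK.1 (hlift P) hz0 hint (hmem P hPs)
        rw [deg_eq_one hK, deg_eq_one hK'] at h
        omega
      · rw [Finset.sum_eq_zero fun R hR => Finsupp.single_eq_of_ne fun e : P = R => hPs (e ▸ hR)]
        simpa using norm_val_le hK.1 hint
  have hne : FunFld.L (F - ∑ P ∈ s, Finsupp.single P (1 : ℤ)) = ⊥ := by
    haveI := finiteDimensional_L hK (F - ∑ P ∈ s, Finsupp.single P (1 : ℤ))
    exact Submodule.finrank_eq_zero.1 (show ell _ = 0 by omega)
  rw [hne, Submodule.mem_bot] at hbad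
  exact hN0 hbad

end Groth.Agent.FF
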