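import Groth.Agent.FF.LR.Geom
import Groth.Agent.FF.LR.DiffGal
import Mathlib.RingTheory.Flat.Basic
import Mathlib.FieldTheory.SeparableClosure
import Mathlib.FieldTheory.PurelyInseparable.Basic

/-! MacLane's criterion implies that a function field is geometric. -/

set_option autoImplicit false
set_option linter.style.haveILetI false
set_option linter.unusedSectionVars false

open FunFld
open scoped TensorProduct

namespace Groth.Agent.FF

universe u v w

variable {k : Type u} {K : Type v} [Field k] [Field K] [Algebra k K]

/-- MacLane's criterion: `p`-th powers of independent elements are independent -/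
lemma linearIndependent_pow (p : ℕ) [hp : Fact p.Prime] [CharP K p] (hM : MacLane k K p) {ι : Type*}
    [Fintype ι] {g : ι → K} (hg : LinearIndependent k g) : LinearIndependent k fun i => g i ^ p := by
  classical
  haveI : CharP k p := (Algebra.charP_iff k K p).2 inferInstance
  haveI : ExpChar k p := ExpChar.prime hp.out
  rw [Fintype.linearIndependent_iff] at hg ⊢
  intro c hc
  let S : Subfield k := (frobenius k p).fieldRange
  let W : Submodule S k := Submodule.span S (Set.range c)
  haveI : Module.Finite S W := Module.Finite.span_of_finite S (Set.finite_range c)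
  let bw := Module.finBasis S W
  have hcW : ∀ i, c i ∈ W := fun i => Submodule.subset_span ⟨i, rfl⟩
  choose a ha using fun i m => RingHom.mem_fieldRange.1 ((bw.repr ⟨c i, hcW i⟩ m).2)
  have hexp : ∀ i, c i = ∑ m, a i m ^ p * (bw m : k) := fun i => by
    have h := congrArg Subtype.val (bw.sum_repr ⟨c i, hcW i⟩)
    refine h.symm.trans ?_
    rw [Submodule.coe_sum]
    exact Finset.sum_congr rfl fun m _ => by
      rw [Submodule.coe_smul, Subfield.smul_def, smul_eq_mul, ← ha i m, frobenius_def]
  have hindep : ∀ b : Fin (Module.finrank S W) → k, ∑ m, (bw m : k) * b m ^ p = 0 → b = 0 := by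
    intro b hb
    have h := Fintype.linearIndependent_iff.1 bw.linearIndependent
      (fun m => (⟨b m ^ p, b m, frobenius_def p (b m)⟩ : S)) (Subtype.ext (by
        rw [Submodule.coe_sum, Submodule.coe_zero, ← hb]
        exact Finset.sum_congr rfl fun m _ => by
          rw [Submodule.coe_smul, Subfield.smul_def, smul_eq_mul, mul_comm]))
    funext m
    exact eq_zero_of_pow_eq_zero (congrArg Subtype.val (h m))
  have h1 := hM _ (fun m => (bw m : k)) hindep (fun m => ∑ i, a i m • g i) (by
    rw [← hc]
    simp only [sum_pow_char, Algebra.smul_def, mul_pow, Finset.mul_sum]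
    rw [Finset.sum_comm]
    refine Finset.sum_congr rfl fun i _ => ?_
    rw [hexp i, map_sum, Finset.sum_mul]
    refine Finset.sum_congr rfl fun m _ => ?_
    rw [map_mul, map_pow]
    ring)
  intro i
  rw [hexp i]
  refine Finset.sum_eq_zero fun m _ => ?_
  rw [hg (fun j => a j m) (congrFun h1 m) i, zero_pow hp.out.ne_zero, zero_mul]

/-- MacLane's criterion implies geometric reducedness -/
lemma isReduced_tensor_of_macLane (p : ℕ) [hp : Fact p.Prime] [CharP K p] (hM : MacLane k K p)
    (k' : Type w) [Field k'] [Algebra k k'] : IsReduced (k' ⊗[k] K) := by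
  classical
  haveI : CharP k p := (Algebra.charP_iff k K p).2 inferInstance
  rcases subsingleton_or_nontrivial (k' ⊗[k] K) with h | h
  · infer_instance
  haveI : CharP (k' ⊗[k] K) p := (CharP.charP_iff_prime_eq_zero hp.out).mpr (by
    rw [← map_natCast (algebraMap k (k' ⊗[k] K)) p, CharP.cast_eq_zero, map_zero])
  refine (isReduced_iff_pow_one_lt p hp.out.one_lt).2 fun x hx => ?_
  let bA := Module.Basis.ofVectorSpace k K
  let bT := bA.baseChange k'
  have hxs := bT.linearCombination_repr x
  rw [Finsupp.linearCombination_apply, Finsupp.sum] at hxs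
  set c := bT.repr x with hc
  have hex : x = ∑ j ∈ c.support, c j ⊗ₜ[k] bA j := by
    conv_lhs => rw [← hxs]
    refine Finset.sum_congr rfl fun j _ => ?_
    rw [Module.Basis.baseChange_apply, TensorProduct.smul_tmul', smul_eq_mul, mul_one]
  rw [hex, sum_pow_char] at hx
  simp only [Algebra.TensorProduct.tmul_pow] at hx
  have hli : LinearIndependent k fun j : c.support => bA j ^ p :=
    linearIndependent_pow p hM (bA.linearIndependent.comp _ Subtype.val_injective)
  have hc0 : ∀ j ∈ c.support, c j ^ p = 0 := by
    let g : (c.support →₀ k) →ₗ[k] K := Finsupp.linearCombination k fun j : c.support => bA j ^ p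
    let Φ : c.support →₀ k' := Finsupp.equivFunOnFinite.symm fun j => c j ^ p
    have hinj : Function.Injective (g.lTensor k') :=
      Module.Flat.lTensor_preserves_injective_linearMap g hli
    let y : k' ⊗[k] (c.support →₀ k) := (TensorProduct.finsuppScalarRight k k k' c.support).symm Φ
    have hy : y = ∑ j : c.support, (c j ^ p) ⊗ₜ[k] Finsupp.single j (1 : k) := by
      rw [LinearEquiv.symm_apply_eq, map_sum]
      ext j
      simp [Φ, Finsupp.finsetSum_apply, TensorProduct.finsuppScalarRight_apply_tmul, Finsupp.single_apply]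
    have hy0 : y = 0 := hinj (by
      rw [map_zero, hy, map_sum, ← hx, ← Finset.sum_coe_sort c.support]
      simp [g])
    intro j hj
    have hΦ : Φ = 0 := by rwa [LinearEquiv.map_eq_zero_iff] at hy0
    exact DFunLike.congr_fun hΦ ⟨j, hj⟩
  rw [hex]
  refine Finset.sum_eq_zero fun j hj => ?_
  rw [eq_zero_of_pow_eq_zero (hc0 j hj), TensorProduct.zero_tmul]

open Polynomial in
lemma isField_tensor_separable (hK : IsFunctionField k K) (k' : Type w) [Field k'] [Algebra k k']
    [FiniteDimensional k k'] [Algebra.IsSeparable k k'] : IsField (k' ⊗[k] K) := by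
  let pb := Field.powerBasisOfFiniteOfSeparable k k'
  have hgi : IsIntegral k pb.gen := pb.isIntegral_gen
  set f := (minpoly k pb.gen).map (algebraMap k K) with hfdef
  haveI hf : Fact (Irreducible f) := ⟨irreducible_map hK (minpoly.monic hgi) (minpoly.irreducible hgi)⟩
  let iK : K →+* k' ⊗[k] K := (Algebra.TensorProduct.includeRight : K →ₐ[k] k' ⊗[k] K).toRingHom
  have hroot : f.eval₂ iK (pb.gen ⊗ₜ[k] (1 : K)) = 0 := by
    rw [hfdef, Polynomial.eval₂_map]
    have h1 : iK.comp (algebraMap k K) =
        ((Algebra.TensorProduct.includeLeft : k' →ₐ[k] k' ⊗[k] K).toRingHom).comp (algebraMap k k') := by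
      ext c
      show Algebra.TensorProduct.includeRight (R := k) (A := k') (algebraMap k K c) =
        Algebra.TensorProduct.includeLeft (R := k) (S := k) (algebraMap k k' c)
      rw [AlgHom.commutes, AlgHom.commutes]
    rw [h1]
    show Polynomial.eval₂ _ ((Algebra.TensorProduct.includeLeft : k' →ₐ[k] k' ⊗[k] K).toRingHom pb.gen) _ = 0
    rw [← Polynomial.hom_eval₂, ← Polynomial.aeval_def, minpoly.aeval, map_zero]
  let θ : AdjoinRoot f →+* k' ⊗[k] K := AdjoinRoot.lift iK (pb.gen ⊗ₜ[k] (1 : K)) hroot
  have hsurj : Function.Surjective θ := by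
    intro z
    induction z using TensorProduct.induction_on with
    | zero => exact ⟨0, map_zero _⟩
    | add a b ha hb =>
      obtain ⟨x, rfl⟩ := ha
      obtain ⟨y, rfl⟩ := hb
      exact ⟨x + y, map_add _ _ _⟩
    | tmul a b =>
      obtain ⟨g, rfl⟩ : ∃ g : k[X], aeval pb.gen g = a := by
        have ha : a ∈ Algebra.adjoin k {pb.gen} := by rw [pb.adjoin_gen_eq_top]; trivial
        rwa [Algebra.adjoin_singleton_eq_range_aeval] at ha
      refine ⟨AdjoinRoot.mk f (C b * g.map (algebraMap k K)), ?_⟩
      rw [show θ (AdjoinRoot.mk f _) = _ from AdjoinRoot.lift_mk hroot _, eval₂_mul, eval₂_C, Polynomial.eval₂_map]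
      induction g using Polynomial.induction_on' with
      | add p q hp hq => rw [eval₂_add, mul_add, hp, hq, map_add, TensorProduct.add_tmul]
      | monomial n c =>
        rw [eval₂_monomial, aeval_monomial, RingHom.comp_apply]
        show ((1 : k') ⊗ₜ[k] b) * (((1 : k') ⊗ₜ[k] algebraMap k K c) * (pb.gen ⊗ₜ[k] (1 : K)) ^ n) = _
        rw [Algebra.TensorProduct.tmul_pow, one_pow, Algebra.TensorProduct.tmul_mul_tmul,
          Algebra.TensorProduct.tmul_mul_tmul, one_mul, one_mul, mul_one, mul_comm b,
          Algebra.algebraMap_eq_smul_one, smul_one_mul, ← TensorProduct.smul_tmul, ← Algebra.smul_def]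
  haveI : Nontrivial (k' ⊗[k] K) :=
    (Algebra.TensorProduct.includeRight_injective (R := k) (A := k') (B := K)
      (algebraMap k k').injective).nontrivial
  exact MulEquiv.isField (Field.toIsField (AdjoinRoot f))
    (RingEquiv.ofBijective θ ⟨θ.injective, hsurj⟩).symm.toMulEquiv

/-- MacLane's criterion and algebraically closed constants give a geometric function field -/
theorem isGeometric_of_good (hK : IsFunctionField k K) (hG : Good k K) : FunFld.IsGeometric k K := by
  intro k' _ _ hfin
  haveI := hfin
  obtain ⟨p, hp⟩ := CharP.exists K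
  rcases CharP.char_is_prime_or_zero K p with hpr | rfl
  · haveI := Fact.mk hpr
    haveI : CharP k p := (Algebra.charP_iff k K p).2 inferInstance
    haveI : ExpChar k p := ExpChar.prime hpr
    haveI : CharP k' p := (Algebra.charP_iff k k' p).1 inferInstance
    haveI hred : IsReduced (k' ⊗[k] K) := isReduced_tensor_of_macLane p (hG p) k'
    let E := separableClosure k k'
    have hE := isField_tensor_separable hK E
    let ι : E ⊗[k] K →ₐ[k] k' ⊗[k] K := Algebra.TensorProduct.map E.val (AlgHom.id k K)
    haveI : Nontrivial (k' ⊗[k] K) :=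
      (Algebra.TensorProduct.includeRight_injective (R := k) (A := k') (B := K)
        (algebraMap k k').injective).nontrivial
    haveI : CharP (k' ⊗[k] K) p := (CharP.charP_iff_prime_eq_zero hpr).mpr (by
      rw [← map_natCast (algebraMap k (k' ⊗[k] K)) p, CharP.cast_eq_zero, map_zero])
    have hpow : ∀ z : k' ⊗[k] K, ∃ n : ℕ, ∀ m, n ≤ m → z ^ p ^ m ∈ ι.range := by
      intro z
      induction z using TensorProduct.induction_on with
      | zero =>
        exact ⟨0, fun m _ => by rw [zero_pow (pow_ne_zero _ hpr.ne_zero)]; exact zero_mem _⟩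
      | add a b ha hb =>
        obtain ⟨n1, h1⟩ := ha
        obtain ⟨n2, h2⟩ := hb
        exact ⟨max n1 n2, fun m hm => by
          rw [add_pow_char_pow]
          exact add_mem (h1 m (le_trans (le_max_left _ _) hm)) (h2 m (le_trans (le_max_right _ _) hm))⟩
      | tmul a b =>
        haveI : IsPurelyInseparable E k' := inferInstance
        haveI : ExpChar E p := expChar_of_injective_algebraMap (algebraMap k E).injective p
        obtain ⟨n, c, hc⟩ := IsPurelyInseparable.pow_mem E p a
        refine ⟨n, fun m hm => ⟨(c ^ p ^ (m - n)) ⊗ₜ[k] (b ^ p ^ m), ?_⟩⟩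
        show ι ((c ^ p ^ (m - n)) ⊗ₜ[k] (b ^ p ^ m)) = _
        rw [Algebra.TensorProduct.map_tmul, Algebra.TensorProduct.tmul_pow, AlgHom.id_apply, map_pow]
        congr 1
        rw [show E.val c = a ^ p ^ n from hc, ← pow_mul, ← pow_add, Nat.add_sub_cancel' hm]
    refine ⟨⟨0, 1, zero_ne_one⟩, mul_comm, fun {z} hz => ?_⟩
    obtain ⟨n, hn⟩ := hpow z
    obtain ⟨w, hw⟩ := hn n le_rfl
    have hw0 : w ≠ 0 := fun h => hz (by
      rw [h, map_zero] at hw
      exact IsReduced.eq_zero z ⟨_, hw.symm⟩)
    obtain ⟨w', hw'⟩ := hE.mul_inv_cancel hw0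
    refine ⟨z ^ (p ^ n - 1) * ι w', ?_⟩
    rw [← mul_assoc, mul_pow_sub_one (pow_ne_zero _ hpr.ne_zero), ← hw]
    exact ((ι.toRingHom.map_mul w w').symm.trans (by rw [hw'])).trans ι.toRingHom.map_one
  · haveI : CharP k 0 := (Algebra.charP_iff k K 0).2 inferInstance
    haveI : CharZero k := CharP.charP_to_charZero k
    exact isGeometric_of_perfect hK k' hfin

/-- an intermediate field of a geometric extension is geometric -/
lemma isGeometric_intermediateField (hg : FunFld.IsGeometric k K) (K₀ : IntermediateField k K) :
    FunFld.IsGeometric k K₀ := by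
  intro k' _ _ hfin
  haveI := hfin
  have hfield := hg k' hfin
  haveI : IsDomain (k' ⊗[k] K) := hfield.isDomain
  let ι : k' ⊗[k] K₀ →ₐ[k] k' ⊗[k] K := Algebra.TensorProduct.map (AlgHom.id k k') K₀.val
  have hι : Function.Injective ι := Module.Flat.lTensor_preserves_injective_linearMap
    (M := k') K₀.val.toLinearMap K₀.val.injective
  haveI : IsDomain (k' ⊗[k] K₀) := hι.isDomain ι.toRingHom
  let e : K₀ ⊗[k] k' ≃ₐ[k] k' ⊗[k] K₀ := Algebra.TensorProduct.comm k K₀ k'
  haveI : IsDomain (K₀ ⊗[k] k') := e.injective.isDomain e.toRingEquiv.toRingHom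
  haveI : Algebra.IsIntegral K₀ (K₀ ⊗[k] k') := inferInstance
  have hF := isField_of_isIntegral_of_isField' (R := K₀) (S := K₀ ⊗[k] k') (Field.toIsField K₀)
  exact MulEquiv.isField hF e.symm.toMulEquiv

section BaseChange

variable {k' : Type u} {K' : Type v} [Field k'] [Field K'] [Algebra k k'] [FiniteDimensional k k']
  [Algebra K K'] [Algebra k' K'] [Algebra k K'] [IsScalarTower k k' K'] [IsScalarTower k K K']

/-- `k' ⊗ K → K'` as `k'`-algebras -/
noncomputable def bcHom : k' ⊗[k] K →ₐ[k'] K' :=
  Algebra.TensorProduct.lift (Algebra.ofId k' K') (IsScalarTower.toAlgHom k K K') fun _ _ => Commute.all _ _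

lemma bcHom_eq (z : k' ⊗[k] K) : bcHom (K' := K') z =
    Algebra.TensorProduct.productMap (IsScalarTower.toAlgHom k k' K') (IsScalarTower.toAlgHom k K K') z := by
  induction z using TensorProduct.induction_on with
  | zero => rw [map_zero, map_zero]
  | add a b ha hb => rw [map_add, map_add, ha, hb]
  | tmul a b => simp [bcHom]

lemma bcHom_bijective (h : Function.Bijective (Algebra.TensorProduct.productMap
    (IsScalarTower.toAlgHom k k' K') (IsScalarTower.toAlgHom k K K'))) :
    Function.Bijective (bcHom (k := k) (K := K) (k' := k') (K' := K')) := by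
  rwa [show ⇑(bcHom (k := k) (K := K) (k' := k') (K' := K')) = _ from funext bcHom_eq]

lemma finite_bc (h : Function.Bijective (Algebra.TensorProduct.productMap
    (IsScalarTower.toAlgHom k k' K') (IsScalarTower.toAlgHom k K K'))) :
    FiniteDimensional K K' ∧ Module.finrank K K' = Module.finrank k k' := by
  let Φ : K ⊗[k] k' →ₐ[K] K' :=
    Algebra.TensorProduct.lift (Algebra.ofId K K') (IsScalarTower.toAlgHom k k' K') fun _ _ => Commute.all _ _
  have hΦ : ∀ z, Φ z = Algebra.TensorProduct.productMap
      (IsScalarTower.toAlgHom k k' K') (IsScalarTower.toAlgHom k K K') (Algebra.TensorProduct.comm k K k' z) := by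
    intro z
    induction z using TensorProduct.induction_on with
    | zero => rw [map_zero, map_zero, map_zero]
    | add a b ha hb => rw [map_add, map_add, map_add, ha, hb]
    | tmul a b => simp [Φ, mul_comm]
  have hb : Function.Bijective Φ := by
    rw [show ⇑Φ = _ ∘ _ from funext hΦ]
    exact h.comp (Algebra.TensorProduct.comm k K k').bijective
  let e := (AlgEquiv.ofBijective Φ hb).toLinearEquiv
  exact ⟨Module.Finite.equiv e, e.finrank_eq.symm.trans Module.finrank_baseChange⟩

/-- scalar extension of a geometric function field -/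
theorem isFunctionField_isGeometric_bc (h : Function.Bijective (Algebra.TensorProduct.productMap
    (IsScalarTower.toAlgHom k k' K') (IsScalarTower.toAlgHom k K K')))
    (hK : IsFunctionField k K) (hg : FunFld.IsGeometric k K) :
    IsFunctionField k' K' ∧ FunFld.IsGeometric k' K' := by
  classical
  obtain ⟨hfin, hrank⟩ := finite_bc h
  haveI := hfin
  haveI : Algebra.IsAlgebraic k k' := Algebra.IsAlgebraic.of_finite k k'
  refine ⟨⟨?_, ?_⟩, ?_⟩
  · obtain ⟨x, hx, hxf⟩ := hK.1
    haveI := hxf
    have hxk : Transcendental k (algebraMap K K' x) :=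
      (transcendental_algebraMap_iff (algebraMap K K').injective).2 hx
    have hxk' : Transcendental k' (algebraMap K K' x) := fun ha => hxk (ha.restrictScalars k)
    obtain ⟨-, hk'f⟩ : Transcendental k (algebraMap K K' x) ∧
        FiniteDimensional (IntermediateField.adjoin k ({algebraMap K K' x} : Set K')) K' :=
      ⟨hxk, finite_adjoin (isFF_ext hK.1) hxk⟩
    haveI := hk'f
    refine ⟨algebraMap K K' x, hxk', ?_⟩
    let L : IntermediateField k K' := IntermediateField.adjoin k ({algebraMap K K' x} : Set K')
    let M : IntermediateField k' K' := IntermediateField.adjoin k' ({algebraMap K K' x} : Set K')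
    have hle : L ≤ M.restrictScalars k :=
      IntermediateField.adjoin_simple_le_iff.2 (IntermediateField.mem_adjoin_simple_self k' _)
    letI : Algebra L M := ((IntermediateField.inclusion hle : L →ₐ[k] M.restrictScalars k).toRingHom :
      L →+* M).toAlgebra
    haveI : IsScalarTower L M K' := IsScalarTower.of_algebraMap_eq fun _ => rfl
    exact Module.Finite.of_restrictScalars_finite L M K'
  · intro y hy
    have hyk : IsAlgebraic k y := hy.restrictScalars k
    haveI : FiniteDimensional k' (IntermediateField.adjoin k' ({y} : Set K')) :=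
      IntermediateField.adjoin.finiteDimensional hy.isIntegral
    let M : IntermediateField k' K' := IntermediateField.adjoin k' ({y} : Set K')
    haveI : FiniteDimensional k M := FiniteDimensional.trans k k' M
    have hfield : IsField (M ⊗[k] K) := by
      let A := AlgebraicClosure k
      obtain ⟨σ⟩ : Nonempty (M →ₐ[k] A) := ⟨IsAlgClosed.lift⟩
      let eR : M ≃ₐ[k] σ.fieldRange :=
        { (AlgEquiv.ofInjectiveField σ) with }
      haveI : FiniteDimensional k σ.fieldRange := Module.Finite.equiv eR.toLinearEquiv
      exact MulEquiv.isField (hg σ.fieldRange inferInstance)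
        (Algebra.TensorProduct.congr eR (AlgEquiv.refl : K ≃ₐ[k] K)).toMulEquiv
    letI : Field (M ⊗[k] K) := hfield.toField
    let Φ : K ⊗[k] M →ₐ[K] K' :=
      Algebra.TensorProduct.lift (Algebra.ofId K K') (M.val.restrictScalars k) fun _ _ => Commute.all _ _
    have hΦ : Function.Injective Φ := by
      have h1 : Function.Injective ((Φ.restrictScalars k).comp
          (Algebra.TensorProduct.comm k M K).toAlgHom) := RingHom.injective
        (((Φ.restrictScalars k).comp (Algebra.TensorProduct.comm k M K).toAlgHom).toRingHom)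
      intro a b hab
      obtain ⟨a', rfl⟩ := (Algebra.TensorProduct.comm k M K).surjective a
      obtain ⟨b', rfl⟩ := (Algebra.TensorProduct.comm k M K).surjective b
      exact congrArg _ (h1 hab)
    have h1 := LinearMap.finrank_le_finrank_of_injective (f := Φ.toLinearMap) hΦ
    rw [Module.finrank_baseChange, hrank, ← Module.finrank_mul_finrank k k' M] at h1
    have h2 : Module.finrank k' M = 1 := by
      have := Module.finrank_pos (R := k) (M := k')
      have := Module.finrank_pos (R := k') (M := M)
      nlinarith
    exact IntermediateField.mem_bot.1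
      (IntermediateField.adjoin_simple_eq_bot_iff.1 (IntermediateField.finrank_eq_one_iff.1 h2))
  · intro k'' _ _ hfin'
    haveI := hfin'
    letI : Algebra k k'' := ((algebraMap k' k'').comp (algebraMap k k')).toAlgebra
    haveI : IsScalarTower k k' k'' := IsScalarTower.of_algebraMap_eq fun _ => rfl
    haveI : FiniteDimensional k k'' := FiniteDimensional.trans k k' k''
    let e : k'' ⊗[k'] K' ≃ₐ[k'] k'' ⊗[k] K :=
      (Algebra.TensorProduct.congr AlgEquiv.refl
        (AlgEquiv.ofBijective _ (bcHom_bijective h)).symm).trans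
        (Algebra.TensorProduct.cancelBaseChange k k' k' k'' K)
    exact MulEquiv.isField (hg k'' inferInstance) e.toMulEquiv

end BaseChange

end Groth.Agent.FF
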