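import Groth.Agent.FF.GeomCrit

/-! Consequences of MacLane's criterion. -/

set_option autoImplicit false
set_option linter.style.haveILetI false
set_option linter.unusedSectionVars false

open FunFld IntermediateField

namespace Groth.Agent.FF

universe u v

variable {k : Type u} {K : Type v} [Field k] [Field K] [Algebra k K]

lemma isFunctionField_intermediateField (hK : IsFunctionField k K) (K₀ : IntermediateField k K)
    (h₀ : ∃ x ∈ K₀, Transcendental k x) : IsFunctionField k K₀ := by
  obtain ⟨x, hx, hxt⟩ := h₀
  refine ⟨⟨⟨x, hx⟩, fun ha => hxt (ha.algHom K₀.val), ?_⟩, fun y hy => ?_⟩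
  · let L : IntermediateField k K₀ := k⟮(⟨x, hx⟩ : K₀)⟯
    haveI := finite_adjoin hK.1 hxt
    let e : L ≃ₐ[k] (k⟮x⟯ : IntermediateField k K) :=
      (L.equivMap K₀.val).trans (IntermediateField.equivOfEq (by
        rw [IntermediateField.adjoin_map, Set.image_singleton]
        rfl))
    haveI : FiniteDimensional L K :=
      Module.Finite.of_equiv_equiv e.symm.toRingEquiv (RingEquiv.refl K) (RingHom.ext fun z => by
        show ((e.symm z : K₀) : K) = (z : K)
        conv_rhs => rw [← e.apply_symm_apply z]
        rfl)
    exact Module.Finite.of_injective ((IsScalarTower.toAlgHom L K₀ K).toLinearMap) (algebraMap K₀ K).injective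
  · obtain ⟨c, hc⟩ := hK.2 (y : K) (hy.algHom K₀.val)
    exact ⟨c, Subtype.ext hc⟩

lemma isPurelyInseparable_kKp (p : ℕ) [hp : Fact p.Prime] [CharP K p] :
    IsPurelyInseparable (kKp k K p) K := by
  haveI : CharP (kKp k K p) p := (Algebra.charP_iff (kKp k K p) K p).2 inferInstance
  haveI : ExpChar (kKp k K p) p := ExpChar.prime hp.out
  rw [isPurelyInseparable_iff_pow_mem _ p]
  exact fun y => ⟨1, ⟨y ^ p, pow_mem_kKp p y⟩, by rw [pow_one]; rfl⟩

lemma purelyInseparable_degree_iff (p : ℕ) [hp : Fact p.Prime] [CharP K p] (hK : IsFunctionField k K)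
    (hM : MacLane k K p) (K₀ : IntermediateField k K) :
    (IsPurelyInseparable K₀ K ∧ Module.finrank K₀ K = p) ↔ K₀ = kKp k K p := by
  constructor
  · rintro ⟨hpi, hdeg⟩
    haveI := hpi
    haveI : CharP K₀ p := (Algebra.charP_iff K₀ K p).2 inferInstance
    haveI : ExpChar K₀ p := ExpChar.prime hp.out
    haveI : FiniteDimensional K₀ K := Module.finite_of_finrank_pos (by rw [hdeg]; exact hp.out.pos)
    have hle : kKp k K p ≤ K₀ := by
      rw [kKp, IntermediateField.adjoin_le_iff]
      rintro _ ⟨y, rfl⟩
      obtain ⟨n, a, hmin⟩ := IsPurelyInseparable.minpoly_eq_X_pow_sub_C K₀ p y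
      have hn : p ^ n ≤ p ^ 1 := by
        rw [pow_one]
        refine le_trans (le_of_eq ?_) ((minpoly.natDegree_le (A := K₀) y).trans_eq hdeg)
        rw [hmin, Polynomial.natDegree_X_pow_sub_C]
      have hn1 := (Nat.pow_le_pow_iff_right hp.out.one_lt).1 hn
      have hy := minpoly.aeval K₀ y
      rw [hmin, map_sub, map_pow, Polynomial.aeval_X, Polynomial.aeval_C, sub_eq_zero] at hy
      show y ^ p ∈ K₀
      interval_cases n
      · rw [pow_zero, pow_one] at hy
        rw [hy]; exact pow_mem a.2 p
      · rw [pow_one] at hy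
        rw [hy]; exact a.2
    haveI : FiniteDimensional (kKp k K p) K :=
      Module.finite_of_finrank_pos (by rw [finrank_kKp p hK hM]; exact hp.out.pos)
    exact (IntermediateField.eq_of_le_of_finrank_eq' hle (by rw [finrank_kKp p hK hM, hdeg])).symm
  · rintro rfl
    exact ⟨isPurelyInseparable_kKp p, finrank_kKp p hK hM⟩

/-- separable finite extensions, with new constants -/
theorem isGeometric_separable_ext {k' : Type u} {K' : Type v} [Field k'] [Field K'] [Algebra k k']
    [Algebra K K'] [Algebra k' K'] [Algebra k K'] [IsScalarTower k k' K'] [IsScalarTower k K K']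
    [FiniteDimensional K K'] [Algebra.IsSeparable K K']
    (hK : IsFunctionField k K) (hg : FunFld.IsGeometric k K) (hK' : IsFunctionField k' K') :
    FunFld.IsGeometric k' K' := by
  refine isGeometric_of_good hK' ?_
  obtain ⟨x, hx⟩ := exists_isSepVar hK (good_of_geometric hg)
  have hx' := isSepVar_ext (K' := K') hK.1 hx
  set x' := algebraMap K K' x
  haveI := hx'.finite
  haveI := hx'.separable
  haveI : Algebra.IsAlgebraic k k' := ⟨fun c => by
    refine (isAlgebraic_algebraMap_iff (algebraMap k' K').injective).1 ?_
    by_contra htr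
    let L0 : IntermediateField k K' := IntermediateField.adjoin k ({algebraMap k' K' c} : Set K')
    let M0 : IntermediateField k' K' := ⊥
    have hle0 : L0 ≤ M0.restrictScalars k :=
      IntermediateField.adjoin_simple_le_iff.2 (IntermediateField.algebraMap_mem M0 c)
    haveI : FiniteDimensional L0 K' := finite_adjoin (isFF_ext hK.1) htr
    letI : Algebra L0 M0 := ((IntermediateField.inclusion hle0 : L0 →ₐ[k] M0.restrictScalars k).toRingHom :
      L0 →+* M0).toAlgebra
    haveI : IsScalarTower L0 M0 K' := IsScalarTower.of_algebraMap_eq fun _ => rfl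
    haveI : FiniteDimensional M0 K' := Module.Finite.of_restrictScalars_finite L0 M0 K'
    obtain ⟨u, hu, -⟩ := hK'.1
    exact hu ((Algebra.IsAlgebraic.isAlgebraic (R := M0) u).restrictScalars k')⟩
  let L : IntermediateField k K' := IntermediateField.adjoin k ({x'} : Set K')
  let M : IntermediateField k' K' := IntermediateField.adjoin k' ({x'} : Set K')
  have hle : L ≤ M.restrictScalars k :=
    IntermediateField.adjoin_simple_le_iff.2 (IntermediateField.mem_adjoin_simple_self k' _)
  letI : Algebra L M := ((IntermediateField.inclusion hle : L →ₐ[k] M.restrictScalars k).toRingHom :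
    L →+* M).toAlgebra
  haveI : IsScalarTower L M K' := IsScalarTower.of_algebraMap_eq fun _ => rfl
  have hfin : FiniteDimensional M K' := Module.Finite.of_restrictScalars_finite L M K'
  have hsep : Algebra.IsSeparable M K' := Algebra.isSeparable_tower_top_of_isSeparable L M K'
  have htr : Transcendental k' x' := fun ha => hx'.transcendental (ha.restrictScalars k)
  exact good_of_isSepVar ⟨htr, hfin, hsep⟩

end Groth.Agent.FF
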