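import Groth.Agent.FF.Hyper2

/-! Equations `y² + Q(x) y = P(x)` of quadratic extensions of a rational function field. -/

set_option autoImplicit false
set_option linter.unusedSectionVars false
set_option linter.style.haveILetI false

open FunFld WithZero IntermediateField

namespace Groth.Agent.FF.HypEq

open Groth.Agent.FF

variable {k K : Type*} [Field k] [Field K] [Algebra k K] [Algebra (RatFunc k) K]
  [IsScalarTower k (RatFunc k) K] [FiniteDimensional (RatFunc k) K]

/-- the pole divisor of `x` -/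
noncomputable def Dx : Divisor k K :=
  conorm K (Finsupp.single (exists_rat_inf (k := k)).choose 1)

lemma deg_Dx (hdeg : Module.finrank (RatFunc k) K = 2) : (Dx (k := k) (K := K)).deg = 2 := by
  rw [Dx, deg_conorm isFunctionField_ratFunc, deg_single, hdeg,
    rat_deg_inf _ exists_rat_inf.choose_spec]
  norm_num

lemma Dx_apply {P : Place k K} {P₀ : Place k (RatFunc k)} {e : ℕ} (h : IsOverWith P P₀ e) :
    (1 < P₀.1 RatFunc.X → (Dx (K := K)) P = e) ∧ (P₀.1 RatFunc.X ≤ 1 → (Dx (K := K)) P = 0) := by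
  classical
  rw [Dx, conorm_apply isFunctionField_ratFunc.1 _ ⟨e, h⟩, ramIdx_eq h, Finsupp.single_apply]
  constructor
  · intro hX
    rw [if_pos (rat_inf_unique _ exists_rat_inf.choose_spec hX), mul_one]
  · intro hX
    have hne : ¬ (exists_rat_inf (k := k)).choose = P₀ := fun he => by
      have := (exists_rat_inf (k := k)).choose_spec
      rw [he] at this
      exact not_lt.2 hX this
    rw [if_neg hne, mul_zero]

lemma comap_mem_L {z : K} {n : ℕ} (hz : z ∈ L ((n : ℤ) • Dx (k := k) (K := K))) (σ : K ≃ₐ[RatFunc k] K) :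
    σ z ∈ L ((n : ℤ) • Dx (k := k) (K := K)) := by
  intro P
  obtain ⟨P₀, e, he⟩ := exists_below (K' := K) isFunctionField_ratFunc.1 P
  let Q : Place k K := ⟨P.1.comap (σ : K →+* K), fun c => by
    show P.1 (σ (algebraMap k K c)) ≤ 1
    rw [IsScalarTower.algebraMap_apply k (RatFunc k) K, σ.commutes, ← IsScalarTower.algebraMap_apply]
    exact val_const_le P c, fun n => by
    obtain ⟨x, hx⟩ := P.2.2 n
    exact ⟨σ.symm x, by show P.1 (σ (σ.symm x)) = n; rw [σ.apply_symm_apply, hx]⟩⟩
  have hQ : IsOverWith Q P₀ e := fun x => by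
    show P.1 (σ (algebraMap (RatFunc k) K x)) = _
    rw [σ.commutes, he x]
  have h1 : (Dx (K := K)) P = (Dx (K := K)) Q := by
    rcases le_or_gt (P₀.1 RatFunc.X) 1 with hX | hX
    · rw [(Dx_apply he).2 hX, (Dx_apply hQ).2 hX]
    · rw [(Dx_apply he).1 hX, (Dx_apply hQ).1 hX]
  have h2 : P.1 (σ z) ≤ exp (((n : ℤ) • Dx (K := K)) Q) := hz Q
  rwa [Finsupp.smul_apply, ← h1, ← Finsupp.smul_apply] at h2

/-- polynomials of bounded degree in `x` -/
noncomputable def pol (q : Polynomial k) : K :=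
  algebraMap (RatFunc k) K (algebraMap (Polynomial k) (RatFunc k) q)

lemma eq_poly_of_mem_L {r : RatFunc k} {n : ℕ}
    (h : algebraMap (RatFunc k) K r ∈ L ((n : ℤ) • Dx (k := k) (K := K))) :
    ∃ q : Polynomial k, r = algebraMap (Polynomial k) (RatFunc k) q ∧ q.natDegree ≤ n := by
  have hb : ∀ P₀ : Place k (RatFunc k), ∃ (P : Place k K) (e : ℕ), 0 < e ∧ IsOverWith P P₀ e ∧
      P₀.1 r ^ e ≤ exp ((n : ℤ) * (Dx (K := K)) P) := fun P₀ => by
    obtain ⟨P, e, he⟩ := exists_over (K' := K) isFunctionField_ratFunc.1 P₀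
    refine ⟨P, e, IsOverWith_pos he, he, ?_⟩
    have := h P
    rwa [he r, Finsupp.smul_apply, smul_eq_mul] at this
  obtain ⟨q, rfl⟩ := rat_eq_poly fun P₀ hX => by
    obtain ⟨P, e, he0, he, hv⟩ := hb P₀
    rw [(Dx_apply he).2 hX, mul_zero, exp_zero] at hv
    exact (pow_le_one_iff he0.ne').1 hv
  refine ⟨q, rfl, ?_⟩
  rcases eq_or_ne q 0 with rfl | hq
  · simp
  obtain ⟨P₀, hX⟩ := exists_rat_inf (k := k)
  obtain ⟨P, e, he0, he, hv⟩ := hb P₀
  rw [(Dx_apply he).1 hX, rat_val_eq_exp_natDegree P₀ hX hq, ← exp_nsmul, exp_le_exp, nsmul_eq_mul] at hv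
  have he0' : (0 : ℤ) < e := by exact_mod_cast he0
  exact_mod_cast le_of_mul_le_mul_left (by linarith : (e : ℤ) * q.natDegree ≤ (e : ℤ) * n) he0'

lemma pol_mem_L {q : Polynomial k} {n : ℕ} (h : q.natDegree ≤ n) :
    (pol q : K) ∈ L ((n : ℤ) • Dx (k := k) (K := K)) := by
  intro P
  obtain ⟨P₀, e, he⟩ := exists_below (K' := K) isFunctionField_ratFunc.1 P
  rw [pol, he, Finsupp.smul_apply, smul_eq_mul]
  rcases le_or_gt (P₀.1 RatFunc.X) 1 with hX | hX
  · rw [(Dx_apply he).2 hX, mul_zero, exp_zero]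
    exact pow_le_one' (rat_val_poly_le P₀ hX q) e
  · rcases eq_or_ne q 0 with rfl | hq
    · rw [map_zero, map_zero, zero_pow (IsOverWith_pos he).ne']
      exact zero_le'
    · rw [(Dx_apply he).1 hX, rat_val_eq_exp_natDegree P₀ hX hq, ← exp_nsmul, exp_le_exp, nsmul_eq_mul]
      exact (mul_comm (e : ℤ) q.natDegree).le.trans
        (mul_le_mul_of_nonneg_right (by exact_mod_cast h) (by positivity))

lemma mul_mem_L {D E : Divisor k K} {a b : K} (ha : a ∈ L D) (hb : b ∈ L E) : a * b ∈ L (D + E) :=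
  fun P => by
    show P.1 (a * b) ≤ exp ((D + E) P)
    rw [map_mul, Finsupp.add_apply, exp_add]
    exact mul_le_mul' (ha P) (hb P)

/-- a root of such an equation is bounded by the degrees of the coefficients -/
lemma mem_L_of_equation {y : K} {n : ℕ} {P Q : Polynomial k} (hQ : Q.natDegree ≤ n)
    (hP : P.natDegree ≤ n + n) (heq : y ^ 2 + pol Q * y = pol P) :
    y ∈ L ((n : ℤ) • Dx (k := k) (K := K)) := by
  intro p
  set b := ((n : ℤ) • Dx (k := k) (K := K)) p with hbdef
  have h1 : p.1 (pol Q) ≤ exp b := pol_mem_L hQ p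
  have h2 : p.1 (pol P) ≤ exp b * exp b := by
    have h := pol_mem_L (K := K) hP p
    rw [Nat.cast_add, add_smul, Finsupp.add_apply, exp_add] at h
    exact h
  by_contra hy'
  rw [not_le] at hy'
  have hy0 : p.1 y ≠ 0 := (lt_of_le_of_lt zero_le' hy').ne'
  have h3 : p.1 (pol Q * y) < p.1 (y ^ 2) := by
    rw [map_mul, map_pow, sq]
    exact mul_lt_mul_of_pos_right (h1.trans_lt hy') (zero_lt_iff.2 hy0)
  have h4 : p.1 (y ^ 2 + pol Q * y) = p.1 (y ^ 2) := p.1.map_add_eq_of_lt_left h3
  rw [heq, map_pow, sq] at h4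
  exact absurd (h4 ▸ h2) (not_le.2 (mul_lt_mul'' hy' hy' zero_le' zero_le'))

variable (hK : IsFunctionField k K) (hdeg : Module.finrank (RatFunc k) K = 2)
include hK hdeg

lemma ell_smul_Dx {n : ℕ} (hn : 2 * genus k K ≤ 2 * n + 1) :
    (ell ((n : ℤ) • Dx (k := k) (K := K)) : ℤ) = 2 * n + 1 - genus k K := by
  have h1 : ((n : ℤ) • Dx (k := k) (K := K)).deg = 2 * (n : ℤ) := by
    rw [deg_zsmul, deg_Dx hdeg]; ring
  rw [ell_eq_of_deg_ge hK (by rw [h1]; omega), h1]

lemma finrank_polys (n : ℕ) :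
    ∃ S : Submodule k K, S ≤ L ((n : ℤ) • Dx (k := k) (K := K)) ∧ Module.finrank k S = n + 1 ∧
      (∀ z ∈ S, z ∈ Set.range (algebraMap (RatFunc k) K)) ∧
      ∀ r, algebraMap (RatFunc k) K r ∈ L ((n : ℤ) • Dx (k := k) (K := K)) → algebraMap (RatFunc k) K r ∈ S := by
  let c : Polynomial k →ₗ[k] K := (IsScalarTower.toAlgHom k (RatFunc k) K).toLinearMap ∘ₗ
    (IsScalarTower.toAlgHom k (Polynomial k) (RatFunc k)).toLinearMap
  have hc : Function.Injective c :=
    (algebraMap (RatFunc k) K).injective.comp (RatFunc.algebraMap_injective k)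
  refine ⟨(Polynomial.degreeLT k (n + 1)).map c, ?_, ?_, ?_, ?_⟩
  · rintro _ ⟨q, hq, rfl⟩
    refine pol_mem_L ?_
    rcases eq_or_ne q 0 with rfl | h0
    · simp
    · exact Nat.lt_succ_iff.1 ((Polynomial.natDegree_lt_iff_degree_lt h0).2 (Polynomial.mem_degreeLT.1 hq))
  · rw [← (Submodule.equivMapOfInjective c hc _).finrank_eq, (Polynomial.degreeLTEquiv k _).finrank_eq,
      Module.finrank_fin_fun]
  · rintro _ ⟨q, -, rfl⟩
    exact ⟨_, rfl⟩
  · intro r hr
    obtain ⟨q, rfl, hqn⟩ := eq_poly_of_mem_L hr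
    exact ⟨q, Polynomial.mem_degreeLT.2 (lt_of_le_of_lt Polynomial.degree_le_natDegree
      (WithBot.coe_lt_coe.2 (Nat.lt_succ_of_le hqn))), rfl⟩

/-- an element outside `k(x)` satisfying such an equation forces the degree bound -/
lemma lower_bound {y : K} (hy : y ∉ Set.range (algebraMap (RatFunc k) K)) {P Q : Polynomial k}
    (heq : y ^ 2 + pol Q * y = pol P) : 2 * genus k K + 1 ≤ max (2 * Q.natDegree) P.natDegree := by
  by_contra hlt
  set g := genus k K with hg
  have hQ : Q.natDegree ≤ g := by omega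
  have hP : P.natDegree ≤ g + g := by omega
  have hyL : y ∈ L ((g : ℤ) • Dx (k := k) (K := K)) := mem_L_of_equation hQ hP heq
  obtain ⟨S, hSle, hSr, hSrange, -⟩ := finrank_polys hK hdeg g
  have hell := ell_smul_Dx hK hdeg (n := g) (by omega)
  haveI : FiniteDimensional k (L ((g : ℤ) • Dx (k := k) (K := K))) :=
    Module.finite_of_finrank_pos (show 0 < ell _ by omega)
  have : S = L ((g : ℤ) • Dx (k := k) (K := K)) :=
    Submodule.eq_of_le_of_finrank_eq hSle (by
      rw [hSr]; show g + 1 = ell _; omega)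
  exact hy (hSrange y (this ▸ hyL))

theorem exists_equation : ∃ (y : K) (P Q : Polynomial k),
    y ∉ Set.range (algebraMap (RatFunc k) K) ∧ y ^ 2 + pol Q * y = pol P ∧
      2 * genus k K + 1 ≤ max (2 * Q.natDegree) P.natDegree ∧
      max (2 * Q.natDegree) P.natDegree ≤ 2 * genus k K + 2 := by
  set g := genus k K with hg
  obtain ⟨S, hSle, hSr, hSrange, hSmem⟩ := finrank_polys hK hdeg (g + 1)
  have hell := ell_smul_Dx hK hdeg (n := g + 1) (by omega)
  obtain ⟨y, hyL, hy⟩ : ∃ y ∈ L (((g + 1 : ℕ) : ℤ) • Dx (k := k) (K := K)),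
      y ∉ Set.range (algebraMap (RatFunc k) K) := by
    by_contra! hall
    have hle : L (((g + 1 : ℕ) : ℤ) • Dx (k := k) (K := K)) ≤ S := fun z hz => by
      obtain ⟨r, rfl⟩ := hall z hz
      exact hSmem r hz
    haveI : FiniteDimensional k S := Module.finite_of_finrank_pos (by rw [hSr]; omega)
    have := Submodule.finrank_mono hle
    rw [hSr] at this
    change ell _ ≤ _ at this
    omega
  have hint := Algebra.IsIntegral.isIntegral (R := RatFunc k) y
  have hm : (minpoly (RatFunc k) y).natDegree = 2 := by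
    refine le_antisymm (by rw [← hdeg]; exact minpoly.natDegree_le y) ?_
    exact (minpoly.two_le_natDegree_iff hint).2 hy
  set m := minpoly (RatFunc k) y with hmdef
  have hc2 : m.coeff 2 = 1 := by
    rw [← hm]; exact (minpoly.monic hint).coeff_natDegree
  have hev : ∀ w : K, Polynomial.aeval w m =
      w ^ 2 + algebraMap (RatFunc k) K (m.coeff 1) * w + algebraMap (RatFunc k) K (m.coeff 0) := fun w => by
    rw [Polynomial.aeval_eq_sum_range, hm]
    simp only [Finset.sum_range_succ, Finset.range_zero, Finset.sum_empty, zero_add, pow_zero, pow_one,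
      hc2, Algebra.smul_def, mul_one, map_one, one_mul]
    ring
  have hz := minpoly.aeval (RatFunc k) y
  rw [← hmdef, hev] at hz
  set a := m.coeff 1
  set b := m.coeff 0
  haveI : Algebra.IsQuadraticExtension (RatFunc k) K := { finrank_eq_two' := hdeg }
  haveI : Normal (RatFunc k) K := inferInstance
  obtain ⟨σ, hσ⟩ : ∃ σ : K ≃ₐ[RatFunc k] K, σ y = -algebraMap (RatFunc k) K a - y := by
    refine IsConjRoot.exists_algEquiv (?_ : IsConjRoot (RatFunc k) (-algebraMap (RatFunc k) K a - y) y)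
    refine (minpoly.eq_of_irreducible_of_monic (minpoly.irreducible hint) ?_ (minpoly.monic hint)).symm
    rw [← hmdef, hev]
    linear_combination hz
  have hσL := comap_mem_L hyL σ
  rw [hσ] at hσL
  obtain ⟨Q, hQ, hQdeg⟩ := eq_poly_of_mem_L (r := a) (n := g + 1) (by
    have := neg_mem (add_mem hσL hyL)
    rwa [sub_add_cancel, neg_neg] at this)
  obtain ⟨P, hP, hPdeg⟩ := eq_poly_of_mem_L (r := -b) (n := (g + 1) + (g + 1)) (K := K) (by
    have := neg_mem (mul_mem_L hσL hyL)
    rw [← add_smul, ← Nat.cast_add] at this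
    convert this using 1
    rw [map_neg]
    linear_combination -hz)
  have heq : y ^ 2 + pol Q * y = pol P := by
    rw [pol, pol, ← hQ, ← hP, map_neg]
    linear_combination hz
  exact ⟨y, P, Q, hy, heq, lower_bound hK hdeg hy heq, by omega⟩

theorem exists_sq_equation (h2 : (2 : k) ≠ 0) : ∃ (y : K) (P : Polynomial k),
    y ∉ Set.range (algebraMap (RatFunc k) K) ∧ y ^ 2 = pol P ∧
      2 * genus k K + 1 ≤ P.natDegree ∧ P.natDegree ≤ 2 * genus k K + 2 := by
  obtain ⟨y, P, Q, hy, heq, -, hhi⟩ := exists_equation hK hdeg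
  set H : Polynomial k := Polynomial.C (2 : k)⁻¹ * Q with hH
  have hQ : Q = H + H := by
    rw [hH, ← add_mul, ← Polynomial.C_add, ← two_mul, mul_inv_cancel₀ h2, Polynomial.C_1, one_mul]
  have hy' : y + pol H ∉ Set.range (algebraMap (RatFunc k) K) := fun ⟨r, hr⟩ =>
    hy ⟨r - algebraMap (Polynomial k) (RatFunc k) H, by rw [map_sub, hr]; exact add_sub_cancel_right _ _⟩
  have heq' : (y + pol H) ^ 2 = (pol (P + H ^ 2) : K) := by
    rw [hQ] at heq
    simp only [pol, map_add, map_pow] at heq ⊢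
    linear_combination heq
  have hlo := lower_bound hK hdeg (P := P + H ^ 2) (Q := 0) hy'
    (by rw [show (pol (0 : Polynomial k) : K) = 0 by simp [pol], zero_mul, add_zero]; exact heq')
  refine ⟨y + pol H, P + H ^ 2, hy', heq', by simpa using hlo, ?_⟩
  refine (Polynomial.natDegree_add_le _ _).trans (max_le (by omega) ?_)
  rw [Polynomial.natDegree_pow]
  have : H.natDegree ≤ Q.natDegree := Polynomial.natDegree_C_mul_le _ _
  omega

/-- `k[x] + k[x] y` is the ring of functions regular away from the poles of `x` -/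
theorem exists_decomp_of_regular {y : K} (hy : y ∉ Set.range (algebraMap (RatFunc k) K))
    (hyL : y ∈ L (((genus k K + 1 : ℕ) : ℤ) • Dx (k := k) (K := K))) {z : K}
    (hz : ∀ P : Place k K, P.1 (algebraMap (RatFunc k) K RatFunc.X) ≤ 1 → P.1 z ≤ 1) :
    ∃ a b : Polynomial k, z = pol a + pol b * y := by
  classical
  set g := genus k K with hg
  set n := g + 1 + ∑ P ∈ (FunFld.div k z).support, (FunFld.div k z P).natAbs with hn
  have hzL : z ∈ L ((n : ℤ) • Dx (k := k) (K := K)) := by
    intro P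
    rcases eq_or_ne z 0 with rfl | hz0
    · rw [map_zero]; exact zero_le'
    obtain ⟨P₀, e, he⟩ := exists_below (K' := K) isFunctionField_ratFunc.1 P
    rcases le_or_gt (P₀.1 RatFunc.X) 1 with hX | hX
    · rw [Finsupp.smul_apply, (Dx_apply he).2 hX, smul_zero, exp_zero]
      exact hz P (by rw [he]; exact pow_le_one' hX e)
    · rw [Finsupp.smul_apply, (Dx_apply he).1 hX, val_eq_exp_ord P hz0, exp_le_exp, smul_eq_mul]
      have h1 : -(P.ord z) ≤ (n : ℤ) := by
        rcases le_or_gt 0 (P.ord z) with h | h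
        · omega
        · have hmem : P ∈ (FunFld.div k z).support := by
            rw [Finsupp.mem_support_iff, div_apply hK.1]; omega
          have h2 := Finset.single_le_sum (f := fun Q => (FunFld.div k z Q).natAbs)
            (fun Q _ => Nat.zero_le _) hmem
          rw [div_apply hK.1] at h2
          omega
      have he0 : (1 : ℤ) ≤ e := by exact_mod_cast IsOverWith_pos he
      nlinarith
  let c : Polynomial k →ₗ[k] K := (IsScalarTower.toAlgHom k (RatFunc k) K).toLinearMap ∘ₗ
    (IsScalarTower.toAlgHom k (Polynomial k) (RatFunc k)).toLinearMap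
  have hc : Function.Injective c :=
    (algebraMap (RatFunc k) K).injective.comp (RatFunc.algebraMap_injective k)
  let Φ : (Polynomial.degreeLT k (n + 1) × Polynomial.degreeLT k (n - g)) →ₗ[k] K :=
    (c ∘ₗ (Polynomial.degreeLT k (n + 1)).subtype).coprod
      (LinearMap.mulRight k y ∘ₗ c ∘ₗ (Polynomial.degreeLT k (n - g)).subtype)
  have hinj : Function.Injective Φ := by
    rw [← LinearMap.ker_eq_bot, LinearMap.ker_eq_bot']
    rintro ⟨⟨a, ha⟩, ⟨b, hb⟩⟩ h
    change c a + c b * y = 0 at h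
    obtain ⟨ha0, hb0⟩ : a = 0 ∧ b = 0 := by
      by_cases hb0 : b = 0
      · subst hb0
        rw [map_zero, zero_mul, add_zero, map_eq_zero_iff c hc] at h
        exact ⟨h, rfl⟩
      · refine absurd ⟨-(algebraMap (Polynomial k) (RatFunc k) a / algebraMap (Polynomial k) (RatFunc k) b), ?_⟩ hy
        have hcb : c b ≠ 0 := fun e => hb0 ((map_eq_zero_iff c hc).1 e)
        rw [map_neg, map_div₀]
        change -(c a / c b) = y
        field_simp
        linear_combination -h
    subst ha0 hb0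
    rfl
  have hrange : LinearMap.range Φ ≤ L ((n : ℤ) • Dx (k := k) (K := K)) := by
    rintro _ ⟨⟨⟨a, ha⟩, ⟨b, hb⟩⟩, rfl⟩
    have hdeglt : ∀ {m : ℕ} {q : Polynomial k}, q ∈ Polynomial.degreeLT k m → q.natDegree ≤ m - 1 := by
      intro m q hq
      rcases eq_or_ne q 0 with rfl | h0
      · simp
      · have := (Polynomial.natDegree_lt_iff_degree_lt h0).2 (Polynomial.mem_degreeLT.1 hq)
        omega
    refine add_mem (pol_mem_L (q := a) (by have := hdeglt ha; omega)) ?_
    have hbd := hdeglt hb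
    have h := mul_mem_L (pol_mem_L (q := b) (n := n - (g + 1)) (K := K) (by omega)) hyL
    rw [← add_smul, ← Nat.cast_add, Nat.sub_add_cancel (by omega)] at h
    exact h
  have hell := ell_smul_Dx hK hdeg (n := n) (by omega)
  haveI : FiniteDimensional k (L ((n : ℤ) • Dx (k := k) (K := K))) :=
    Module.finite_of_finrank_pos (show 0 < ell _ by omega)
  haveI : ∀ l, Module.Finite k (Polynomial.degreeLT k l) := fun l =>
    Module.Finite.equiv (Polynomial.degreeLTEquiv k l).symm
  have heq : LinearMap.range Φ = L ((n : ℤ) • Dx (k := k) (K := K)) :=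
    Submodule.eq_of_le_of_finrank_eq hrange (by
      rw [LinearMap.finrank_range_of_inj hinj, Module.finrank_prod,
        (Polynomial.degreeLTEquiv k _).finrank_eq, (Polynomial.degreeLTEquiv k _).finrank_eq,
        Module.finrank_fin_fun, Module.finrank_fin_fun]
      show n + 1 + (n - g) = ell _
      omega)
  rw [← heq] at hzL
  obtain ⟨⟨a, b⟩, hab⟩ := hzL
  exact ⟨a, b, hab.symm⟩

omit hK hdeg in
/-- unique representation -/
lemma pol_pair_eq_zero {y : K} (hy : y ∉ Set.range (algebraMap (RatFunc k) K)) {a b : Polynomial k}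
    (h : pol a + pol b * y = (0 : K)) : a = 0 ∧ b = 0 := by
  have hp : ∀ q : Polynomial k, (pol q : K) = 0 → q = 0 := fun q hq =>
    RatFunc.algebraMap_injective k ((map_eq_zero_iff _ (algebraMap (RatFunc k) K).injective).1 hq |>.trans
      (map_zero _).symm)
  by_cases hb : b = 0
  · subst hb
    rw [show (pol (0 : Polynomial k) : K) = 0 by simp [pol], zero_mul, add_zero] at h
    exact ⟨hp a h, rfl⟩
  · refine absurd ⟨-(algebraMap (Polynomial k) (RatFunc k) a / algebraMap (Polynomial k) (RatFunc k) b), ?_⟩ hy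
    have hcb : (pol b : K) ≠ 0 := fun e => hb (hp b e)
    rw [map_neg, map_div₀]
    change -(pol a / pol b) = y
    field_simp
    linear_combination -h

end Groth.Agent.FF.HypEq
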