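import Groth.Agent.FF.Hyper
import Groth.Agent.FF.LR.Diff

/-! Hyperelliptic function fields: normal form, regular differentials, uniqueness of `k(x)`. -/

set_option autoImplicit false
set_option linter.unusedSectionVars false
set_option linter.style.haveILetI false

open FunFld WithZero IntermediateField LaurentSeries

namespace Groth.Agent.FF

section ratFuncAlgebra

variable {k K : Type*} [Field k] [Field K] [Algebra k K]

/-- a transcendental element makes `K` an algebra over `k(X)` -/
lemma exists_ratFunc_algebra {x : K} (hx : Transcendental k x) :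
    ∃ (_ : Algebra (RatFunc k) K), IsScalarTower k (RatFunc k) K ∧
      algebraMap (RatFunc k) K RatFunc.X = x ∧
      (∀ q : Polynomial k, algebraMap (RatFunc k) K (algebraMap (Polynomial k) (RatFunc k) q) = Polynomial.aeval x q) ∧
      Set.range (algebraMap (RatFunc k) K) = (k⟮x⟯ : Set K) ∧
      Module.finrank (RatFunc k) K = Module.finrank k⟮x⟯ K := by
  obtain ⟨e, he⟩ := exists_gen_hom x hx
  let alg : Algebra (RatFunc k) K := ((k⟮x⟯.val).comp e.toAlgHom).toRingHom.toAlgebra
  refine ⟨alg, IsScalarTower.of_algebraMap_eq' ?_, ?_, he, ?_, ?_⟩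
  · ext c
    exact (((k⟮x⟯.val).comp e.toAlgHom).commutes c).symm
  · rw [← RatFunc.algebraMap_X]
    exact (he _).trans (Polynomial.aeval_X x)
  · ext z
    exact ⟨fun ⟨r, hr⟩ => hr ▸ (e r).2, fun hz => ⟨e.symm ⟨z, hz⟩, by
      show ((e (e.symm ⟨z, hz⟩) : k⟮x⟯) : K) = z
      rw [e.apply_symm_apply]⟩⟩
  · exact Algebra.finrank_eq_of_equiv_equiv e.toRingEquiv (RingEquiv.refl K) (RingHom.ext fun r => rfl)

variable [Algebra (RatFunc k) K] [IsScalarTower k (RatFunc k) K]

lemma algebraMap_poly_eq_aeval (q : Polynomial k) :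
    algebraMap (RatFunc k) K (algebraMap (Polynomial k) (RatFunc k) q) =
      Polynomial.aeval (algebraMap (RatFunc k) K RatFunc.X) q := by
  rw [Polynomial.aeval_algebraMap_apply, RatFunc.aeval_X_left_eq_algebraMap]

end ratFuncAlgebra

section NormalForm

variable {k : Type*} [Field k]

lemma exists_sq_mul_squarefree {q : Polynomial k} (hq : q ≠ 0) :
    ∃ s f : Polynomial k, Squarefree f ∧ q = s ^ 2 * f := by
  induction q using WfDvdMonoid.induction_on_irreducible with
  | zero => exact absurd rfl hq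
  | unit u hu => exact ⟨1, u, hu.squarefree, by rw [one_pow, one_mul]⟩
  | mul a p ha hp ih =>
    obtain ⟨s, f, hf, rfl⟩ := ih ha
    by_cases h : p ∣ f
    · obtain ⟨g, rfl⟩ := h
      exact ⟨p * s, g, hf.squarefree_of_dvd (dvd_mul_left g p), by ring⟩
    · exact ⟨s, p * f, (squarefree_mul_iff.2 ⟨hp.isRelPrime_iff_not_dvd.2 h, hp.squarefree, hf⟩), by ring⟩

variable {K : Type*} [Field K] [Algebra (RatFunc k) K]

theorem exists_sq_eq_squarefree (h2 : (2 : k) ≠ 0) (hdeg : Module.finrank (RatFunc k) K = 2) :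
    ∃ (y : K) (f : Polynomial k), Squarefree f ∧
      y ^ 2 = algebraMap (RatFunc k) K (algebraMap (Polynomial k) (RatFunc k) f) ∧
      IntermediateField.adjoin (RatFunc k) ({y} : Set K) = ⊤ := by
  haveI : FiniteDimensional (RatFunc k) K := Module.finite_of_finrank_pos (by rw [hdeg]; exact two_pos)
  have htop : ∀ y : K, y ∉ (⊥ : IntermediateField (RatFunc k) K) →
      IntermediateField.adjoin (RatFunc k) ({y} : Set K) = ⊤ := fun y hy => by
    refine IntermediateField.eq_of_le_of_finrank_le le_top ?_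
    rw [IntermediateField.finrank_top', hdeg, IntermediateField.adjoin.finrank (Algebra.IsIntegral.isIntegral y)]
    exact (minpoly.two_le_natDegree_iff (Algebra.IsIntegral.isIntegral y)).2 fun ⟨r, hr⟩ => hy (IntermediateField.mem_bot.2 ⟨r, hr⟩)
  have h2' : (2 : RatFunc k) ≠ 0 := by
    rw [← map_ofNat (algebraMap k (RatFunc k)) 2]
    exact (map_ne_zero _).2 h2
  obtain ⟨y0, hy0⟩ : ∃ y0 : K, y0 ∉ (⊥ : IntermediateField (RatFunc k) K) := by
    by_contra! hall
    have : (⊤ : IntermediateField (RatFunc k) K) = ⊥ := eq_bot_iff.2 fun z _ => hall z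
    have h1 := IntermediateField.finrank_top' (F := RatFunc k) (E := K)
    rw [this, IntermediateField.finrank_bot, hdeg] at h1
    omega
  have hint := Algebra.IsIntegral.isIntegral (R := RatFunc k) y0
  have hm : (minpoly (RatFunc k) y0).natDegree = 2 := by
    refine le_antisymm (by rw [← hdeg]; exact minpoly.natDegree_le y0) ?_
    exact (minpoly.two_le_natDegree_iff hint).2 fun ⟨r, hr⟩ => hy0 (IntermediateField.mem_bot.2 ⟨r, hr⟩)
  set m := minpoly (RatFunc k) y0 with hmdef
  have hz := minpoly.aeval (RatFunc k) y0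
  rw [Polynomial.aeval_eq_sum_range, ← hmdef, hm] at hz
  have hc2 : m.coeff 2 = 1 := by
    rw [← hm]; exact (minpoly.monic hint).coeff_natDegree
  simp only [Finset.sum_range_succ, Finset.range_zero, Finset.sum_empty, zero_add, pow_zero, pow_one,
    hc2, Algebra.smul_def, mul_one, map_one, one_mul] at hz
  set a := m.coeff 1 with ha
  set b := m.coeff 0 with hb
  set r : RatFunc k := (a / 2) ^ 2 - b with hr
  set z : K := y0 + algebraMap (RatFunc k) K (a / 2) with hzdef
  have hz2 : z ^ 2 = algebraMap (RatFunc k) K r := by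
    have haa : algebraMap (RatFunc k) K a = 2 * algebraMap (RatFunc k) K (a / 2) := by
      rw [← map_ofNat (algebraMap (RatFunc k) K) 2, ← map_mul, mul_div_cancel₀ _ h2']
    rw [hr, map_sub, map_pow, hzdef]
    linear_combination hz - y0 * haa
  have hzn : z ∉ (⊥ : IntermediateField (RatFunc k) K) := fun h => hy0 (by
    have := sub_mem h (IntermediateField.algebraMap_mem _ (a / 2))
    rwa [hzdef, add_sub_cancel_right] at this)
  have hr0 : r ≠ 0 := fun h => by
    rw [h, map_zero, sq_eq_zero_iff] at hz2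
    exact hzn (hz2 ▸ zero_mem _)
  have hd := polyToRat_ne_zero r.denom_ne_zero
  obtain ⟨s, f, hf, hsf⟩ := exists_sq_mul_squarefree (mul_ne_zero (RatFunc.num_ne_zero hr0) r.denom_ne_zero)
  have hs : s ≠ 0 := fun h => mul_ne_zero (RatFunc.num_ne_zero hr0) r.denom_ne_zero (by rw [hsf, h]; ring)
  set c : RatFunc k := algebraMap (Polynomial k) (RatFunc k) r.denom / algebraMap (Polynomial k) (RatFunc k) s
  have hc : c ≠ 0 := div_ne_zero hd (polyToRat_ne_zero hs)
  refine ⟨z * algebraMap (RatFunc k) K c, f, hf, ?_, htop _ fun h => hzn ?_⟩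
  · rw [mul_pow, hz2, ← map_pow, ← map_mul]
    congr 1
    have h1 := congrArg (algebraMap (Polynomial k) (RatFunc k)) hsf
    rw [map_mul, map_mul, map_pow] at h1
    have h3 : algebraMap (Polynomial k) (RatFunc k) r.num = r * algebraMap (Polynomial k) (RatFunc k) r.denom := by
      rw [← div_eq_iff hd, RatFunc.num_div_denom]
    rw [h3] at h1
    have hs' := polyToRat_ne_zero hs
    simp only [c, div_pow]
    field_simp
    linear_combination h1
  · have := mul_mem h (inv_mem (IntermediateField.algebraMap_mem _ c))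
    rwa [mul_assoc, mul_inv_cancel₀ ((map_ne_zero _).2 hc), mul_one] at this

end NormalForm

section Unique

variable {k K : Type*} [Field k] [Field K] [Algebra k K] [Algebra (RatFunc k) K]
  [IsScalarTower k (RatFunc k) K] {y : K} {f : Polynomial k}

lemma range_ratFunc_eq : Set.range (algebraMap (RatFunc k) K) =
    (k⟮algebraMap (RatFunc k) K RatFunc.X⟯ : Set K) := by
  have h := IntermediateField.adjoin_map k ({RatFunc.X} : Set (RatFunc k)) (IsScalarTower.toAlgHom k (RatFunc k) K)
  rw [RatFunc.adjoin_X, Set.image_singleton] at h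
  rw [show algebraMap (RatFunc k) K RatFunc.X = IsScalarTower.toAlgHom k (RatFunc k) K RatFunc.X from rfl, ← h]
  ext z
  simp

namespace IsHyper

variable (H : IsHyper y f) (hK : IsFunctionField k K)
include H hK

lemma two_le_natDegree_of_genus (hg : 2 ≤ genus k K) : 5 ≤ f.natDegree := by
  have := H.genus_eq hK
  omega

theorem mem_range_of_degree_two (hg : 2 ≤ genus k K) {t : K}
    (ht : Module.finrank k⟮t⟯ K = 2) : t ∈ Set.range (algebraMap (RatFunc k) K) := by
  classical
  set g := genus k K with hgdef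
  have hgf := H.genus_eq hK
  have htt : Transcendental k t := by
    refine transcendental_of_notMem hK fun ⟨c, hc⟩ => ?_
    obtain ⟨u, hu⟩ := exists_transcendental hK.1
    haveI : FiniteDimensional k⟮t⟯ K := Module.finite_of_finrank_pos (by rw [ht]; exact two_pos)
    have hb : k⟮t⟯ = ⊥ := adjoin_simple_eq_bot_iff.2 (IntermediateField.mem_bot.2 ⟨c, hc⟩)
    have hu' : IsAlgebraic k⟮t⟯ u := Algebra.IsAlgebraic.isAlgebraic u
    rw [hb] at hu'
    exact hu (hu'.restrictScalars k)
  set D' : Divisor k K := zeroDiv (k := k) t⁻¹ with hD'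
  have htinv : Transcendental k t⁻¹ := fun e => htt (by simpa using e.inv)
  have hdeg' : D'.deg = 2 := by
    have he : k⟮t⁻¹⟯ = k⟮t⟯ := by
      apply le_antisymm <;> rw [adjoin_simple_le_iff]
      · exact inv_mem (mem_adjoin_simple_self k t)
      · have := inv_mem (mem_adjoin_simple_self k t⁻¹)
        rwa [inv_inv] at this
    have := deg_zeroDiv hK htinv
    rw [he, ht] at this
    exact this.symm ▸ rfl
  have ht0 : t ≠ 0 := fun e => htt (e ▸ isAlgebraic_zero)
  have hD'0 : 0 ≤ D' := fun P => by simp [hD', zeroDiv]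
  have htL : ∀ P : Place k K, P.1 t ≤ exp (D' P) := fun P => by
    rw [val_le_exp_iff P ht0]
    simp only [hD', zeroDiv, Finsupp.sup_apply, div_apply hK.1, ord_inv, Finsupp.coe_zero, Pi.zero_apply]
    omega
  obtain ⟨C, hC⟩ := exists_canonical hK
  have h1 : 2 ≤ ell D' := by
    haveI := finiteDimensional_L hK D'
    have hmem : ∀ i : Fin 2, ![(1 : K), t] i ∈ L D' := fun i P => by
      fin_cases i
      · show P.1 1 ≤ _
        rw [map_one, ← exp_zero]
        exact exp_le_exp.2 (hD'0 P)
      · exact htL P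
    have hli : LinearIndependent k (fun i : Fin 2 => (⟨_, hmem i⟩ : L D')) := by
      refine LinearIndependent.of_comp (L D').subtype ?_
      show LinearIndependent k ![(1 : K), t]
      rw [LinearIndependent.pair_iff' one_ne_zero]
      exact fun a ha => notMem_of_transcendental htt ⟨a, by rw [← ha, Algebra.smul_def, mul_one]⟩
    have := hli.fintype_card_le_finrank
    rw [Fintype.card_fin] at this
    exact this
  have h2 : g - 1 ≤ ell (C - D') := by
    have := riemann_roch hK hC D'
    rw [hdeg'] at this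
    omega
  set M : Divisor k K := ((g - 1 : ℕ) : ℤ) • H.Dinf with hM
  have hMdeg : M.deg = 2 * ((g : ℤ) - 1) := by
    rw [hM, deg_zsmul, H.deg_Dinf]
    push_cast [show 1 ≤ g by omega]
    ring
  have hMell : ell M = g := by
    rw [hM, H.ell_nsmul_Dinf rfl]; omega
  have h3 : ell (C - M) = 1 := by
    have := riemann_roch hK hC M
    rw [hMdeg, hMell] at this
    omega
  obtain ⟨w, hw0, hw⟩ : ∃ w : K, w ≠ 0 ∧ w ∈ L (C - M) := by
    obtain ⟨w, hw, hw0⟩ := Submodule.exists_mem_ne_zero_of_ne_bot (p := L (C - M)) (fun h => by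
      rw [ell, h, finrank_bot] at h3; omega)
    exact ⟨w, hw0, hw⟩
  have hdiv : C - M + FunFld.div k w = 0 := by
    have hnn : 0 ≤ C - M + FunFld.div k w := fun P => by
      have := (val_le_exp_iff P hw0 _).1 (hw P)
      simp only [Finsupp.add_apply, div_apply hK.1, Finsupp.coe_zero, Pi.zero_apply]
      omega
    set E := C - M + FunFld.div k w
    have hE : E.deg = 0 := by
      simp only [E]
      rw [deg_add, deg_div hK, deg_sub, deg_canonical hK hC, hMdeg]
      omega
    ext P
    have h4 : Finsupp.single P (E P) ≤ E := fun Q => by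
      rw [Finsupp.single_apply]
      split_ifs with h
      · rw [h]
      · exact hnn Q
    have h5 := deg_mono h4
    rw [deg_single, hE] at h5
    have h6 : 0 ≤ E P := hnn P
    rw [Finsupp.coe_zero, Pi.zero_apply]
    have h7 : (0 : ℤ) < P.deg := by exact_mod_cast deg_pos hK.1 P
    nlinarith
  have hCeq : ∀ P : Place k K, C P = M P - P.ord w := fun P => by
    have := DFunLike.congr_fun hdiv P
    simp only [Finsupp.add_apply, Finsupp.sub_apply, div_apply hK.1, Finsupp.coe_zero, Pi.zero_apply] at this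
    omega
  obtain ⟨q, hq, hq0⟩ := Submodule.exists_mem_ne_zero_of_ne_bot (p := L (C - D')) (fun h => by
    rw [ell, h, finrank_bot] at h2; omega)
  have hzero : ∀ {z : K}, z ∈ L M → z ∈ Set.range (algebraMap (RatFunc k) K) := by
    intro z hz
    obtain ⟨a, b, -, hb, rfl⟩ := H.mem_L_iff.1 hz
    rcases hb with rfl | hb
    · exact ⟨algebraMap _ _ a, by rw [map_zero, map_zero, zero_mul, add_zero]⟩
    · omega
  have hmulw : ∀ {z : K}, z ∈ L C → z * w⁻¹ ∈ L M := fun {z} hz P => by
    rw [map_mul, map_inv₀, val_eq_exp_ord P hw0, ← exp_neg, neg_neg]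
    calc P.1 z * exp (P.ord w) ≤ exp (C P) * exp (P.ord w) := mul_le_mul' (hz P) le_rfl
      _ = exp (M P) := by rw [← exp_add, hCeq P]; congr 1; ring
  have hqC : q ∈ L C := fun P => (hq P).trans (exp_le_exp.2 (by
    have := hD'0 P
    simp only [Finsupp.sub_apply, Finsupp.coe_zero, Pi.zero_apply] at this ⊢
    omega))
  have htqC : t * q ∈ L C := fun P => by
    rw [map_mul]
    refine (mul_le_mul' (htL P) (hq P)).trans_eq ?_
    rw [← exp_add, Finsupp.sub_apply]; congr 1; ring
  obtain ⟨r1, hr1⟩ := hzero (hmulw htqC)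
  obtain ⟨r2, hr2⟩ := hzero (hmulw hqC)
  refine ⟨r1 / r2, ?_⟩
  rw [map_div₀, hr1, hr2]
  field_simp

end IsHyper

end Unique

end Groth.Agent.FF
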