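import Groth.Agent.FF.Small

set_option linter.style.haveILetI false
set_option linter.unusedSectionVars false

namespace Groth.Agent.FF

open FunFld WithZero

variable {k K : Type*} [Field k] [IsAlgClosed k] [Field K] [Algebra k K] (hK : IsFunctionField k K)
include hK

lemma ell_single_genus_one (hg : genus k K = 1) (A : Place k K) {E : Divisor k K} (h : 1 ≤ E.deg) :
    (ell E : ℤ) = E.deg := by
  have := ell_eq_of_deg_ge hK (D := E) (by rw [hg]; omega)
  rw [hg] at this; omega

lemma weight_at_pole (hg : genus k K = 1) {h : ℕ} (hh : 1 ≤ h) {A : Place k K} {V : Submodule k K}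
    (hlo : L (Finsupp.single A (h : ℤ)) ≤ V) (hhi : V ≤ L (Finsupp.single A ((h : ℤ) + 2)))
    (hdim : Module.finrank k V = h + 1) :
    ∃ ε : ℕ, ε ≤ 1 ∧ ∑ n ∈ Finset.range (2 * h + 2), Module.finrank k
        ↥(V ⊓ L (Finsupp.single A (2 * (h : ℤ) + 2) - Finsupp.single A ((n : ℤ) + 1))) =
      (h + 1).choose 2 + (h + 1) ^ 2 + ε := by
  classical
  have hd : A.deg = 1 := deg_eq_one hK A
  haveI : FiniteDimensional k V := Module.finite_of_finrank_pos (by omega)
  let φ : ℕ → ℕ := fun j => Module.finrank k ↥(V ⊓ L (Finsupp.single A (j : ℤ)))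
  have hsum : ∑ n ∈ Finset.range (2 * h + 2), Module.finrank k
      ↥(V ⊓ L (Finsupp.single A (2 * (h : ℤ) + 2) - Finsupp.single A ((n : ℤ) + 1))) =
      ∑ j ∈ Finset.range (2 * h + 2), φ j := by
    rw [← Finset.sum_range_reflect φ]
    refine Finset.sum_congr rfl fun n hn => ?_
    rw [Finset.mem_range] at hn
    simp only [φ]
    rw [← Finsupp.single_sub,
      show (2 * (h : ℤ) + 2) - ((n : ℤ) + 1) = ((2 * h + 2 - 1 - n : ℕ) : ℤ) by omega]
  have hlow : ∀ j : ℕ, j ≤ h → φ j = if j = 0 then 1 else j := by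
    intro j hj
    have e : V ⊓ L (Finsupp.single A (j : ℤ)) = L (Finsupp.single A (j : ℤ)) :=
      inf_eq_right.2 ((L_mono (Finsupp.single_le_single.2 (by omega))).trans hlo)
    simp only [φ]
    rw [e]
    change ell (Finsupp.single A (j : ℤ)) = _
    split_ifs with h0
    · subst h0
      simpa using ell_zero hK
    · have := ell_single_genus_one hK hg A (E := Finsupp.single A (j : ℤ))
        (by rw [deg_single, hd]; omega)
      rw [deg_single, hd] at this
      omega
  have hhigh : ∀ j : ℕ, h + 2 ≤ j → φ j = h + 1 := by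
    intro j hj
    simp only [φ]
    rw [inf_eq_left.2 (hhi.trans (L_mono (Finsupp.single_le_single.2 (by omega)))), hdim]
  have hmid : h ≤ φ (h + 1) ∧ φ (h + 1) ≤ h + 1 := by
    refine ⟨?_, (Submodule.finrank_mono inf_le_left).trans hdim.le⟩
    have hh' := hlow h le_rfl
    rw [if_neg (by omega)] at hh'
    rw [← hh']
    haveI : FiniteDimensional k ↥(V ⊓ L (Finsupp.single A ((h + 1 : ℕ) : ℤ))) :=
      Submodule.finiteDimensional_of_le inf_le_left
    exact Submodule.finrank_mono (inf_le_inf_left _ (L_mono (Finsupp.single_le_single.2 (by omega))))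
  refine ⟨φ (h + 1) - h, by omega, ?_⟩
  rw [hsum, show 2 * h + 2 = (h + 1) + (1 + h) by ring, Finset.sum_range_add φ (h + 1) (1 + h),
    Finset.sum_range_add (fun x => φ (h + 1 + x)) 1 h,
    Finset.sum_range_one, add_zero,
    Finset.sum_congr rfl fun j hj => hlow j (Finset.mem_range_succ_iff.1 hj),
    Finset.sum_congr rfl fun j _ => hhigh (h + 1 + (1 + j)) (by omega)]
  have hs : ∀ n : ℕ, ∑ j ∈ Finset.range (n + 1), (if j = 0 then 1 else j) = (n + 1).choose 2 + 1 := by
    intro n
    induction n with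
    | zero => simp
    | succ n ih =>
      rw [Finset.sum_range_succ, ih, if_neg (by omega),
        show (n + 1 + 1).choose 2 = (n + 1) + (n + 1).choose 2 by
          rw [Nat.choose_succ_succ, Nat.choose_one_right]]
      omega
  rw [hs, Finset.sum_const, Finset.card_range, smul_eq_mul]
  rw [show (h + 1) ^ 2 = h * (h + 1) + (h + 1) by ring]
  omega

lemma weight_off_pole (hg : genus k K = 1) {h : ℕ} (hodd : Odd (h + 3)) {A Q : Place k K} (hQ : Q ≠ A)
    {V : Submodule k K} (hlo : L (Finsupp.single A ((h : ℤ) + 1)) ≤ V)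
    (hhi : V ≤ L (Finsupp.single A ((h : ℤ) + 3))) (hdim : Module.finrank k V = h + 2) :
    ∑ n ∈ Finset.range (2 * h + 4), Module.finrank k
        ↥(V ⊓ L (Finsupp.single A (2 * (h : ℤ) + 4) - Finsupp.single Q ((n : ℤ) + 1))) ≤
      (h + 2).choose 2 + 2 := by
  classical
  have hd : ∀ R : Place k K, R.deg = 1 := deg_eq_one hK
  haveI : FiniteDimensional k V := Module.finite_of_finrank_pos (by omega)
  haveI := finiteDimensional_L hK.1 (Finsupp.single A ((h : ℤ) + 3))
  set G : ℤ := (h : ℤ) + 3 with hG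
  have hdeg : ∀ a b : ℤ, Divisor.deg (k := k) (K := K) (Finsupp.single A a - Finsupp.single Q b) = a - b :=
    fun a b => by rw [deg_sub, deg_single, deg_single, hd, hd]; ring
  let ψ : ℕ → ℕ := fun n => Module.finrank k ↥(V ⊓ L (Finsupp.single A G - Finsupp.single Q (n : ℤ)))
  have hinf : ∀ (a a' : ℤ) (b : ℤ), a ≤ a' → 0 ≤ b → L (Finsupp.single A a) ⊓
      L (Finsupp.single A a' - Finsupp.single Q b) = L (Finsupp.single A a - Finsupp.single Q b) := by
    intro a a' b ha hb
    rw [L_inf]
    congr 1
    ext R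
    simp only [Finsupp.inf_apply, Finsupp.sub_apply, Finsupp.single_apply]
    by_cases h1 : A = R
    · subst h1; simp only [if_true, if_neg hQ]; omega
    · by_cases h2 : Q = R
      · subst h2; simp only [if_true, if_neg h1]; omega
      · simp only [if_neg h1, if_neg h2]; omega
  have hψ : ∀ n : ℕ, Module.finrank k
      ↥(V ⊓ L (Finsupp.single A (2 * (h : ℤ) + 4) - Finsupp.single Q (n : ℤ))) = ψ n := by
    intro n
    simp only [ψ]
    rw [← hinf G (2 * (h : ℤ) + 4) n (by omega) (by omega), ← inf_assoc, inf_eq_left.2 hhi]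
  have hle : ∀ n : ℕ, ψ n ≤ ell (Finsupp.single A G - Finsupp.single Q (n : ℤ)) := fun n => by
    haveI := finiteDimensional_L hK.1 (Finsupp.single A G - Finsupp.single Q (n : ℤ))
    exact Submodule.finrank_mono inf_le_right
  -- the hyperplane cuts `L(GA - nQ)` when it together with `L((G-2)A)` spans
  have hcut : ∀ n : ℕ, n < G → ell (Finsupp.single A ((h : ℤ) + 1) - Finsupp.single Q (n : ℤ)) + n ≤ h + 1 →
      ψ n + n + 1 ≤ h + 3 := by
    intro n hn hsmall
    haveI := finiteDimensional_L hK.1 (Finsupp.single A ((h : ℤ) + 1))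
    haveI := finiteDimensional_L hK.1 (Finsupp.single A G - Finsupp.single Q (n : ℤ))
    set X := L (Finsupp.single A G - Finsupp.single Q (n : ℤ)) with hX
    have hXle : X ≤ L (Finsupp.single A G) := L_mono (sub_le_self _ (Finsupp.single_nonneg.2 (by omega)))
    have hlX : (ell (Finsupp.single A G - Finsupp.single Q (n : ℤ)) : ℤ) = G - n := by
      rw [ell_single_genus_one hK hg A (by rw [hdeg]; omega), hdeg]
    change ((Module.finrank k X : ℕ) : ℤ) = _ at hlX
    have hlG : (Module.finrank k (L (Finsupp.single A G)) : ℤ) = G := by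
      have := ell_single_genus_one hK hg A (E := Finsupp.single A G) (by rw [deg_single, hd]; omega)
      rw [deg_single, hd] at this
      simpa [ell] using this
    have hl2 : (Module.finrank k (L (Finsupp.single A ((h : ℤ) + 1))) : ℤ) = h + 1 := by
      have := ell_single_genus_one hK hg A (E := Finsupp.single A ((h : ℤ) + 1)) (by rw [deg_single, hd]; omega)
      rw [deg_single, hd] at this
      simpa [ell] using this
    have h1 := Submodule.finrank_sup_add_finrank_inf_eq (L (Finsupp.single A ((h : ℤ) + 1))) X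
    rw [hX, hinf _ _ _ (by omega) (by omega)] at h1
    change _ + ell (Finsupp.single A ((h : ℤ) + 1) - Finsupp.single Q (n : ℤ)) = _ at h1
    rw [← hX] at h1
    have hmono : Module.finrank k ↥(L (Finsupp.single A ((h : ℤ) + 1)) ⊔ X) ≤ Module.finrank k ↥(V ⊔ X) :=
      Submodule.finrank_mono (sup_le_sup_right hlo _)
    have h2 := Submodule.finrank_sup_add_finrank_inf_eq V X
    have h3 : Module.finrank k ↥(V ⊔ X) ≤ Module.finrank k (L (Finsupp.single A G)) :=
      Submodule.finrank_mono (sup_le hhi hXle)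
    change _ + ψ n = _ at h2
    omega
  have b1 : ∀ n : ℕ, 1 ≤ n → n ≤ h → ψ n + n ≤ h + 2 := fun n h1 h2 => by
    have := ell_single_genus_one hK hg A (E := Finsupp.single A ((h : ℤ) + 1) - Finsupp.single Q (n : ℤ))
      (by rw [hdeg]; omega)
    rw [hdeg] at this
    have := hcut n (by omega) (by omega)
    omega
  have b2 : ψ (h + 1) + ψ (h + 2) + ψ (h + 3) ≤ 3 := by
    have e1 := hle (h + 1); have e2 := hle (h + 2); have e3 := hle (h + 3)
    have l1 := ell_single_genus_one hK hg A (E := Finsupp.single A G - Finsupp.single Q ((h + 1 : ℕ) : ℤ))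
      (by rw [hdeg]; omega)
    have l2 := ell_single_genus_one hK hg A (E := Finsupp.single A G - Finsupp.single Q ((h + 2 : ℕ) : ℤ))
      (by rw [hdeg]; omega)
    rw [hdeg] at l1 l2
    have l3 : ell (Finsupp.single A G - Finsupp.single Q ((h + 3 : ℕ) : ℤ)) ≤ 1 := by
      by_contra hc
      obtain ⟨z, hz, hze⟩ := principal_of_ell_pos hK
        (D := Finsupp.single A G - Finsupp.single Q ((h + 3 : ℕ) : ℤ)) (by rw [hdeg]; omega) (by omega)
      rw [← ell_add_div hK hz, hze, ell_zero hK] at hc
      omega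
    by_cases c1 : ell (Finsupp.single A ((h : ℤ) + 1) - Finsupp.single Q ((h + 1 : ℕ) : ℤ)) = 0
    · have := hcut (h + 1) (by omega) (by omega)
      omega
    · have c3 : ell (Finsupp.single A G - Finsupp.single Q ((h + 3 : ℕ) : ℤ)) = 0 := by
        by_contra hc
        obtain ⟨z, hz, hze⟩ := principal_of_ell_pos hK
          (D := Finsupp.single A G - Finsupp.single Q ((h + 3 : ℕ) : ℤ)) (by rw [hdeg]; omega)
          (Nat.pos_of_ne_zero hc)
        obtain ⟨w, hw, hwe⟩ := principal_of_ell_pos hK
          (D := Finsupp.single A ((h : ℤ) + 1) - Finsupp.single Q ((h + 1 : ℕ) : ℤ)) (by rw [hdeg]; omega)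
          (Nat.pos_of_ne_zero c1)
        obtain ⟨m, hm⟩ := hodd
        -- `A - Q` would be principal
        refine hQ (eq_of_div_eq_single_sub hK (by omega) (hd A)
          (x := z * (z * w⁻¹) ^ (-(m : ℤ))) (mul_ne_zero hz (zpow_ne_zero _ (mul_ne_zero hz (inv_ne_zero hw)))) ?_)
        ext R
        have eA := DFunLike.congr_fun hze R
        have eB := DFunLike.congr_fun hwe R
        simp only [Finsupp.add_apply, Finsupp.sub_apply, Finsupp.coe_zero, Pi.zero_apply,
          Finsupp.single_apply, div_apply hK.1] at eA eB ⊢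
        rw [ord_mul R hz (zpow_ne_zero _ (mul_ne_zero hz (inv_ne_zero hw))), ord_zpow,
          ord_mul R hz (inv_ne_zero hw), ord_inv]
        have hG2 : G = 2 * (m : ℤ) + 1 := by omega
        split_ifs at eA eB ⊢ <;> push_cast at eA eB ⊢ <;>
          · have hz' : R.ord z = _ := eq_neg_of_add_eq_zero_right eA
            have hw' : R.ord w = _ := eq_neg_of_add_eq_zero_right eB
            rw [hz', hw']
            first
              | ring1
              | (simp only [hG, show (h : ℤ) = 2 * (m : ℤ) - 2 by omega]; ring)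
      omega
  have b3 : ∀ n : ℕ, h + 3 < n → ψ n = 0 := fun n hn => by
    have := hle n
    have h0 : ell (Finsupp.single A G - Finsupp.single Q (n : ℤ)) = 0 :=
      ell_eq_zero_of_deg_neg hK (by rw [hdeg]; omega)
    omega
  have hs : ∀ n : ℕ, n ≤ h → ∑ m ∈ Finset.range n, ψ (m + 1) + (h + 2 - n).choose 2 ≤ (h + 2).choose 2 := by
    intro n
    induction n with
    | zero => simp
    | succ n ih =>
      intro hn
      have := ih (by omega)
      have := b1 (n + 1) (by omega) hn
      rw [Finset.sum_range_succ]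
      obtain ⟨q, hq⟩ : ∃ q, h + 2 - n = q + 1 := ⟨h + 1 - n, by omega⟩
      rw [show h + 2 - (n + 1) = q by omega]
      have eq2 : (q + 1).choose 2 = q + q.choose 2 := by
        rw [Nat.choose_succ_succ, Nat.choose_one_right]
      have eq3 : (h + 2 - n).choose 2 = q + q.choose 2 := by rw [hq, eq2]
      omega
  rw [Finset.sum_congr rfl (g := fun n => ψ (n + 1))
    (fun n _ => by rw [← hψ, Nat.cast_add, Nat.cast_one])]
  rw [show 2 * h + 4 = h + (3 + (h + 1)) by ring, Finset.sum_range_add (fun n => ψ (n + 1)) h (3 + (h + 1)),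
    Finset.sum_range_add (fun x => ψ (h + x + 1)) 3 (h + 1),
    Finset.sum_eq_zero (s := Finset.range (h + 1)) (fun x _ => b3 _ (by omega)),
    Finset.sum_range_succ, Finset.sum_range_succ, Finset.sum_range_one]
  have := hs h le_rfl
  rw [show h + 2 - h = 2 by omega, show (2 : ℕ).choose 2 = 1 from rfl] at this
  simp only [add_zero, add_assoc, show (1 : ℕ) + 1 = 2 from rfl, show 2 + 1 = 3 from rfl]
  omega

end Groth.Agent.FF
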