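import Groth.Agent.FF.UnifConductor
import Mathlib.FieldTheory.Perfect
import Mathlib.FieldTheory.PurelyInseparable.PerfectClosure

/-! Infinitely many places with separable residue field. -/

set_option autoImplicit false
set_option linter.style.haveILetI false
set_option linter.unusedSectionVars false

open FunFld WithZero
open scoped IntermediateField Matrix

namespace Groth.Agent.FF

section

variable {k F : Type*} [Field k] [Field F] [Algebra k F]

lemma inv_mul_sum {ι : Type*} [Fintype ι] [DecidableEq ι] (M : Matrix ι ι k) (hM : IsUnit M.det) (v : ι → F) (j : ι) :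
    v j = ∑ i, algebraMap k F (M⁻¹ j i) * ∑ l, algebraMap k F (M i l) * v l := by
  have h := congrFun (Matrix.mulVec_mulVec v ((algebraMap k F).mapMatrix M⁻¹) ((algebraMap k F).mapMatrix M)) j
  rw [← map_mul, Matrix.nonsing_inv_mul M hM, map_one, Matrix.one_mulVec] at h
  exact h.symm

/-- generated by the `p`-th powers of a spanning family: separable -/
lemma isSeparable_of_span_pow [Algebra.IsAlgebraic k F] (p : ℕ) [ExpChar k p] {ι : Type*} [Fintype ι] (v : ι → F)
    (hv : Algebra.adjoin k (Set.range v) = ⊤)
    (h : ∀ j, v j ∈ Submodule.span k (Set.range fun i => v i ^ p)) : Algebra.IsSeparable k F := by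
  classical
  haveI : ExpChar F p := expChar_of_injective_algebraMap (algebraMap k F).injective p
  haveI : ExpChar (separableClosure k F) p := expChar_of_injective_algebraMap (algebraMap k _).injective p
  have hn : ∀ n j, v j ∈ Submodule.span k (Set.range fun i => v i ^ p ^ n) := by
    intro n
    induction n with
    | zero => exact fun j => Submodule.subset_span ⟨j, by simp⟩
    | succ n ih =>
      intro j
      refine Submodule.span_le.2 ?_ (ih j)
      rintro _ ⟨i, rfl⟩
      obtain ⟨c, hc⟩ := (Submodule.mem_span_range_iff_exists_fun k).1 (h i)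
      show v i ^ p ^ n ∈ Submodule.span k _
      rw [← hc, sum_pow_char_pow]
      refine Submodule.sum_mem _ fun l _ => ?_
      rw [smul_pow, ← pow_mul, ← pow_succ']
      exact Submodule.smul_mem _ _ (Submodule.subset_span ⟨l, rfl⟩)
  choose n hnm using fun i => IsPurelyInseparable.pow_mem (separableClosure k F) p (v i)
  set N := Finset.univ.sup n
  have hpow : ∀ i, v i ^ p ^ N ∈ separableClosure k F := fun i => by
    obtain ⟨a, ha⟩ := hnm i
    have hle : n i ≤ N := Finset.le_sup (f := n) (Finset.mem_univ i)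
    rw [← Nat.add_sub_cancel' hle, pow_add, pow_mul, ← ha]
    exact pow_mem a.2 _
  have hsub : Submodule.span k (Set.range fun i => v i ^ p ^ N) ≤ (separableClosure k F).toSubalgebra.toSubmodule :=
    Submodule.span_le.2 (by rintro _ ⟨i, rfl⟩; exact hpow i)
  have htop : separableClosure k F = ⊤ := by
    refine eq_top_iff.2 fun z _ => ?_
    have hle : Algebra.adjoin k (Set.range v) ≤ (separableClosure k F).toSubalgebra :=
      Algebra.adjoin_le (by rintro _ ⟨j, rfl⟩; exact hsub (hn N j))
    exact hle (by rw [hv]; trivial)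
  exact (separableClosure.eq_top_iff (F := k) (E := F)).1 htop

end

section

variable {k K : Type*} [Field k] [Field K] [Algebra k K] [Algebra (RatFunc k) K] [IsScalarTower k (RatFunc k) K]

/-- coordinates of elements without finite poles in a basis without finite poles -/
lemma exists_poly_coord (hK : IsFF k K) [FiniteDimensional (RatFunc k) K]
    [Algebra.IsSeparable (RatFunc k) K] {ι : Type*} [Fintype ι] [DecidableEq ι]
    (b : Module.Basis ι (RatFunc k) K)
    (hb : ∀ i (R : Place k K), R.1 (algebraMap (RatFunc k) K RatFunc.X) ≤ 1 → R.1 (b i) ≤ 1) :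
    ∃ Dp : Polynomial k, Dp ≠ 0 ∧ ∀ y : K,
      (∀ R : Place k K, R.1 (algebraMap (RatFunc k) K RatFunc.X) ≤ 1 → R.1 y ≤ 1) →
      ∃ q : ι → Polynomial k, ∀ i,
        algebraMap (Polynomial k) (RatFunc k) Dp * b.repr y i = algebraMap (Polynomial k) (RatFunc k) (q i) := by
  have hI : ∀ z : K, (∀ R : Place k K, R.1 (algebraMap (RatFunc k) K RatFunc.X) ≤ 1 → R.1 z ≤ 1) →
      ∀ P0 : Place k (RatFunc k), P0.1 RatFunc.X ≤ 1 → z ∈ IntP K P0 := fun z hz P0 hP0 =>
    mem_IntP.2 fun R hR => hz R ((val_algebraMap_le_one_iff hR _).2 hP0)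
  have hGp : ∀ i j, ∃ q : Polynomial k,
      Algebra.traceMatrix (RatFunc k) b i j = algebraMap (Polynomial k) (RatFunc k) q := fun i j =>
    rat_eq_poly fun P0 hP0 => by
      rw [Algebra.traceMatrix_apply, Algebra.traceForm_apply]
      exact trace_val_le isFunctionField_ratFunc.1 (mul_mem_Loc (hI _ (hb i) P0 hP0) (hI _ (hb j) P0 hP0))
  choose Gp hGp using hGp
  have hG : Algebra.traceMatrix (RatFunc k) b = (algebraMap (Polynomial k) (RatFunc k)).mapMatrix (Matrix.of Gp) :=
    Matrix.ext fun i j => hGp i j
  refine ⟨(Matrix.of Gp).det, fun h0 => Algebra.discr_not_zero_of_basis (RatFunc k) b ?_, fun y hy => ?_⟩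
  · rw [Algebra.discr_def, hG, ← RingHom.map_det, h0, map_zero]
  have hyq : ∀ i, ∃ q : Polynomial k,
      Algebra.trace (RatFunc k) K (y * b i) = algebraMap (Polynomial k) (RatFunc k) q := fun i =>
    rat_eq_poly fun P0 hP0 =>
      trace_val_le isFunctionField_ratFunc.1 (mul_mem_Loc (hI _ hy P0 hP0) (hI _ (hb i) P0 hP0))
  choose qv hqv using hyq
  have hmul : Algebra.traceMatrix (RatFunc k) b *ᵥ (fun i => b.repr y i) =
      algebraMap (Polynomial k) (RatFunc k) ∘ qv := by
    funext i
    refine Eq.trans ?_ (hqv i)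
    conv_rhs => rw [← b.sum_repr y, Finset.sum_mul, map_sum]
    refine Finset.sum_congr rfl fun j _ => ?_
    simp only [smul_mul_assoc, map_smul, smul_eq_mul, mul_comm (b j), Algebra.traceMatrix_apply,
      Algebra.traceForm_apply]
    ring
  have hadj := congrArg (fun y => (Algebra.traceMatrix (RatFunc k) b).adjugate *ᵥ y) hmul
  simp only [Matrix.mulVec_mulVec, Matrix.adjugate_mul, Matrix.smul_mulVec, Matrix.one_mulVec] at hadj
  rw [hG, ← RingHom.map_det, ← RingHom.map_adjugate] at hadj
  refine ⟨(Matrix.of Gp).adjugate *ᵥ qv, fun i => ?_⟩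
  have hi := congrFun hadj i
  rw [Pi.smul_apply, smul_eq_mul] at hi
  rw [hi, RingHom.map_mulVec]
  rfl

/-- good values of `x` give separable residue fields -/
theorem exists_poly_separable_residue (hK : IsFF k K) (hxt : Transcendental k (algebraMap (RatFunc k) K RatFunc.X))
    [FiniteDimensional (RatFunc k) K] [Algebra.IsSeparable (RatFunc k) K] :
    ∃ g : Polynomial k, g ≠ 0 ∧ ∀ (P : Place k K) (c : k),
      P.1 (algebraMap (RatFunc k) K RatFunc.X - algebraMap k K c) < 1 → g.eval c ≠ 0 →
        Algebra.IsSeparable k (IsLocalRing.ResidueField P.O) := by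
  classical
  set x := algebraMap (RatFunc k) K RatFunc.X with hx
  obtain ⟨b, hb⟩ := exists_good_basis (k := k) (K := K) hK
  obtain ⟨Dp, hDp, hcoord⟩ := exists_poly_coord hK b hb
  set p := ringExpChar k
  haveI : ExpChar k p := inferInstance
  haveI : ExpChar (RatFunc k) p := expChar_of_injective_algebraMap (algebraMap k _).injective p
  have hbp : ∀ i (R : Place k K), R.1 x ≤ 1 → R.1 (b i ^ p) ≤ 1 := fun i R hR => by
    rw [map_pow]; exact pow_le_one' (hb i R hR) p
  choose M hM using fun i => hcoord (b i ^ p) (hbp i)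
  have hMdet : (Matrix.of M).det ≠ 0 := by
    intro h0
    have hlin : LinearIndependent (RatFunc k) fun i => b i ^ p := by
      have := LinearIndependent.map_pow_expChar_pow_of_isSeparable p 1 b.linearIndependent
      simpa [pow_one] using this
    have hu : algebraMap (Polynomial k) (RatFunc k) Dp ≠ 0 := polyToRat_ne_zero hDp
    obtain ⟨v, hv0, hv⟩ := Matrix.exists_vecMul_eq_zero_iff.2
      (show ((algebraMap (Polynomial k) (RatFunc k)).mapMatrix (Matrix.of M)).det = 0 by
        rw [← RingHom.map_det, h0, map_zero])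
    refine hv0 (funext fun i => (mul_eq_zero.1 (Fintype.linearIndependent_iff.1 hlin
      (fun i => v i * algebraMap (Polynomial k) (RatFunc k) Dp) ?_ i)).resolve_right hu)
    refine b.repr.injective (Finsupp.ext fun l => ?_)
    rw [map_sum, map_zero, Finsupp.finsetSum_apply, Finsupp.zero_apply]
    refine Eq.trans (Finset.sum_congr rfl fun i _ => ?_) (congrFun hv l)
    rw [map_smul, Finsupp.smul_apply, smul_eq_mul, mul_assoc, hM i l]
    rfl
  refine ⟨Dp * (Matrix.of M).det, mul_ne_zero hDp hMdet, fun P c hc hg => ?_⟩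
  rw [Polynomial.eval_mul, mul_ne_zero_iff] at hg
  have hxP : P.1 x ≤ 1 := by
    have := (P.1.map_add (x - algebraMap k K c) (algebraMap k K c)).trans (max_le hc.le (val_const_le P c))
    rwa [sub_add_cancel] at this
  let F := IsLocalRing.ResidueField P.O
  set xO : P.O := ⟨x, (mem_O P).2 hxP⟩
  have hxc : resHom P xO = resHom P (algebraMap k P.O c) := by
    rw [← sub_eq_zero, ← map_sub]
    exact (resHom_eq_zero_iff P).2 hc
  let bO : Fin (Module.finrank (RatFunc k) K) → P.O := fun i => ⟨b i, (mem_O P).2 (hb i P hxP)⟩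
  let v : Fin (Module.finrank (RatFunc k) K) → F := fun i => resHom P (bO i)
  have hev : ∀ q : Polynomial k, resHom P (Polynomial.aeval xO q) = algebraMap k F (q.eval c) := by
    intro q
    rw [← Polynomial.aeval_algHom_apply, hxc, AlgHom.commutes]
    exact Polynomial.aeval_algebraMap_apply_eq_algebraMap_eval c q
  -- expansions survive in the residue field
  have hexp : ∀ (y : P.O) (q : Fin (Module.finrank (RatFunc k) K) → Polynomial k),
      (∀ i, algebraMap (Polynomial k) (RatFunc k) Dp * b.repr (y : K) i = algebraMap (Polynomial k) (RatFunc k) (q i)) →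
      algebraMap k F (Dp.eval c) * resHom P y = ∑ i, algebraMap k F ((q i).eval c) * v i := by
    intro y q hq
    have hO : Polynomial.aeval xO Dp * y = ∑ i, Polynomial.aeval xO (q i) * bO i := by
      refine Subtype.ext ?_
      have hco : ∀ r : Polynomial k, ((Polynomial.aeval xO r : P.O) : K) = Polynomial.aeval x r := fun r =>
        (Polynomial.aeval_algHom_apply (inclO P) xO r).symm
      simp only [MulMemClass.coe_mul, AddSubmonoidClass.coe_finsetSum, hco, bO]
      conv_lhs => rw [← b.sum_repr (y : K), Finset.mul_sum]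
      refine Finset.sum_congr rfl fun i _ => ?_
      rw [hx, ← algebraMap_poly_eq_aeval, ← algebraMap_poly_eq_aeval, ← hq i, map_mul, Algebra.smul_def, mul_assoc]
    have := congrArg (resHom P) hO
    rw [map_mul, map_sum, hev] at this
    rw [this]
    refine Finset.sum_congr rfl fun i _ => ?_
    rw [map_mul, hev]
  haveI : @Module.Finite k F _ _ Algebra.toModule := finiteDimensional_residueField hK P
  haveI : Algebra.IsAlgebraic k F := Algebra.IsAlgebraic.of_finite k F
  have hD0 : algebraMap k F (Dp.eval c) ≠ 0 := (map_ne_zero _).2 hg.1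
  set A := Algebra.adjoin k (Set.range v)
  have hAtop : A = ⊤ := by
    refine eq_top_iff.2 fun u _ => ?_
    obtain ⟨a, rfl⟩ := resHom_surjective P u
    have hpoly : ∀ y : P.O, (∀ R : Place k K, R.1 x ≤ 1 → R.1 (y : K) ≤ 1) → resHom P y ∈ A := by
      intro y hy
      obtain ⟨q, hq⟩ := hcoord (y : K) hy
      have h1 : algebraMap k F (Dp.eval c) * resHom P y ∈ A := by
        rw [hexp y q hq]
        exact Subalgebra.sum_mem _ fun i _ => Subalgebra.mul_mem _ (A.algebraMap_mem _) (Algebra.subset_adjoin ⟨i, rfl⟩)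
      have h2 := Subalgebra.mul_mem A (A.algebraMap_mem (Dp.eval c)⁻¹) h1
      rwa [← mul_assoc, ← map_mul, inv_mul_cancel₀ hg.1, map_one, one_mul] at h2
    set m := (finite_poles hK (a : K)).toFinset.sup fun R => (log (R.1 (a : K))).toNat
    obtain ⟨s, hsP, hs1, hsT⟩ := exists_unit_clear hK hxt P hxP (finite_poles hK (a : K)).toFinset m
    let sO : P.O := ⟨s, (mem_O P).2 hsP.le⟩
    have hsa : resHom P (sO * a) ∈ A := hpoly _ fun R hR => by
      show R.1 (s * (a : K)) ≤ 1
      rw [map_mul]
      by_cases hp : 1 < R.1 (a : K)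
      · have hne : R ≠ P := fun h => (not_le.2 hp) (h ▸ (mem_O P).1 a.2)
        have hRT := (finite_poles hK (a : K)).mem_toFinset.2 hp
        have hm : R.1 (a : K) ≤ exp (m : ℤ) := by
          rw [← log_le_iff_le_exp (ne_of_gt (zero_lt_one.trans hp))]
          have := Finset.le_sup (f := fun R : Place k K => (log (R.1 (a : K))).toNat) hRT
          omega
        refine (mul_le_mul' (hsT R hRT hne hR) hm).trans_eq ?_
        rw [← exp_add, neg_add_cancel, exp_zero]
      · exact mul_le_one' (hs1 R hR) (not_lt.1 hp)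
    have hs0 : resHom P sO ≠ 0 := fun h => absurd hsP ((resHom_eq_zero_iff P).1 h).ne
    have hsinv : (resHom P sO)⁻¹ ∈ A := A.inv_mem_of_algebraic (x := (⟨resHom P sO, hpoly sO hs1⟩ : A))
      (Algebra.IsAlgebraic.isAlgebraic _)
    have := Subalgebra.mul_mem A hsinv hsa
    rwa [map_mul, ← mul_assoc, inv_mul_cancel₀ hs0, one_mul] at this
  refine isSeparable_of_span_pow p v hAtop fun j => ?_
  set Mc : Matrix _ _ k := (Matrix.of M).map (Polynomial.eval c)
  have hMc : IsUnit Mc.det := by
    refine isUnit_iff_ne_zero.2 ?_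
    have := (RingHom.map_det (Polynomial.evalRingHom c) (Matrix.of M))
    rw [RingHom.mapMatrix_apply, Polynomial.coe_evalRingHom] at this
    exact this ▸ hg.2
  have hrow : ∀ i, ∑ l, algebraMap k F (Mc i l) * v l = algebraMap k F (Dp.eval c) * v i ^ p := fun i => by
    have h1 := hexp (bO i ^ p) (M i) (fun l => by
      rw [SubmonoidClass.coe_pow]; exact hM i l)
    rw [map_pow] at h1
    exact h1.symm
  have hj := inv_mul_sum (F := F) Mc hMc v j
  rw [hj]
  refine Submodule.sum_mem _ fun i _ => ?_
  rw [hrow i, ← mul_assoc, ← map_mul, ← Algebra.smul_def]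
  exact Submodule.smul_mem _ _ (Submodule.subset_span ⟨i, rfl⟩)

end

section

variable {k K : Type*} [Field k] [Field K] [Algebra k K]

lemma one_lt_val_aeval (P : Place k K) {x : K} (hx : 1 < P.1 x) {q : Polynomial k} (hq : 0 < q.natDegree) :
    1 < P.1 (Polynomial.aeval x q) := by
  have hq0 : q ≠ 0 := fun h => by simp [h] at hq
  have hlc : P.1 (q.coeff q.natDegree • x ^ q.natDegree) = P.1 x ^ q.natDegree := by
    rw [← Polynomial.leadingCoeff, val_smul P (Polynomial.leadingCoeff_ne_zero.2 hq0), map_pow]
  rw [Polynomial.aeval_eq_sum_range, Finset.sum_range_succ, Valuation.map_add_eq_of_lt_right, hlc]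
  · exact one_lt_pow₀ hx hq.ne'
  · rw [hlc]
    refine Valuation.map_sum_lt _ (pow_ne_zero _ (ne_of_gt (zero_lt_one.trans hx))) fun i hi => ?_
    refine (val_smul_le P _ _).trans_lt ?_
    rw [map_pow]
    exact pow_lt_pow_right₀ hx (Finset.mem_range.1 hi)

/-- infinitely many places -/
lemma infinite_places (hK : IsFF k K) : (Set.univ : Set (Place k K)).Infinite := by
  classical
  intro hfin
  obtain ⟨x, hx, -⟩ := id hK
  have hg : ∀ P : Place k K, ∃ g : Polynomial k, g ≠ 0 ∧ (P.1 x ≤ 1 → P.1 (Polynomial.aeval x g) < 1) := by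
    intro P
    by_cases hP : P.1 x ≤ 1
    · obtain ⟨g, hg, hgP⟩ := exists_resPoly hK P hP
      exact ⟨g, hg.ne_zero, fun _ => (hgP g).2 dvd_rfl⟩
    · exact ⟨1, one_ne_zero, fun h => absurd h hP⟩
  choose g hg0 hg using hg
  set G := Polynomial.X * ∏ P ∈ hfin.toFinset, g P with hG
  have hG0 : G ≠ 0 := mul_ne_zero Polynomial.X_ne_zero (Finset.prod_ne_zero_iff.2 fun P _ => hg0 P)
  have hdeg : 0 < G.natDegree := by
    rw [hG, Polynomial.natDegree_mul Polynomial.X_ne_zero (Finset.prod_ne_zero_iff.2 fun P _ => hg0 P), Polynomial.natDegree_X]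
    omega
  have ht : Transcendental k (Polynomial.aeval x (G + 1)) := by
    refine fun ha => hx ?_
    exact IsAlgebraic.of_aeval (G + 1) (by
      rw [Polynomial.natDegree_add_eq_left_of_natDegree_lt (by simpa using hdeg)]; omega)
      (mem_nonZeroDivisors_of_ne_zero (Polynomial.leadingCoeff_ne_zero.2 (fun h => by
        have := congrArg Polynomial.natDegree h
        rw [Polynomial.natDegree_add_eq_left_of_natDegree_lt (by simpa using hdeg)] at this
        simp at this; omega))) ha
  obtain ⟨P, hP⟩ := exists_zero (k := k) (K := K) hK ht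
  rw [map_add, map_one] at hP
  rcases le_or_gt (P.1 x) 1 with hPx | hPx
  · have h1 : P.1 (Polynomial.aeval x G) < 1 := by
      rw [hG, map_mul, map_mul, Polynomial.aeval_X, map_prod, map_prod, ← Finset.mul_prod_erase _ _ (hfin.mem_toFinset.2 (Set.mem_univ P))]
      exact mul_lt_one_of_nonneg_of_lt_one_right hPx zero_le
        ((mul_le_of_le_one_right' (Finset.prod_le_one' fun S _ => val_aeval_le' P hPx _)).trans_lt (hg P hPx))
    rw [Valuation.map_add_eq_of_lt_right P.1 (by rwa [map_one]), map_one] at hP
    exact lt_irrefl _ hP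
  · refine absurd hP (not_lt.2 ?_)
    have h2 : 1 < P.1 (Polynomial.aeval x G) := one_lt_val_aeval P hPx hdeg
    rw [Valuation.map_add_eq_of_lt_left P.1 (by rwa [map_one])]
    exact h2.le

theorem infinite_separable (hK : IsFunctionField k K) (hG : Good k K) :
    {P : Place k K | Algebra.IsSeparable k (IsLocalRing.ResidueField P.O)}.Infinite := by
  classical
  by_cases hk : Finite k
  · refine (infinite_places hK.1).mono fun P _ => ?_
    haveI : @Module.Finite k (IsLocalRing.ResidueField P.O) _ _ Algebra.toModule := finiteDimensional_residueField hK.1 P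
    haveI : Algebra.IsAlgebraic k (IsLocalRing.ResidueField P.O) := Algebra.IsAlgebraic.of_finite k _
    exact Algebra.IsAlgebraic.isSeparable_of_perfectField
  · haveI : Infinite k := not_finite_iff_infinite.1 hk
    obtain ⟨x, hx⟩ := exists_isSepVar hK hG
    obtain ⟨alg, htow, hX, hfin, hsep⟩ := exists_ratFunc_separable hx
    letI := alg
    haveI := htow
    haveI := hfin
    haveI := hsep
    obtain ⟨g, hg0, hg⟩ := exists_poly_separable_residue hK.1 (hX.symm ▸ hx.transcendental)
    have ht : ∀ c : k, Transcendental k (x - algebraMap k K c) := fun c h =>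
      hx.transcendental (by simpa using h.add (isAlgebraic_algebraMap (R := k) (A := K) c))
    choose P hP using fun c : k => exists_zero (k := k) (K := K) hK.1 (ht c)
    have hinj : Function.Injective P := fun c d hcd => by
      by_contra hne
      have h1 : (P d).1 ((x - algebraMap k K d) - (x - algebraMap k K c)) < 1 :=
        ((P d).1.map_sub _ _).trans_lt (max_lt (hP d) (hcd ▸ hP c))
      rw [sub_sub_sub_cancel_left, ← map_sub, val_const (P d) (sub_ne_zero.2 hne)] at h1
      exact lt_irrefl _ h1
    refine ((g.rootSet_finite k).infinite_compl.image hinj.injOn).mono ?_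
    rintro _ ⟨c, hc, rfl⟩
    refine hg (P c) c (hX.symm ▸ hP c) fun h => hc ?_
    rw [Polynomial.mem_rootSet]
    exact ⟨hg0, by rwa [Polynomial.aeval_def, Algebra.algebraMap_self, Polynomial.eval₂_id]⟩

end

end Groth.Agent.FF
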