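import Mathlib

/-! Wronskians of finite tuples of polynomials in characteristic zero. -/

set_option autoImplicit false
set_option linter.style.haveILetI false

open Polynomial

namespace Groth.Agent.FF

variable {k : Type*} [Field k] {m : ℕ}

/-- Matrix of iterated derivatives. -/
noncomputable def wrPolyMat (f : Fin m → k[X]) : Matrix (Fin m) (Fin m) k[X] :=
  Matrix.of fun i j => derivative^[(j : ℕ)] (f i)

/-- The Wronskian. -/
noncomputable def wrPoly (f : Fin m → k[X]) : k[X] := (wrPolyMat f).det

lemma wrPoly_change (M : Matrix (Fin m) (Fin m) k) (g : Fin m → k[X]) :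
    wrPoly (fun i => ∑ l, M i l • g l) = C M.det * wrPoly g := by
  rw [wrPoly, wrPoly, RingHom.map_det, ← Matrix.det_mul]
  congr 1
  refine Matrix.ext fun i j => ?_
  simp [wrPolyMat, Matrix.mul_apply, Polynomial.iterate_derivative_sum, Polynomial.smul_eq_C_mul, Polynomial.iterate_derivative_C_mul]

lemma pow_dvd_wrPoly (g : Fin m → k[X]) (a : k) (n : Fin m → ℕ)
    (h : ∀ i, (X - C a) ^ n i ∣ g i) :
    (X - C a) ^ ((∑ i, n i) - ∑ j : Fin m, (j : ℕ)) ∣ wrPoly g := by
  rw [wrPoly, Matrix.det_apply]
  refine Finset.dvd_sum fun σ _ => ?_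
  refine dvd_smul_of_dvd _ (dvd_trans (b := ∏ i : Fin m, (X - C a) ^ (n (σ i) - (i : ℕ))) ?_
    (Finset.prod_dvd_prod_of_dvd _ _ fun i _ => ?_))
  · rw [Finset.prod_pow_eq_pow_sum]
    refine pow_dvd_pow _ (Nat.sub_le_iff_le_add.2 ?_)
    rw [← Equiv.sum_comp σ n, ← Finset.sum_add_distrib]
    exact Finset.sum_le_sum fun i _ => by omega
  · exact pow_sub_dvd_iterate_derivative_of_pow_dvd _ (h (σ i))

lemma prod_pow_sub_eq {X' : Type*} [CommMonoid X'] (x : X') (n : Fin m → ℕ) :
    ∏ i, x ^ n i = x ^ ∑ i, n i := Finset.prod_pow_eq_pow_sum _ _ _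

/-- Wronskian of polynomials with distinct degrees: nonzero, of degree at most `∑ e - tri`. -/
lemma wrPoly_ne_zero [CharZero k] (f : Fin m → k[X]) (hf : ∀ i, f i ≠ 0)
    (hinj : Function.Injective fun i => (f i).natDegree) :
    wrPoly f ≠ 0 ∧
      (wrPoly f).natDegree + ∑ j : Fin m, (j : ℕ) ≤ ∑ i, (f i).natDegree := by
  classical
  set e := fun i => (f i).natDegree with he
  set E := ∑ i, e i
  set T := ∑ j : Fin m, (j : ℕ)
  -- Scaled matrix `X ^ j * f i ^ (j)`: every entry has degree at most `e i`.
  let M : Matrix (Fin m) (Fin m) k[X] := Matrix.of fun i j => X ^ (j : ℕ) * derivative^[(j : ℕ)] (f i)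
  have hM : M.det = X ^ T * wrPoly f := by
    have h : M = Matrix.of (fun i j => (fun j : Fin m => (X : k[X]) ^ (j : ℕ)) j * wrPolyMat f i j) := by
      refine Matrix.ext fun i j => ?_
      simp [M, wrPolyMat]
    rw [h, Matrix.det_mul_row, prod_pow_sub_eq, wrPoly]
  have hdeg : ∀ i j, (M i j).natDegree ≤ e i := by
    intro i j
    simp only [M, Matrix.of_apply]
    rcases lt_or_ge (e i) (j : ℕ) with h | h
    · rw [iterate_derivative_eq_zero h, mul_zero]; simp
    · refine natDegree_mul_le.trans ?_
      rw [natDegree_X_pow]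
      have h2 : (derivative^[(j : ℕ)] (f i)).natDegree ≤ e i - (j : ℕ) :=
        natDegree_iterate_derivative (f i) (j : ℕ)
      omega
  have hterm : ∀ σ : Equiv.Perm (Fin m), (∏ i, M (σ i) i).natDegree ≤ E := fun σ => by
    refine (natDegree_prod_le _ _).trans ?_
    refine (Finset.sum_le_sum fun i _ => hdeg (σ i) i).trans_eq ?_
    exact Equiv.sum_comp σ e
  have hdetdeg : M.det.natDegree ≤ E := by
    rw [Matrix.det_apply]
    refine natDegree_sum_le_of_forall_le _ _ fun σ _ => ?_
    exact (natDegree_smul_le _ _).trans (hterm σ)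
  -- top coefficient
  let N : Matrix (Fin m) (Fin m) k := Matrix.of fun i j => (M i j).coeff (e i)
  have hcoeff : M.det.coeff E = N.det := by
    rw [Matrix.det_apply, Matrix.det_apply, finsetSum_coeff]
    refine Finset.sum_congr rfl fun σ _ => ?_
    rw [coeff_smul]
    congr 1
    have hE : E = ∑ i, e (σ i) := (Equiv.sum_comp σ e).symm
    rw [hE]
    have key : ∀ (s : Finset (Fin m)),
        (∏ i ∈ s, M (σ i) i).coeff (∑ i ∈ s, e (σ i)) = ∏ i ∈ s, N (σ i) i := by
      intro s
      induction s using Finset.induction with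
      | empty => simp
      | @insert a s ha ih =>
        rw [Finset.prod_insert ha, Finset.sum_insert ha, Finset.prod_insert ha,
          coeff_mul_add_eq_of_natDegree_le (hdeg (σ a) a)
            ((natDegree_prod_le _ _).trans (Finset.sum_le_sum fun i _ => hdeg (σ i) i)), ih]
        rfl
    exact key Finset.univ
  have hN : N.det ≠ 0 := by
    have hNe : N = Matrix.of (fun i (j : Fin m) => (f i).leadingCoeff *
        ((descPochhammer k (j : ℕ)).eval (e i : k))) := by
      refine Matrix.ext fun i j => ?_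
      simp only [N, M, Matrix.of_apply]
      rcases lt_or_ge (e i) (j : ℕ) with h | h
      · rw [iterate_derivative_eq_zero h, mul_zero, coeff_zero, descPochhammer_eval_eq_descFactorial,
          Nat.descFactorial_eq_zero_iff_lt.2 h]
        simp
      · rw [coeff_X_pow_mul', if_pos h, coeff_iterate_derivative, Nat.sub_add_cancel h,
          descPochhammer_eval_eq_descFactorial, nsmul_eq_mul, leadingCoeff]
        ring
    rw [hNe]
    change (Matrix.of fun i j => (fun i => (f i).leadingCoeff) i *
      (Matrix.of fun (i j : Fin m) => (descPochhammer k (j : ℕ)).eval (e i : k)) i j).det ≠ 0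
    rw [Matrix.det_mul_column, ← Matrix.det_eval_matrixOfPolynomials_eq_det_vandermonde
      (fun i => (e i : k)) (fun j => descPochhammer k (j : ℕ)) (fun j => descPochhammer_natDegree (R := k) (j : ℕ))
      (fun j => monic_descPochhammer k (j : ℕ))]
    refine mul_ne_zero (Finset.prod_ne_zero_iff.2 fun i _ => leadingCoeff_ne_zero.2 (hf i)) ?_
    rw [Matrix.det_vandermonde_ne_zero_iff]
    exact fun i j h => hinj (Nat.cast_injective h)
  have hne : M.det ≠ 0 := fun h => hN (by rw [← hcoeff, h, coeff_zero])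
  have hw : wrPoly f ≠ 0 := fun h => hne (by rw [hM, h, mul_zero])
  refine ⟨hw, ?_⟩
  rw [hM, natDegree_mul (pow_ne_zero _ X_ne_zero) hw, natDegree_X_pow] at hdetdeg
  show (wrPoly f).natDegree + T ≤ E
  omega

end Groth.Agent.FF
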