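import Groth.Agent.FF.GenusOne
import Groth.Agent.FF.PolyWronskian

/-! Vanishing orders of linear systems; weights; the Plücker bound in genus zero. -/

set_option autoImplicit false
set_option linter.style.haveILetI false
set_option linter.unusedSectionVars false

open FunFld WithZero IntermediateField

namespace Groth.Agent.FF

variable {k K : Type*} [Field k] [Field K] [Algebra k K]

/-- `dim V(-nP)`. -/
noncomputable def vd (V : Submodule k K) (D : Divisor k K) (P : Place k K) (n : ℤ) : ℕ :=
  Module.finrank k ↥(V ⊓ L (D - Finsupp.single P n))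

/-- `∑_{n=1}^d dim V(-nP)`. -/
noncomputable def vsum (V : Submodule k K) (D : Divisor k K) (P : Place k K) (d : ℕ) : ℕ :=
  ∑ n ∈ Finset.range d, vd V D P ((n : ℤ) + 1)

/-- The weight. -/
noncomputable def weight (V : Submodule k K) (D : Divisor k K) (P : Place k K) (d r : ℕ) : ℤ :=
  (vsum V D P d : ℤ) - ((r * (r + 1) / 2 : ℕ) : ℤ)

/-- `(D, V)` is a `g^r_d`. -/
structure IsGrd (V : Submodule k K) (D : Divisor k K) (d r : ℕ) : Prop where
  deg_eq : D.deg = d
  le_L : V ≤ L D
  dim_eq : Module.finrank k ↥V = r + 1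

lemma two_mul_tri (r : ℕ) : 2 * (r * (r + 1) / 2) = r * (r + 1) :=
  Nat.mul_div_cancel' (Nat.even_mul_succ_self r).two_dvd

lemma mem_L_sub_single_iff {D : Divisor k K} {P : Place k K} {n : ℤ} (hn : 0 ≤ n) {f : K}
    (hf : f ∈ L D) (hf0 : f ≠ 0) :
    f ∈ L (D - Finsupp.single P n) ↔ n ≤ P.ord f + D P := by
  rw [mem_L_sub_single hn, val_le_exp_iff P hf0]
  exact ⟨fun h => by omega, fun h => ⟨hf, by omega⟩⟩

section Basic

variable {V : Submodule k K} {D : Divisor k K} {d r : ℕ}

lemma ord_add_nonneg (hV : V ≤ L D) {f : K} (hf : f ∈ V) (hf0 : f ≠ 0) (P : Place k K) :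
    0 ≤ P.ord f + D P := by
  have := (val_le_exp_iff P hf0 _).1 (hV hf P)
  omega

variable (hK : IsFunctionField k K)

include hK

lemma fin_sys (hg : IsGrd V D d r) : FiniteDimensional k V :=
  Module.finite_of_finrank_pos (by rw [hg.dim_eq]; omega)

lemma vd_anti (hg : IsGrd V D d r) (P : Place k K) {m n : ℤ} (h : m ≤ n) :
    vd V D P n ≤ vd V D P m := by
  haveI := fin_sys hK hg
  exact Submodule.finrank_mono (inf_le_inf_left _
    (L_mono (sub_le_sub_left (Finsupp.single_le_single.2 h) _)))

lemma vd_zero (hg : IsGrd V D d r) (P : Place k K) : vd V D P 0 = r + 1 := by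
  rw [vd, Finsupp.single_zero, sub_zero, inf_eq_left.2 hg.le_L, hg.dim_eq]

lemma vd_le (hg : IsGrd V D d r) (P : Place k K) (n : ℤ) : vd V D P n ≤ r + 1 := by
  haveI := fin_sys hK hg
  rw [← hg.dim_eq]
  exact Submodule.finrank_mono inf_le_left

lemma vd_eq_zero (hg : IsGrd V D d r) {P : Place k K} (hP : P.deg = 1) {n : ℤ} (h : (d : ℤ) < n) :
    vd V D P n = 0 := by
  rw [vd, L_eq_bot_of_deg_neg hK (D := D - Finsupp.single P n)
    (by rw [deg_sub, deg_single, hg.deg_eq, hP]; omega), inf_bot_eq, finrank_bot]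

lemma vd_succ_le (hg : IsGrd V D d r) {P : Place k K} (hP : P.deg = 1) (n : ℤ) :
    vd V D P n ≤ vd V D P (n + 1) + 1 := by
  haveI := fin_sys hK hg
  have hle : D - Finsupp.single P (n + 1) ≤ D - Finsupp.single P n :=
    sub_le_sub_left (Finsupp.single_le_single.2 (by omega)) _
  obtain ⟨e, he, hR⟩ := relDim_L hK.1 hle
  rw [deg_sub, deg_sub, deg_single, deg_single, hP] at he
  obtain ⟨e', he', hR'⟩ := hR.inf V
  rw [inf_comm _ V, inf_comm _ V] at hR'
  haveI : FiniteDimensional k ↥(V ⊓ L (D - Finsupp.single P (n + 1))) :=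
    Submodule.finiteDimensional_inf_left _ _
  have h := hR'.finrank_eq
  simp only [vd]
  omega

lemma le_vd_add (hg : IsGrd V D d r) {P : Place k K} (hP : P.deg = 1) (n : ℕ) :
    r + 1 ≤ vd V D P n + n := by
  induction n with
  | zero => simp [vd_zero hK hg P]
  | succ n ih =>
    have := vd_succ_le hK hg hP (n : ℤ)
    push_cast
    omega

lemma r_le_d (hg : IsGrd V D d r) {P : Place k K} (hP : P.deg = 1) : r ≤ d := by
  have := le_vd_add hK hg hP (d + 1)
  rw [vd_eq_zero hK hg hP (by push_cast; omega)] at this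
  omega

lemma exists_exact (hg : IsGrd V D d r) (P : Place k K) (n : ℕ) (h : vd V D P ((n : ℤ) + 1) < vd V D P n) :
    ∃ f ∈ V, f ≠ 0 ∧ P.ord f + D P = n := by
  haveI := fin_sys hK hg
  obtain ⟨f, hf, hf'⟩ : ∃ f, f ∈ V ⊓ L (D - Finsupp.single P (n : ℤ)) ∧
      f ∉ V ⊓ L (D - Finsupp.single P ((n : ℤ) + 1)) := by
    by_contra! hc
    have := Submodule.finrank_mono (R := k) (M := K) hc
    exact absurd this (not_le.2 h)
  rw [Submodule.mem_inf] at hf hf'
  have hf0 : f ≠ 0 := fun e => hf' ⟨hf.1, e ▸ Submodule.zero_mem _⟩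
  refine ⟨f, hf.1, hf0, ?_⟩
  have h1 := (mem_L_sub_single_iff (by omega) (hg.le_L hf.1) hf0).1 hf.2
  have h2 : ¬ ((n : ℤ) + 1 ≤ P.ord f + D P) := fun h => hf' ⟨hf.1,
    (mem_L_sub_single_iff (by omega) (hg.le_L hf.1) hf0).2 h⟩
  omega

lemma vd_inf_le (hg : IsGrd V D d r) {P Q : Place k K} (hP : P.deg = 1) (hQ : Q.deg = 1) (hPQ : P ≠ Q)
    {m n : ℤ} (hm : 0 ≤ m) (hn : 0 ≤ n) (h : r + 1 < vd V D P m + vd V D Q n) :
    ∃ f ∈ V, f ≠ 0 ∧ 0 ≤ div k f + D - Finsupp.single P m - Finsupp.single Q n := by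
  classical
  haveI := fin_sys hK hg
  set A := V ⊓ L (D - Finsupp.single P m)
  set B := V ⊓ L (D - Finsupp.single Q n)
  have h1 := Submodule.finrank_sup_add_finrank_inf_eq A B
  have h2 : Module.finrank k ↥(A ⊔ B) ≤ r + 1 :=
    hg.dim_eq ▸ Submodule.finrank_mono (sup_le inf_le_left inf_le_left)
  have hne : A ⊓ B ≠ ⊥ := fun e => by
    rw [e, finrank_bot] at h1
    change r + 1 < Module.finrank k A + Module.finrank k B at h
    omega
  obtain ⟨f, hf, hf0⟩ := Submodule.exists_mem_ne_zero_of_ne_bot hne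
  obtain ⟨⟨hfV, hfA⟩, -, hfB⟩ := hf
  refine ⟨f, hfV, hf0, fun R => ?_⟩
  simp only [Finsupp.coe_zero, Pi.zero_apply, Finsupp.sub_apply, Finsupp.add_apply, div_apply hK.1,
    Finsupp.single_apply]
  have hA := (mem_L_sub_single_iff hm (hg.le_L hfV) hf0).1 hfA
  have hB := (mem_L_sub_single_iff hn (hg.le_L hfV) hf0).1 hfB
  have hR := ord_add_nonneg hg.le_L hfV hf0 R
  split_ifs with e1 e2
  · exact absurd (e1.trans e2.symm) hPQ
  · subst e1; omega
  · rename_i e2; subst e2; omega
  · omega

lemma vd_add_vd_le (hg : IsGrd V D d r) {P Q : Place k K} (hP : P.deg = 1) (hQ : Q.deg = 1) (hPQ : P ≠ Q)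
    {n : ℕ} (hn : n ≤ d + 1) : vd V D P n + vd V D Q ((d : ℤ) + 1 - n) ≤ r + 1 := by
  by_contra h
  obtain ⟨f, -, hf0, hnn⟩ := vd_inf_le hK hg hP hQ hPQ (by omega) (by omega) (not_le.1 h)
  have := deg_nonneg hnn
  rw [deg_sub, deg_sub, deg_add, deg_div hK.1, deg_single, deg_single, hg.deg_eq, hP, hQ] at this
  omega

omit hK in
lemma sum_reflect (g : ℤ → ℕ) :
    ∑ n ∈ Finset.range d, g ((d : ℤ) + 1 - ((n : ℤ) + 1)) = ∑ n ∈ Finset.range d, g ((n : ℤ) + 1) := by
  rw [← Finset.sum_range_reflect]
  refine Finset.sum_congr rfl fun n hn => ?_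
  rw [Finset.mem_range] at hn
  congr 1
  omega

lemma vsum_add_vsum_le (hg : IsGrd V D d r) {P Q : Place k K} (hP : P.deg = 1) (hQ : Q.deg = 1)
    (hPQ : P ≠ Q) : vsum V D P d + vsum V D Q d ≤ (r + 1) * d := by
  unfold vsum
  rw [← sum_reflect (d := d) (fun n => vd V D Q n), ← Finset.sum_add_distrib]
  refine (Finset.sum_le_sum (g := fun _ => r + 1) fun n hn => ?_).trans_eq (by simp [mul_comm])
  rw [Finset.mem_range] at hn
  exact_mod_cast vd_add_vd_le hK hg hP hQ hPQ (n := n + 1) (by omega)

/-- The vanishing orders. -/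
noncomputable def vanSet (V : Submodule k K) (D : Divisor k K) (P : Place k K) (d : ℕ) : Finset ℕ :=
  (Finset.range (d + 1)).filter fun n : ℕ => vd V D P ((n : ℤ) + 1) < vd V D P n

lemma vanSet_aux (hg : IsGrd V D d r) {P : Place k K} (hP : P.deg = 1) (N : ℕ) :
    (((Finset.range N).filter fun n : ℕ => vd V D P ((n : ℤ) + 1) < vd V D P n).card + vd V D P N = r + 1) ∧
    ((∑ n ∈ (Finset.range N).filter fun n : ℕ => vd V D P ((n : ℤ) + 1) < vd V D P n, n) + N * vd V D P N
      = ∑ n ∈ Finset.range N, vd V D P ((n : ℤ) + 1)) := by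
  induction N with
  | zero => simp [vd_zero hK hg P]
  | succ N ih =>
    obtain ⟨h1, h2⟩ := ih
    have hs := vd_succ_le hK hg hP (N : ℤ)
    have hm := vd_anti hK hg P (show (N : ℤ) ≤ N + 1 by omega)
    rw [Finset.range_add_one, Finset.filter_insert, Finset.sum_insert (by simp)]
    push_cast
    split_ifs with h
    · rw [Finset.card_insert_of_notMem (by simp), Finset.sum_insert (by simp)]
      have e : vd V D P (N : ℤ) = vd V D P ((N : ℤ) + 1) + 1 := by omega
      rw [e, Nat.mul_succ] at h2
      rw [Nat.succ_mul]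
      omega
    · have e : vd V D P (N : ℤ) = vd V D P ((N : ℤ) + 1) := by omega
      rw [e] at h1 h2
      rw [Nat.succ_mul]
      omega

lemma card_vanSet (hg : IsGrd V D d r) {P : Place k K} (hP : P.deg = 1) :
    (vanSet V D P d).card = r + 1 := by
  have := (vanSet_aux hK hg hP (d + 1)).1
  rw [vd_eq_zero hK hg hP (by push_cast; omega)] at this
  exact this

lemma sum_vanSet (hg : IsGrd V D d r) {P : Place k K} (hP : P.deg = 1) :
    ∑ n ∈ vanSet V D P d, n = vsum V D P d := by
  have h := (vanSet_aux hK hg hP (d + 1)).2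
  rw [vd_eq_zero hK hg hP (by push_cast; omega), mul_zero, add_zero] at h
  rw [vanSet, h, Finset.sum_range_succ, vd_eq_zero hK hg hP (by omega), add_zero]
  rfl

/-- An adapted basis. -/
lemma exists_adapted (hg : IsGrd V D d r) {P : Place k K} (hP : P.deg = 1) :
    ∃ (f : Fin (r + 1) → K) (m : Fin (r + 1) → ℕ), Function.Injective m ∧ LinearIndependent k f ∧
      Submodule.span k (Set.range f) = V ∧ (∀ i, f i ≠ 0 ∧ P.ord (f i) + D P = m i ∧ m i ≤ d) ∧
      ∑ i, m i = vsum V D P d := by
  classical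
  haveI := fin_sys hK hg
  let e := (vanSet V D P d).orderIsoOfFin (card_vanSet hK hg hP)
  have hmem : ∀ i, ((e i : ℕ)) ∈ vanSet V D P d := fun i => (e i).2
  have hex : ∀ i, ∃ f ∈ V, f ≠ 0 ∧ P.ord f + D P = (e i : ℕ) := fun i =>
    exists_exact hK hg P _ (Finset.mem_filter.1 (hmem i)).2
  choose f hfV hf0 hfo using hex
  have hinj : Function.Injective fun i => ((e i : ℕ)) := Subtype.val_injective.comp e.injective
  have hli : LinearIndependent k f := linearIndependent_of_ord_injective P f hf0 fun i j h => hinj (by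
    show ((e i : ℕ)) = (e j : ℕ)
    have h1 := hfo i; have h2 := hfo j
    simp only at h
    omega)
  refine ⟨f, fun i => (e i : ℕ), hinj, hli, ?_, fun i => ⟨hf0 i, hfo i, ?_⟩, ?_⟩
  · refine Submodule.eq_of_le_of_finrank_eq (Submodule.span_le.2 (Set.range_subset_iff.2 hfV)) ?_
    rw [finrank_span_eq_card hli, Fintype.card_fin, hg.dim_eq]
  · have := Finset.mem_range.1 (Finset.mem_filter.1 (hmem i)).1
    show (e i : ℕ) ≤ d
    omega
  · rw [← sum_vanSet hK hg hP, ← Finset.sum_coe_sort (vanSet V D P d) (fun n => n)]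
    exact Fintype.sum_equiv e.toEquiv _ _ fun i => rfl

lemma tri_le_vsum (hg : IsGrd V D d r) {P : Place k K} (hP : P.deg = 1) :
    r * (r + 1) / 2 ≤ vsum V D P d := by
  have hrd := r_le_d hK hg hP
  have h1 : ∑ n ∈ Finset.range r, (r - n) ≤ vsum V D P d := by
    refine (Finset.sum_le_sum fun n hn => ?_).trans
      (Finset.sum_le_sum_of_subset (Finset.range_subset_range.2 hrd))
    have := le_vd_add hK hg hP (n + 1)
    push_cast at this
    omega
  refine le_trans (le_of_eq ?_) h1
  rw [← Finset.sum_range_reflect]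
  have h2 := Finset.sum_range_id_mul_two (r + 1)
  rw [Finset.sum_range_succ'] at h2
  have h3 : ∑ j ∈ Finset.range r, (r - (r - 1 - j)) = ∑ j ∈ Finset.range r, (j + 1) :=
    Finset.sum_congr rfl fun j hj => by rw [Finset.mem_range] at hj; omega
  rw [h3]
  simp only [add_tsub_cancel_right, add_zero] at h2
  rw [mul_comm r, ← h2]
  omega

lemma weight_nonneg (hg : IsGrd V D d r) {P : Place k K} (hP : P.deg = 1) : 0 ≤ weight V D P d r := by
  have := tri_le_vsum hK hg hP
  rw [weight]
  omega

/-- A cusp has weight at least `r`. -/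
lemma le_weight_of_cusp (hg : IsGrd V D d r) {P : Place k K} (hP : P.deg = 1)
    (hc : r ≤ vd V D P 2) : (r : ℤ) ≤ weight V D P d r := by
  rcases Nat.eq_zero_or_pos r with rfl | hr
  · simpa using weight_nonneg hK hg hP
  have hd2 : 2 ≤ d := by
    by_contra h
    rw [vd_eq_zero hK hg hP (by omega)] at hc
    omega
  have hb : ∀ n : ℕ, 2 ≤ n → r + 2 ≤ vd V D P n + n := by
    intro n hn
    induction n, hn using Nat.le_induction with
    | base => push_cast; omega
    | succ n hn ih =>
      have := vd_succ_le hK hg hP (n : ℤ)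
      push_cast
      omega
  have hrd : r + 1 ≤ d := by
    by_contra h
    have := hb (d + 1) (by omega)
    rw [vd_eq_zero hK hg hP (by push_cast; omega)] at this
    omega
  have h0 : r ≤ vd V D P 1 := hc.trans (vd_anti hK hg P (by omega))
  have h1 : r + ∑ n ∈ Finset.range r, (r - n) ≤ vsum V D P d := by
    refine le_trans ?_ (Finset.sum_le_sum_of_subset (Finset.range_subset_range.2 hrd))
    rw [Finset.sum_range_succ' _ r, add_comm r]
    refine Nat.add_le_add (Finset.sum_le_sum fun n _ => ?_) (by simpa using h0)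
    have := hb (n + 2) (by omega)
    push_cast at this ⊢
    rw [show (n : ℤ) + 1 + 1 = n + 2 by ring]
    omega
  have h2 : ∑ n ∈ Finset.range r, (r - n) = r * (r + 1) / 2 := by
    rw [← Finset.sum_range_reflect]
    have h2 := Finset.sum_range_id_mul_two (r + 1)
    rw [Finset.sum_range_succ'] at h2
    have h3 : ∑ j ∈ Finset.range r, (r - (r - 1 - j)) = ∑ j ∈ Finset.range r, (j + 1) :=
      Finset.sum_congr rfl fun j hj => by rw [Finset.mem_range] at hj; omega
    rw [h3]
    simp only [add_tsub_cancel_right, add_zero] at h2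
    rw [mul_comm r, ← h2]
    omega
  rw [weight]
  omega

/-- Two-point bound, in terms of weights. -/
lemma weight_add_le (hg : IsGrd V D d r) {P Q : Place k K} (hP : P.deg = 1) (hQ : Q.deg = 1)
    (hPQ : P ≠ Q) : weight V D P d r + weight V D Q d r ≤ ((r : ℤ) + 1) * ((d : ℤ) - r) := by
  have h := vsum_add_vsum_le hK hg hP hQ hPQ
  have ht := two_mul_tri r
  simp only [weight]
  generalize r * (r + 1) / 2 = T at ht ⊢
  zify at h ht
  linarith

omit hK in
lemma weight_compat {K' : Type*} [Field K'] [Algebra k K'] {V' : Submodule k K'} {D' : Divisor k K'}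
    {P : Place k K} {Q : Place k K'}
    (h : ∀ m : ℕ, m ≤ d + 1 → vd V D P m + vd V' D' Q ((d : ℤ) + 1 - m) = r + 1) :
    weight V D P d r + weight V' D' Q d r = ((r : ℤ) + 1) * ((d : ℤ) - r) := by
  have h1 : vsum V D P d + vsum V' D' Q d = (r + 1) * d := by
    unfold vsum
    rw [← sum_reflect (d := d) (fun n => vd V' D' Q n), ← Finset.sum_add_distrib]
    refine (Finset.sum_congr (g := fun _ => r + 1) rfl fun n hn => ?_).trans (by simp [mul_comm])
    rw [Finset.mem_range] at hn
    exact_mod_cast h (n + 1) (by omega)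
  have ht := two_mul_tri r
  simp only [weight]
  generalize r * (r + 1) / 2 = T at ht ⊢
  zify at h1 ht
  linarith

end Basic

/-- Multiplying by `z` shifts the divisor by `-div z`. -/
lemma map_mul_inf_L (hK : IsFunctionField k K) {z : K} (hz : z ≠ 0) (V : Submodule k K)
    (D : Divisor k K) (P : Place k K) (n : ℤ) :
    vd (V.map (LinearMap.mulLeft k z)) (D - div k z) P n = vd V D P n := by
  have hinj : Function.Injective (LinearMap.mulLeft k z) := mul_right_injective₀ hz
  have h : V.map (LinearMap.mulLeft k z) ⊓ L (D - div k z - Finsupp.single P n) =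
      (V ⊓ L (D - Finsupp.single P n)).map (LinearMap.mulLeft k z) := by
    rw [Submodule.map_inf _ hinj]
    congr 1
    ext w
    constructor
    · intro hw
      refine ⟨z⁻¹ * w, ?_, mul_inv_cancel_left₀ hz w⟩
      have : z * (z⁻¹ * w) ∈ L (D - div k z - Finsupp.single P n) := by rwa [mul_inv_cancel_left₀ hz]
      rw [mul_mem_L_iff hK hz] at this
      rwa [show D - div k z - Finsupp.single P n + div k z = D - Finsupp.single P n by abel] at this
    · rintro ⟨y, hy, rfl⟩
      refine (mul_mem_L_iff hK hz y).2 ?_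
      rwa [show D - div k z - Finsupp.single P n + div k z = D - Finsupp.single P n by abel]
  rw [vd, vd, h]
  exact (Submodule.equivMapOfInjective _ hinj _).finrank_eq.symm

section Plucker

variable [IsAlgClosed k] [CharZero k]

omit [CharZero k] in
lemma exists_residue (hK : IsFunctionField k K) (Q : Place k K) {t : K} (ht : Q.1 t ≤ 1) :
    ∃ a : k, Q.1 (t - algebraMap k K a) < 1 := by
  haveI := finiteDimensional_residueField hK.1 Q
  haveI : Algebra.IsIntegral k (IsLocalRing.ResidueField Q.O) :=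
    @Algebra.IsIntegral.of_finite k _ _ _ _ (finiteDimensional_residueField hK.1 Q)
  obtain ⟨a, ha⟩ := (IsAlgClosed.algebraMap_bijective_of_isIntegral (k := k)).2
    (resHom Q ⟨t, (mem_O Q).2 ht⟩)
  refine ⟨a, ?_⟩
  have h2 : resHom Q (⟨t, (mem_O Q).2 ht⟩ - algebraMap k Q.O a) = 0 := by
    rw [map_sub, AlgHom.commutes, sub_eq_zero]
    exact ha.symm
  exact (resHom_eq_zero_iff Q).1 h2

lemma plucker (hK : IsFunctionField k K) (h0 : genus k K = 0) {V : Submodule k K} {D : Divisor k K}
    {d r : ℕ} (hg : IsGrd V D d r) (s : Finset (Place k K)) :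
    ∑ P ∈ s, weight V D P d r ≤ ((r : ℤ) + 1) * ((d : ℤ) - r) := by
  classical
  have hdeg : ∀ Q : Place k K, Q.deg = 1 := deg_eq_one hK
  rcases s.eq_empty_or_nonempty with rfl | ⟨A, hA⟩
  · rw [Finset.sum_empty]
    have := r_le_d hK hg (hdeg (nonempty_place hK.1).some)
    exact mul_nonneg (by omega) (by omega)
  -- a coordinate with its only pole at `A`
  obtain ⟨t, htA, htQ⟩ : ∃ t : K, A.ord t = -1 ∧ ∀ Q : Place k K, Q ≠ A → 0 ≤ Q.ord t := by
    refine (exists_simple_pole_iff_ell hK (hdeg A)).2 ?_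
    have := ell_eq_of_deg_ge hK (D := Finsupp.single A 1) (by rw [deg_single, hdeg, h0]; norm_num)
    rw [deg_single, hdeg, h0] at this
    omega
  have ht0 : t ≠ 0 := fun e => by simp [e] at htA
  have htt : Transcendental k t := transcendental_of_notMem hK fun ⟨c, hc⟩ => by
    rw [← hc, ord_const] at htA; omega
  -- normalise `D` to `d • A`
  obtain ⟨z, hz0, hzD⟩ : ∃ z : K, z ≠ 0 ∧ D - div k z = Finsupp.single A (d : ℤ) := by
    have hl : 0 < ell (D - Finsupp.single A (d : ℤ)) := by
      have := ell_eq_of_deg_ge hK (D := D - Finsupp.single A (d : ℤ))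
        (by rw [deg_sub, deg_single, hg.deg_eq, hdeg, h0]; norm_num)
      rw [deg_sub, deg_single, hg.deg_eq, hdeg, h0] at this
      omega
    obtain ⟨w, hw, hw0⟩ := exists_nonneg_equiv hK hl
    refine ⟨w⁻¹, inv_ne_zero hw, ?_⟩
    have hd0 : (D - Finsupp.single A (d : ℤ) + div k w).deg = 0 := by
      rw [deg_add, deg_sub, deg_single, hg.deg_eq, deg_div hK.1, hdeg]; ring
    have : D - Finsupp.single A (d : ℤ) + div k w = 0 := by
      by_contra hne
      obtain ⟨R, hR⟩ : ∃ R, 0 < (D - Finsupp.single A (d : ℤ) + div k w) R := by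
        by_contra! hle; exact hne (le_antisymm hle hw0)
      have h1 : Finsupp.single R 1 ≤ D - Finsupp.single A (d : ℤ) + div k w := by
        intro Q
        rw [Finsupp.single_apply]
        split_ifs with e
        · subst e; omega
        · exact hw0 Q
      have := deg_mono h1
      rw [deg_single, hd0, hdeg] at this
      omega
    rw [div_inv hK.1, sub_neg_eq_add, ← sub_eq_zero, ← this]
    abel
  set V' := V.map (LinearMap.mulLeft k z) with hV'
  set D' : Divisor k K := Finsupp.single A (d : ℤ) with hD'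
  have hg' : IsGrd V' D' d r := by
    refine ⟨by rw [hD', deg_single, hdeg]; simp, ?_, ?_⟩
    · rintro _ ⟨y, hy, rfl⟩
      refine (mul_mem_L_iff hK hz0 y).2 ?_
      rw [← hzD, sub_add_cancel]
      exact hg.le_L hy
    · rw [hV', ← hg.dim_eq]
      exact (Submodule.equivMapOfInjective _ (mul_right_injective₀ hz0) _).finrank_eq.symm
  have hw : ∀ P, weight V D P d r = weight V' D' P d r := fun P => by
    simp only [weight, vsum, hV', ← hzD, map_mul_inf_L hK hz0]
  simp only [hw]
  -- polynomials in `t`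
  have hpow : ∀ p : Polynomial k, p ≠ 0 → Polynomial.aeval t p ≠ 0 := fun p hp h => htt ⟨p, hp, h⟩
  have hordA : ∀ p : Polynomial k, p ≠ 0 → A.ord (Polynomial.aeval t p) = -(p.natDegree : ℤ) := by
    intro p hp
    have h1 : A.1 (Polynomial.aeval t p) = exp (p.natDegree : ℤ) := by
      rw [Polynomial.aeval_eq_sum_range, Finset.sum_range_succ]
      have hv : ∀ i : ℕ, A.1 (t ^ i) = exp (i : ℤ) := fun i => by
        rw [map_pow, val_eq_exp_ord A ht0, htA, ← exp_nsmul]; simp
      have hl : A.1 (p.coeff p.natDegree • t ^ p.natDegree) = exp (p.natDegree : ℤ) := by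
        have hlc : p.coeff p.natDegree ≠ 0 := Polynomial.leadingCoeff_ne_zero.2 hp
        rw [val_smul A hlc, hv]
      rw [Valuation.map_add_eq_of_lt_right, hl]
      rw [hl]
      refine Valuation.map_sum_lt _ exp_ne_zero fun i hi => (val_smul_le A _ _).trans_lt ?_
      rw [hv, exp_lt_exp]
      exact_mod_cast Finset.mem_range.1 hi
    rw [ord_of_val_eq A h1]
  have hspanD : ∀ y ∈ L D', ∃ p : Polynomial k, Polynomial.aeval t p = y := by
    intro y hy
    let b : Fin (d + 1) → K := fun i => t ^ (i : ℕ)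
    have hb : LinearIndependent k b := linearIndependent_of_ord_injective A b
      (fun i => pow_ne_zero _ ht0) fun i j h => Fin.ext (by
        simp only [b, ord_pow, htA] at h; omega)
    have hbm : Submodule.span k (Set.range b) ≤ L D' := by
      rw [Submodule.span_le]
      rintro _ ⟨i, rfl⟩ Q
      rw [val_le_exp_iff Q (pow_ne_zero _ ht0), ord_pow, hD', Finsupp.single_apply]
      split_ifs with e
      · subst e; rw [htA]; omega
      · have := htQ Q (Ne.symm e)
        simp only [neg_zero]
        positivity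
    haveI := finiteDimensional_L hK.1 D'
    have heq : Submodule.span k (Set.range b) = L D' := by
      refine Submodule.eq_of_le_of_finrank_eq hbm ?_
      rw [finrank_span_eq_card hb, Fintype.card_fin]
      change d + 1 = ell D'
      have := ell_eq_of_deg_ge hK (D := D') (by rw [hD', deg_single, hdeg, h0]; omega)
      rw [hD', deg_single, hdeg, h0] at this
      rw [hD']
      omega
    rw [← heq, Submodule.mem_span_range_iff_exists_fun] at hy
    obtain ⟨c, hc⟩ := hy
    exact ⟨∑ i : Fin (d + 1), c i • Polynomial.X ^ (i : ℕ), by simp [b, ← hc]⟩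
  -- basis adapted at `A`
  obtain ⟨f, m, hm, hfli, hfspan, hf, hmsum⟩ := exists_adapted hK hg' (hdeg A)
  have hfmem : ∀ i, f i ∈ V' := fun i => hfspan ▸ Submodule.subset_span ⟨i, rfl⟩
  choose p hp using fun i => hspanD (f i) (hg'.le_L (hfmem i))
  have hp0 : ∀ i, p i ≠ 0 := fun i e => (hf i).1 (by rw [← hp i, e, map_zero])
  have hpdeg : ∀ i, ((p i).natDegree : ℤ) = d - m i := fun i => by
    have h1 := (hf i).2.1
    rw [← hp i, hordA _ (hp0 i), hD', Finsupp.single_eq_same] at h1
    omega
  obtain ⟨hW, hWdeg⟩ := wrPoly_ne_zero p hp0 (fun i j h => hm (by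
    have h1 := hpdeg i; have h2 := hpdeg j
    simp only at h
    omega))
  set T := ∑ j : Fin (r + 1), (j : ℕ) with hT
  have hTtri : T = r * (r + 1) / 2 := by
    rw [hT, Fin.sum_univ_eq_sum_range (fun j => j), Finset.sum_range_id]
    simp [mul_comm]
  -- orders at the other places
  have ha : ∀ P : Place k K, P ≠ A → ∃ a : k, P.ord (t - algebraMap k K a) = 1 := by
    intro P hP
    obtain ⟨a, ha⟩ := exists_residue hK P ((val_le_one_iff P t).2 (htQ P hP))
    refine ⟨a, ?_⟩
    have hne : t - algebraMap k K a ≠ 0 := fun e => htt (by rw [sub_eq_zero] at e; rw [e]; exact isAlgebraic_algebraMap a)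
    have h1 := (val_lt_one_iff P hne).1 ha
    by_contra hne1
    have hle : Finsupp.single P 2 ≤ Finsupp.single A 1 + div k (t - algebraMap k K a) := by
      intro R
      rw [Finsupp.add_apply, div_apply hK.1, Finsupp.single_apply, Finsupp.single_apply]
      by_cases hRP : P = R
      · subst hRP
        rw [if_pos rfl, if_neg (Ne.symm hP)]
        omega
      · rw [if_neg hRP]
        by_cases hRA : A = R
        · subst hRA
          rw [if_pos rfl]
          have : A.ord (t - algebraMap k K a) = -1 := by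
            have hA' : A.1 (algebraMap k K a) < A.1 t := lt_of_le_of_lt (val_const_le A a) (by
              rw [one_lt_val_iff, htA]; omega)
            rw [Place.ord, Valuation.map_sub_eq_of_lt_left _ hA', ← htA]; rfl
          omega
        · rw [if_neg hRA, zero_add, ← val_le_one_iff]
          exact (R.1.map_sub _ _).trans (max_le ((val_le_one_iff R t).2 (htQ R (Ne.symm hRA))) (val_const_le R a))
    have := deg_mono hle
    rw [deg_add, deg_single, deg_single, deg_div hK.1, hdeg, hdeg] at this
    omega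
  choose! a ha using ha
  have hroot : ∀ P : Place k K, P ≠ A → ∀ q : Polynomial k, q ≠ 0 →
      P.ord (Polynomial.aeval t q) = (q.rootMultiplicity (a P) : ℤ) := by
    intro P hP q hq
    obtain ⟨q', hq', hnd⟩ := q.exists_eq_pow_rootMultiplicity_mul_and_not_dvd hq (a P)
    have hq0 : q' ≠ 0 := fun e => hq (by rw [hq', e, mul_zero])
    have hne : t - algebraMap k K (a P) ≠ 0 := fun e => by have := ha P hP; simp [e] at this
    have hq1 : P.ord (Polynomial.aeval t q') = 0 := by
      rw [← val_eq_one_iff P (hpow _ hq0)]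
      obtain ⟨u, hu⟩ : (Polynomial.X - Polynomial.C (a P)) ∣ (q' - Polynomial.C (q'.eval (a P))) :=
        Polynomial.X_sub_C_dvd_sub_C_eval
      rw [sub_eq_iff_eq_add] at hu
      rw [hu, map_add, map_mul, map_sub, Polynomial.aeval_X, Polynomial.aeval_C, Polynomial.aeval_C]
      have he : q'.eval (a P) ≠ 0 := fun e => hnd (Polynomial.dvd_iff_isRoot.2 e)
      rw [Valuation.map_add_eq_of_lt_right, val_const P he]
      rw [val_const P he, map_mul]
      refine lt_of_le_of_lt (mul_le_mul' le_rfl (val_aeval_le P ((val_le_one_iff P t).2 (htQ P hP)) u)) ?_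
      rw [mul_one]
      exact (val_lt_one_iff P hne).2 (by rw [ha P hP]; omega)
    conv_lhs => rw [hq']
    rw [map_mul, map_pow, map_sub, Polynomial.aeval_X, Polynomial.aeval_C,
      ord_mul P (pow_ne_zero _ hne) (hpow _ hq0), ord_pow, ha P hP, hq1]
    ring
  have hdvd : ∀ P : Place k K, P ≠ A →
      (Polynomial.X - Polynomial.C (a P)) ^ (vsum V' D' P d - T) ∣ wrPoly p := by
    intro P hP
    obtain ⟨g, n, hn, hgli, hgspan, hgn, hnsum⟩ := exists_adapted hK hg' (hdeg P)
    have hgmem : ∀ i, g i ∈ V' := fun i => hgspan ▸ Submodule.subset_span ⟨i, rfl⟩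
    choose q hq using fun i => hspanD (g i) (hg'.le_L (hgmem i))
    have hexp : ∀ i, ∃ M : Fin (r + 1) → k, ∑ l, M l • g l = f i := fun i =>
      Submodule.mem_span_range_iff_exists_fun k |>.1 (hgspan.symm ▸ hfmem i)
    choose M hM using hexp
    have hpq : p = fun i => ∑ l, M i l • q l := funext fun i => by
      have h : Polynomial.aeval t (p i - ∑ l, M i l • q l) = 0 := by
        simp [hp, hq, hM]
      by_contra hne
      exact hpow _ (sub_ne_zero.2 hne) h
    have e := wrPoly_change (Matrix.of fun i l => M i l) q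
    simp only [Matrix.of_apply] at e
    rw [hpq, e]
    refine Dvd.dvd.mul_left ?_ _
    have := pow_dvd_wrPoly q (a P) n fun i => by
      have h1 := (hgn i).2.1
      rw [← hq i, hroot P hP _ (fun e => (hgn i).1 (by rw [← hq i, e, map_zero])), hD',
        Finsupp.single_eq_of_ne hP] at h1
      rw [show n i = (q i).rootMultiplicity (a P) by omega]
      exact (q i).pow_rootMultiplicity_dvd (a P)
    rwa [hnsum] at this
  have hainj : Set.InjOn a ((s.erase A : Finset (Place k K)) : Set (Place k K)) := by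
    intro P hP Q hQ e
    rw [Finset.coe_erase, Set.mem_sdiff_singleton] at hP hQ
    by_contra hne
    have hP1 := ha P hP.2
    have hQ1 := ha Q hQ.2
    rw [← e] at hQ1
    have hne0 : t - algebraMap k K (a P) ≠ 0 := fun e0 => by simp [e0] at hP1
    have hle : Finsupp.single P 1 + Finsupp.single Q 1 ≤ Finsupp.single A 1 + div k (t - algebraMap k K (a P)) := by
      intro R
      simp only [Finsupp.add_apply, div_apply hK.1, Finsupp.single_apply]
      by_cases h1 : P = R
      · subst h1
        rw [if_pos rfl, if_neg (Ne.symm hne), if_neg (Ne.symm hP.2)]; omega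
      · rw [if_neg h1]
        by_cases h2 : Q = R
        · subst h2
          rw [if_pos rfl, if_neg (Ne.symm hQ.2)]; omega
        · rw [if_neg h2]
          by_cases h3 : A = R
          · subst h3
            rw [if_pos rfl]
            have h4 : A.1 (t - algebraMap k K (a P)) ≤ exp 1 := (A.1.map_sub _ _).trans (max_le
              ((val_le_exp_iff A ht0 1).2 (by omega))
              ((val_const_le A _).trans (by rw [← exp_zero, exp_le_exp]; omega)))
            rw [val_le_exp_iff A hne0] at h4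
            omega
          · rw [if_neg h3, zero_add, zero_add, ← val_le_one_iff]
            exact (R.1.map_sub _ _).trans (max_le ((val_le_one_iff R t).2 (htQ R (Ne.symm h3))) (val_const_le R _))
    have := deg_mono hle
    rw [deg_add, deg_add, deg_single, deg_single, deg_single, deg_div hK.1, hdeg, hdeg, hdeg] at this
    omega
  have hprod : (∏ P ∈ s.erase A, (Polynomial.X - Polynomial.C (a P)) ^ (vsum V' D' P d - T)) ∣ wrPoly p := by
    refine Finset.prod_dvd_of_coprime (fun P hP Q hQ hne => ?_) fun P hP => hdvd P (Finset.ne_of_mem_erase hP)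
    exact (Polynomial.isCoprime_X_sub_C_of_isUnit_sub
      (sub_ne_zero.2 fun e => hne (hainj hP hQ e)).isUnit).pow
  have hnd := Polynomial.natDegree_le_of_dvd hprod hW
  rw [Polynomial.natDegree_prod _ _ (fun P _ => pow_ne_zero _ (Polynomial.X_sub_C_ne_zero _))] at hnd
  simp only [Polynomial.natDegree_pow, Polynomial.natDegree_X_sub_C, mul_one] at hnd
  rw [← Finset.add_sum_erase _ _ hA]
  have h1 : ∑ P ∈ s.erase A, weight V' D' P d r ≤
      ((∑ P ∈ s.erase A, (vsum V' D' P d - T) : ℕ) : ℤ) := by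
    push_cast
    refine Finset.sum_le_sum fun P _ => ?_
    have := tri_le_vsum hK hg' (hdeg P)
    rw [weight, ← hTtri]
    omega
  have h2 : ((∑ i, (p i).natDegree : ℕ) : ℤ) = ((r : ℤ) + 1) * d - vsum V' D' A d := by
    push_cast
    simp only [hpdeg, Finset.sum_sub_distrib, Finset.sum_const, Finset.card_univ, Fintype.card_fin,
      nsmul_eq_mul]
    rw [← hmsum]; push_cast; ring
  have h3 : (((wrPoly p).natDegree + T : ℕ) : ℤ) ≤ ((∑ i, (p i).natDegree : ℕ) : ℤ) := Int.ofNat_le.2 hWdeg
  have h4 := Int.ofNat_le.2 hnd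
  have ht := two_mul_tri r
  rw [← hTtri] at ht
  zify at ht
  rw [weight, ← hTtri]
  push_cast at h2 h3 h4 h1 ⊢
  linarith

end Plucker

end Groth.Agent.FF
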