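import Groth.Agent.FF.Lattice
import Mathlib.RingTheory.Norm.Basic

/-! The norm, the integral closure of a place and the discriminant criterion. -/

set_option autoImplicit false
set_option linter.style.haveILetI false
set_option linter.unusedSectionVars false

open FunFld WithZero

namespace Groth.Agent.FF

variable {k K K' : Type*} [Field k] [Field K] [Field K'] [Algebra k K] [Algebra K K'] [Algebra k K']
  [IsScalarTower k K K'] [FiniteDimensional K K'] {P : Place k K}

lemma val_prod_le {ι : Type*} (s : Finset ι) (f : ι → K) (n : ι → ℤ)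
    (h : ∀ i ∈ s, P.1 (f i) ≤ exp (n i)) : P.1 (∏ i ∈ s, f i) ≤ exp (∑ i ∈ s, n i) := by
  classical
  induction s using Finset.induction with
  | empty => simp
  | @insert a s ha ih =>
    rw [Finset.prod_insert ha, Finset.sum_insert ha, map_mul, exp_add]
    exact mul_le_mul' (h a (Finset.mem_insert_self _ _))
      (ih fun i hi => h i (Finset.mem_insert_of_mem hi))

lemma det_le_exp {ι : Type*} [Fintype ι] [DecidableEq ι] (M : Matrix ι ι K) (g : Finset ι)
    (h1 : ∀ i j, P.1 (M i j) ≤ 1) (h2 : ∀ i ∈ g, ∀ j, P.1 (M i j) < 1) :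
    P.1 M.det ≤ exp (-(g.card : ℤ)) := by
  rw [Matrix.det_apply']
  refine Valuation.map_sum_le _ fun σ _ => ?_
  rw [map_mul]
  have hsgn : P.1 ((Equiv.Perm.sign σ : ℤ) : K) ≤ 1 := by
    rcases Int.units_eq_one_or (Equiv.Perm.sign σ) with h | h <;> simp [h, Valuation.map_neg]
  refine (mul_le_mul' hsgn (val_prod_le Finset.univ (fun i => M (σ i) i)
    (fun i => if σ i ∈ g then -1 else 0) fun i _ => ?_)).trans_eq ?_
  · split_ifs with h
    · simpa using (lt_exp_iff _ 0).1 ((h2 _ h i).trans_eq exp_zero.symm)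
    · rw [exp_zero]; exact h1 _ _
  · rw [one_mul]
    congr 1
    rw [Equiv.sum_comp σ (fun i => if i ∈ g then (-1 : ℤ) else 0), Finset.sum_ite_mem,
      Finset.univ_inter, Finset.sum_const]
    simp

lemma norm_val_le (hK : IsFF k K) {z : K'} (hz : z ∈ IntP K' P) : P.1 (Algebra.norm K z) ≤ 1 := by
  classical
  obtain ⟨s, b, hb⟩ := exists_local_basis (K' := K') hK P
  rw [Algebra.norm_eq_matrix_det b]
  refine (det_le_exp _ ∅ (fun i j => ?_) (by simp)).trans_eq (by simp)
  rw [Algebra.leftMulMatrix_eq_repr_mul]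
  exact (hb _).1 (mul_mem_Loc hz ((hb _).2 fun l => by
    rw [b.repr_self, Finsupp.single_apply]; split_ifs <;> simp)) i

lemma trace_val_le (hK : IsFF k K) {z : K'} (hz : z ∈ IntP K' P) : P.1 (Algebra.trace K K' z) ≤ 1 := by
  classical
  obtain ⟨s, b, hb⟩ := exists_local_basis (K' := K') hK P
  rw [Algebra.trace_eq_matrix_trace b, Matrix.trace]
  refine Valuation.map_sum_le _ fun i _ => ?_
  rw [Matrix.diag_apply, Algebra.leftMulMatrix_eq_repr_mul]
  exact (hb _).1 (mul_mem_Loc hz ((hb _).2 fun l => by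
    rw [b.repr_self, Finsupp.single_apply]; split_ifs <;> simp)) i

/-- the norm as a homomorphism of groups with zero -/
noncomputable def normHom : K' →*₀ K :=
  { Algebra.norm K (S := K') with map_zero' := Algebra.norm_zero }

lemma norm_inv (u : K') : Algebra.norm K u⁻¹ = (Algebra.norm K u)⁻¹ :=
  map_inv₀ (normHom (K := K) (K' := K')) u

lemma norm_zpow (u : K') (n : ℤ) : Algebra.norm K (u ^ n) = Algebra.norm K u ^ n :=
  map_zpow₀ (normHom (K := K) (K' := K')) u n

lemma deg_le_deg_mul_ord_norm (hK : IsFF k K) {Q : Place k K'} (hQ : IsOver Q P) {z : K'}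
    (hz0 : z ≠ 0) (hz : z ∈ IntP K' P) (hzQ : Q.1 z < 1) :
    (Q.deg : ℤ) ≤ (P.deg : ℤ) * P.ord (Algebra.norm K z) := by
  classical
  obtain ⟨s, g, b, hgs, hcg, hb, hiff, hlt⟩ := exists_adapted_local hK Q hQ
  have hbint : ∀ j : s, b j ∈ IntP K' P := fun j => (hiff _).2 fun i => by
    rw [b.repr_self, Finsupp.single_apply]; split_ifs <;> simp
  have h := det_le_exp (P := P) (Algebra.leftMulMatrix b z) (g.subtype (fun x => x ∈ s))
    (fun i j => by
      rw [Algebra.leftMulMatrix_eq_repr_mul]; exact (hiff _).1 (mul_mem_Loc hz (hbint j)) i)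
    (fun i hi j => by
      rw [Algebra.leftMulMatrix_eq_repr_mul]
      refine hlt _ (mul_mem_Loc hz (hbint j)) ?_ i (Finset.mem_subtype.1 hi)
      rw [map_mul]
      exact (mul_le_mul' le_rfl (mem_IntP.1 (hbint j) Q hQ)).trans_lt (by rwa [mul_one]))
  rw [← Algebra.norm_eq_matrix_det b, val_le_exp_iff _ (Algebra.norm_ne_zero_iff.2 hz0), neg_neg] at h
  have hc : (g.subtype (fun x => x ∈ s)).card = g.card := by
    rw [← Finset.card_map (Function.Embedding.subtype _), Finset.subtype_map,
      Finset.filter_true_of_mem fun x hx => hgs hx]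
  rw [hc] at h
  calc (Q.deg : ℤ) = (P.deg : ℤ) * g.card := by rw [← hcg]; push_cast; ring
    _ ≤ _ := mul_le_mul_of_nonneg_left h (by positivity)

/-- `deg P · v_P(N x) = ∑ deg Q · v_Q(x)`. -/
theorem deg_mul_ord_norm (hK : IsFF k K) (x : K') (Qs : Finset (Place k K'))
    (hQs : ∀ Q, Q ∈ Qs ↔ IsOver Q P) :
    (P.deg : ℤ) * P.ord (Algebra.norm K x) = ∑ Q ∈ Qs, (Q.deg : ℤ) * Q.ord x := by
  classical
  rcases eq_or_ne x 0 with rfl | hx
  · simp
  have hN : ∀ {y : K'}, y ≠ 0 → Algebra.norm K y ≠ 0 := fun h => Algebra.norm_ne_zero_iff.2 h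
  have hunit : ∀ u : K', u ≠ 0 → (∀ Q ∈ Qs, Q.ord u = 0) → P.ord (Algebra.norm K u) = 0 := by
    intro u hu h
    have h1 := norm_val_le hK (P := P) (z := u) (mem_IntP.2 fun Q hQ => (val_le_one_iff Q u).2 (h Q ((hQs Q).2 hQ)).ge)
    have h2 := norm_val_le hK (P := P) (z := u⁻¹) (mem_IntP.2 fun Q hQ => (val_le_one_iff Q _).2 (by
      rw [ord_inv, h Q ((hQs Q).2 hQ)]; omega))
    rw [val_le_one_iff] at h1 h2
    rw [norm_inv, ord_inv] at h2
    omega
  choose z hz using fun Q : Place k K' => approx_eq (k := k) (K := K') Qs 0 (fun R => if R = Q then -1 else 0)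
  have hz' : ∀ Q, ∀ R ∈ Qs, R.1 (z Q) = exp (if R = Q then (-1 : ℤ) else 0) := fun Q R hR => by
    simpa using hz Q R hR
  have hz0 : ∀ Q, z Q ≠ 0 := fun Q => by
    obtain ⟨R, hR⟩ := exists_over (K' := K') hK P
    exact ne_zero_of_val_eq_exp R (hz' Q R ((hQs R).2 hR))
  have hzord : ∀ Q, ∀ R ∈ Qs, R.ord (z Q) = if R = Q then 1 else 0 := fun Q R hR => by
    rw [ord_of_val_eq R (hz' Q R hR)]; split_ifs <;> simp
  -- decomposition
  have hdec : ∀ (y : K'), y ≠ 0 → ∀ s ⊆ Qs, (∀ Q ∈ Qs, Q ∉ s → Q.ord y = 0) →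
      (P.deg : ℤ) * P.ord (Algebra.norm K y) =
        ∑ Q ∈ s, Q.ord y * ((P.deg : ℤ) * P.ord (Algebra.norm K (z Q))) := by
    intro y hy s
    induction s using Finset.induction generalizing y with
    | empty =>
      intro _ h
      rw [hunit y hy (fun Q hQ => h Q hQ (Finset.notMem_empty _))]
      simp
    | @insert a s ha ih =>
      intro hsub h
      have haQ : a ∈ Qs := hsub (Finset.mem_insert_self _ _)
      set y' := y * (z a ^ a.ord y)⁻¹ with hy'
      have hp : z a ^ a.ord y ≠ 0 := zpow_ne_zero _ (hz0 a)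
      have hy'0 : y' ≠ 0 := mul_ne_zero hy (inv_ne_zero hp)
      have hord : ∀ R ∈ Qs, R.ord y' = R.ord y - a.ord y * (if R = a then 1 else 0) := fun R hR => by
        rw [hy', ord_mul R hy (inv_ne_zero hp), ord_inv, ord_zpow, hzord a R hR]; ring
      have h1 := ih y' hy'0 (fun R hR => hsub (Finset.mem_insert_of_mem hR)) fun R hR hRs => by
        rw [hord R hR]
        rcases eq_or_ne R a with rfl | hne
        · rw [if_pos rfl]; ring
        · rw [if_neg hne, h R hR (by simp [hne, hRs])]; ring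
      have h2 : P.ord (Algebra.norm K y) = P.ord (Algebra.norm K y') + a.ord y * P.ord (Algebra.norm K (z a)) := by
        rw [hy', map_mul, norm_inv, norm_zpow, ord_mul P (hN hy) (inv_ne_zero (zpow_ne_zero _ (hN (hz0 a)))),
          ord_inv, ord_zpow]
        ring
      rw [Finset.sum_insert ha, h2, mul_add, h1]
      rw [Finset.sum_congr rfl (fun R hR => by
        rw [hord R (hsub (Finset.mem_insert_of_mem hR)), if_neg (fun e => ha (by rwa [← e])), mul_zero, sub_zero])]
      ring
  obtain ⟨t, ht⟩ := exists_uniformizer P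
  have ht0 := ne_zero_of_val_eq_exp P ht
  have hT := hdec (algebraMap K K' t) (by simpa using ht0) Qs subset_rfl fun _ h h' => absurd h h'
  have hfund := (fundamental (K' := K') hK P).2 Qs hQs
  rw [Algebra.norm_algebraMap, ord_pow, ord_of_val_eq P ht] at hT
  have hle : ∀ Q ∈ Qs, (ramIdx Q P : ℤ) * Q.deg ≤
      Q.ord (algebraMap K K' t) * ((P.deg : ℤ) * P.ord (Algebra.norm K (z Q))) := fun Q hQ => by
    have hov := (hQs Q).1 hQ
    rw [IsOverWith_ord (isOverWith_ramIdx hov), ord_of_val_eq P ht, neg_neg, mul_one]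
    refine mul_le_mul_of_nonneg_left (deg_le_deg_mul_ord_norm hK hov (hz0 Q) (mem_IntP.2 fun R hR => ?_) ?_)
      (by positivity)
    · rw [hz' Q R ((hQs R).2 hR), ← exp_zero, exp_le_exp]; split_ifs <;> simp
    · rw [hz' Q Q hQ, if_pos rfl, ← exp_zero, exp_lt_exp]; norm_num
  have hsum : ∑ Q ∈ Qs, (ramIdx Q P : ℤ) * Q.deg =
      ∑ Q ∈ Qs, Q.ord (algebraMap K K' t) * ((P.deg : ℤ) * P.ord (Algebra.norm K (z Q))) := by
    rw [← hT]
    have : ((∑ Q ∈ Qs, ramIdx Q P * Q.deg : ℕ) : ℤ) = ((Module.finrank K K' * P.deg : ℕ) : ℤ) := by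
      exact_mod_cast hfund
    push_cast at this
    rw [this]; ring
  have heq := (Finset.sum_eq_sum_iff_of_le hle).1 hsum
  rw [hdec x hx Qs subset_rfl fun _ h h' => absurd h h']
  refine Finset.sum_congr rfl fun Q hQ => ?_
  have hov := (hQs Q).1 hQ
  have := heq Q hQ
  rw [IsOverWith_ord (isOverWith_ramIdx hov), ord_of_val_eq P ht, neg_neg, mul_one] at this
  rw [← mul_left_cancel₀ (by exact_mod_cast (ramIdx_pos hov).ne') this]
  ring

lemma isIntegral_iff_mem_IntP (hK : IsFF k K) [Algebra P.O K'] [IsScalarTower P.O K K'] (z : K') :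
    IsIntegral P.O z ↔ z ∈ IntP K' P := by
  classical
  constructor
  · rintro ⟨p, hp, hp0⟩
    refine mem_IntP.2 fun Q hQ => ?_
    by_contra hlt
    rw [not_le] at hlt
    rw [Polynomial.eval₂_eq_sum_range, Finset.sum_range_succ, hp.coeff_natDegree, map_one, one_mul] at hp0
    have h1 : Q.1 (∑ i ∈ Finset.range p.natDegree, algebraMap P.O K' (p.coeff i) * z ^ i) < Q.1 (z ^ p.natDegree) := by
      refine Valuation.map_sum_lt _ (by
        rw [map_pow]; exact pow_ne_zero _ (zero_lt_one.trans hlt).ne') fun i hi => ?_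
      rw [map_mul, map_pow, map_pow, IsScalarTower.algebraMap_apply P.O K K']
      refine (mul_le_mul' ((val_algebraMap_le_one_iff hQ _).2 ((mem_O P).1 (p.coeff i).2)) le_rfl).trans_lt ?_
      rw [one_mul]
      exact pow_lt_pow_right₀ hlt (Finset.mem_range.1 hi)
    have h2 := Valuation.map_add_eq_of_lt_right _ h1
    rw [hp0, map_zero] at h2
    rw [← h2] at h1
    exact absurd h1 (not_lt.2 zero_le)
  · intro hz
    obtain ⟨s, b, hb⟩ := exists_local_basis (K' := K') hK P
    let A : Subalgebra P.O K' :=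
      { carrier := {w | w ∈ IntP K' P}
        mul_mem' := fun ha hb => mul_mem_Loc ha hb
        add_mem' := fun {x y} ha hb => Submodule.add_mem (IntP K' P) ha hb
        algebraMap_mem' := fun c => mem_IntP.2 fun Q hQ => by
          rw [IsScalarTower.algebraMap_apply P.O K K']
          exact (val_algebraMap_le_one_iff hQ _).2 ((mem_O P).1 c.2) }
    refine IsIntegral.of_mem_of_fg A ?_ z hz
    refine ⟨Finset.univ.image (fun i => b i), le_antisymm (Submodule.span_le.2 ?_) fun w hw => ?_⟩
    · intro w hw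
      simp only [Finset.coe_image, Set.mem_image, Finset.mem_coe] at hw
      obtain ⟨i, -, rfl⟩ := hw
      exact (hb _).2 fun l => by rw [b.repr_self, Finsupp.single_apply]; split_ifs <;> simp
    · rw [← b.sum_repr w]
      refine Submodule.sum_mem _ fun i _ => ?_
      rw [show b.repr w i • b i = (⟨b.repr w i, (mem_O P).2 ((hb w).1 hw i)⟩ : P.O) • b i from
        algebraMap_smul K (⟨b.repr w i, (mem_O P).2 ((hb w).1 hw i)⟩ : P.O) (b i)]
      exact Submodule.smul_mem _ _ (Submodule.subset_span (by simp))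

theorem finite_integralClosure (hK : IsFF k K) [Algebra P.O K'] [IsScalarTower P.O K K'] :
    Module.Finite P.O (integralClosure P.O K') := by
  classical
  obtain ⟨s, b, hb⟩ := exists_local_basis (K' := K') hK P
  have hbi : ∀ i, IsIntegral P.O (b i) := fun i => (isIntegral_iff_mem_IntP hK _).2 <|
    (hb _).2 fun l => by rw [b.repr_self, Finsupp.single_apply]; split_ifs <;> simp
  refine ⟨⟨Finset.univ.image (fun i => (⟨b i, hbi i⟩ : integralClosure P.O K')), eq_top_iff.2 fun w _ => ?_⟩⟩
  have hw := (hb w).1 ((isIntegral_iff_mem_IntP hK _).1 w.2)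
  have e : w = ∑ i, (⟨b.repr w i, (mem_O P).2 (hw i)⟩ : P.O) • (⟨b i, hbi i⟩ : integralClosure P.O K') := by
    apply Subtype.ext
    rw [AddSubmonoidClass.coe_finsetSum]
    conv_lhs => rw [← b.sum_repr (w : K')]
    exact Finset.sum_congr rfl fun i _ =>
      algebraMap_smul K (⟨b.repr w i, (mem_O P).2 (hw i)⟩ : P.O) (b i)
  rw [e]
  exact Submodule.sum_mem _ fun i _ => Submodule.smul_mem _ _ (Submodule.subset_span (by simp))

/-- If the trace form of an integral basis has unit determinant, `P` is unramified. -/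
lemma ramIdx_eq_one_of_discr (hK : IsFF k K) {ι : Type*} [Fintype ι] [DecidableEq ι]
    (b : Module.Basis ι K K') (hb : ∀ i, b i ∈ IntP K' P)
    (hd : P.1 (Algebra.traceMatrix K b).det = 1) {Q : Place k K'} (hQ : IsOver Q P) :
    ramIdx Q P = 1 := by
  classical
  have hfin := finite_over (K' := K') hK P
  obtain ⟨z, hz⟩ := approx_eq (k := k) (K := K') hfin.toFinset 0
    (fun R => if R = Q then -1 else -(ramIdx R P : ℤ))
  have hz' : ∀ R, IsOver R P → R.1 z = exp (if R = Q then (-1 : ℤ) else -(ramIdx R P : ℤ)) := fun R hR => by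
    simpa using hz R (hfin.mem_toFinset.2 hR)
  have hzlt : ∀ R, IsOver R P → R.1 z < 1 := fun R hR => by
    rw [hz' R hR, ← exp_zero, exp_lt_exp]
    have := ramIdx_pos hR
    split_ifs <;> omega
  have hzI : z ∈ IntP K' P := mem_IntP.2 fun R hR => (hzlt R hR).le
  -- traces of elements in all primes over `P` vanish at `P`
  have htr : ∀ w ∈ IntP K' P, P.1 (Algebra.trace K K' (z * w)) < 1 := by
    intro w hw
    obtain ⟨s, c, hc⟩ := exists_local_basis (K' := K') hK P
    have hcI : ∀ j, c j ∈ IntP K' P := fun j => (hc _).2 fun l => by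
      rw [c.repr_self, Finsupp.single_apply]; split_ifs <;> simp
    set y := z * w with hy
    have hyI : y ∈ IntP K' P := mul_mem_Loc hzI hw
    set N : ℕ := ∑ R ∈ hfin.toFinset, ramIdx R P + 1
    let f : P.O →+* IsLocalRing.ResidueField P.O := IsLocalRing.residue P.O
    let M₀ : ∀ v : K', v ∈ IntP K' P → Matrix s s P.O := fun v hv i j =>
      ⟨Algebra.leftMulMatrix c v i j, (mem_O P).2 (by
        rw [Algebra.leftMulMatrix_eq_repr_mul]; exact (hc _).1 (mul_mem_Loc hv (hcI j)) i)⟩
    have hM : ∀ v hv, (M₀ v hv).map (Subring.subtype P.O.toSubring) = Algebra.leftMulMatrix c v :=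
      fun v hv => rfl
    have hpowI : y ^ N ∈ IntP K' P := mem_IntP.2 fun R hR => by
      rw [map_pow]; exact pow_le_one₀ zero_le (mem_IntP.1 hyI R hR)
    have hMp : M₀ (y ^ N) hpowI = M₀ y hyI ^ N := by
      apply Matrix.map_injective (f := Subring.subtype P.O.toSubring) Subtype.val_injective
      show (M₀ (y ^ N) hpowI).map (Subring.subtype P.O.toSubring) =
        (M₀ y hyI ^ N).map (Subring.subtype P.O.toSubring)
      rw [Matrix.map_pow, hM (y ^ N) hpowI, hM y hyI, map_pow]
    have hnil : ((M₀ y hyI).map f) ^ N = 0 := by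
      rw [← Matrix.map_pow, ← hMp]
      refine Matrix.ext fun i j => ?_
      refine (resHom_eq_zero_iff P (a := M₀ (y ^ N) hpowI i j)).2 ?_
      show P.1 (Algebra.leftMulMatrix c (y ^ N) i j) < 1
      rw [Algebra.leftMulMatrix_eq_repr_mul]
      obtain ⟨t, ht⟩ := exists_uniformizer P
      have ht0 := ne_zero_of_val_eq_exp P ht
      have hdiv : t⁻¹ • (y ^ N * c j) ∈ IntP K' P := mem_IntP.2 fun R hR => by
        rw [Algebra.smul_def, map_mul, map_mul, map_pow, (isOverWith_ramIdx hR) t⁻¹, map_inv₀, ht,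
          ← exp_neg, neg_neg, ← exp_nsmul]
        have hy1 : R.1 y ≤ exp (-1 : ℤ) := by
          have : R.1 y < 1 := by
            rw [hy, map_mul]
            exact (mul_le_mul' le_rfl (mem_IntP.1 hw R hR)).trans_lt (by rw [mul_one]; exact hzlt R hR)
          simpa using (lt_exp_iff (R.1 y) 0).1 (this.trans_eq exp_zero.symm)
        refine (mul_le_mul' le_rfl (mul_le_mul' (pow_le_pow_left₀ zero_le hy1 N)
          (mem_IntP.1 (hcI j) R hR))).trans ?_
        rw [mul_one, ← exp_nsmul, ← exp_add, ← exp_zero, exp_le_exp]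
        have : ramIdx R P ≤ N := Nat.le_add_right_of_le
          (Finset.single_le_sum (f := fun R => ramIdx R P) (fun _ _ => Nat.zero_le _) (hfin.mem_toFinset.2 hR))
        simp only [smul_neg, nsmul_eq_mul, mul_one]
        omega
      have h1 := (hc _).1 hdiv i
      rw [map_smul, Finsupp.smul_apply, smul_eq_mul, map_mul, map_inv₀, ht, ← exp_neg, neg_neg] at h1
      refine lt_of_lt_of_le ?_ le_rfl
      by_contra hge
      rw [not_lt] at hge
      have := (mul_le_mul' (le_refl (exp (1 : ℤ))) hge).trans h1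
      rw [mul_one, ← exp_zero, exp_le_exp] at this
      omega
    have htr0 := (Matrix.isNilpotent_trace_of_isNilpotent ⟨N, hnil⟩).eq_zero
    have e1 : ((M₀ y hyI).map f).trace = f (M₀ y hyI).trace :=
      (AddMonoidHom.map_trace f.toAddMonoidHom _).symm
    rw [e1] at htr0
    have h2 := (resHom_eq_zero_iff P (a := (M₀ y hyI).trace)).1 htr0
    rw [Algebra.trace_eq_matrix_trace c y]
    have e2 : (Algebra.leftMulMatrix c y).trace = ((M₀ y hyI).trace : K) := by
      rw [← hM y hyI]
      exact (AddMonoidHom.map_trace (Subring.subtype P.O.toSubring).toAddMonoidHom _).symm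
    rw [e2]
    exact h2
  -- coordinates of `z` vanish at `P`
  have hT : ∀ i j, P.1 (Algebra.traceMatrix K b i j) ≤ 1 := fun i j => by
    rw [Algebra.traceMatrix_apply, Algebra.traceForm_apply]
    exact trace_val_le hK (mul_mem_Loc (hb i) (hb j))
  have hcoord : ∀ i, P.1 (b.repr z i) < 1 := by
    set T := Algebra.traceMatrix K b
    set c : ι → K := fun i => b.repr z i
    have h1 : T.mulVec c = fun i => Algebra.trace K K' (z * b i) := by
      funext i
      conv_rhs => rw [← b.sum_repr z, Finset.sum_mul, map_sum]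
      refine Finset.sum_congr rfl fun j _ => ?_
      show Algebra.traceMatrix K b i j * c j = _
      rw [Algebra.traceMatrix_apply, Algebra.traceForm_apply, smul_mul_assoc, map_smul, smul_eq_mul,
        mul_comm (b i), mul_comm]
    have hdet : T.det ≠ 0 := fun e => by rw [e, map_zero] at hd; exact zero_ne_one hd
    have h2 : T.det • c = T.adjugate.mulVec (T.mulVec c) := by
      rw [Matrix.mulVec_mulVec, Matrix.adjugate_mul, Matrix.smul_mulVec, Matrix.one_mulVec]
    intro i
    have h3 : P.1 (T.det * c i) < 1 := by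
      rw [show T.det * c i = T.adjugate.mulVec (T.mulVec c) i from congrFun h2 i, h1]
      refine Valuation.map_sum_lt _ one_ne_zero fun j _ => ?_
      rw [map_mul]
      refine (mul_le_mul' ?_ le_rfl).trans_lt ((one_mul _).trans_lt (htr _ (hb j)))
      show P.1 (T.adjugate i j) ≤ 1
      rw [Matrix.adjugate_apply]
      refine (det_le_exp _ ∅ (fun a a' => ?_) (by simp)).trans_eq (by simp)
      rw [Matrix.updateRow_apply]
      split_ifs with h
      · rw [Pi.single_apply]; split_ifs <;> simp
      · exact hT _ _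
    rwa [map_mul, hd, one_mul] at h3
  have hzT : z ∈ TP K' P := by
    rw [← b.sum_repr z]
    exact Submodule.sum_mem _ fun i _ => smul_mem_TP (hcoord i) (hb i)
  have h5 := hzT Q hQ
  rw [hz' Q hQ, if_pos rfl, exp_le_exp] at h5
  have := ramIdx_pos hQ
  have h6 : (-1 : ℤ) ≤ -(ramIdx Q P : ℤ) := h5
  omega

theorem finite_ramified [Algebra.IsSeparable K K'] (hK : IsFF k K) :
    {Q : Place k K' | ¬ Function.Surjective (Q.1.comap (algebraMap K K'))}.Finite := by
  classical
  let b := Module.finBasis K K'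
  have hdet : (Algebra.traceMatrix K b).det ≠ 0 := by
    rw [← Algebra.discr_def]
    exact Algebra.discr_not_zero_of_basis K b
  let bad : Set (Place k K') :=
    (Function.support fun Q : Place k K' => Q.ord (algebraMap K K' (Algebra.traceMatrix K b).det)) ∪
      ⋃ i, {Q : Place k K' | 1 < Q.1 (b i)}
  have hbad : bad.Finite :=
    (finite_support_ord (isFF_ext hK) _).union (Set.finite_iUnion fun i => finite_poles (isFF_ext hK) _)
  -- places below bad places
  choose below hbelow using fun Q : Place k K' => exists_below hK Q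
  refine (((hbad.image below).biUnion fun P _ => finite_over (K' := K') hK P)).subset fun Q hQ => ?_
  obtain ⟨P, hP⟩ := exists_below hK Q
  by_contra hno
  refine hQ ?_
  have hPgood : ∀ R : Place k K', IsOver R P → R ∉ bad := fun R hR hRb => hno <| by
    refine Set.mem_biUnion (x := below R) (Set.mem_image_of_mem _ hRb) ?_
    show IsOver Q (below R)
    rw [isOver_unique (hbelow R) hR]
    exact hP
  have hd : P.1 (Algebra.traceMatrix K b).det = 1 := by
    have h1 : Q.ord (algebraMap K K' (Algebra.traceMatrix K b).det) = 0 := by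
      by_contra h
      exact hPgood Q hP (Or.inl h)
    rw [IsOverWith_ord (isOverWith_ramIdx hP)] at h1
    have := ramIdx_pos hP
    rw [val_eq_one_iff P hdet]
    exact (mul_eq_zero.1 h1).resolve_left (by omega)
  have hb : ∀ i, b i ∈ IntP K' P := fun i => mem_IntP.2 fun R hR => by
    by_contra h
    exact hPgood R hR (Or.inr (Set.mem_iUnion.2 ⟨i, not_le.1 h⟩))
  have he := ramIdx_eq_one_of_discr hK b hb hd hP
  intro y
  obtain ⟨x, hx⟩ := P.2.2 y
  refine ⟨x, ?_⟩
  show Q.1 (algebraMap K K' x) = y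
  rw [(isOverWith_ramIdx hP) x, he, pow_one, hx]

end Groth.Agent.FF
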