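import Groth.Agent.FF.LimitLin

set_option linter.style.haveILetI false
set_option linter.unusedSectionVars false

namespace Groth.Agent.FF

open FunFld WithZero

variable {k : Type*} [Field k] [IsAlgClosed k] [CharZero k]

section Backbone

variable {N : ℕ} {Z : Fin (N + 1) → Type*} [∀ i, Field (Z i)] [∀ i, Algebra k (Z i)]
  (hZ : ∀ i, IsFunctionField k (Z i)) (hrat : ∀ i, genus k (Z i) = 0)
  {d r : ℕ} {D : ∀ i, Divisor k (Z i)} {V : ∀ i, Submodule k (Z i)}
  (hg : ∀ i, IsGrd (V i) (D i) d r)
  {A B : ∀ i, Place k (Z i)}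
  (hAB : ∀ i : Fin (N + 1), 0 < (i : ℕ) → (i : ℕ) < N → A i ≠ B i)
  (hcomp : ∀ (l : Fin N) (m : ℕ), m ≤ d + 1 →
      vd (V l.castSucc) (D l.castSucc) (B l.castSucc) m +
        vd (V l.succ) (D l.succ) (A l.succ) ((d : ℤ) + 1 - m) = r + 1)
  {T : Finset (Fin (N + 1))} {Q : ∀ i, Place k (Z i)}
  (hQA : ∀ i ∈ T, 0 < (i : ℕ) → Q i ≠ A i) (hQB : ∀ i ∈ T, (i : ℕ) < N → Q i ≠ B i)
  (hcusp : ∀ i ∈ T, r ≤ vd (V i) (D i) (Q i) 2)

/-- node places of component `i`. -/
noncomputable def nodes (A B : ∀ i, Place k (Z i)) (i : Fin (N + 1)) : Finset (Place k (Z i)) := by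
  classical
  exact (if 0 < (i : ℕ) then {A i} else ∅) ∪ (if (i : ℕ) < N then {B i} else ∅)

include hZ hrat hg hAB hQA hQB hcusp in
lemma local_bound (i : Fin (N + 1)) :
    (if 0 < (i : ℕ) then weight (V i) (D i) (A i) d r else 0) +
      (if (i : ℕ) < N then weight (V i) (D i) (B i) d r else 0) +
      (if i ∈ T then (r : ℤ) else 0) ≤ ((r : ℤ) + 1) * ((d : ℤ) - r) := by
  classical
  have hp := plucker (hZ i) (hrat i) (hg i)
    (nodes A B i ∪ if i ∈ T then {Q i} else ∅)
  have hc : i ∈ T → (r : ℤ) ≤ weight (V i) (D i) (Q i) d r := fun h =>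
    le_weight_of_cusp (hZ i) (hg i) (deg_eq_one (hZ i) _) (hcusp i h)
  refine le_trans ?_ hp
  rw [Finset.sum_union, nodes, Finset.sum_union]
  · split_ifs with h1 h2 h3 h4 h5 h6 h7 <;>
      simp only [Finset.sum_singleton, Finset.sum_empty, le_refl, add_zero, zero_add] <;>
      first
        | exact le_rfl
        | exact hc (by assumption)
        | exact add_le_add le_rfl (hc (by assumption))
        | (have := hc (by assumption); linarith)
  · split_ifs with h1 h2 <;> simp only [Finset.disjoint_singleton, Finset.disjoint_empty_left,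
      Finset.disjoint_empty_right, ne_eq]
    exact hAB i h1 h2
  · rw [Finset.disjoint_left]
    intro x hx hx'
    simp only [nodes, Finset.mem_union] at hx
    split_ifs at hx' with h
    · rw [Finset.mem_singleton] at hx'
      subst hx'
      rcases hx with hx | hx <;> split_ifs at hx with h'
      · exact hQA i h h' (Finset.mem_singleton.1 hx)
      · exact absurd hx (Finset.notMem_empty _)
      · exact hQB i h h' (Finset.mem_singleton.1 hx)
      · exact absurd hx (Finset.notMem_empty _)
    · exact absurd hx' (Finset.notMem_empty _)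

include hcomp in
lemma node_eq (l : Fin N) :
    weight (V l.castSucc) (D l.castSucc) (B l.castSucc) d r +
      weight (V l.succ) (D l.succ) (A l.succ) d r = ((r : ℤ) + 1) * ((d : ℤ) - r) :=
  weight_compat (hcomp l)

omit [IsAlgClosed k] [CharZero k] in
lemma card_filter_lt_succ (T : Finset (Fin (N + 1))) (i : Fin (N + 1)) :
    ((T.filter fun j : Fin (N + 1) => (j : ℕ) < (i : ℕ) + 1).card : ℤ) =
      (T.filter fun j : Fin (N + 1) => (j : ℕ) < i).card + (if i ∈ T then 1 else 0) := by
  classical
  have : (T.filter fun j : Fin (N + 1) => (j : ℕ) < (i : ℕ) + 1) =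
      (T.filter fun j : Fin (N + 1) => (j : ℕ) < i) ∪ (T.filter fun j => j = i) := by
    ext j; simp only [Finset.mem_filter, Finset.mem_union, Fin.ext_iff]; grind
  rw [this, Finset.card_union_of_disjoint (Finset.disjoint_filter.2 fun j _ h e => by subst e; omega),
    Finset.filter_eq']
  split_ifs <;> simp

omit [IsAlgClosed k] [CharZero k] in
lemma card_filter_ge (T : Finset (Fin (N + 1))) (i : Fin (N + 1)) :
    ((T.filter fun j : Fin (N + 1) => (i : ℕ) ≤ (j : ℕ)).card : ℤ) =
      (T.filter fun j : Fin (N + 1) => (i : ℕ) < j).card + (if i ∈ T then 1 else 0) := by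
  classical
  have : (T.filter fun j : Fin (N + 1) => (i : ℕ) ≤ (j : ℕ)) =
      (T.filter fun j : Fin (N + 1) => (i : ℕ) < j) ∪ (T.filter fun j => j = i) := by
    ext j; simp only [Finset.mem_filter, Finset.mem_union, Fin.ext_iff]; grind
  rw [this, Finset.card_union_of_disjoint (Finset.disjoint_filter.2 fun j _ h e => by subst e; omega),
    Finset.filter_eq']
  split_ifs <;> simp

include hZ hrat hg hAB hcomp hQA hQB hcusp

lemma left_bound : ∀ (m : ℕ) (i : Fin (N + 1)), (i : ℕ) = m + 1 →
    (r : ℤ) * (T.filter fun j : Fin (N + 1) => (j : ℕ) < i).card ≤ weight (V i) (D i) (A i) d r := by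
  intro m
  induction m with
  | zero =>
    intro i hi
    have hl := node_eq hcomp (⟨0, by omega⟩ : Fin N)
    have e : (⟨0, by omega⟩ : Fin N).succ = i := Fin.ext (by simp [hi])
    rw [e] at hl
    have hb := local_bound hZ hrat hg hAB hQA hQB hcusp (Fin.castSucc (⟨0, by omega⟩ : Fin N))
    have hcard := card_filter_lt_succ T (Fin.castSucc (⟨0, by omega⟩ : Fin N))
    simp only [Fin.val_castSucc, lt_self_iff_false, if_false, show 0 < N by omega, if_true,
      zero_add] at hb hcard
    simp only [Nat.not_lt_zero, Finset.filter_false, Finset.card_empty, Nat.cast_zero,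
      zero_add] at hcard
    rw [hi, zero_add, hcard]
    have : (if Fin.castSucc (⟨0, by omega⟩ : Fin N) ∈ T then (r : ℤ) else 0) =
        (r : ℤ) * (if Fin.castSucc (⟨0, by omega⟩ : Fin N) ∈ T then 1 else 0) := by
      split_ifs <;> simp
    linarith
  | succ m ih =>
    intro i hi
    have hl := node_eq hcomp (⟨m + 1, by omega⟩ : Fin N)
    have e : (⟨m + 1, by omega⟩ : Fin N).succ = i := Fin.ext (by simp [hi])
    rw [e] at hl
    set p := Fin.castSucc (⟨m + 1, by omega⟩ : Fin N) with hp
    have hb := local_bound hZ hrat hg hAB hQA hQB hcusp p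
    have hpv : (p : ℕ) = m + 1 := rfl
    have hcard := card_filter_lt_succ T p
    have ih' := ih p hpv
    rw [if_pos (by omega), if_pos (by omega : (p : ℕ) < N)] at hb
    rw [show (i : ℕ) = (p : ℕ) + 1 by omega, hcard, mul_add]
    have : (if p ∈ T then (r : ℤ) else 0) = (r : ℤ) * (if p ∈ T then 1 else 0) := by
      split_ifs <;> simp
    linarith

lemma right_bound : ∀ (m : ℕ) (i : Fin (N + 1)), (i : ℕ) + m + 1 = N →
    (r : ℤ) * (T.filter fun j : Fin (N + 1) => (i : ℕ) < j).card ≤ weight (V i) (D i) (B i) d r := by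
  intro m
  induction m with
  | zero =>
    intro i hi
    have hl := node_eq hcomp (⟨i, by omega⟩ : Fin N)
    have e : Fin.castSucc (⟨i, by omega⟩ : Fin N) = i := Fin.ext (by simp)
    rw [e] at hl
    set p := Fin.succ (⟨i, by omega⟩ : Fin N) with hp
    have hpv : (p : ℕ) = i + 1 := rfl
    have hb := local_bound hZ hrat hg hAB hQA hQB hcusp p
    rw [if_pos (by omega), if_neg (by omega : ¬ (p : ℕ) < N)] at hb
    have hcard := card_filter_ge T p
    have hemp : (T.filter fun j : Fin (N + 1) => (p : ℕ) < j) = ∅ :=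
      Finset.filter_eq_empty_iff.2 fun j _ => by have := j.isLt; omega
    rw [hemp, Finset.card_empty, Nat.cast_zero, zero_add] at hcard
    have hset : (T.filter fun j : Fin (N + 1) => (i : ℕ) < j) = T.filter fun j : Fin (N + 1) => (p : ℕ) ≤ j :=
      Finset.filter_congr fun j _ => by omega
    rw [hset, hcard]
    have : (if p ∈ T then (r : ℤ) else 0) = (r : ℤ) * (if p ∈ T then 1 else 0) := by
      split_ifs <;> simp
    linarith
  | succ m ih =>
    intro i hi
    have hl := node_eq hcomp (⟨i, by omega⟩ : Fin N)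
    have e : Fin.castSucc (⟨i, by omega⟩ : Fin N) = i := Fin.ext (by simp)
    rw [e] at hl
    set p := Fin.succ (⟨i, by omega⟩ : Fin N) with hp
    have hpv : (p : ℕ) = i + 1 := rfl
    have ih' := ih p (by omega)
    have hb := local_bound hZ hrat hg hAB hQA hQB hcusp p
    rw [if_pos (by omega), if_pos (by omega : (p : ℕ) < N)] at hb
    have hcard := card_filter_ge T p
    have hset : (T.filter fun j : Fin (N + 1) => (i : ℕ) < j) = T.filter fun j : Fin (N + 1) => (p : ℕ) ≤ j :=
      Finset.filter_congr fun j _ => by omega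
    rw [hset, hcard, mul_add]
    have : (if p ∈ T then (r : ℤ) else 0) = (r : ℤ) * (if p ∈ T then 1 else 0) := by
      split_ifs <;> simp
    linarith

/-- Both sides: the node weights at `i` dominate the tails outside `i`. -/
lemma nodes_ge (i : Fin (N + 1)) :
    (r : ℤ) * (T.erase i).card ≤ (if 0 < (i : ℕ) then weight (V i) (D i) (A i) d r else 0) +
      (if (i : ℕ) < N then weight (V i) (D i) (B i) d r else 0) := by
  classical
  have hcard : (T.erase i).card = (T.filter fun j : Fin (N + 1) => (j : ℕ) < i).card +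
      (T.filter fun j : Fin (N + 1) => (i : ℕ) < j).card := by
    rw [← Finset.card_union_of_disjoint (Finset.disjoint_filter.2 fun j _ h => by omega)]
    congr 1; ext j
    simp only [Finset.mem_erase, Finset.mem_union, Finset.mem_filter, ne_eq, Fin.ext_iff]
    grind
  rw [hcard, Nat.cast_add, mul_add]
  refine add_le_add ?_ ?_
  · split_ifs with h
    · exact left_bound hZ hrat hg hAB hcomp hQA hQB hcusp ((i : ℕ) - 1) i (by omega)
    · rw [Finset.filter_eq_empty_iff.2 fun j _ => by omega]; simp
  · split_ifs with h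
    · exact right_bound hZ hrat hg hAB hcomp hQA hQB hcusp (N - i - 1) i (by omega)
    · rw [Finset.filter_eq_empty_iff.2 fun j _ => by have := j.isLt; omega]; simp

/-- the total number of tails is bounded. -/
lemma tails_le : (r : ℤ) * T.card ≤ ((r : ℤ) + 1) * ((d : ℤ) - r) := by
  classical
  have hb := local_bound hZ hrat hg hAB hQA hQB hcusp (0 : Fin (N + 1))
  have hn := nodes_ge hZ hrat hg hAB hcomp hQA hQB hcusp (0 : Fin (N + 1))
  by_cases h : (0 : Fin (N + 1)) ∈ T
  · rw [if_pos h] at hb
    rw [← Finset.card_erase_add_one h, Nat.cast_add, Nat.cast_one, mul_add, mul_one]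
    linarith
  · rw [if_neg h] at hb
    rw [Finset.erase_eq_of_notMem h] at hn
    linarith

lemma inner_tail_le (i : Fin (N + 1)) (hiT : i ∈ T) (hi0 : 0 < (i : ℕ)) (hiN : (i : ℕ) < N) :
    weight (V i) (D i) (Q i) d r + (r : ℤ) * (T.erase i).card ≤ ((r : ℤ) + 1) * ((d : ℤ) - r) := by
  classical
  have hn := nodes_ge hZ hrat hg hAB hcomp hQA hQB hcusp i
  rw [if_pos hi0, if_pos hiN] at hn
  have hp := plucker (hZ i) (hrat i) (hg i) {Q i, A i, B i}
  rw [Finset.sum_insert (by simp [hQA i hiT hi0, hQB i hiT hiN]),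
    Finset.sum_pair (hAB i hi0 hiN)] at hp
  linarith

lemma other_place_le (i : Fin (N + 1)) (Q' : Place k (Z i)) (hA : 0 < (i : ℕ) → Q' ≠ A i)
    (hB : (i : ℕ) < N → Q' ≠ B i) (hQ : i ∈ T → Q' ≠ Q i) :
    weight (V i) (D i) Q' d r + (r : ℤ) * T.card ≤ ((r : ℤ) + 1) * ((d : ℤ) - r) := by
  classical
  have hn := nodes_ge hZ hrat hg hAB hcomp hQA hQB hcusp i
  have hp := plucker (hZ i) (hrat i) (hg i)
    (insert Q' (nodes A B i ∪ if i ∈ T then {Q i} else ∅))
  have hnot : Q' ∉ nodes A B i ∪ if i ∈ T then {Q i} else ∅ := by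
    intro hx
    simp only [nodes, Finset.mem_union] at hx
    rcases hx with (hx | hx) | hx <;> split_ifs at hx with h
    · exact hA h (Finset.mem_singleton.1 hx)
    · exact absurd hx (Finset.notMem_empty _)
    · exact hB h (Finset.mem_singleton.1 hx)
    · exact absurd hx (Finset.notMem_empty _)
    · exact hQ h (Finset.mem_singleton.1 hx)
    · exact absurd hx (Finset.notMem_empty _)
  rw [Finset.sum_insert hnot] at hp
  have hlb : (if 0 < (i : ℕ) then weight (V i) (D i) (A i) d r else 0) +
      (if (i : ℕ) < N then weight (V i) (D i) (B i) d r else 0) + (if i ∈ T then (r : ℤ) else 0) ≤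
      ∑ x ∈ nodes A B i ∪ (if i ∈ T then {Q i} else ∅), weight (V i) (D i) x d r := by
    have hd1 : Disjoint (nodes A B i) (if i ∈ T then {Q i} else ∅) := by
      rw [Finset.disjoint_left]
      intro x hx hx'
      simp only [nodes, Finset.mem_union] at hx
      split_ifs at hx' with h
      · rw [Finset.mem_singleton] at hx'
        subst hx'
        rcases hx with hx | hx <;> split_ifs at hx with h'
        · exact hQA i h h' (Finset.mem_singleton.1 hx)
        · exact absurd hx (Finset.notMem_empty _)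
        · exact hQB i h h' (Finset.mem_singleton.1 hx)
        · exact absurd hx (Finset.notMem_empty _)
      · exact absurd hx' (Finset.notMem_empty _)
    have hd2 : Disjoint (if 0 < (i : ℕ) then ({A i} : Finset (Place k (Z i))) else ∅)
        (if (i : ℕ) < N then {B i} else ∅) := by
      split_ifs with h1 h2 <;> simp only [Finset.disjoint_singleton, Finset.disjoint_empty_left,
        Finset.disjoint_empty_right, ne_eq]
      exact hAB i h1 h2
    rw [Finset.sum_union hd1, nodes, Finset.sum_union hd2]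
    refine add_le_add (le_of_eq ?_) ?_
    · split_ifs <;> simp
    · split_ifs with h
      · rw [Finset.sum_singleton]
        exact le_weight_of_cusp (hZ i) (hg i) (deg_eq_one (hZ i) _) (hcusp i h)
      · simp
  by_cases h : i ∈ T
  · rw [if_pos h] at hlb
    rw [← Finset.card_erase_add_one h, Nat.cast_add, Nat.cast_one, mul_add, mul_one]
    linarith
  · rw [if_neg h] at hlb
    rw [Finset.erase_eq_of_notMem h] at hn
    linarith

end Backbone

section Chain

variable {n : ℕ} {U : Fin (n + 1) → Type*} [∀ l, Field (U l)] [∀ l, Algebra k (U l)]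
  (hU : ∀ l, IsFunctionField k (U l))
  (hrat : ∀ l : Fin (n + 1), 0 < (l : ℕ) → (l : ℕ) < n → genus k (U l) = 0)
  {d r : ℕ} {D : ∀ l, Divisor k (U l)} {V : ∀ l, Submodule k (U l)}
  (hg : ∀ l, IsGrd (V l) (D l) d r)
  {A B : ∀ l, Place k (U l)}
  (hAB : ∀ l : Fin (n + 1), 0 < (l : ℕ) → (l : ℕ) < n → A l ≠ B l)
  (hcomp : ∀ (l : Fin n) (m : ℕ), m ≤ d + 1 →
      vd (V l.castSucc) (D l.castSucc) (B l.castSucc) m +
        vd (V l.succ) (D l.succ) (A l.succ) ((d : ℤ) + 1 - m) = r + 1)

include hU hg hAB hcomp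

omit [CharZero k] in
lemma chain_lower {c : ℕ}
    (hc : weight (V 0) (D 0) (B 0) d r + c ≤ ((r : ℤ) + 1) * ((d : ℤ) - r)) :
    ∀ (m : ℕ) (l : Fin (n + 1)), (l : ℕ) = m + 1 → (c : ℤ) ≤ weight (V l) (D l) (A l) d r := by
  intro m
  induction m with
  | zero =>
    intro l hl
    have h := weight_compat (hcomp (⟨0, by omega⟩ : Fin n))
    rw [show (⟨0, by omega⟩ : Fin n).succ = l from Fin.ext (by simp [hl]),
      show (⟨0, by omega⟩ : Fin n).castSucc = 0 from Fin.ext (by simp)] at h
    linarith
  | succ m ih =>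
    intro l hl
    have h := weight_compat (hcomp (⟨m + 1, by omega⟩ : Fin n))
    rw [show (⟨m + 1, by omega⟩ : Fin n).succ = l from Fin.ext (by simp [hl])] at h
    set p := Fin.castSucc (⟨m + 1, by omega⟩ : Fin n)
    have hpv : (p : ℕ) = m + 1 := rfl
    have ih' := ih p hpv
    have hw := weight_add_le (hU p) (hg p) (deg_eq_one (hU p) _) (deg_eq_one (hU p) _)
      (hAB p (by omega) (by omega))
    linarith

omit [CharZero k] in
lemma chain_cusp (hpos : 0 < genus k (U (Fin.last n))) :
    ∀ (m : ℕ) (l : Fin (n + 1)), (l : ℕ) + m + 1 = n → r ≤ vd (V l) (D l) (B l) 2 := by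
  have step : ∀ l : Fin n, vd (V l.succ) (D l.succ) (A l.succ) ((d : ℤ) - 1) ≤ 1 →
      r ≤ vd (V l.castSucc) (D l.castSucc) (B l.castSucc) 2 := by
    intro l hl
    have hrd := r_le_d (hU l.succ) (hg l.succ) (deg_eq_one (hU l.succ) (A l.succ))
    rcases Nat.eq_zero_or_pos r with hr | hr
    · omega
    have h := hcomp l 2 (by omega)
    simp only [Nat.cast_ofNat] at h
    rw [show (d : ℤ) + 1 - 2 = (d : ℤ) - 1 by ring] at h
    omega
  intro m
  induction m with
  | zero =>
    intro l hl
    have h := step (⟨l, by omega⟩ : Fin n)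
    have e : (⟨l, by omega⟩ : Fin n).castSucc = l := Fin.ext (by simp)
    rw [e] at h
    refine h ?_
    rw [show (⟨l, by omega⟩ : Fin n).succ = Fin.last n from Fin.ext (by simp; omega)]
    exact vd_pred_le_one (hU _) hpos (hg _) (deg_eq_one (hU _) _)
  | succ m ih =>
    intro l hl
    have h := step (⟨l, by omega⟩ : Fin n)
    have e : (⟨l, by omega⟩ : Fin n).castSucc = l := Fin.ext (by simp)
    rw [e] at h
    refine h ?_
    set p := Fin.succ (⟨l, by omega⟩ : Fin n)
    have hpv : (p : ℕ) = l + 1 := rfl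
    have ih' := ih p (by omega)
    rcases Nat.eq_zero_or_pos r with hr | hr
    · exact (vd_le (hU p) (hg p) _ _).trans (by omega)
    have hrd := r_le_d (hU p) (hg p) (deg_eq_one (hU p) (A p))
    have h2 := vd_add_vd_le (hU p) (hg p) (deg_eq_one (hU p) (B p)) (deg_eq_one (hU p) (A p))
      (hAB p (by omega) (by omega)).symm (n := 2) (by omega)
    simp only [Nat.cast_ofNat] at h2
    rw [show (d : ℤ) + 1 - 2 = (d : ℤ) - 1 by ring] at h2
    omega

end Chain

end Groth.Agent.FF
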