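import Groth.Prelude.Def_W4bk4goldsch45
import Groth.Agent.FF.Ext

/-! The divisor of a projective map. -/

set_option autoImplicit false
set_option linter.style.haveILetI false
set_option linter.unusedSectionVars false

open FunFld WithZero IntermediateField

namespace Groth.Agent.FF

variable {k K : Type*} [Field k] [Field K] [Algebra k K]

/-- least order of the entries -/
noncomputable def minOrd {ι : Type*} [Fintype ι] [Nonempty ι] (φ : ι → K) (P : Place k K) : ℤ :=
  Finset.univ.inf' Finset.univ_nonempty (fun i => P.ord (φ i))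

lemma minOrd_le {ι : Type*} [Fintype ι] [Nonempty ι] (φ : ι → K) (P : Place k K) (i : ι) :
    minOrd φ P ≤ P.ord (φ i) :=
  Finset.inf'_le _ (Finset.mem_univ i)

lemma exists_minOrd {ι : Type*} [Fintype ι] [Nonempty ι] (φ : ι → K) (P : Place k K) :
    ∃ i, P.ord (φ i) = minOrd φ P := by
  obtain ⟨i, -, hi⟩ := Finset.exists_mem_eq_inf' (Finset.univ_nonempty (α := ι)) (fun i => P.ord (φ i))
  exact ⟨i, hi.symm⟩

lemma finite_support_minOrd (hK : IsFF k K) {ι : Type*} [Fintype ι] [Nonempty ι] (φ : ι → K) :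
    (Function.support fun P : Place k K => -minOrd φ P).Finite := by
  classical
  refine (Set.finite_iUnion (fun i => finite_support_ord hK (φ i))).subset ?_
  intro P hP
  obtain ⟨i, hi⟩ := exists_minOrd φ P
  exact Set.mem_iUnion.2 ⟨i, by
    simp only [Function.mem_support] at hP ⊢
    omega⟩

lemma mapDiv_apply (hK : IsFF k K) {ι : Type*} [Fintype ι] [Nonempty ι] (φ : ι → K) (P : Place k K) :
    mapDiv k φ P = -minOrd φ P := by
  unfold mapDiv
  rw [dif_pos]
  · rfl
  · exact finite_support_minOrd hK φ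

lemma ne_zero_of_li {ι : Type*} {φ : ι → K} (hφ : LinearIndependent k φ) (i : ι) : φ i ≠ 0 :=
  hφ.ne_zero i

lemma mapDiv_algebraMap {K' : Type*} [Field K'] [Algebra k K'] [Algebra K K'] [IsScalarTower k K K']
    [FiniteDimensional K K'] (hK : IsFunctionField k K) {ι : Type*} [Fintype ι] [Nonempty ι]
    (φ : ι → K) :
    mapDiv k (fun i => algebraMap K K' (φ i)) = conorm K' (mapDiv k φ) := by
  ext Q
  obtain ⟨P, hP⟩ := exists_below hK.1 Q
  rw [conorm_apply hK.1 _ hP, mapDiv_apply (isFF_ext hK.1), mapDiv_apply hK.1, mul_neg]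
  congr 1
  have he := isOverWith_ramIdx hP
  apply le_antisymm
  · obtain ⟨i, hi⟩ := exists_minOrd φ P
    rw [← hi, ← IsOverWith_ord he]
    exact minOrd_le (fun i => algebraMap K K' (φ i)) Q i
  · obtain ⟨i, hi⟩ := exists_minOrd (fun i => algebraMap K K' (φ i)) Q
    rw [← hi, IsOverWith_ord he]
    exact mul_le_mul_of_nonneg_left (minOrd_le φ P i) (by positivity)

lemma deg_mapDiv_comp {L : Type*} [Field L] [Algebra k L] (hL : IsFunctionField k L)
    (hK : IsFF k K) (τ : L →ₐ[k] K) {ι : Type*} [Fintype ι] [Nonempty ι] (φ : ι → L) :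
    (mapDiv k (τ ∘ φ)).deg = Module.finrank τ.fieldRange K * (mapDiv k φ).deg := by
  letI : Algebra L K := τ.toRingHom.toAlgebra
  haveI : IsScalarTower k L K := IsScalarTower.of_algebraMap_eq fun c => (τ.commutes c).symm
  obtain ⟨x, hx, hfin⟩ := hL.1
  have hfr : Module.finrank L K = Module.finrank τ.fieldRange K := by
    refine Algebra.finrank_eq_of_equiv_equiv (AlgEquiv.ofInjectiveField τ).toRingEquiv
      (RingEquiv.refl K) ?_
    ext a
    rfl
  haveI : FiniteDimensional L K := by
    refine Module.finite_of_finrank_pos ?_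
    have h1 : FiniteDimensional k⟮τ x⟯ K :=
      finite_adjoin hK fun h => hx ((isAlgebraic_algHom_iff τ τ.toRingHom.injective).1 h)
    have hmap : (k⟮x⟯).map τ = k⟮τ x⟯ := by
      rw [IntermediateField.adjoin_map, Set.image_singleton]
    have h2 : Module.finrank k⟮x⟯ K = Module.finrank k⟮τ x⟯ K := by
      rw [← hmap]
      refine Algebra.finrank_eq_of_equiv_equiv ((k⟮x⟯).equivMap τ).toRingEquiv (RingEquiv.refl K) ?_
      ext a
      rfl
    have h3 := Module.finrank_mul_finrank k⟮x⟯ L K
    rw [h2] at h3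
    exact Nat.pos_of_mul_pos_left (h3 ▸ Module.finrank_pos)
  rw [← hfr, ← deg_conorm (K' := K) hL, ← mapDiv_algebraMap hL]
  rfl

end Groth.Agent.FF
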