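import Groth.Agent.FF.Norm
import Groth.Agent.FF.Approx
import Mathlib.RingTheory.Valuation.Extension
import Mathlib.RingTheory.Unramified.Field
import Mathlib.LinearAlgebra.TensorProduct.Basis

/-! Scalar extensions of function fields: `O_P[k']` against the integral closure of `O_P`. -/

set_option autoImplicit false
set_option linter.style.haveILetI false
set_option linter.unusedSectionVars false

open FunFld WithZero
open scoped TensorProduct

namespace Groth.Agent.FF

variable {k k' K K' : Type*} [Field k] [Field k'] [Field K] [Field K']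
  [Algebra k k'] [FiniteDimensional k k'] [Algebra k K] [Algebra K K'] [Algebra k' K'] [Algebra k K']
  [IsScalarTower k k' K'] [IsScalarTower k K K']

/-- `K' = k' ⊗ K` -/
abbrev IsBC (k k' K K' : Type*) [Field k] [Field k'] [Field K] [Field K']
    [Algebra k k'] [Algebra k K] [Algebra K K'] [Algebra k' K'] [Algebra k K']
    [IsScalarTower k k' K'] [IsScalarTower k K K'] : Prop :=
  Function.Bijective (Algebra.TensorProduct.productMap
    (IsScalarTower.toAlgHom k k' K') (IsScalarTower.toAlgHom k K K'))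

lemma exists_sum_tmul {M : Type*} [AddCommGroup M] [Module k M] (β : k' ⊗[k] M) :
    ∃ a : Fin (Module.finrank k k') → M, β = ∑ j, Module.finBasis k k' j ⊗ₜ[k] a j := by
  induction β using TensorProduct.induction_on with
  | zero => exact ⟨0, by simp⟩
  | add x y hx hy =>
    obtain ⟨a, rfl⟩ := hx
    obtain ⟨b, rfl⟩ := hy
    exact ⟨a + b, by simp [TensorProduct.tmul_add, Finset.sum_add_distrib]⟩
  | tmul c m =>
    refine ⟨fun j => (Module.finBasis k k').repr c j • m, ?_⟩
    conv_lhs => rw [← (Module.finBasis k k').sum_repr c]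
    rw [TensorProduct.sum_tmul]
    exact Finset.sum_congr rfl fun j _ => TensorProduct.smul_tmul _ _ _

variable (k') in
lemma productMap_sum (t : Fin (Module.finrank k k') → K) :
    Algebra.TensorProduct.productMap (IsScalarTower.toAlgHom k k' K') (IsScalarTower.toAlgHom k K K')
      (∑ j, Module.finBasis k k' j ⊗ₜ[k] t j) =
      ∑ j, t j • algebraMap k' K' (Module.finBasis k k' j) := by
  rw [map_sum]
  exact Finset.sum_congr rfl fun j _ => by simp [Algebra.smul_def, mul_comm]

lemma bc_linearIndependent (h : IsBC k k' K K') :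
    LinearIndependent K fun j => algebraMap k' K' (Module.finBasis k k' j) := by
  rw [Fintype.linearIndependent_iff]
  intro t ht j
  rw [← productMap_sum k' t, ← map_zero (Algebra.TensorProduct.productMap
    (IsScalarTower.toAlgHom k k' K') (IsScalarTower.toAlgHom k K K'))] at ht
  have h0 := congrArg (fun z => TensorProduct.equivFinsuppOfBasisLeft (Module.finBasis k k') z j) (h.1 ht)
  simpa [TensorProduct.equivFinsuppOfBasisLeft_apply_tmul_apply, Finsupp.single_apply] using h0

lemma bc_span (h : IsBC k k' K K') :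
    ⊤ ≤ Submodule.span K (Set.range fun j => algebraMap k' K' (Module.finBasis k k' j)) := fun z _ => by
  obtain ⟨β, rfl⟩ := h.2 z
  obtain ⟨t, rfl⟩ := exists_sum_tmul β
  rw [productMap_sum k' t]
  exact Submodule.sum_mem _ fun j _ => Submodule.smul_mem _ _ (Submodule.subset_span ⟨j, rfl⟩)

/-- the basis of `K'/K` coming from a basis of `k'/k` -/
noncomputable def bcBasis (h : IsBC k k' K K') : Module.Basis (Fin (Module.finrank k k')) K K' :=
  Module.Basis.mk (bc_linearIndependent h) (bc_span h)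

lemma bcBasis_apply (h : IsBC k k' K K') (j : Fin (Module.finrank k k')) :
    bcBasis h j = algebraMap k' K' (Module.finBasis k k' j) := Module.Basis.mk_apply _ _ j

lemma bc_repr (h : IsBC k k' K K') (t : Fin (Module.finrank k k') → K) (j : Fin (Module.finrank k k')) :
    (bcBasis h).repr (∑ i, t i • algebraMap k' K' (Module.finBasis k k' i)) j = t j := by
  simp_rw [← bcBasis_apply h, Module.Basis.repr_sum_self]

lemma bc_finite (h : IsBC k k' K K') : FiniteDimensional K K' := Module.Finite.of_basis (bcBasis h)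

lemma bc_finrank (h : IsBC k k' K K') : Module.finrank K K' = Module.finrank k k' := by
  rw [Module.finrank_eq_card_basis (bcBasis h), Fintype.card_fin]

section

variable (P : Place k K)

/-- `O_P → K` over `k` -/
noncomputable def inclO : P.O →ₐ[k] K := { P.O.subtype with commutes' := fun _ => rfl }

@[simp] lemma inclO_apply (a : P.O) : inclO P a = (a : K) := rfl

variable (k') in
/-- `k' ⊗ F_P` -/
abbrev ResT : Type _ :=
  @TensorProduct k _ k' (IsLocalRing.ResidueField P.O) _ _ Algebra.toModule Algebra.toModule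

variable (k' K') in
/-- `k' ⊗ O_P → K'` -/
noncomputable def thO : k' ⊗[k] P.O →ₐ[k] K' :=
  Algebra.TensorProduct.productMap (IsScalarTower.toAlgHom k k' K')
    ((IsScalarTower.toAlgHom k K K').comp (inclO P))

variable (k' K') in
/-- `O_P[k']` -/
noncomputable def BO : Subalgebra k K' := (thO k' K' P).range

lemma thO_sum (a : Fin (Module.finrank k k') → P.O) :
    thO k' K' P (∑ j, Module.finBasis k k' j ⊗ₜ[k] a j) =
      ∑ j, (a j : K) • algebraMap k' K' (Module.finBasis k k' j) := by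
  rw [map_sum]
  exact Finset.sum_congr rfl fun j _ => by simp [thO, Algebra.smul_def, mul_comm]

lemma thO_injective (h : IsBC k k' K K') : Function.Injective (thO k' K' P) := by
  refine (injective_iff_map_eq_zero (thO k' K' P)).2 fun β hβ => ?_
  obtain ⟨a, rfl⟩ := exists_sum_tmul β
  rw [thO_sum] at hβ
  refine Finset.sum_eq_zero fun j _ => ?_
  have h1 := bc_repr h (fun j => (a j : K)) j
  rw [hβ, map_zero, Finsupp.zero_apply] at h1
  rw [show a j = 0 from Subtype.ext h1.symm, TensorProduct.tmul_zero]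

lemma mem_BO_iff (h : IsBC k k' K K') {z : K'} :
    z ∈ BO k' K' P ↔ ∀ j, P.1 ((bcBasis h).repr z j) ≤ 1 := by
  constructor
  · rintro ⟨β, rfl⟩ j
    obtain ⟨a, rfl⟩ := exists_sum_tmul β
    show P.1 ((bcBasis h).repr (thO k' K' P _) j) ≤ 1
    rw [thO_sum, bc_repr h]
    exact (mem_O P).1 (a j).2
  · intro hz
    refine ⟨∑ j, Module.finBasis k k' j ⊗ₜ[k] (⟨_, (mem_O P).2 (hz j)⟩ : P.O), ?_⟩
    show thO k' K' P _ = z
    rw [thO_sum]
    conv_rhs => rw [← (bcBasis h).sum_repr z]
    simp_rw [bcBasis_apply h]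

lemma algebraMap_mem_BO {a : K} (ha : P.1 a ≤ 1) : algebraMap K K' a ∈ BO k' K' P :=
  ⟨1 ⊗ₜ[k] (⟨a, (mem_O P).2 ha⟩ : P.O), by simp [thO]⟩

lemma const_mem_BO (c : k') : algebraMap k' K' c ∈ BO k' K' P :=
  ⟨c ⊗ₜ[k] (1 : P.O), by simp [thO]⟩

lemma BO_toSubring : (BO k' K' P).toSubring =
    Subring.closure ((algebraMap K K' '' (P.O : Set K)) ∪ Set.range (algebraMap k' K')) := by
  refine le_antisymm ?_ (Subring.closure_le.2 ?_)
  · rintro _ ⟨β, rfl⟩
    show thO k' K' P β ∈ _
    obtain ⟨a, rfl⟩ := exists_sum_tmul β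
    rw [thO_sum]
    refine Subring.sum_mem _ fun j _ => ?_
    rw [Algebra.smul_def]
    exact Subring.mul_mem _ (Subring.subset_closure (Or.inl ⟨_, (a j).2, rfl⟩))
      (Subring.subset_closure (Or.inr ⟨_, rfl⟩))
  · rintro _ (⟨a, ha, rfl⟩ | ⟨c, rfl⟩)
    · exact algebraMap_mem_BO P ((mem_O P).1 ha)
    · exact const_mem_BO P c

/-- `adjoin R k'` for any description `R` of `O_P` -/
lemma adjoin_toSubring {R : Type*} [CommRing R] [Algebra R K']
    (hR : Set.range (algebraMap R K') = algebraMap K K' '' (P.O : Set K)) :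
    (Algebra.adjoin R (Set.range (algebraMap k' K'))).toSubring = (BO k' K' P).toSubring := by
  rw [Algebra.adjoin_eq_ring_closure, BO_toSubring, hR]

lemma range_algebraMap_O [Algebra P.O K'] [IsScalarTower P.O K K'] :
    Set.range (algebraMap P.O K') = algebraMap K K' '' (P.O : Set K) := by
  ext z
  constructor
  · rintro ⟨a, rfl⟩
    exact ⟨a, a.2, (IsScalarTower.algebraMap_apply P.O K K' a).symm⟩
  · rintro ⟨a, ha, rfl⟩
    exact ⟨⟨a, ha⟩, IsScalarTower.algebraMap_apply P.O K K' ⟨a, ha⟩⟩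

lemma val_const_k' (Q : Place k K') {c : k'} (hc : c ≠ 0) : Q.1 (algebraMap k' K' c) = 1 :=
  val_eq_one_of_isAlgebraic Q.1 (fun _ hd => val_const Q hd)
    ((isAlgebraic_algebraMap_iff (algebraMap k' K').injective).2 (Algebra.IsAlgebraic.isAlgebraic c))
    ((map_ne_zero _).2 hc)

lemma val_const_k'_le (Q : Place k K') (c : k') : Q.1 (algebraMap k' K' c) ≤ 1 := by
  rcases eq_or_ne c 0 with rfl | hc
  · rw [map_zero, map_zero]; exact zero_le
  · exact (val_const_k' Q hc).le

variable {P}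

lemma mem_IntP_of_mem_BO (h : IsBC k k' K K') {z : K'} (hz : z ∈ BO k' K' P) : z ∈ IntP K' P := by
  refine mem_IntP.2 fun Q hQ => ?_
  rw [← (bcBasis h).sum_repr z]
  refine Valuation.map_sum_le _ fun j _ => ?_
  rw [Algebra.smul_def, map_mul, bcBasis_apply h]
  exact mul_le_one' ((val_algebraMap_le_one_iff hQ _).2 ((mem_BO_iff P h).1 hz j)) (val_const_k'_le Q _)

/-- the conductor: a power of a uniformizer sends the integral closure into `O_P[k']` -/
lemma exists_conductor (h : IsBC k k' K K') (hK : IsFF k K) {t : K} (ht : P.1 t = exp (-1 : ℤ)) :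
    ∃ M : ℕ, ∀ z ∈ IntP K' P, t ^ M • z ∈ BO k' K' P := by
  classical
  haveI := bc_finite h
  obtain ⟨s, b, hb⟩ := exists_local_basis (K' := K') hK P
  obtain ⟨M, hM⟩ : ∃ M : ℕ, ∀ (i : s) (j : Fin (Module.finrank k k')),
      P.1 ((bcBasis h).repr (b i) j) ≤ exp (M : ℤ) := by
    refine ⟨Finset.univ.sup fun q : s × Fin (Module.finrank k k') =>
      (-P.ord ((bcBasis h).repr (b q.1) q.2)).toNat, fun i j => ?_⟩
    rcases eq_or_ne ((bcBasis h).repr (b i) j) 0 with h0 | h0
    · rw [h0, map_zero]; exact zero_le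
    rw [val_eq_exp_ord P h0, exp_le_exp]
    have := Finset.le_sup (f := fun q : s × Fin (Module.finrank k k') =>
      (-P.ord ((bcBasis h).repr (b q.1) q.2)).toNat) (Finset.mem_univ (i, j))
    have h2 : ((-P.ord ((bcBasis h).repr (b i) j)).toNat : ℤ) ≤
        ((Finset.univ.sup fun q : s × Fin (Module.finrank k k') =>
          (-P.ord ((bcBasis h).repr (b q.1) q.2)).toNat : ℕ) : ℤ) := by exact_mod_cast this
    omega
  refine ⟨M, fun z hz => (mem_BO_iff P h).2 fun j => ?_⟩
  rw [map_smul, Finsupp.smul_apply, smul_eq_mul, ← b.sum_repr z, map_sum, Finsupp.coe_finsetSum,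
    Finset.sum_apply, map_mul, map_pow, ht]
  refine (mul_le_mul' le_rfl (Valuation.map_sum_le P.1 (g := exp (M : ℤ)) fun i _ => ?_)).trans_eq ?_
  · rw [map_smul, Finsupp.smul_apply, smul_eq_mul, map_mul]
    exact (mul_le_mul' ((hb z).1 hz i) (hM i j)).trans_eq (one_mul _)
  · rw [← exp_nsmul, ← exp_add, ← exp_zero]
    simp

lemma mem_pi_BO_iff (h : IsBC k k' K K') {t : K} (ht : P.1 t = exp (-1 : ℤ)) {z : K'} :
    (∃ w ∈ BO k' K' P, z = t • w) ↔ ∀ j, P.1 ((bcBasis h).repr z j) ≤ exp (-1 : ℤ) := by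
  have ht0 : t ≠ 0 := ne_zero_of_val_eq_exp P ht
  constructor
  · rintro ⟨w, hw, rfl⟩ j
    rw [map_smul, Finsupp.smul_apply, smul_eq_mul, map_mul, ht]
    exact mul_le_of_le_one_right' ((mem_BO_iff P h).1 hw j)
  · intro hz
    refine ⟨t⁻¹ • z, (mem_BO_iff P h).2 fun j => ?_, by rw [smul_smul, mul_inv_cancel₀ ht0, one_smul]⟩
    rw [map_smul, Finsupp.smul_apply, smul_eq_mul, map_mul, map_inv₀, ht, ← exp_neg]
    refine (mul_le_mul' le_rfl (hz j)).trans_eq ?_
    rw [← exp_add, ← exp_zero]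
    simp

/-- with reduced fibre, `π O_P[k']` is radical -/
lemma mem_pi_of_pow (h : IsBC k k' K K') [IsReduced (ResT k' P)]
    {t : K} (ht : P.1 t = exp (-1 : ℤ)) {b : K'} (hb : b ∈ BO k' K' P) {N : ℕ}
    (hN : ∀ j, P.1 ((bcBasis h).repr (b ^ N) j) ≤ exp (-1 : ℤ)) :
    ∀ j, P.1 ((bcBasis h).repr b j) ≤ exp (-1 : ℤ) := by
  classical
  let res : P.O →ₐ[k] IsLocalRing.ResidueField P.O :=
    { resHom P with commutes' := fun _ => rfl }
  let Ψ : k' ⊗[k] P.O →ₐ[k] ResT k' P :=
    Algebra.TensorProduct.map (AlgHom.id k k') res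
  have hΨ : ∀ β : k' ⊗[k] P.O, Ψ β = 0 ↔ ∀ j, P.1 ((bcBasis h).repr (thO k' K' P β) j) ≤ exp (-1 : ℤ) := by
    intro β
    obtain ⟨a, rfl⟩ := exists_sum_tmul β
    rw [map_sum, thO_sum]
    simp only [bc_repr h]
    have hlt : ∀ a : P.O, resHom P a = 0 ↔ P.1 (a : K) ≤ exp (-1 : ℤ) := fun a => by
      refine (resHom_eq_zero_iff P).trans (Iff.trans ?_ ((lt_exp_iff (P.1 (a : K)) 0).trans (by rw [zero_sub])))
      exact ⟨fun h => h.trans_eq exp_zero.symm, fun h => h.trans_eq exp_zero⟩
    simp only [Ψ, Algebra.TensorProduct.map_tmul, AlgHom.id_apply]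
    constructor
    · intro h0 j
      have h1 := congrArg (fun z => TensorProduct.equivFinsuppOfBasisLeft (Module.finBasis k k') z j) h0
      refine (hlt (a j)).1 ?_
      simp [TensorProduct.equivFinsuppOfBasisLeft_apply_tmul_apply, Finsupp.single_apply, res] at h1
      exact (one_smul k (resHom P (a j))).symm.trans h1
    · intro h0
      refine Finset.sum_eq_zero fun j _ => ?_
      rw [show res (a j) = 0 from (hlt (a j)).2 (h0 j), TensorProduct.tmul_zero]
  obtain ⟨β, rfl⟩ := hb
  refine (hΨ β).1 (IsReduced.eq_zero _ ⟨N, ?_⟩)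
  rw [← map_pow, hΨ, map_pow]
  exact hN

/-- reduced fibre: `O_P[k']` is integrally closed -/
theorem mem_BO_of_mem_IntP (h : IsBC k k' K K') (hK : IsFF k K)
    [IsReduced (ResT k' P)] {z : K'} (hz : z ∈ IntP K' P) : z ∈ BO k' K' P := by
  obtain ⟨t, ht⟩ := exists_uniformizer P
  obtain ⟨M, hM⟩ := exists_conductor h hK ht
  have key : ∀ m, t ^ m • z ∈ BO k' K' P → z ∈ BO k' K' P := by
    intro m
    induction m with
    | zero => intro h0; rwa [pow_zero, one_smul] at h0
    | succ m ih =>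
      intro hm
      -- a high power of `t^(m+1) z` is divisible by `t`
      have hN : ∀ j, P.1 ((bcBasis h).repr ((t ^ (m + 1) • z) ^ (M + 1)) j) ≤ exp (-1 : ℤ) := by
        refine (mem_pi_BO_iff h ht).1 ⟨t ^ (m * (M + 1)) • (t ^ M • z ^ (M + 1)), ?_, ?_⟩
        · rw [Algebra.smul_def]
          refine Subalgebra.mul_mem _ (algebraMap_mem_BO P ?_) (hM _ ?_)
          · rw [map_pow, ht, ← exp_nsmul, ← exp_zero, exp_le_exp]
            simp
          · refine mem_IntP.2 fun Q hQ => ?_
            rw [map_pow]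
            exact pow_le_one' (mem_IntP.1 hz Q hQ) _
        · rw [smul_pow, smul_smul, smul_smul, ← pow_mul]
          congr 1
          ring
      have h1 := mem_pi_of_pow h ht hm hN
      obtain ⟨w, hw, hwz⟩ := (mem_pi_BO_iff h ht).2 h1
      refine ih ?_
      have ht0 : t ≠ 0 := ne_zero_of_val_eq_exp P ht
      have : t ^ m • z = w := by
        rw [pow_succ', ← smul_smul] at hwz
        exact smul_right_injective K' ht0 hwz
      rw [this]; exact hw
  exact key M (hM z hz)

/-- reduced fibre: unramified -/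
theorem isOverWith_one_of_isReduced (h : IsBC k k' K K') (hK : IsFF k K)
    [IsReduced (ResT k' P)] {Q : Place k K'} (hQ : IsOver Q P) : IsOverWith Q P 1 := by
  classical
  haveI := bc_finite h
  obtain ⟨t, ht⟩ := exists_uniformizer P
  obtain ⟨w, hw⟩ := approx_eq (finite_over (K' := K') hK P).toFinset (fun _ => (0 : K')) (fun _ => -1)
  have hwQ : ∀ R : Place k K', IsOver R P → R.1 w = exp (-1 : ℤ) := fun R hR => by
    have := hw R ((finite_over (K' := K') hK P).mem_toFinset.2 hR)
    rwa [sub_zero] at this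
  have hwI : w ∈ IntP K' P := mem_IntP.2 fun R hR => by
    rw [hwQ R hR, ← exp_zero, exp_le_exp]; norm_num
  set E := (finite_over (K' := K') hK P).toFinset.sup fun R => ramIdx R P with hE
  have hwE : t⁻¹ • w ^ E ∈ IntP K' P := mem_IntP.2 fun R hR => by
    rw [Algebra.smul_def, map_mul, (isOverWith_ramIdx hR) t⁻¹, map_inv₀, ht, map_pow, hwQ R hR, ← exp_neg,
      ← exp_nsmul, ← exp_nsmul, ← exp_add, ← exp_zero, exp_le_exp]
    have hle : ramIdx R P ≤ E :=
      Finset.le_sup (f := fun R => ramIdx R P) ((finite_over (K' := K') hK P).mem_toFinset.2 hR)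
    simp only [nsmul_eq_mul]
    push_cast
    omega
  have ht0 : t ≠ 0 := ne_zero_of_val_eq_exp P ht
  have hN : ∀ j, P.1 ((bcBasis h).repr (w ^ E) j) ≤ exp (-1 : ℤ) :=
    (mem_pi_BO_iff h ht).1 ⟨_, mem_BO_of_mem_IntP h hK hwE, by rw [smul_smul, mul_inv_cancel₀ ht0, one_smul]⟩
  obtain ⟨u, hu, hwu⟩ := (mem_pi_BO_iff h ht).2 (mem_pi_of_pow h ht (mem_BO_of_mem_IntP h hK hwI) hN)
  have hQw := hwQ Q hQ
  rw [hwu, Algebra.smul_def, map_mul, (isOverWith_ramIdx hQ) t, ht, ← exp_nsmul] at hQw
  have hle : exp (-1 : ℤ) ≤ exp ((ramIdx Q P) • (-1 : ℤ)) := by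
    rw [← hQw]
    exact mul_le_of_le_one_right' (mem_IntP.1 (mem_IntP_of_mem_BO h hu) Q hQ)
  rw [exp_le_exp, nsmul_eq_mul] at hle
  have he : ramIdx Q P = 1 := by
    have := ramIdx_pos hQ
    omega
  exact he ▸ isOverWith_ramIdx hQ

/-- nonsingular places: residue fields are generated by `k'` -/
theorem exists_BO_residue (h : IsBC k k' K K') (hK : IsFF k K)
    (hns : ∀ z ∈ IntP K' P, z ∈ BO k' K' P) {Q : Place k K'} (hQ : IsOver Q P) {a : K'} (ha : Q.1 a ≤ 1) :
    ∃ z ∈ BO k' K' P, Q.1 (z - a) < 1 := by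
  classical
  haveI := bc_finite h
  obtain ⟨z, hz⟩ := approx (finite_over (K' := K') hK P).toFinset
    (fun R => if R = Q then a else 0) (fun R => if R = Q then -1 else 0)
  refine ⟨z, hns z (mem_IntP.2 fun R hR => ?_), ?_⟩
  · have h1 := hz R ((finite_over (K' := K') hK P).mem_toFinset.2 hR)
    by_cases hRQ : R = Q
    · subst hRQ
      rw [if_pos rfl, if_pos rfl] at h1
      rw [show z = (z - a) + a by ring]
      exact (R.1.map_add _ _).trans (max_le (h1.trans ((exp_le_exp.2 (by norm_num)).trans_eq exp_zero)) ha)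
    · rwa [if_neg hRQ, if_neg hRQ, sub_zero, exp_zero] at h1
  · have h1 := hz Q ((finite_over (K' := K') hK P).mem_toFinset.2 hQ)
    rw [if_pos rfl, if_pos rfl] at h1
    exact h1.trans_lt ((exp_lt_exp.2 (by norm_num)).trans_eq exp_zero)

end

end Groth.Agent.FF
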