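import Groth.Agent.FF.Nonsing
import Groth.Agent.FF.Exist
import Mathlib.RingTheory.LocalRing.ResidueField.Basic
import Mathlib.RingTheory.Unramified.Field
import Mathlib.FieldTheory.PurelyInseparable.Basic

/-! Nonsingular places under scalar extensions. -/

set_option autoImplicit false
set_option linter.style.haveILetI false
set_option linter.unusedSectionVars false

open FunFld WithZero
open scoped TensorProduct

namespace Groth.Agent.FF

variable {k k' K K' : Type*} [Field k] [Field k'] [Field K] [Field K']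
  [Algebra k k'] [FiniteDimensional k k'] [Algebra k K] [Algebra K K'] [Algebra k' K'] [Algebra k K']
  [IsScalarTower k k' K'] [IsScalarTower k K K'] {P : Place k K}

lemma isReduced_ResT_of_sep_res (hK : IsFF k K) [Algebra.IsSeparable k (IsLocalRing.ResidueField P.O)] :
    IsReduced (ResT k' P) := by
  haveI : @Module.Finite k (IsLocalRing.ResidueField P.O) _ _ Algebra.toModule :=
    finiteDimensional_residueField hK P
  haveI : Algebra.FormallyUnramified k (IsLocalRing.ResidueField P.O) :=
    Algebra.FormallyUnramified.of_isSeparable k _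
  haveI : Module.Finite k' (ResT k' P) := Module.Finite.base_change k k' _
  exact Algebra.FormallyUnramified.isReduced_of_field k' (ResT k' P)

lemma isReduced_ResT_of_sep_const [Algebra.IsSeparable k k'] :
    IsReduced (ResT k' P) := by
  haveI : Algebra.FormallyUnramified k k' := Algebra.FormallyUnramified.of_isSeparable k _
  let F := IsLocalRing.ResidueField P.O
  haveI : IsReduced (@TensorProduct k _ F k' _ _ Algebra.toModule Algebra.toModule) :=
    Algebra.FormallyUnramified.isReduced_of_field F _
  exact isReduced_of_injective (Algebra.TensorProduct.comm k k' F) (AlgEquiv.injective _)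

lemma isIntegral_of_range_le {A B L : Type*} [CommRing A] [CommRing B] [Field L] [Algebra A L] [Algebra B L] {z : L}
    (hAB : Set.range (algebraMap A L) ⊆ Set.range (algebraMap B L)) (hz : IsIntegral A z) : IsIntegral B z := by
  obtain ⟨p, hp, hp0⟩ := hz
  have hl : p.map (algebraMap A L) ∈ Polynomial.lifts (algebraMap B L) := by
    rw [Polynomial.lifts_iff_coeff_lifts]
    intro n
    rw [Polynomial.coeff_map]
    exact hAB ⟨_, rfl⟩
  obtain ⟨q, hq, -, hqm⟩ := Polynomial.lifts_and_degree_eq_and_monic hl (hp.map _)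
  refine ⟨q, hqm, ?_⟩
  rw [Polynomial.eval₂_eq_eval_map, hq, ← Polynomial.eval₂_eq_eval_map]
  exact hp0

/-- integrality over a subring with image `O_P` -/
lemma isIntegral_iff_mem_IntP' (h : IsBC k k' K K') (hK : IsFF k K) {R : Type*} [CommRing R] [Algebra R K']
    (hR : Set.range (algebraMap R K') = algebraMap K K' '' (P.O : Set K)) (z : K') :
    IsIntegral R z ↔ z ∈ IntP K' P := by
  haveI := bc_finite h
  letI : Algebra P.O K' := ((algebraMap K K').comp P.O.subtype).toAlgebra
  haveI : IsScalarTower P.O K K' := IsScalarTower.of_algebraMap_eq fun _ => rfl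
  rw [← isIntegral_iff_mem_IntP hK z]
  have hR' : Set.range (algebraMap R K') = Set.range (algebraMap P.O K') := by
    rw [hR, range_algebraMap_O]
  exact ⟨fun hz => isIntegral_of_range_le hR'.le hz, fun hz => isIntegral_of_range_le hR'.ge hz⟩

/-- the form of nonsingularity in the statements -/
lemma integralClosure_eq_adjoin_iff (h : IsBC k k' K K') (hK : IsFF k K) {R : Type*} [CommRing R] [Algebra R K']
    (hR : Set.range (algebraMap R K') = algebraMap K K' '' (P.O : Set K)) :
    integralClosure R K' = Algebra.adjoin R (Set.range (algebraMap k' K')) ↔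
      ∀ z ∈ IntP K' P, z ∈ BO k' K' P := by
  have hmem : ∀ z, z ∈ Algebra.adjoin R (Set.range (algebraMap k' K')) ↔ z ∈ BO k' K' P := fun z => by
    rw [← Subalgebra.mem_toSubring, adjoin_toSubring P hR, Subalgebra.mem_toSubring]
  constructor
  · intro he z hz
    rw [← hmem, ← he]
    exact (isIntegral_iff_mem_IntP' h hK hR z).2 hz
  · intro hns
    ext z
    rw [hmem]
    exact ⟨fun hz => hns z ((isIntegral_iff_mem_IntP' h hK hR z).1 hz),
      fun hz => (isIntegral_iff_mem_IntP' h hK hR z).2 (mem_IntP_of_mem_BO h hz)⟩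

/-- finite codimension and conductor of `O_P[k']` in the integral closure -/
theorem finite_index_conductor (h : IsBC k k' K K') (hK : IsFF k K) :
    (∃ V : Submodule k K', FiniteDimensional k V ∧ ∀ r ∈ IntP K' P, ∃ s ∈ BO k' K' P, r - s ∈ V) ∧
    (∃ c ∈ IntP K' P, c ≠ 0 ∧ ∀ r ∈ IntP K' P, c * r ∈ BO k' K' P) := by
  classical
  obtain ⟨t, ht⟩ := exists_uniformizer P
  obtain ⟨M, hM⟩ := exists_conductor h hK ht
  have ht0 : t ≠ 0 := ne_zero_of_val_eq_exp P ht
  refine ⟨?_, algebraMap K K' (t ^ M), ?_, (map_ne_zero _).2 (pow_ne_zero _ ht0), fun r hr => by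
    rw [← Algebra.smul_def]; exact hM r hr⟩
  · haveI : FiniteDimensional k (IsLocalRing.ResidueField P.O) := finiteDimensional_residueField hK P
    let bF := Module.finBasis k (IsLocalRing.ResidueField P.O)
    choose e he using fun i => resHom_surjective P (bF i)
    set V : Submodule k K' := Submodule.span k (Set.range fun q :
        Fin (Module.finrank k k') × Fin M × Fin (Module.finrank k (IsLocalRing.ResidueField P.O)) =>
      ((t⁻¹) ^ ((q.2.1 : ℕ) + 1) * (e q.2.2 : K)) • bcBasis h q.1)
    refine ⟨V, FiniteDimensional.span_of_finite k (Set.finite_range _), ?_⟩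
    suffices key : ∀ (n : ℕ), n ≤ M → ∀ (j : Fin (Module.finrank k k')) (a : K), P.1 a ≤ exp (n : ℤ) →
        ∃ b : K, P.1 b ≤ 1 ∧ (a - b) • bcBasis h j ∈ V by
      intro r hr
      have h1 : ∀ j, P.1 ((bcBasis h).repr r j) ≤ exp (M : ℤ) := fun j => by
        have := (mem_BO_iff P h).1 (hM r hr) j
        rw [map_smul, Finsupp.smul_apply, smul_eq_mul, map_mul, map_pow, ht, ← exp_nsmul] at this
        have h2 := mul_le_mul' (le_refl (exp (M : ℤ))) this
        rw [← mul_assoc, ← exp_add, mul_one] at h2
        simpa using h2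
      choose b hb hbV using fun j => key M le_rfl j _ (h1 j)
      refine ⟨∑ j, b j • bcBasis h j, (mem_BO_iff P h).2 fun j => by
        rw [Module.Basis.repr_sum_self]; exact hb j, ?_⟩
      conv => arg 2; arg 1; rw [← (bcBasis h).sum_repr r]
      rw [← Finset.sum_sub_distrib]
      refine Submodule.sum_mem _ fun j _ => ?_
      rw [← sub_smul]
      exact hbV j
    intro n
    induction n with
    | zero => exact fun _ j a ha => ⟨a, by simpa using ha, by simp⟩
    | succ n ih =>
      intro hn j a ha
      have hat : P.1 (a * t ^ (n + 1)) ≤ 1 := by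
        rw [map_mul, map_pow, ht, ← exp_nsmul]
        refine (mul_le_mul' ha le_rfl).trans_eq ?_
        rw [← exp_add, ← exp_zero]
        congr 1
        push_cast [nsmul_eq_mul]
        ring
      set c := bF.repr (resHom P ⟨_, (mem_O P).2 hat⟩)
      set w : K := ∑ i, c i • (e i : K)
      have hw : P.1 (a * t ^ (n + 1) - w) < 1 := by
        have h0 : resHom P ((⟨_, (mem_O P).2 hat⟩ : P.O) - ∑ i, algebraMap k P.O (c i) * e i) = 0 := by
          rw [map_sub, map_sum, sub_eq_zero]
          refine (bF.sum_repr _).symm.trans (Finset.sum_congr rfl fun i _ => ?_)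
          rw [map_mul (resHom P), he i]
          exact Algebra.smul_def (c i) (bF i)
        have := (resHom_eq_zero_iff P).1 h0
        have he2 : (((⟨_, (mem_O P).2 hat⟩ : P.O) - ∑ i, algebraMap k P.O (c i) * e i : P.O) : K) =
            a * t ^ (n + 1) - w := by
          push_cast
          simp only [w, Algebra.smul_def]
          rfl
        rwa [he2] at this
      have ha' : P.1 (a - w * (t⁻¹) ^ (n + 1)) ≤ exp (n : ℤ) := by
        have h3 : a - w * (t⁻¹) ^ (n + 1) = (a * t ^ (n + 1) - w) * (t⁻¹) ^ (n + 1) := by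
          rw [sub_mul, inv_pow, mul_assoc, mul_inv_cancel₀ (pow_ne_zero _ ht0), mul_one]
        rw [h3, map_mul, map_pow, map_inv₀, ht, ← exp_neg, ← exp_nsmul]
        refine (mul_le_mul' ((lt_exp_iff _ 0).1 (hw.trans_eq exp_zero.symm)) le_rfl).trans_eq ?_
        rw [← exp_add]
        congr 1
        push_cast [nsmul_eq_mul]
        ring
      obtain ⟨b, hb, hbV⟩ := ih (by omega) j _ ha'
      refine ⟨b, hb, ?_⟩
      rw [show a - b = (a - w * (t⁻¹) ^ (n + 1) - b) + w * (t⁻¹) ^ (n + 1) by ring, add_smul]
      refine add_mem hbV ?_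
      rw [show w * (t⁻¹) ^ (n + 1) = ∑ i, c i • ((t⁻¹) ^ (n + 1) * (e i : K)) by
        simp only [w, Finset.sum_mul]
        exact Finset.sum_congr rfl fun i _ => by rw [smul_mul_assoc, mul_comm], Finset.sum_smul]
      refine Submodule.sum_mem _ fun i _ => ?_
      rw [smul_assoc]
      exact Submodule.smul_mem _ _ (Submodule.subset_span ⟨(j, ⟨n, by omega⟩, i), rfl⟩)
  · refine mem_IntP_of_mem_BO h (algebraMap_mem_BO P ?_)
    rw [map_pow, ht, ← exp_nsmul, ← exp_zero, exp_le_exp]
    simp

/-- `F_Q = k' F_P` at nonsingular places -/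
theorem residue_adjoin_eq_top (h : IsBC k k' K K') (hK : IsFF k K)
    (hns : ∀ z ∈ IntP K' P, z ∈ BO k' K' P) {Q : Place k K'} (hQ : IsOver Q P) [P.1.HasExtension Q.1]
    (hk' : ∀ c : k', Q.1 (algebraMap k' K' c) ≤ 1) :
    Algebra.adjoin (IsLocalRing.ResidueField P.O)
      (Set.range fun c : k' => IsLocalRing.residue Q.O ⟨algebraMap k' K' c, hk' c⟩) = ⊤ := by
  rw [eq_top_iff]
  intro r _
  obtain ⟨a, rfl⟩ := IsLocalRing.residue_surjective r
  obtain ⟨z, hz, hlt⟩ := exists_BO_residue h hK hns hQ ((mem_O Q).1 a.2)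
  obtain ⟨β, rfl⟩ := hz
  obtain ⟨u, rfl⟩ := exists_sum_tmul β
  have hb : ∀ j, Q.1 (algebraMap K K' (u j : K)) ≤ 1 := fun j =>
    (val_algebraMap_le_one_iff hQ _).2 ((mem_O P).1 (u j).2)
  let A : Q.O := ∑ j, (⟨algebraMap K K' (u j : K), (mem_O Q).2 (hb j)⟩ : Q.O) *
    ⟨algebraMap k' K' (Module.finBasis k k' j), (mem_O Q).2 (hk' _)⟩
  have hA : (A : K') = thO k' K' P (∑ j, Module.finBasis k k' j ⊗ₜ[k] u j) := by
    rw [thO_sum]
    simp only [A, AddSubmonoidClass.coe_finsetSum, MulMemClass.coe_mul, Algebra.smul_def]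
  have hr : IsLocalRing.residue Q.O a = IsLocalRing.residue Q.O A := by
    symm
    rw [← sub_eq_zero, ← map_sub]
    refine (resHom_eq_zero_iff Q).2 ?_
    show Q.1 ((A : K') - (a : K')) < 1
    rw [hA]
    exact hlt
  rw [hr, map_sum]
  refine Subalgebra.sum_mem _ fun j _ => ?_
  rw [map_mul]
  refine Subalgebra.mul_mem _ ?_ (Algebra.subset_adjoin ⟨_, rfl⟩)
  have : IsLocalRing.residue Q.O (⟨algebraMap K K' (u j : K), (mem_O Q).2 (hb j)⟩ : Q.O) =
      algebraMap (IsLocalRing.ResidueField P.O) (IsLocalRing.ResidueField Q.O) (IsLocalRing.residue P.O (u j)) := by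
    exact (Valuation.HasExtension.algebraMap_residue_eq_residue_algebraMap (vK := P.1) (vL := Q.1) (u j)).symm
  rw [this]
  exact Subalgebra.algebraMap_mem _ _

/-- `Q` over `P` from an extension of valuation rings -/
lemma isOver_of_hasExtension (h : IsBC k k' K K') (hK : IsFF k K) (Q : Place k K') [P.1.HasExtension Q.1] :
    IsOver Q P := by
  haveI := bc_finite h
  obtain ⟨P', hP'⟩ := exists_below hK Q
  obtain rfl : P = P' := ext_of_O fun x hx =>
    (val_algebraMap_le_one_iff hP' x).1 ((Valuation.HasExtension.val_map_le_one_iff P.1 Q.1 x).2 hx)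
  exact hP'

/-- same sign of two places over `P` on `k'_E · K` -/
lemma sign_iff_of_isField (hK : IsFF k K) (E : IntermediateField k k')
    (hE : IsField (ResT E P)) {Q R : Place k K'} (hQ : IsOver Q P) (hR : IsOver R P) (t : Fin (Module.finrank k E) → K) :
    Q.1 (∑ j, t j • algebraMap k' K' (Module.finBasis k E j)) ≤ 1 ↔
      R.1 (∑ j, t j • algebraMap k' K' (Module.finBasis k E j)) ≤ 1 := by
  classical
  by_cases h0 : ∀ j, t j = 0
  · simp [h0]
  push Not at h0
  obtain ⟨j0, hj0⟩ := h0
  obtain ⟨jm, -, hjm⟩ := Finset.exists_max_image Finset.univ (fun j => P.1 (t j)) ⟨j0, Finset.mem_univ _⟩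
  have hm0 : t jm ≠ 0 := fun h => by
    have := hjm j0 (Finset.mem_univ _)
    rw [h, map_zero] at this
    exact hj0 ((map_eq_zero P.1).1 (le_antisymm this zero_le))
  set s := t jm
  have hu : ∀ j, P.1 (t j / s) ≤ 1 := fun j => div_val_le hm0 (hjm j (Finset.mem_univ _))
  let u : Fin (Module.finrank k E) → P.O := fun j => ⟨t j / s, (mem_O P).2 (hu j)⟩
  have hunit : ∀ S : Place k K', IsOver S P →
      S.1 (∑ j, (u j : K) • algebraMap k' K' (Module.finBasis k E j)) = 1 := by
    intro S hS
    have hc : ∀ c : E, S.1 (algebraMap k' K' c) ≤ 1 := fun c => val_const_k'_le S _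
    have hb : ∀ a : P.O, S.1 (algebraMap K K' (a : K)) ≤ 1 := fun a => (val_algebraMap_le_one_iff hS _).2 ((mem_O P).1 a.2)
    let gE : E →+* S.O := ((algebraMap k' K').comp (algebraMap E k')).codRestrict S.O fun c => (mem_O S).2 (hc c)
    let ιE : E →ₐ[k] IsLocalRing.ResidueField S.O :=
      { (IsLocalRing.residue S.O).comp gE with
        commutes' := fun c => congrArg (IsLocalRing.residue S.O) (Subtype.ext (by
          show algebraMap k' K' (algebraMap E k' (algebraMap k E c)) = algebraMap k K' c
          rw [← IsScalarTower.algebraMap_apply k E k', ← IsScalarTower.algebraMap_apply k k' K'])) }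
    let g0 : P.O →+* S.O := ((algebraMap K K').comp P.O.subtype).codRestrict S.O fun a => (mem_O S).2 (hb a)
    let g : P.O →ₐ[k] IsLocalRing.ResidueField S.O :=
      { (IsLocalRing.residue S.O).comp g0 with
        commutes' := fun c => congrArg (IsLocalRing.residue S.O) (Subtype.ext
          (IsScalarTower.algebraMap_apply k K K' c).symm) }
    let g' : IsLocalRing.ResidueField P.O →ₐ[k] IsLocalRing.ResidueField S.O :=
      Ideal.Quotient.liftₐ _ g fun a ha => (IsLocalRing.residue_eq_zero_iff _).2
        ((mem_maximalIdeal S).2 ((val_algebraMap_lt_one_iff hS _).2 ((mem_maximalIdeal P).1 ha)))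
    letI : Field (ResT E P) := hE.toField
    let χ : ResT E P →ₐ[k] IsLocalRing.ResidueField S.O :=
      Algebra.TensorProduct.productMap ιE g'
    have hne : (∑ j, Module.finBasis k E j ⊗ₜ[k] resHom P (u j) : ResT E P) ≠ 0 := by
      intro h0
      have h1 := congrArg (fun z => TensorProduct.equivFinsuppOfBasisLeft (Module.finBasis k E) z jm) h0
      simp [Finsupp.single_apply] at h1
      have h2 : resHom P (u jm) = 0 := (one_smul k (resHom P (u jm))).symm.trans h1
      have h3 := (resHom_eq_zero_iff P).1 h2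
      rw [show (u jm : K) = 1 from div_self hm0, map_one] at h3
      exact lt_irrefl _ h3
    have hχ : χ (∑ j, Module.finBasis k E j ⊗ₜ[k] resHom P (u j)) ≠ 0 := fun h =>
      hne (χ.toRingHom.injective (h.trans (map_zero χ).symm))
    let A : S.O := ∑ j, g0 (u j) * gE (Module.finBasis k E j)
    have hA : (A : K') = ∑ j, (u j : K) • algebraMap k' K' (Module.finBasis k E j) := by
      simp only [A, AddSubmonoidClass.coe_finsetSum, MulMemClass.coe_mul, Algebra.smul_def]
      rfl
    have hres : resHom S A = χ (∑ j, Module.finBasis k E j ⊗ₜ[k] resHom P (u j)) := by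
      simp only [A, map_sum, map_mul]
      refine Finset.sum_congr rfl fun j _ => ?_
      show _ = Algebra.TensorProduct.productMap ιE g' (_ ⊗ₜ[k] _)
      rw [Algebra.TensorProduct.productMap_apply_tmul, mul_comm]
      rfl
    rw [← hA]
    refine le_antisymm ((mem_O S).1 A.2) (not_lt.1 fun hlt => hχ ?_)
    rw [← hres]
    exact (resHom_eq_zero_iff S).2 hlt
  have hsum : ∑ j, t j • algebraMap k' K' (Module.finBasis k E j) =
      s • ∑ j, (u j : K) • algebraMap k' K' (Module.finBasis k E j) := by
    rw [Finset.smul_sum]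
    refine Finset.sum_congr rfl fun j _ => ?_
    rw [smul_smul]
    congr 1
    exact (mul_div_cancel₀ _ hm0).symm
  rw [hsum, Algebra.smul_def, map_mul, map_mul, hunit Q hQ, hunit R hR, mul_one, mul_one,
    val_algebraMap_le_one_iff hQ, val_algebraMap_le_one_iff hR]

/-- a purely inseparable situation: only one place above `P` -/
theorem existsUnique_over (h : IsBC k k' K K') (hK : IsFF k K) (E : IntermediateField k k') (hE : IsField (ResT E P))
    (hpow : ∀ c : k', ∃ n : ℕ, ∀ m, n ≤ m → c ^ ringExpChar k ^ m ∈ E) :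
    ∃! Q : Place k K', IsOver Q P := by
  classical
  haveI := bc_finite h
  obtain ⟨Q, hQ⟩ := exists_over (K' := K') hK P
  refine ⟨Q, hQ, fun R hR => ?_⟩
  haveI : ExpChar k (ringExpChar k) := inferInstance
  set p := ringExpChar k
  haveI : ExpChar K' p := expChar_of_injective_algebraMap (algebraMap k K').injective p
  have hp : 0 < p := expChar_pos k p
  choose n hn using hpow
  set N := Finset.univ.sup fun j => n (Module.finBasis k k' j)
  refine ext_of_O fun z hz => ?_
  have hz' : z ^ p ^ N ∈ Submodule.span K (Set.range fun j => algebraMap k' K' (Module.finBasis k E j : k')) := by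
    rw [← (bcBasis h).sum_repr z, sum_pow_char_pow]
    refine Submodule.sum_mem _ fun j _ => ?_
    rw [Algebra.smul_def, mul_pow, bcBasis_apply h, ← map_pow (algebraMap k' K'), ← map_pow (algebraMap K K'),
      ← Algebra.smul_def]
    refine Submodule.smul_mem _ _ ?_
    obtain ⟨c, hc⟩ : ∃ c : E, (c : k') = Module.finBasis k k' j ^ p ^ N :=
      ⟨⟨_, hn _ N (Finset.le_sup (f := fun j => n (Module.finBasis k k' j)) (Finset.mem_univ j))⟩, rfl⟩
    rw [← hc, ← (Module.finBasis k E).sum_repr c]
    push_cast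
    refine Submodule.sum_mem _ fun i _ => ?_
    rw [← algebraMap_smul K]
    exact Submodule.smul_mem _ _ (Submodule.subset_span ⟨i, rfl⟩)
  obtain ⟨t, ht⟩ := (Submodule.mem_span_range_iff_exists_fun K).1 hz'
  have hpN : p ^ N ≠ 0 := pow_ne_zero _ hp.ne'
  have h1 : Q.1 (z ^ p ^ N) ≤ 1 := by
    rw [← ht, sign_iff_of_isField hK E hE hQ hR, ht, map_pow]
    exact pow_le_one' hz _
  rw [map_pow] at h1
  exact (pow_le_one_iff hpN).1 h1

end Groth.Agent.FF
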