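import Groth.Agent.FF.Nonsing2
import Mathlib.FieldTheory.SeparableClosure

/-! Purely inseparable constant extensions or residue fields: one place above. -/

set_option autoImplicit false
set_option linter.style.haveILetI false
set_option linter.unusedSectionVars false

open FunFld WithZero
open scoped TensorProduct

namespace Groth.Agent.FF

variable {k k' K K' : Type*} [Field k] [Field k'] [Field K] [Field K']
  [Algebra k k'] [FiniteDimensional k k'] [Algebra k K] [Algebra K K'] [Algebra k' K'] [Algebra k K']
  [IsScalarTower k k' K'] [IsScalarTower k K K'] {P : Place k K}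

/-- reduced tensor whose elements have a power in the left factor: a field -/
lemma isField_of_pow_mem {E R : Type*} [Field E] [CommRing R] [Nontrivial R] [IsReduced R] (f : E →+* R)
    (h : ∀ x : R, ∃ n : ℕ, 0 < n ∧ ∃ e : E, x ^ n = f e) : IsField R := by
  refine ⟨⟨0, 1, zero_ne_one⟩, mul_comm, fun {x} hx => ?_⟩
  obtain ⟨n, hn, e, he⟩ := h x
  have he0 : e ≠ 0 := by
    rintro rfl
    rw [map_zero] at he
    exact hx (IsReduced.eq_zero x ⟨n, he⟩)
  refine ⟨x ^ (n - 1) * f e⁻¹, ?_⟩
  rw [← mul_assoc, ← pow_succ', show n - 1 + 1 = n by omega, he, ← map_mul, mul_inv_cancel₀ he0, map_one]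

lemma tmul_algebraMap_eq {A B : Type*} [CommRing A] [CommRing B] [Algebra k A] [Algebra k B] (a : A) (c : k) :
    a ⊗ₜ[k] algebraMap k B c = (Algebra.TensorProduct.includeLeftRingHom : A →+* A ⊗[k] B) (c • a) := by
  rw [Algebra.algebraMap_eq_smul_one]
  exact (TensorProduct.smul_tmul c a (1 : B)).symm

lemma isField_ResT_bot : IsField (ResT (⊥ : IntermediateField k k') P) := by
  let F := IsLocalRing.ResidueField P.O
  let e : ResT (⊥ : IntermediateField k k') P ≃ₐ[k] F :=
    (Algebra.TensorProduct.congr (IntermediateField.botEquiv k k') AlgEquiv.refl).trans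
      (Algebra.TensorProduct.lid k F)
  exact e.toRingEquiv.toMulEquiv.isField (Field.toIsField F)

lemma isField_ResT_of_pi (hK : IsFF k K) (E : IntermediateField k k') [Algebra.IsSeparable k E]
    [IsPurelyInseparable k (IsLocalRing.ResidueField P.O)] : IsField (ResT E P) := by
  classical
  let F := IsLocalRing.ResidueField P.O
  haveI : IsReduced (ResT E P) := isReduced_ResT_of_sep_const
  haveI : Nontrivial (ResT E P) :=
    (Algebra.TensorProduct.productMap (IsScalarTower.toAlgHom k E (AlgebraicClosure k'))
      (IsAlgClosed.lift : F →ₐ[k] AlgebraicClosure k')).toRingHom.domain_nontrivial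
  set p := ringExpChar k
  haveI : ExpChar k p := inferInstance
  haveI : ExpChar (ResT E P) p :=
    expChar_of_injective_ringHom (algebraMap k (ResT E P)).injective p
  refine isField_of_pow_mem (Algebra.TensorProduct.includeLeftRingHom) fun x => ?_
  obtain ⟨f, rfl⟩ := exists_sum_tmul x
  choose n hn using fun j => IsPurelyInseparable.pow_mem k p (f j)
  set N := Finset.univ.sup n
  refine ⟨p ^ N, pow_pos (expChar_pos k p) _, ?_⟩
  have hN : ∀ j, ∃ c : k, f j ^ p ^ N = algebraMap k F c := fun j => by
    obtain ⟨c, hc⟩ := hn j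
    refine ⟨c ^ p ^ (N - n j), ?_⟩
    rw [map_pow, hc, ← pow_mul, ← pow_add, Nat.add_sub_cancel' (Finset.le_sup (Finset.mem_univ j))]
  choose c hc using hN
  refine ⟨∑ j, c j • Module.finBasis k E j ^ p ^ N, ?_⟩
  rw [sum_pow_char_pow, map_sum]
  refine Finset.sum_congr rfl fun j _ => ?_
  rw [Algebra.TensorProduct.tmul_pow, hc]
  exact tmul_algebraMap_eq _ _

theorem existsUnique_over_of_pi (h : IsBC k k' K K') (hK : IsFF k K)
    (hpi : IsPurelyInseparable k k' ∨ IsPurelyInseparable k (IsLocalRing.ResidueField P.O)) :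
    ∃! Q : Place k K', IsOver Q P := by
  set p := ringExpChar k
  haveI : ExpChar k p := inferInstance
  rcases hpi with hpi | hpi
  · refine existsUnique_over h hK ⊥ isField_ResT_bot fun c => ?_
    obtain ⟨n, a, ha⟩ := IsPurelyInseparable.pow_mem k p c
    refine ⟨n, fun m hm => IntermediateField.mem_bot.2 ⟨a ^ p ^ (m - n), ?_⟩⟩
    rw [map_pow, ha, ← pow_mul, ← pow_add, Nat.add_sub_cancel' hm]
  · refine existsUnique_over h hK (separableClosure k k') (isField_ResT_of_pi hK _) fun c => ?_
    haveI : ExpChar (separableClosure k k') p := expChar_of_injective_algebraMap (algebraMap k _).injective p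
    obtain ⟨n, a, ha⟩ := IsPurelyInseparable.pow_mem (separableClosure k k') p c
    refine ⟨n, fun m hm => ?_⟩
    rw [← Nat.add_sub_cancel' hm, pow_add, pow_mul, ← ha]
    exact pow_mem a.2 _

end Groth.Agent.FF
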