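import Groth.Agent.FF.Nonsing2
import Groth.Agent.FF.GeomCrit

/-! Nonsingularity in a tower of scalar extensions. -/

set_option autoImplicit false
set_option linter.style.haveILetI false
set_option linter.unusedSectionVars false

open FunFld WithZero
open scoped TensorProduct

namespace Groth.Agent.FF

variable {k k' k'' K K' K'' : Type*} [Field k] [Field k'] [Field k''] [Field K] [Field K'] [Field K'']
  [Algebra k k'] [Algebra k' k''] [Algebra k k''] [IsScalarTower k k' k'']
  [FiniteDimensional k k'] [FiniteDimensional k' k'']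
  [Algebra k K] [Algebra K K'] [Algebra k' K'] [Algebra k K'] [IsScalarTower k k' K'] [IsScalarTower k K K']
  [Algebra K' K''] [Algebra k'' K''] [Algebra k' K''] [Algebra k K''] [Algebra K K'']
  [IsScalarTower k' k'' K''] [IsScalarTower k' K' K''] [IsScalarTower K K' K''] [IsScalarTower k K K'']

section
omit [Algebra k' k''] [IsScalarTower k k' k''] [FiniteDimensional k' k''] [Algebra k' K''] in
lemma IsOver_trans {R : Place k K''} {Q : Place k K'} {P : Place k K} (h1 : IsOver R Q) (h2 : IsOver Q P) :
    IsOver R P := by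
  obtain ⟨e, he⟩ := h1
  obtain ⟨d, hd⟩ := h2
  refine ⟨d * e, fun x => ?_⟩
  rw [IsScalarTower.algebraMap_apply K K' K'', he, hd, pow_mul]

end

/-- a place over `k` of a scalar extension, over `k'` -/
noncomputable def topPlace (Q : Place k K') : Place k' K' := ⟨Q.1, val_const_k'_le Q, Q.2.2⟩

@[simp] lemma topPlace_val (Q : Place k K') : (topPlace (k' := k') Q).1 = Q.1 := rfl

/-- and back -/
def botPlace (Q : Place k' K') : Place k K' :=
  ⟨Q.1, fun c => by rw [IsScalarTower.algebraMap_apply k k' K']; exact Q.2.1 _, Q.2.2⟩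

variable (k) in
lemma towerBC [IsScalarTower k k'' K''] (h1 : IsBC k k' K K') (h2 : IsBC k' k'' K' K'') : IsBC k k'' K K'' := by
  haveI : FiniteDimensional k k'' := Module.Finite.trans k' k''
  haveI := bc_finite h1
  haveI := bc_finite h2
  haveI : FiniteDimensional K K'' := Module.Finite.trans K' K''
  let Φ : K ⊗[k] k'' →ₐ[K] K'' :=
    Algebra.TensorProduct.lift (Algebra.ofId K K'') (IsScalarTower.toAlgHom k k'' K'') fun _ _ => Commute.all _ _
  have hΦ : ∀ z, Algebra.TensorProduct.productMap (IsScalarTower.toAlgHom k k'' K'') (IsScalarTower.toAlgHom k K K'') z =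
      Φ (Algebra.TensorProduct.comm k k'' K z) := by
    intro z
    induction z using TensorProduct.induction_on with
    | zero => simp
    | tmul a b => simp [Φ, mul_comm, Algebra.ofId_apply]
    | add x y hx hy => rw [map_add, map_add, map_add, hx, hy]
  have hsurj : Function.Surjective Φ := by
    have hk'' : ∀ c, algebraMap k'' K'' c ∈ Φ.range := fun c => ⟨1 ⊗ₜ c, by simp [Φ]⟩
    have hK' : ∀ z, algebraMap K' K'' z ∈ Φ.range := by
      intro z
      obtain ⟨β, rfl⟩ := h1.2 z
      induction β using TensorProduct.induction_on with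
      | zero => simp only [map_zero, zero_mem]
      | tmul a b =>
        simp only [Algebra.TensorProduct.productMap_apply_tmul, map_mul, IsScalarTower.toAlgHom_apply,
          ← IsScalarTower.algebraMap_apply K K' K'', ← IsScalarTower.algebraMap_apply k' K' K'']
        refine Subalgebra.mul_mem _ ?_ (Φ.range.algebraMap_mem b)
        rw [IsScalarTower.algebraMap_apply k' k'' K'']
        exact hk'' _
      | add x y hx hy => simp only [map_add]; exact add_mem hx hy
    intro z
    obtain ⟨β, rfl⟩ := h2.2 z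
    change _ ∈ Φ.range
    induction β using TensorProduct.induction_on with
    | zero => simp only [map_zero, zero_mem]
    | tmul a b =>
      simp only [Algebra.TensorProduct.productMap_apply_tmul, IsScalarTower.toAlgHom_apply]
      exact Subalgebra.mul_mem _ (hk'' a) (hK' b)
    | add x y hx hy => rw [map_add]; exact add_mem hx hy
  have hrank : Module.finrank K (K ⊗[k] k'') = Module.finrank K K'' := by
    rw [Module.finrank_baseChange, ← Module.finrank_mul_finrank K K' K'', bc_finrank h1, bc_finrank h2,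
      Module.finrank_mul_finrank]
  have hinj : Function.Injective Φ :=
    (LinearMap.injective_iff_surjective_of_finrank_eq_finrank hrank (f := Φ.toLinearMap)).2 hsurj
  rw [IsBC, show ⇑(Algebra.TensorProduct.productMap (IsScalarTower.toAlgHom k k'' K'')
    (IsScalarTower.toAlgHom k K K'')) = Φ ∘ Algebra.TensorProduct.comm k k'' K from funext hΦ]
  exact Function.Bijective.comp ⟨hinj, hsurj⟩ (AlgEquiv.bijective _)

variable [IsScalarTower k k'' K''] [FiniteDimensional k k'']

lemma algebraMap_mem_BO'' {P : Place k K} {z : K'} (hz : z ∈ BO k' K' P) :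
    algebraMap K' K'' z ∈ BO k'' K'' P := by
  obtain ⟨β, rfl⟩ := hz
  obtain ⟨a, rfl⟩ := exists_sum_tmul β
  show algebraMap K' K'' (thO k' K' P _) ∈ _
  rw [thO_sum, map_sum]
  refine Subalgebra.sum_mem _ fun j _ => ?_
  rw [Algebra.smul_def, map_mul, ← IsScalarTower.algebraMap_apply, ← IsScalarTower.algebraMap_apply,
    IsScalarTower.algebraMap_apply k' k'' K'']
  exact Subalgebra.mul_mem _ (algebraMap_mem_BO P ((mem_O P).1 (a j).2)) (const_mem_BO P _)

lemma repr_algebraMap_top (h2 : IsBC k' k'' K' K'') (x : k'') (l : Fin (Module.finrank k' k'')) :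
    (bcBasis h2).repr (algebraMap k'' K'' x) l = algebraMap k' K' ((Module.finBasis k' k'').repr x l) := by
  rw [← bc_repr h2 (fun l => algebraMap k' K' ((Module.finBasis k' k'').repr x l)) l]
  congr 2
  conv_lhs => rw [← (Module.finBasis k' k'').sum_repr x]
  rw [map_sum]
  refine congrArg _ (funext fun i => ?_)
  rw [Algebra.smul_def, map_mul, ← IsScalarTower.algebraMap_apply k' k'' K'', algebraMap_smul, Algebra.smul_def]

lemma mem_BO''_iff (h2 : IsBC k' k'' K' K'') {P : Place k K} (z : K'') :
    z ∈ BO k'' K'' P ↔ ∀ l, (bcBasis h2).repr z l ∈ BO k' K' P := by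
  constructor
  · rintro ⟨β, rfl⟩ l
    obtain ⟨a, rfl⟩ := exists_sum_tmul β
    show (bcBasis h2).repr (thO k'' K'' P _) l ∈ _
    rw [thO_sum, map_sum, Finsupp.finsetSum_apply]
    refine Subalgebra.sum_mem _ fun j _ => ?_
    rw [← algebraMap_smul K' (a j : K), map_smul, Finsupp.smul_apply, smul_eq_mul, repr_algebraMap_top]
    exact Subalgebra.mul_mem _ (algebraMap_mem_BO P ((mem_O P).1 (a j).2)) (const_mem_BO P _)
  · intro hz
    rw [← (bcBasis h2).sum_repr z]
    refine Subalgebra.sum_mem _ fun l _ => ?_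
    rw [Algebra.smul_def, bcBasis_apply h2]
    exact Subalgebra.mul_mem _ (algebraMap_mem_BO'' (hz l)) (const_mem_BO P _)

/-- nonsingularity in a tower -/
theorem nonsingular_tower_iff (h1 : IsBC k k' K K') (h2 : IsBC k' k'' K' K'') (hK : IsFF k K) (P : Place k K) :
    (∀ z ∈ IntP K'' P, z ∈ BO k'' K'' P) ↔
      (∀ z ∈ IntP K' P, z ∈ BO k' K' P) ∧
        ∀ Q : Place k K', IsOver Q P →
          ∀ z ∈ IntP K'' (topPlace (k' := k') Q), z ∈ BO k'' K'' (topPlace (k' := k') Q) := by
  classical
  haveI := bc_finite h1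
  haveI := bc_finite h2
  haveI : FiniteDimensional K K'' := Module.Finite.trans K' K''
  have hK1 : IsFF k K' := isFF_ext hK
  haveI : IsScalarTower k K' K'' := IsScalarTower.of_algebraMap_eq fun c => by
    rw [IsScalarTower.algebraMap_apply k K K', ← IsScalarTower.algebraMap_apply K K' K'', ← IsScalarTower.algebraMap_apply]
  haveI : IsScalarTower k k' K'' := IsScalarTower.of_algebraMap_eq fun c => by
    rw [IsScalarTower.algebraMap_apply k k'' K'', IsScalarTower.algebraMap_apply k k' k'',
      ← IsScalarTower.algebraMap_apply k' k'' K'']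
  have hbelow : ∀ R : Place k K'', IsOver R P → ∃ Q : Place k K', IsOver Q P ∧ IsOver R Q := by
    intro R hR
    obtain ⟨Q, hQ⟩ := exists_below hK1 R
    obtain ⟨P', hP'⟩ := exists_below hK Q
    obtain rfl := isOver_unique hR (IsOver_trans hQ hP')
    exact ⟨Q, hP', hQ⟩
  constructor
  · intro hns
    refine ⟨fun z hz => ?_, fun Q hQ z hz => ?_⟩
    · have hz' : algebraMap K' K'' z ∈ IntP K'' P := mem_IntP.2 fun R hR => by
        obtain ⟨Q, hQP, hRQ⟩ := hbelow R hR
        exact (val_algebraMap_le_one_iff hRQ z).2 (mem_IntP.1 hz Q hQP)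
      have hc := (mem_BO''_iff h2 _).1 (hns _ hz')
      obtain ⟨l, hl⟩ : ∃ l, (Module.finBasis k' k'').repr 1 l ≠ 0 := by
        by_contra hall
        push Not at hall
        exact one_ne_zero ((Module.finBasis k' k'').repr.map_eq_zero_iff.1 (Finsupp.ext hall))
      have hcl := hc l
      rw [show algebraMap K' K'' z = z • algebraMap k'' K'' (1 : k'') by rw [map_one, Algebra.smul_def, mul_one],
        map_smul, Finsupp.smul_apply, smul_eq_mul, repr_algebraMap_top h2] at hcl
      have := Subalgebra.mul_mem _ hcl (const_mem_BO P ((Module.finBasis k' k'').repr 1 l)⁻¹)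
      rwa [mul_assoc, ← map_mul, mul_inv_cancel₀ hl, map_one, mul_one] at this
    · refine (mem_BO_iff _ h2).2 fun l => ?_
      show Q.1 _ ≤ 1
      obtain ⟨M, hM⟩ : ∃ M : ℕ, ∀ R : Place k K'', IsOver R P → R.1 z ≤ exp (M : ℤ) := by
        refine ⟨(finite_over (K' := K'') hK P).toFinset.sup fun R => (log (R.1 z)).toNat, fun R hR => ?_⟩
        rcases eq_or_ne (R.1 z) 0 with h0 | h0
        · rw [h0]; exact zero_le
        · rw [← log_le_iff_le_exp h0]
          have := Finset.le_sup (f := fun R : Place k K'' => (log (R.1 z)).toNat)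
            ((finite_over (K' := K'') hK P).mem_toFinset.2 hR)
          omega
      obtain ⟨e, he⟩ := approx (finite_over (K' := K') hK P).toFinset
        (fun S => if S = Q then 1 else 0) (fun S => if S = Q then -1 else -(M : ℤ))
      have heQ : Q.1 e = 1 := by
        have h := he Q ((finite_over (K' := K') hK P).mem_toFinset.2 hQ)
        rw [if_pos rfl, if_pos rfl] at h
        have h1 := Valuation.map_add_eq_of_lt_left Q.1 (x := (1 : K')) (y := e - 1) (by
          rw [map_one]; exact h.trans_lt ((exp_lt_exp.2 (by norm_num)).trans_eq exp_zero))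
        rwa [add_sub_cancel, map_one] at h1
      have hez : e • z ∈ IntP K'' P := mem_IntP.2 fun R hR => by
        obtain ⟨S, hSP, hRS⟩ := hbelow R hR
        rw [Algebra.smul_def, map_mul, (isOverWith_ramIdx hRS) e]
        by_cases hSQ : S = Q
        · subst hSQ
          rw [heQ, one_pow, one_mul]
          exact mem_IntP.1 hz (topPlace R) (by obtain ⟨d, hd⟩ := hRS; exact ⟨d, hd⟩)
        · have h := he S ((finite_over (K' := K') hK P).mem_toFinset.2 hSP)
          rw [if_neg hSQ, if_neg hSQ, sub_zero] at h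
          have hS1 : S.1 e ≤ 1 := h.trans ((exp_le_exp.2 (by omega)).trans_eq exp_zero)
          refine (mul_le_mul' ((pow_le_of_le_one zero_le hS1 (ramIdx_pos hRS).ne').trans h) (hM R hR)).trans_eq ?_
          rw [← exp_add, neg_add_cancel, exp_zero]
      have hc := (mem_BO''_iff h2 _).1 (hns _ hez) l
      rw [map_smul, Finsupp.smul_apply, smul_eq_mul] at hc
      have := mem_IntP.1 (mem_IntP_of_mem_BO h1 hc) Q hQ
      rwa [map_mul, heQ, one_mul] at this
  · rintro ⟨hns1, hns2⟩ z hz
    refine (mem_BO''_iff h2 z).2 fun l => hns1 _ (mem_IntP.2 fun Q hQ => ?_)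
    refine (mem_BO_iff _ h2).1 (hns2 Q hQ z (mem_IntP.2 fun R hR => ?_)) l
    refine mem_IntP.1 hz ⟨R.1, fun c => ?_, R.2.2⟩ (IsOver_trans (Q := Q) ?_ hQ)
    · rw [IsScalarTower.algebraMap_apply k k'' K'', IsScalarTower.algebraMap_apply k k' k'',
        ← IsScalarTower.algebraMap_apply k' k'' K'']
      exact R.2.1 _
    · obtain ⟨d, hd⟩ := hR
      exact ⟨d, hd⟩

end Groth.Agent.FF
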