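import Groth.Agent.FF.Ext
import Groth.Agent.FF.Linear
import Mathlib.FieldTheory.RatFunc.IntermediateField
import Mathlib.FieldTheory.RatFunc.Degree

/-! Places of the rational function field. -/

set_option autoImplicit false
set_option linter.unusedSectionVars false

open FunFld WithZero IntermediateField

namespace Groth.Agent.FF

variable {k : Type*} [Field k]

lemma polyToRat_ne_zero {q : Polynomial k} (hq : q ≠ 0) :
    algebraMap (Polynomial k) (RatFunc k) q ≠ 0 := RatFunc.algebraMap_ne_zero hq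

lemma rat_transcendental_poly {q : Polynomial k} (hq : 0 < q.natDegree) :
    Transcendental k (algebraMap (Polynomial k) (RatFunc k) q) := by
  rw [← RatFunc.aeval_X_left_eq_algebraMap]
  exact RatFunc.transcendental_X.aeval q hq.ne' (mem_nonZeroDivisors_iff_ne_zero.2
    (Polynomial.leadingCoeff_ne_zero.2 fun h => by simp [h] at hq))

lemma isFunctionField_ratFunc : IsFunctionField k (RatFunc k) := by
  refine ⟨⟨RatFunc.X, RatFunc.transcendental_X, ?_⟩, fun y hy => ?_⟩
  · rw [RatFunc.adjoin_X]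
    exact Module.Finite.of_surjective (Algebra.linearMap (⊤ : IntermediateField k (RatFunc k)) (RatFunc k))
      fun z => ⟨⟨z, trivial⟩, rfl⟩
  · have hi : IsIntegral (Polynomial k) y := hy.isIntegral.tower_top
    obtain ⟨q, rfl⟩ := IsIntegrallyClosed.algebraMap_eq_of_integral hi
    by_cases hd : 0 < q.natDegree
    · exact absurd hy (rat_transcendental_poly hd)
    · rw [Polynomial.eq_C_of_natDegree_eq_zero (by omega : q.natDegree = 0)]
      exact ⟨q.coeff 0, rfl⟩

variable (P : Place k (RatFunc k))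

lemma rat_val_C {c : k} (hc : c ≠ 0) :
    P.1 (algebraMap (Polynomial k) (RatFunc k) (Polynomial.C c)) = 1 := val_const P hc

lemma rat_val_poly_le (hX : P.1 RatFunc.X ≤ 1) (q : Polynomial k) :
    P.1 (algebraMap (Polynomial k) (RatFunc k) q) ≤ 1 := by
  induction q using Polynomial.induction_on' with
  | add a b ha hb => rw [map_add]; exact (P.1.map_add _ _).trans (max_le ha hb)
  | monomial n c =>
    rw [← Polynomial.C_mul_X_pow_eq_monomial, map_mul, map_pow, RatFunc.algebraMap_X, map_mul,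
      map_pow]
    exact mul_le_one' (val_const_le P c) (pow_le_one' hX n)

/-- at a place where `X` has a pole, a polynomial has value `v(X) ^ degree` -/
lemma rat_val_poly_inf (hX : 1 < P.1 RatFunc.X) {q : Polynomial k} (hq : q ≠ 0) :
    P.1 (algebraMap (Polynomial k) (RatFunc k) q) = P.1 RatFunc.X ^ q.natDegree := by
  induction' hn : q.natDegree using Nat.strong_induction_on with n ih generalizing q
  subst hn
  have hl : P.1 (algebraMap (Polynomial k) (RatFunc k)
      (Polynomial.C q.leadingCoeff * Polynomial.X ^ q.natDegree)) = P.1 RatFunc.X ^ q.natDegree := by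
    rw [map_mul, map_pow, RatFunc.algebraMap_X, map_mul, map_pow,
      rat_val_C P (Polynomial.leadingCoeff_ne_zero.2 hq), one_mul]
  conv_lhs => rw [← Polynomial.eraseLead_add_C_mul_X_pow q, map_add]
  rw [Valuation.map_add_eq_of_lt_right _ ?_, hl]
  rw [hl]
  rcases eq_or_ne q.eraseLead 0 with h0 | h0
  · rw [h0, map_zero, map_zero]
    exact pow_pos (lt_trans zero_lt_one hX) _
  · have hlt : q.eraseLead.natDegree < q.natDegree :=
      (Polynomial.eraseLead_natDegree_lt_or_eraseLead_eq_zero q).resolve_right h0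
    rw [ih _ hlt h0 rfl]
    exact pow_lt_pow_right₀ hX hlt

lemma rat_val_X_of_inf (hX : 1 < P.1 RatFunc.X) : P.1 RatFunc.X = exp (1 : ℤ) := by
  have hpoly : ∀ q : Polynomial k, q ≠ 0 →
      P.ord (algebraMap (Polynomial k) (RatFunc k) q) = q.natDegree * P.ord RatFunc.X := fun q hq => by
    rw [← ord_pow, Place.ord, Place.ord, rat_val_poly_inf P hX hq, map_pow]
  obtain ⟨r, hr⟩ := exists_val P (1 : ℤ)
  have hr0 : r ≠ 0 := ne_zero_of_val_eq_exp P hr
  have h1 := ord_of_val_eq P hr
  rw [← RatFunc.num_div_denom r, ord_div P (polyToRat_ne_zero (RatFunc.num_ne_zero hr0))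
    (polyToRat_ne_zero r.denom_ne_zero), hpoly _ (RatFunc.num_ne_zero hr0),
    hpoly _ r.denom_ne_zero, ← sub_mul] at h1
  have hneg : P.ord RatFunc.X < 0 := (one_lt_val_iff P _).1 hX
  rw [val_eq_exp_ord P RatFunc.X_ne_zero]
  congr 1
  rcases Int.eq_one_or_neg_one_of_mul_eq_neg_one' h1 with ⟨_, h⟩ | ⟨_, h⟩ <;> omega

lemma rat_val_eq_exp_natDegree (hX : 1 < P.1 RatFunc.X) {q : Polynomial k} (hq : q ≠ 0) :
    P.1 (algebraMap (Polynomial k) (RatFunc k) q) = exp (q.natDegree : ℤ) := by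
  rw [rat_val_poly_inf P hX hq, rat_val_X_of_inf P hX, ← exp_nsmul]
  simp

lemma rat_inf_unique {Q : Place k (RatFunc k)} (hP : 1 < P.1 RatFunc.X) (hQ : 1 < Q.1 RatFunc.X) :
    P = Q := ext_of_O fun r hr => by
  rcases eq_or_ne r 0 with rfl | h0
  · rw [map_zero]; exact zero_le_one
  · rw [← RatFunc.num_div_denom r, map_div₀, rat_val_eq_exp_natDegree _ hP (RatFunc.num_ne_zero h0),
      rat_val_eq_exp_natDegree _ hP r.denom_ne_zero] at hr
    rwa [← RatFunc.num_div_denom r, map_div₀, rat_val_eq_exp_natDegree _ hQ (RatFunc.num_ne_zero h0),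
      rat_val_eq_exp_natDegree _ hQ r.denom_ne_zero]

lemma rat_deg_inf (hX : 1 < P.1 RatFunc.X) : P.deg = 1 := by
  have h := finrank_adjoin_eq_neg_ord_mul isFunctionField_ratFunc RatFunc.transcendental_X
    ((one_lt_val_iff P _).1 hX) fun Q hQ => not_lt.1 fun hlt =>
      hQ (rat_inf_unique Q ((one_lt_val_iff Q _).2 hlt) hX)
  rw [ord_of_val_eq P (rat_val_X_of_inf P hX)] at h
  have h1 : Module.finrank k⟮(RatFunc.X : RatFunc k)⟯ (RatFunc k) = 1 := by
    rw [RatFunc.adjoin_X]; exact IntermediateField.finrank_top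
  rw [h1] at h
  omega

lemma exists_rat_inf : ∃ P : Place k (RatFunc k), 1 < P.1 RatFunc.X := by
  obtain ⟨P, hP⟩ := exists_zero (k := k) (K := RatFunc k) isFunctionField_ratFunc.1
    (x := (RatFunc.X : RatFunc k)⁻¹) fun h => RatFunc.transcendental_X (by simpa using h.inv)
  refine ⟨P, ?_⟩
  rw [map_inv₀] at hP
  exact (inv_lt_one₀ (by rw [Valuation.pos_iff]; exact RatFunc.X_ne_zero)).1 hP

lemma rat_val_X_le_of_zero {p : Polynomial k} (hp : p ≠ 0)
    (hP : P.1 (algebraMap (Polynomial k) (RatFunc k) p) < 1) : P.1 RatFunc.X ≤ 1 := by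
  by_contra hX
  rw [rat_val_poly_inf P (not_le.1 hX) hp] at hP
  exact not_le.2 hP (one_le_pow₀ (not_le.1 hX).le)

lemma rat_val_eq_one {p q : Polynomial k} (hp : Irreducible p)
    (hP : P.1 (algebraMap (Polynomial k) (RatFunc k) p) < 1) (hq : ¬ p ∣ q) :
    P.1 (algebraMap (Polynomial k) (RatFunc k) q) = 1 := by
  have hle := rat_val_poly_le P (rat_val_X_le_of_zero P hp.ne_zero hP)
  refine le_antisymm (hle q) (not_lt.1 fun hlt => ?_)
  obtain ⟨a, b, hab⟩ := hp.coprime_iff_not_dvd.2 hq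
  have h1 := congrArg (fun z => P.1 (algebraMap (Polynomial k) (RatFunc k) z)) hab
  simp only [map_add, map_mul, map_one] at h1
  refine (lt_self_iff_false (1 : ℤᵐ⁰)).1 ?_
  calc (1 : ℤᵐ⁰) = _ := h1.symm
    _ < 1 := (P.1.map_add _ _).trans_lt (max_lt
      (by rw [map_mul]; exact (mul_le_of_le_one_left' (hle a)).trans_lt hP)
      (by rw [map_mul]; exact (mul_le_of_le_one_left' (hle b)).trans_lt hlt))

lemma rat_val_irreducible {p : Polynomial k} (hp : Irreducible p)
    (hP : P.1 (algebraMap (Polynomial k) (RatFunc k) p) < 1) :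
    P.1 (algebraMap (Polynomial k) (RatFunc k) p) = exp (-1 : ℤ) := by
  have hpoly : ∀ q : Polynomial k, q ≠ 0 → ∃ n : ℕ,
      P.ord (algebraMap (Polynomial k) (RatFunc k) q) = n * P.ord (algebraMap (Polynomial k) (RatFunc k) p) := by
    intro q hq
    obtain ⟨n, u, hu, rfl⟩ := WfDvdMonoid.max_power_factor hq hp
    refine ⟨n, ?_⟩
    rw [map_mul, map_pow, ord_mul P (pow_ne_zero _ (polyToRat_ne_zero hp.ne_zero))
      (polyToRat_ne_zero fun h => hq (by rw [h, mul_zero])), ord_pow,
      (val_eq_one_iff P (polyToRat_ne_zero fun h => hq (by rw [h, mul_zero]))).1 (rat_val_eq_one P hp hP hu),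
      add_zero]
  have h0 := polyToRat_ne_zero hp.ne_zero
  have hpos : 0 < P.ord (algebraMap (Polynomial k) (RatFunc k) p) := (val_lt_one_iff P h0).1 hP
  obtain ⟨r, hr⟩ := exists_val P (1 : ℤ)
  have hr0 : r ≠ 0 := ne_zero_of_val_eq_exp P hr
  have h1 := ord_of_val_eq P hr
  obtain ⟨a, ha⟩ := hpoly _ (RatFunc.num_ne_zero hr0)
  obtain ⟨b, hb⟩ := hpoly _ r.denom_ne_zero
  rw [← RatFunc.num_div_denom r, ord_div P (polyToRat_ne_zero (RatFunc.num_ne_zero hr0))
    (polyToRat_ne_zero r.denom_ne_zero), ha, hb, ← sub_mul] at h1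
  rw [val_eq_exp_ord P h0]
  congr 1
  rcases Int.eq_one_or_neg_one_of_mul_eq_neg_one' h1 with ⟨_, h⟩ | ⟨_, h⟩ <;> omega

lemma rat_val_squarefree {p f : Polynomial k} (hp : Irreducible p)
    (hP : P.1 (algebraMap (Polynomial k) (RatFunc k) p) < 1) (hf : Squarefree f) (hpf : p ∣ f) :
    P.1 (algebraMap (Polynomial k) (RatFunc k) f) = exp (-1 : ℤ) := by
  obtain ⟨g, rfl⟩ := hpf
  have hg : ¬ p ∣ g := fun ⟨c, hc⟩ => hp.not_isUnit (hf p ⟨c, by rw [hc]; ring⟩)
  rw [map_mul, map_mul, rat_val_irreducible P hp hP, rat_val_eq_one P hp hP hg, mul_one]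

lemma exists_irreducible_zero (hX : P.1 RatFunc.X ≤ 1) {q : Polynomial k} (hq : q ≠ 0)
    (hlt : P.1 (algebraMap (Polynomial k) (RatFunc k) q) < 1) :
    ∃ p, Irreducible p ∧ p ∣ q ∧ P.1 (algebraMap (Polynomial k) (RatFunc k) p) < 1 := by
  induction q using WfDvdMonoid.induction_on_irreducible with
  | zero => exact absurd rfl hq
  | unit u hu =>
    obtain ⟨c, hc, rfl⟩ := Polynomial.isUnit_iff.1 hu
    rw [rat_val_C P hc.ne_zero] at hlt
    exact absurd hlt (lt_irrefl _)
  | mul a p ha hp ih =>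
    by_cases h : P.1 (algebraMap (Polynomial k) (RatFunc k) p) < 1
    · exact ⟨p, hp, dvd_mul_right p a, h⟩
    · rw [map_mul, map_mul, le_antisymm (rat_val_poly_le P hX p) (not_lt.1 h), one_mul] at hlt
      obtain ⟨p', h1, h2, h3⟩ := ih ha hlt
      exact ⟨p', h1, h2.mul_left p, h3⟩

/-- dichotomy for a squarefree polynomial at a finite place -/
lemma rat_val_squarefree_cases (hX : P.1 RatFunc.X ≤ 1) {f : Polynomial k} (hf : Squarefree f) :
    P.1 (algebraMap (Polynomial k) (RatFunc k) f) = 1 ∨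
      P.1 (algebraMap (Polynomial k) (RatFunc k) f) = exp (-1 : ℤ) := by
  rcases (rat_val_poly_le P hX f).eq_or_lt with h | h
  · exact .inl h
  · obtain ⟨p, h1, h2, h3⟩ := exists_irreducible_zero P hX hf.ne_zero h
    exact .inr (rat_val_squarefree P h1 h3 hf h2)

lemma exists_rat_zero {p : Polynomial k} (hp : Irreducible p) :
    ∃ P : Place k (RatFunc k), P.1 (algebraMap (Polynomial k) (RatFunc k) p) < 1 :=
  exists_zero (k := k) (K := RatFunc k) isFunctionField_ratFunc.1
    (rat_transcendental_poly hp.natDegree_pos)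

/-- a rational function without finite poles is a polynomial -/
lemma rat_eq_poly {r : RatFunc k} (h : ∀ P : Place k (RatFunc k), P.1 RatFunc.X ≤ 1 → P.1 r ≤ 1) :
    ∃ q : Polynomial k, r = algebraMap (Polynomial k) (RatFunc k) q := by
  by_cases hu : IsUnit r.denom
  · obtain ⟨c, hc⟩ := Polynomial.isUnit_iff.1 hu
    have : r.denom = 1 := (RatFunc.monic_denom r).eq_one_of_isUnit hu
    refine ⟨r.num, ?_⟩
    conv_lhs => rw [← RatFunc.num_div_denom r, this, map_one, div_one]
  · obtain ⟨p, hp, hpd⟩ := WfDvdMonoid.exists_irreducible_factor hu r.denom_ne_zero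
    obtain ⟨P, hP⟩ := exists_rat_zero hp
    have hX := rat_val_X_le_of_zero P hp.ne_zero hP
    have hn : ¬ p ∣ r.num := fun hd => hp.not_isUnit ((RatFunc.isCoprime_num_denom r).isUnit_of_dvd' hd hpd)
    have h1 := h P hX
    rw [← RatFunc.num_div_denom r, map_div₀, rat_val_eq_one P hp hP hn, one_div] at h1
    obtain ⟨c, hc⟩ := hpd
    have h2 : P.1 (algebraMap (Polynomial k) (RatFunc k) r.denom) < 1 := by
      rw [hc, map_mul, map_mul]
      exact (mul_le_of_le_one_right' (rat_val_poly_le P hX c)).trans_lt hP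
    refine absurd h1 (not_le.2 ((one_lt_inv₀ ?_).2 h2))
    rw [Valuation.pos_iff]
    exact polyToRat_ne_zero r.denom_ne_zero

end Groth.Agent.FF
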