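import Groth.Agent.FF.Nonsing2
import Groth.Agent.FF.RatPlaces
import Groth.Agent.FF.Hyper2
import Groth.Agent.FF.LR.Hasse
import Mathlib.RingTheory.Discriminant

/-! A conductor of `O_P[k']` that is uniform in the constant extension `k'`. -/

set_option autoImplicit false
set_option linter.style.haveILetI false
set_option linter.unusedSectionVars false

open FunFld WithZero
open scoped TensorProduct IntermediateField Matrix

namespace Groth.Agent.FF

section

variable {k K : Type*} [Field k] [Field K] [Algebra k K]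

lemma val_aeval_le' (P : Place k K) {x : K} (hx : P.1 x ≤ 1) (q : Polynomial k) :
    P.1 (Polynomial.aeval x q) ≤ 1 := by
  induction q using Polynomial.induction_on' with
  | add p q hp hq => rw [map_add]; exact (P.1.map_add _ _).trans (max_le hp hq)
  | monomial n c =>
    rw [Polynomial.aeval_monomial, map_mul, map_pow]
    exact mul_le_one' (val_const_le P c) (pow_le_one' hx n)

/-- the polynomial cutting out the restriction of a place to `k[x]` -/
lemma exists_resPoly (hK : IsFF k K) (P : Place k K) {x : K} (hx : P.1 x ≤ 1) :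
    ∃ f : Polynomial k, Irreducible f ∧ ∀ g : Polynomial k, P.1 (Polynomial.aeval x g) < 1 ↔ f ∣ g := by
  haveI : @Module.Finite k (IsLocalRing.ResidueField P.O) _ _ Algebra.toModule := finiteDimensional_residueField hK P
  set xb := resHom P ⟨x, (mem_O P).2 hx⟩
  have hi : IsIntegral k xb := IsIntegral.of_finite k xb
  refine ⟨minpoly k xb, minpoly.irreducible hi, fun g => ?_⟩
  rw [minpoly.dvd_iff, Polynomial.aeval_algHom_apply, resHom_eq_zero_iff]
  have : ((Polynomial.aeval (⟨x, (mem_O P).2 hx⟩ : P.O) g : P.O) : K) = Polynomial.aeval x g :=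
    (Polynomial.aeval_algHom_apply (inclO P) _ g).symm
  rw [this]

/-- clear finitely many finite places, keeping a unit at `P` -/
lemma exists_unit_clear (hK : IsFF k K) {x : K} (hxt : Transcendental k x) (P : Place k K) (hx : P.1 x ≤ 1)
    (T : Finset (Place k K)) (N : ℕ) :
    ∃ s : K, P.1 s = 1 ∧ (∀ R : Place k K, R.1 x ≤ 1 → R.1 s ≤ 1) ∧
      ∀ R ∈ T, R ≠ P → R.1 x ≤ 1 → R.1 s ≤ exp (-(N : ℤ)) := by
  classical
  obtain ⟨f, hf, hfP⟩ := exists_resPoly hK P hx
  have hft : Polynomial.aeval x f ≠ 0 := fun h => hf.ne_zero ((transcendental_iff.1 hxt) f h)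
  have hZ : {R : Place k K | R.1 (Polynomial.aeval x f) < 1}.Finite :=
    (finite_support_ord hK (Polynomial.aeval x f)).subset fun R hR =>
      (((val_lt_one_iff R hft).1 hR)).ne'
  have hPZ : P ∈ hZ.toFinset := hZ.mem_toFinset.2 ((hfP f).2 dvd_rfl)
  obtain ⟨e, he⟩ := approx hZ.toFinset (fun R => if R = P then 1 else 0)
    (fun R => if R = P then -1 else -(N : ℤ))
  have heP : P.1 e = 1 := by
    have h := he P hPZ
    rw [if_pos rfl, if_pos rfl] at h
    have h1 := Valuation.map_add_eq_of_lt_left P.1 (x := (1 : K)) (y := e - 1) (by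
      rw [map_one]; exact h.trans_lt ((exp_lt_exp.2 (by norm_num)).trans_eq exp_zero))
    rwa [add_sub_cancel, map_one] at h1
  have he0 : e ≠ 0 := fun h => by rw [h, map_zero] at heP; exact zero_ne_one heP
  have heZ : ∀ R ∈ hZ.toFinset, R ≠ P → R.1 e ≤ exp (-(N : ℤ)) := fun R hR hne => by
    have h := he R hR
    rwa [if_neg hne, if_neg hne, sub_zero] at h
  have hg : ∀ R : Place k K, ∃ g : Polynomial k, P.1 (Polynomial.aeval x g) = 1 ∧
      (R.1 x ≤ 1 → R ∉ hZ.toFinset → R.1 (Polynomial.aeval x g) < 1) := by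
    intro R
    by_cases hR : R.1 x ≤ 1 ∧ R ∉ hZ.toFinset
    · obtain ⟨hR1, hRZ⟩ := hR
      obtain ⟨g, hg, hgR⟩ := exists_resPoly hK R hR1
      refine ⟨g, le_antisymm (val_aeval_le' P hx g) (not_lt.1 fun hlt => hRZ ?_), fun _ _ => (hgR g).2 dvd_rfl⟩
      have hfg := ((hfP g).1 hlt)
      exact hZ.mem_toFinset.2 ((hgR f).2 ((hf.associated_of_dvd hg hfg).symm.dvd))
    · exact ⟨1, by simp, fun h1 h2 => absurd ⟨h1, h2⟩ hR⟩
  choose g hgP hgR using hg
  set T' := (T ∪ (finite_poles hK e).toFinset).filter fun R => R.1 x ≤ 1 ∧ R ∉ hZ.toFinset with hT'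
  set G := ∏ R ∈ T', Polynomial.aeval x (g R) with hG
  set m := N + T'.sup fun R => (log (R.1 e)).toNat with hm
  have hG1 : ∀ R : Place k K, R.1 x ≤ 1 → R.1 G ≤ 1 := fun R hR => by
    rw [hG, map_prod]
    exact Finset.prod_le_one' fun S _ => val_aeval_le' R hR _
  have key : ∀ R ∈ T', R.1 (e * G ^ m) ≤ exp (-(N : ℤ)) := by
    intro R hR
    have hR' := (Finset.mem_filter.1 hR).2
    have h1 : R.1 G ≤ exp (-1 : ℤ) := by
      rw [hG, map_prod, ← Finset.mul_prod_erase _ _ hR]
      refine (mul_le_of_le_one_right' (Finset.prod_le_one' fun S _ => val_aeval_le' R hR'.1 _)).trans ?_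
      exact (lt_exp_iff _ 0).1 ((hgR R hR'.1 hR'.2).trans_eq exp_zero.symm)
    have h2 : R.1 e ≤ exp (((T'.sup fun R => (log (R.1 e)).toNat : ℕ) : ℤ)) := by
      rw [← log_le_iff_le_exp (by simpa using he0)]
      have := Finset.le_sup (f := fun R : Place k K => (log (R.1 e)).toNat) hR
      omega
    rw [map_mul, map_pow]
    refine (mul_le_mul' h2 (pow_le_pow_left' h1 m)).trans ?_
    rw [← exp_nsmul, ← exp_add, exp_le_exp, nsmul_eq_mul, hm]
    push_cast
    omega
  refine ⟨e * G ^ m, ?_, fun R hR => ?_, fun R hRT hne hR => ?_⟩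
  · rw [map_mul, heP, one_mul, map_pow, hG, map_prod, Finset.prod_eq_one fun S _ => hgP S, one_pow]
  · by_cases hRT : R ∈ T'
    · exact (key R hRT).trans ((exp_le_exp.2 (by omega)).trans_eq exp_zero)
    · rw [map_mul, map_pow]
      refine mul_le_one' ?_ (pow_le_one' (hG1 R hR) m)
      by_cases hRZ : R ∈ hZ.toFinset
      · by_cases hne : R = P
        · rw [hne, heP]
        · exact (heZ R hRZ hne).trans ((exp_le_exp.2 (by omega)).trans_eq exp_zero)
      · by_contra hpole
        exact hRT (Finset.mem_filter.2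
          ⟨Finset.mem_union_right _ ((finite_poles hK e).mem_toFinset.2 (not_le.1 hpole)), hR, hRZ⟩)
  · by_cases hRT' : R ∈ T'
    · exact key R hRT'
    · have hRZ : R ∈ hZ.toFinset := by
        by_contra h
        exact hRT' (Finset.mem_filter.2 ⟨Finset.mem_union_left _ hRT, hR, h⟩)
      rw [map_mul, map_pow]
      exact (mul_le_of_le_one_right' (pow_le_one' (hG1 R hR) m)).trans (heZ R hRZ hne)

/-- `RatFunc k → K` of a separating element -/
lemma exists_ratFunc_separable {x : K} (hx : IsSepVar k x) :
    ∃ (_ : Algebra (RatFunc k) K), IsScalarTower k (RatFunc k) K ∧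
      algebraMap (RatFunc k) K RatFunc.X = x ∧ FiniteDimensional (RatFunc k) K ∧
      Algebra.IsSeparable (RatFunc k) K := by
  obtain ⟨e, he⟩ := exists_gen_hom x hx.transcendental
  haveI := hx.finite
  haveI := hx.separable
  let alg : Algebra (RatFunc k) K := ((k⟮x⟯.val).comp e.toAlgHom).toRingHom.toAlgebra
  refine ⟨alg, IsScalarTower.of_algebraMap_eq' ?_, ?_, ?_, ?_⟩
  · ext c
    exact (((k⟮x⟯.val).comp e.toAlgHom).commutes c).symm
  · rw [← RatFunc.algebraMap_X]
    exact (he _).trans (Polynomial.aeval_X x)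
  · exact Module.finite_of_finrank_pos ((Algebra.finrank_eq_of_equiv_equiv e.toRingEquiv (RingEquiv.refl K)
      (RingHom.ext fun r => rfl)).trans_gt Module.finrank_pos)
  · exact Algebra.IsSeparable.of_equiv_equiv e.symm.toRingEquiv (RingEquiv.refl K)
      (RingHom.ext fun r => by
        show ((e (e.symm r) : k⟮x⟯) : K) = (r : K)
        rw [e.apply_symm_apply])

variable [Algebra (RatFunc k) K] [IsScalarTower k (RatFunc k) K]

/-- a basis over `k(x)` without finite poles -/
lemma exists_good_basis (hK : IsFF k K) [FiniteDimensional (RatFunc k) K] :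
    ∃ b : Module.Basis (Fin (Module.finrank (RatFunc k) K)) (RatFunc k) K,
      ∀ i (R : Place k K), R.1 (algebraMap (RatFunc k) K RatFunc.X) ≤ 1 → R.1 (b i) ≤ 1 := by
  classical
  set x := algebraMap (RatFunc k) K RatFunc.X
  let b0 := Module.finBasis (RatFunc k) K
  have hd : ∀ z : K, ∃ d : Polynomial k, d ≠ 0 ∧ ∀ R : Place k K, R.1 x ≤ 1 → R.1 (Polynomial.aeval x d * z) ≤ 1 := by
    intro z
    have hg : ∀ R : Place k K, ∃ g : Polynomial k, g ≠ 0 ∧ (R.1 x ≤ 1 → R.1 (Polynomial.aeval x g) < 1) := by
      intro R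
      by_cases hR : R.1 x ≤ 1
      · obtain ⟨g, hg, hgR⟩ := exists_resPoly hK R hR
        exact ⟨g, hg.ne_zero, fun _ => (hgR g).2 dvd_rfl⟩
      · exact ⟨1, one_ne_zero, fun h => absurd h hR⟩
    choose g hg0 hg using hg
    set T := (finite_poles hK z).toFinset
    set m := T.sup fun R => (log (R.1 z)).toNat
    refine ⟨(∏ R ∈ T, g R) ^ m, pow_ne_zero _ (Finset.prod_ne_zero_iff.2 fun R _ => hg0 R), fun R hR => ?_⟩
    rw [map_pow, map_prod, map_mul, map_pow, map_prod]
    by_cases hRT : R ∈ T
    · rw [← Finset.mul_prod_erase _ _ hRT]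
      refine (mul_le_mul' (pow_le_pow_left' ((mul_le_of_le_one_right'
        (Finset.prod_le_one' fun S _ => val_aeval_le' R hR _)).trans
        ((lt_exp_iff _ 0).1 ((hg R hR).trans_eq exp_zero.symm))) m) (le_refl _)).trans ?_
      rcases eq_or_ne (R.1 z) 0 with h0 | h0
      · rw [h0, mul_zero]; exact zero_le
      · have hz' : R.1 z ≤ exp (m : ℤ) := by
          rw [← log_le_iff_le_exp h0]
          have := Finset.le_sup (f := fun R : Place k K => (log (R.1 z)).toNat) hRT
          omega
        refine (mul_le_mul' le_rfl hz').trans_eq ?_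
        rw [← exp_nsmul, ← exp_add, ← exp_zero]
        congr 1
        simp
    · refine mul_le_one' (pow_le_one' (Finset.prod_le_one' fun S _ => val_aeval_le' R hR _) m) (not_lt.1 fun h => ?_)
      exact hRT ((finite_poles hK z).mem_toFinset.2 h)
  choose d hd0 hdR using fun i => hd (b0 i)
  have hu : ∀ i, algebraMap (Polynomial k) (RatFunc k) (d i) ≠ 0 := fun i => polyToRat_ne_zero (hd0 i)
  refine ⟨b0.unitsSMul fun i => Units.mk0 _ (hu i), fun i R hR => ?_⟩
  rw [Module.Basis.unitsSMul_apply, Units.smul_def, Units.val_mk0, Algebra.smul_def, algebraMap_poly_eq_aeval]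
  exact hdR i R hR

end

section

variable {k k' K K' : Type*} [Field k] [Field k'] [Field K] [Field K']
  [Algebra k k'] [FiniteDimensional k k'] [Algebra k K] [Algebra K K'] [Algebra k' K'] [Algebra k K']
  [IsScalarTower k k' K'] [IsScalarTower k K K'] [Algebra (RatFunc k) K] [IsScalarTower k (RatFunc k) K]

omit [Algebra (RatFunc k) K] [IsScalarTower k (RatFunc k) K] in
lemma isFF_bc (h : IsBC k k' K K') (hK : IsFF k K) : IsFF k' K' := by
  haveI := bc_finite h
  obtain ⟨x, hx, hxf⟩ := hK
  have hxk : Transcendental k (algebraMap K K' x) :=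
    (transcendental_algebraMap_iff (algebraMap K K').injective).2 hx
  refine ⟨algebraMap K K' x, fun ha => hxk (ha.restrictScalars k), ?_⟩
  haveI := finite_adjoin (isFF_ext (K' := K') (⟨x, hx, hxf⟩ : IsFF k K)) hxk
  let L : IntermediateField k K' := IntermediateField.adjoin k ({algebraMap K K' x} : Set K')
  let M : IntermediateField k' K' := IntermediateField.adjoin k' ({algebraMap K K' x} : Set K')
  have hle : L ≤ M.restrictScalars k :=
    IntermediateField.adjoin_simple_le_iff.2 (IntermediateField.mem_adjoin_simple_self k' _)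
  letI : Algebra L M := ((IntermediateField.inclusion hle : L →ₐ[k] M.restrictScalars k).toRingHom :
    L →+* M).toAlgebra
  haveI : IsScalarTower L M K' := IsScalarTower.of_algebraMap_eq fun _ => rfl
  exact Module.Finite.of_restrictScalars_finite L M K'

/-- `k'`-coefficientwise coordinates of a polynomial -/
private noncomputable def coordPoly (j : Fin (Module.finrank k k')) (q : Polynomial k') : Polynomial k :=
  q.sum fun n c => Polynomial.monomial n ((Module.finBasis k k').repr c j)

lemma coordPoly_coeff (j : Fin (Module.finrank k k')) (q : Polynomial k') (n : ℕ) :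
    (coordPoly (k := k) j q).coeff n = (Module.finBasis k k').repr (q.coeff n) j := by
  simp only [coordPoly, Polynomial.sum_def, Polynomial.finsetSum_coeff, Polynomial.coeff_monomial,
    Finset.sum_ite_eq', Polynomial.mem_support_iff]
  split_ifs with h
  · rfl
  · rw [Polynomial.notMem_support_iff.1 h, map_zero, Finsupp.zero_apply]

lemma repr_aeval_mul (h : IsBC k k' K K') (x a : K) (q : Polynomial k') (j : Fin (Module.finrank k k')) :
    (bcBasis h).repr (algebraMap K K' a * Polynomial.aeval (algebraMap K K' x) q) j =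
      a * Polynomial.aeval x (coordPoly j q) := by
  induction q using Polynomial.induction_on' with
  | add p q hp hq =>
    rw [map_add, mul_add, map_add, Finsupp.add_apply, hp, hq, coordPoly, coordPoly, coordPoly,
      Polynomial.sum_add_index _ _ _ (fun n => by simp) (fun n b c => by simp [map_add]), map_add, mul_add]
  | monomial n c =>
    have hc : algebraMap k' K' c = ∑ i, algebraMap k K ((Module.finBasis k k').repr c i) • algebraMap k' K' (Module.finBasis k k' i) := by
      conv_lhs => rw [← (Module.finBasis k k').sum_repr c]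
      rw [map_sum]
      refine Finset.sum_congr rfl fun i _ => ?_
      rw [algebraMap_smul, Algebra.smul_def, map_mul, ← IsScalarTower.algebraMap_apply, Algebra.smul_def]
    rw [coordPoly, Polynomial.sum_monomial_index _ _ (by simp), Polynomial.aeval_monomial, Polynomial.aeval_monomial,
      ← map_pow, mul_left_comm, hc, ← map_mul, Finset.sum_mul]
    simp_rw [smul_mul_assoc, mul_comm (algebraMap k' K' _) (algebraMap K K' _), ← Algebra.smul_def, smul_smul]
    rw [bc_repr h, Algebra.smul_def]
    ring

/-- the discriminant of a basis without finite poles is a conductor -/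
theorem discr_conductor (h : IsBC k k' K K') (hK : IsFF k K)
    (hxt : Transcendental k (algebraMap (RatFunc k) K RatFunc.X))
    {ι : Type*} [Fintype ι] [DecidableEq ι] (b : Module.Basis ι (RatFunc k) K) [Algebra.IsSeparable (RatFunc k) K]
    (hb : ∀ i (R : Place k K), R.1 (algebraMap (RatFunc k) K RatFunc.X) ≤ 1 → R.1 (b i) ≤ 1)
    {P : Place k K} (hx : P.1 (algebraMap (RatFunc k) K RatFunc.X) ≤ 1) {z : K'} (hz : z ∈ IntP K' P) :
    algebraMap (RatFunc k) K (Algebra.discr (RatFunc k) b) • z ∈ BO k' K' P := by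
  classical
  haveI := bc_finite h
  haveI : FiniteDimensional (RatFunc k) K := Module.Finite.of_basis b
  set x := algebraMap (RatFunc k) K RatFunc.X with hxdef
  have hxt' : Transcendental k' (algebraMap K K' x) := fun ha =>
    ((transcendental_algebraMap_iff (algebraMap K K').injective).2 hxt) (ha.restrictScalars k)
  obtain ⟨alg, htow, hX, hpoly, -, -⟩ := exists_ratFunc_algebra hxt'
  letI := alg
  haveI := htow
  -- `k(X) → k'(X)`
  have hj : Function.Injective ((algebraMap (Polynomial k') (RatFunc k')).comp (Polynomial.mapRingHom (algebraMap k k'))) :=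
    (RatFunc.algebraMap_injective k').comp (Polynomial.map_injective _ (algebraMap k k').injective)
  let φ : RatFunc k →+* RatFunc k' := IsFractionRing.lift hj
  have hcompat : ∀ r, algebraMap (RatFunc k') K' (φ r) = algebraMap K K' (algebraMap (RatFunc k) K r) := by
    have : (algebraMap (RatFunc k') K').comp φ = (algebraMap K K').comp (algebraMap (RatFunc k) K) := by
      refine IsLocalization.ringHom_ext (nonZeroDivisors (Polynomial k)) (RingHom.ext fun q => ?_)
      simp only [RingHom.comp_apply, φ, IsFractionRing.lift_algebraMap, Polynomial.coe_mapRingHom]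
      rw [hpoly, Polynomial.aeval_map_algebraMap, Polynomial.aeval_algebraMap_apply, algebraMap_poly_eq_aeval]
    exact fun r => RingHom.congr_fun this r
  -- the basis
  let v : ι → K' := fun i => algebraMap K K' (b i)
  have hli : LinearIndependent (RatFunc k') v := by
    rw [Fintype.linearIndependent_iff]
    intro c hc i
    obtain ⟨⟨d, hd⟩, hq⟩ := IsLocalization.exist_integer_multiples_of_finite (nonZeroDivisors (Polynomial k')) c
    choose q hq using hq
    have h0 : ∑ i, algebraMap K K' (b i) * Polynomial.aeval (algebraMap K K' x) (q i) = 0 := by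
      rw [← mul_zero (algebraMap (RatFunc k') K' (algebraMap _ _ d)), ← hc, Finset.mul_sum]
      refine Finset.sum_congr rfl fun i _ => ?_
      have hqi : algebraMap (Polynomial k') (RatFunc k') (q i) = algebraMap _ _ d * c i :=
        (hq i).trans (Algebra.smul_def d (c i))
      rw [← hpoly, hqi, map_mul, Algebra.smul_def]
      ring
    have hq0 : ∀ i, q i = 0 := by
      intro i
      refine Polynomial.ext fun n => (Module.finBasis k k').repr.injective (Finsupp.ext fun j => ?_)
      have h1 := congrArg (fun y => (bcBasis h).repr y j) h0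
      simp only [map_sum, Finsupp.finsetSum_apply, repr_aeval_mul, map_zero, Finsupp.zero_apply] at h1
      have h2 := Fintype.linearIndependent_iff.1 b.linearIndependent
        (fun i => algebraMap (Polynomial k) (RatFunc k) (coordPoly j (q i))) (by
          refine Eq.trans (Finset.sum_congr rfl fun i _ => ?_) h1
          rw [Algebra.smul_def, algebraMap_poly_eq_aeval, mul_comm]) i
      rw [Polynomial.coeff_zero, map_zero, Finsupp.zero_apply, ← coordPoly_coeff,
        RatFunc.algebraMap_injective k (h2.trans (map_zero _).symm), Polynomial.coeff_zero]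
    have := hq i
    rw [hq0 i, map_zero] at this
    rcases smul_eq_zero.1 this.symm with h' | h'
    · exact absurd h' (nonZeroDivisors.ne_zero hd)
    · exact h'
  have hspan : ⊤ ≤ Submodule.span (RatFunc k') (Set.range v) := by
    intro z _
    rw [← (bcBasis h).sum_repr z]
    refine Submodule.sum_mem _ fun j _ => ?_
    rw [Algebra.smul_def, bcBasis_apply h, mul_comm, IsScalarTower.algebraMap_apply k' (RatFunc k') K',
      ← Algebra.smul_def, ← b.sum_repr ((bcBasis h).repr z j), map_sum]
    refine Submodule.smul_mem _ _ (Submodule.sum_mem _ fun i _ => ?_)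
    rw [Algebra.smul_def, map_mul, ← hcompat, ← Algebra.smul_def]
    exact Submodule.smul_mem _ _ (Submodule.subset_span ⟨i, rfl⟩)
  let b' := Module.Basis.mk hli hspan
  have hb' : ∀ i, b' i = algebraMap K K' (b i) := fun i => Module.Basis.mk_apply _ _ i
  haveI : FiniteDimensional (RatFunc k') K' := Module.Finite.of_basis b'
  have htr : ∀ a : K, Algebra.trace (RatFunc k') K' (algebraMap K K' a) = φ (Algebra.trace (RatFunc k) K a) := by
    intro a
    rw [Algebra.trace_eq_matrix_trace b', Algebra.trace_eq_matrix_trace b, Matrix.trace, Matrix.trace, map_sum]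
    refine Finset.sum_congr rfl fun i _ => ?_
    rw [Matrix.diag_apply, Matrix.diag_apply, Algebra.leftMulMatrix_eq_repr_mul, Algebra.leftMulMatrix_eq_repr_mul,
      hb', ← map_mul]
    conv_lhs => rw [← b.sum_repr (a * b i), map_sum]
    have hs : ∑ l, algebraMap K K' (b.repr (a * b i) l • b l) = ∑ l, φ (b.repr (a * b i) l) • b' l :=
      Finset.sum_congr rfl fun l _ => by rw [Algebra.smul_def, map_mul, ← hcompat, ← Algebra.smul_def, hb']
    rw [hs, b'.repr_sum_self]
  -- the trace matrix is polynomial
  have hint : ∀ (i : ι) (P0 : Place k (RatFunc k)), P0.1 RatFunc.X ≤ 1 → b i ∈ IntP K P0 := fun i P0 hP0 =>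
    mem_IntP.2 fun R hR => hb i R ((val_algebraMap_le_one_iff hR _).2 hP0)
  have hGp : ∀ i j, ∃ q : Polynomial k,
      Algebra.traceMatrix (RatFunc k) b i j = algebraMap (Polynomial k) (RatFunc k) q := fun i j =>
    rat_eq_poly fun P0 hP0 => by
      rw [Algebra.traceMatrix_apply, Algebra.traceForm_apply]
      exact trace_val_le isFunctionField_ratFunc.1 (mul_mem_Loc (hint i P0 hP0) (hint j P0 hP0))
  choose Gp hGp using hGp
  have hG : Algebra.traceMatrix (RatFunc k) b = (Matrix.of Gp).map (algebraMap (Polynomial k) (RatFunc k)) :=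
    Matrix.ext fun i j => hGp i j
  let Gp' : Matrix ι ι (Polynomial k') := (Matrix.of Gp).map (Polynomial.mapRingHom (algebraMap k k'))
  have hG' : Algebra.traceMatrix (RatFunc k') b' = Gp'.map (algebraMap (Polynomial k') (RatFunc k')) := by
    refine Matrix.ext fun i j => ?_
    rw [Algebra.traceMatrix_apply, Algebra.traceForm_apply, hb', hb', ← map_mul, htr]
    show φ (Algebra.traceMatrix (RatFunc k) b i j) = _
    rw [hGp]
    exact IsFractionRing.lift_algebraMap hj _
  -- the multiplier
  obtain ⟨N, hN⟩ : ∃ N : ℕ, ∀ R : Place k K', R.1 z ≤ exp (N : ℤ) := by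
    refine ⟨(finite_poles (isFF_ext hK) z).toFinset.sup fun R => (log (R.1 z)).toNat, fun R => ?_⟩
    by_cases hR : 1 < R.1 z
    · rw [← log_le_iff_le_exp (ne_of_gt (zero_lt_one.trans hR))]
      have := Finset.le_sup (f := fun R : Place k K' => (log (R.1 z)).toNat)
        ((finite_poles (isFF_ext hK) z).mem_toFinset.2 hR)
      omega
    · exact (not_lt.1 hR).trans ((exp_zero.symm.le).trans (exp_le_exp.2 (by omega)))
  choose below hbelow using fun R : Place k K' => exists_below hK R
  obtain ⟨s, hsP, hs1, hsT⟩ := exists_unit_clear hK hxt P hx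
    ((finite_poles (isFF_ext hK) z).toFinset.image below) N
  set w := algebraMap K K' s * z with hw
  have hwI : ∀ R : Place k K', R.1 (algebraMap K K' x) ≤ 1 → R.1 w ≤ 1 := by
    intro R hR
    have hRx : (below R).1 x ≤ 1 := (val_algebraMap_le_one_iff (hbelow R) _).1 hR
    rw [hw, map_mul]
    by_cases hpole : 1 < R.1 z
    · have hne : below R ≠ P := fun he => (not_le.2 hpole) (mem_IntP.1 hz R (he ▸ hbelow R))
      have h1 := hsT (below R) (Finset.mem_image.2 ⟨R, (finite_poles (isFF_ext hK) z).mem_toFinset.2 hpole, rfl⟩) hne hRx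
      rw [(isOverWith_ramIdx (hbelow R)) s]
      refine (mul_le_mul' ((pow_le_of_le_one zero_le (hs1 _ hRx) (ramIdx_pos (hbelow R)).ne').trans h1) (hN R)).trans_eq ?_
      rw [← exp_add, neg_add_cancel, exp_zero]
    · exact mul_le_one' ((val_algebraMap_le_one_iff (hbelow R) s).2 (hs1 _ hRx)) (not_lt.1 hpole)
  have hwpoly : ∀ i, ∃ q : Polynomial k',
      Algebra.trace (RatFunc k') K' (w * b' i) = algebraMap (Polynomial k') (RatFunc k') q := fun i =>
    rat_eq_poly fun P0 hP0 => trace_val_le isFunctionField_ratFunc.1 (mem_IntP.2 fun R hR => by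
      let R0 : Place k K' := ⟨R.1, fun c => by rw [IsScalarTower.algebraMap_apply k k' K']; exact R.2.1 _, R.2.2⟩
      have hRX : R.1 (algebraMap K K' x) ≤ 1 := by rw [← hX]; exact (val_algebraMap_le_one_iff hR _).2 hP0
      rw [map_mul, hb']
      refine mul_le_one' (hwI R0 hRX) ?_
      exact (val_algebraMap_le_one_iff (hbelow R0) _).2
        (hb i _ ((val_algebraMap_le_one_iff (hbelow R0) _).1 hRX)))
  choose qv hqv using hwpoly
  -- Cramer
  have hmul : Algebra.traceMatrix (RatFunc k') b' *ᵥ (fun i => b'.repr w i) =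
      algebraMap (Polynomial k') (RatFunc k') ∘ qv := by
    funext i
    refine Eq.trans ?_ (hqv i)
    conv_rhs => rw [← b'.sum_repr w, Finset.sum_mul, map_sum]
    refine Finset.sum_congr rfl fun j _ => ?_
    simp only [smul_mul_assoc, map_smul, smul_eq_mul, mul_comm (b' j), Algebra.traceMatrix_apply,
      Algebra.traceForm_apply]
    ring
  have hadj := congrArg (fun y => (Algebra.traceMatrix (RatFunc k') b').adjugate *ᵥ y) hmul
  simp only [Matrix.mulVec_mulVec, Matrix.adjugate_mul, Matrix.smul_mulVec, Matrix.one_mulVec] at hadj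
  rw [hG', ← RingHom.mapMatrix_apply, ← RingHom.map_det, ← RingHom.map_adjugate] at hadj
  -- conclusion
  set D := Polynomial.aeval x (Matrix.of Gp).det with hD
  have hDdiscr : algebraMap (RatFunc k) K (Algebra.discr (RatFunc k) b) = D := by
    rw [Algebra.discr_def, hG, ← RingHom.mapMatrix_apply, ← RingHom.map_det, algebraMap_poly_eq_aeval]
  rw [hDdiscr]
  have hdet : Gp'.det = (Matrix.of Gp).det.map (algebraMap k k') :=
    (RingHom.map_det (Polynomial.mapRingHom (algebraMap k k')) (Matrix.of Gp)).symm
  have hxBO : ∀ q : Polynomial k', Polynomial.aeval (algebraMap K K' x) q ∈ BO k' K' P := by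
    intro q
    induction q using Polynomial.induction_on' with
    | add p q hp hq => rw [map_add]; exact add_mem hp hq
    | monomial n c =>
      rw [Polynomial.aeval_monomial]
      exact Subalgebra.mul_mem _ (const_mem_BO P c) (Subalgebra.pow_mem _ (algebraMap_mem_BO P hx) n)
  have hDw : D • w ∈ BO k' K' P := by
    have : D • w = ∑ i, algebraMap (RatFunc k') K' (algebraMap (Polynomial k') (RatFunc k') Gp'.det * b'.repr w i) * algebraMap K K' (b i) := by
      conv_lhs => rw [← b'.sum_repr w, Finset.smul_sum]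
      refine Finset.sum_congr rfl fun i _ => ?_
      rw [Algebra.smul_def, Algebra.smul_def, map_mul (algebraMap (RatFunc k') K'), hb', hdet, hpoly, Polynomial.aeval_map_algebraMap,
        Polynomial.aeval_algebraMap_apply, mul_assoc]
    rw [this]
    refine Subalgebra.sum_mem _ fun i _ => Subalgebra.mul_mem _ ?_ (algebraMap_mem_BO P (hb i P hx))
    have hi := congrFun hadj i
    rw [Pi.smul_apply, smul_eq_mul] at hi
    rw [hi]
    simp only [Matrix.mulVec, dotProduct, Function.comp_apply, Matrix.map_apply, RingHom.mapMatrix_apply,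
      ← map_mul, ← map_sum, hpoly]
    exact hxBO _
  have hs0 : s ≠ 0 := fun h => by rw [h, map_zero] at hsP; exact zero_ne_one hsP
  have : D • z = algebraMap K K' s⁻¹ * (D • w) := by
    rw [hw, mul_smul_comm, ← mul_assoc, ← map_mul, inv_mul_cancel₀ hs0, map_one, one_mul]
  rw [this]
  exact Subalgebra.mul_mem _ (algebraMap_mem_BO P (by rw [map_inv₀, hsP, inv_one])) hDw

end

section

universe w w'

variable {k K : Type*} [Field k] [Field K] [Algebra k K]

lemma isSepVar_inv {x : K} (hx : IsSepVar k x) : IsSepVar k x⁻¹ := by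
  have e : k⟮x⟯ = k⟮x⁻¹⟯ := le_antisymm
    (IntermediateField.adjoin_simple_le_iff.2 (by
      simpa using IntermediateField.inv_mem _ (IntermediateField.mem_adjoin_simple_self k x⁻¹)))
    (IntermediateField.adjoin_simple_le_iff.2 (IntermediateField.inv_mem _ (IntermediateField.mem_adjoin_simple_self k x)))
  refine ⟨fun h => hx.transcendental (by simpa using h.inv), ?_, ?_⟩
  · rw [← e]; exact hx.finite
  · rw [← e]; exact hx.separable

/-- a conductor at all finite places of a separating variable, uniform in `k'` -/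
theorem exists_sepVar_conductor (hK : IsFF k K) {x : K} (hx : IsSepVar k x) :
    ∃ D : K, D ≠ 0 ∧ ∀ (k' : Type w) (K' : Type w') [Field k'] [Field K'] [Algebra k k'] [FiniteDimensional k k']
      [Algebra K K'] [Algebra k' K'] [Algebra k K'] [IsScalarTower k k' K'] [IsScalarTower k K K'],
      IsBC k k' K K' → ∀ P : Place k K, P.1 x ≤ 1 → ∀ z ∈ IntP K' P, D • z ∈ BO k' K' P := by
  obtain ⟨alg, htow, hX, hfin, hsep⟩ := exists_ratFunc_separable hx
  letI := alg
  haveI := htow
  haveI := hfin
  haveI := hsep
  obtain ⟨b, hb⟩ := exists_good_basis hK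
  refine ⟨algebraMap (RatFunc k) K (Algebra.discr (RatFunc k) b),
    (map_ne_zero _).2 (Algebra.discr_not_zero_of_basis _ b), ?_⟩
  intro k' K' _ _ _ _ _ _ _ _ _ h P hP z hz
  exact discr_conductor h hK (hX.symm ▸ hx.transcendental) b hb (hX.symm ▸ hP) hz

/-- a conductor at each place, uniform in `k'` -/
theorem exists_place_conductor (hK : IsFunctionField k K) (hG : Good k K) (P : Place k K) :
    ∃ D : K, D ≠ 0 ∧ ∀ (k' : Type w) (K' : Type w') [Field k'] [Field K'] [Algebra k k'] [FiniteDimensional k k']
      [Algebra K K'] [Algebra k' K'] [Algebra k K'] [IsScalarTower k k' K'] [IsScalarTower k K K'],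
      IsBC k k' K K' → ∀ z ∈ IntP K' P, D • z ∈ BO k' K' P := by
  obtain ⟨x, hx⟩ := exists_isSepVar hK hG
  obtain ⟨y, hy, hPy⟩ : ∃ y, IsSepVar k y ∧ P.1 y ≤ 1 := by
    rcases le_total (P.1 x) 1 with h | h
    · exact ⟨x, hx, h⟩
    · refine ⟨x⁻¹, isSepVar_inv hx, ?_⟩
      rw [map_inv₀]
      exact inv_le_one_of_one_le₀ h
  obtain ⟨D, hD, hc⟩ := exists_sepVar_conductor.{w, w'} hK.1 hy
  refine ⟨D, hD, ?_⟩
  intro k' K' _ _ _ _ _ _ _ _ _ h z hz
  exact hc k' K' h P hPy z hz

/-- outside a finite set of places `O_P[k']` is integrally closed for all `k'` -/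
theorem exists_finite_singular (hK : IsFunctionField k K) (hG : Good k K) :
    ∃ S : Set (Place k K), S.Finite ∧ ∀ (k' : Type w) (K' : Type w') [Field k'] [Field K'] [Algebra k k'] [FiniteDimensional k k']
      [Algebra K K'] [Algebra k' K'] [Algebra k K'] [IsScalarTower k k' K'] [IsScalarTower k K K'],
      IsBC k k' K K' → ∀ P ∉ S, ∀ z ∈ IntP K' P, z ∈ BO k' K' P := by
  obtain ⟨x, hx⟩ := exists_isSepVar hK hG
  obtain ⟨D, hD, hc⟩ := exists_sepVar_conductor.{w, w'} hK.1 hx
  refine ⟨{P | 1 < P.1 x} ∪ Function.support (fun P : Place k K => P.ord D),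
    (finite_poles hK.1 x).union (finite_support_ord hK.1 D), ?_⟩
  intro k' K' _ _ _ _ _ _ _ _ _ h P hP z hz
  simp only [Set.mem_union, Set.mem_ofPred_eq, Function.mem_support, not_or, not_lt, not_not] at hP
  have h1 : D • z ∈ BO k' K' P := hc k' K' h P hP.1 z hz
  have h2 : z = algebraMap K K' D⁻¹ * D • z := by
    rw [Algebra.smul_def, ← mul_assoc, ← map_mul, inv_mul_cancel₀ hD, map_one, one_mul]
  rw [h2]
  exact Subalgebra.mul_mem _ (algebraMap_mem_BO P (by rw [map_inv₀, (val_eq_one_iff P hD).2 hP.2, inv_one])) h1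

end

end Groth.Agent.FF
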