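import Groth.Agent.FF.Nonsing4
import Groth.Agent.FF.UnifConductor
import Groth.Agent.FF.GeomCrit2
import Mathlib.FieldTheory.PurelyInseparable.PerfectClosure
import Mathlib.FieldTheory.Galois.Basic

/-! A purely inseparable constant extension making a function field nonsingular. -/

set_option autoImplicit false
set_option linter.style.haveILetI false
set_option linter.unusedSectionVars false
set_option linter.style.longLine false

open FunFld WithZero
open scoped TensorProduct

namespace Groth.Agent.FF

section Ambient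

variable {k A K : Type*} [Field k] [Field A] [Algebra k A] [Field K] [Algebra k K]

/-- `O_P → A ⊗ K` -/
noncomputable def intHom (A : Type*) [Field A] [Algebra k A] (P : Place k K) : P.O →+* A ⊗[k] K :=
  ((Algebra.TensorProduct.includeRight : K →ₐ[k] A ⊗[k] K).toRingHom).comp P.O.subtype

/-- `k'⊗K` inside `A⊗K` -/
noncomputable def RK (K : Type*) [Field K] [Algebra k K] {k' : Type*} [Field k'] [Algebra k k'] (ι : k' →ₐ[k] A) :
    Subalgebra k (A ⊗[k] K) :=
  (Algebra.TensorProduct.map ι (AlgHom.id k K)).range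

/-- the `A`-span of the integral elements -/
noncomputable def WS (P : Place k K) (R : Subalgebra k (A ⊗[k] K)) : Submodule A (A ⊗[k] K) :=
  Submodule.span A {y | y ∈ R ∧ (intHom A P).IsIntegralElem y}

/-- the `A`-span of `O_P` -/
noncomputable def AO (A : Type*) [Field A] [Algebra k A] (P : Place k K) : Submodule A (A ⊗[k] K) :=
  Submodule.span A (Set.range (intHom A P))

lemma WS_mono (P : Place k K) {R R' : Subalgebra k (A ⊗[k] K)} (h : R ≤ R') : WS P R ≤ WS P R' :=
  Submodule.span_mono fun _ hy => ⟨h hy.1, hy.2⟩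

lemma smul_eq_tmul_mul (a : A) (z : A ⊗[k] K) : a • z = (a ⊗ₜ[k] (1 : K)) * z := by
  induction z using TensorProduct.induction_on with
  | zero => rw [smul_zero, mul_zero]
  | add x y hx hy => rw [smul_add, mul_add, hx, hy]
  | tmul b c => rw [TensorProduct.smul_tmul', Algebra.TensorProduct.tmul_mul_tmul, one_mul, smul_eq_mul]

lemma RK_mono {k' k'' : Type*} [Field k'] [Algebra k k'] [Field k''] [Algebra k k''] (ι : k' →ₐ[k] A)
    (ι' : k'' →ₐ[k] A) (h : ι.fieldRange ≤ ι'.fieldRange) : RK K ι ≤ RK K ι' := by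
  rintro _ ⟨β, rfl⟩
  induction β using TensorProduct.induction_on with
  | zero => exact ⟨0, by simp⟩
  | add x y hx hy =>
    show (Algebra.TensorProduct.map ι (AlgHom.id k K)) (x + y) ∈ RK K ι'
    rw [map_add]
    exact add_mem hx hy
  | tmul a b =>
    obtain ⟨a', ha'⟩ := h ⟨a, rfl⟩
    exact ⟨a' ⊗ₜ b, congrArg (· ⊗ₜ[k] b) ha'⟩

lemma AO_le_WS (P : Place k K) {k' : Type*} [Field k'] [Algebra k k'] (ι : k' →ₐ[k] A) :
    AO A P ≤ WS P (RK K ι) := by
  refine Submodule.span_mono ?_
  rintro _ ⟨a, rfl⟩
  refine ⟨⟨1 ⊗ₜ (a : K), ?_⟩, (intHom A P).isIntegralElem_map⟩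
  show (Algebra.TensorProduct.map ι (AlgHom.id k K)) (1 ⊗ₜ (a : K)) = _
  rw [Algebra.TensorProduct.map_tmul, map_one]
  rfl

end Ambient

section Theta

variable {k k' A K K' : Type*} [Field k] [Field k'] [Field A] [Algebra k A] [Field K] [Field K']
  [Algebra k k'] [FiniteDimensional k k'] [Algebra k K] [Algebra K K'] [Algebra k' K'] [Algebra k K']
  [IsScalarTower k k' K'] [IsScalarTower k K K']

/-- `K' → A ⊗ K` -/
noncomputable def theta (h : IsBC k k' K K') (ι : k' →ₐ[k] A) : K' →ₐ[k] A ⊗[k] K :=
  (Algebra.TensorProduct.map ι (AlgHom.id k K)).comp (AlgEquiv.ofBijective _ h).symm.toAlgHom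

lemma theta_productMap (h : IsBC k k' K K') (ι : k' →ₐ[k] A) (β : k' ⊗[k] K) :
    theta h ι (Algebra.TensorProduct.productMap (IsScalarTower.toAlgHom k k' K') (IsScalarTower.toAlgHom k K K') β) =
      Algebra.TensorProduct.map ι (AlgHom.id k K) β :=
  congrArg (Algebra.TensorProduct.map ι (AlgHom.id k K)) ((AlgEquiv.ofBijective _ h).symm_apply_apply β)

lemma theta_const (h : IsBC k k' K K') (ι : k' →ₐ[k] A) (c : k') :
    theta h ι (algebraMap k' K' c) = ι c ⊗ₜ[k] (1 : K) := by
  have := theta_productMap h ι (c ⊗ₜ[k] (1 : K))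
  simpa using this

lemma theta_algebraMap (h : IsBC k k' K K') (ι : k' →ₐ[k] A) (a : K) :
    theta h ι (algebraMap K K' a) = (1 : A) ⊗ₜ[k] a := by
  have := theta_productMap h ι ((1 : k') ⊗ₜ[k] a)
  simpa using this

lemma theta_mem_RK (h : IsBC k k' K K') (ι : k' →ₐ[k] A) (z : K') : theta h ι z ∈ RK K ι := ⟨_, rfl⟩

lemma exists_theta_eq (h : IsBC k k' K K') (ι : k' →ₐ[k] A) {y : A ⊗[k] K} (hy : y ∈ RK K ι) :
    ∃ z : K', theta h ι z = y := by
  obtain ⟨β, rfl⟩ := hy
  exact ⟨_, theta_productMap h ι β⟩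

lemma isIntegralElem_theta_iff (h : IsBC k k' K K') (hK : IsFF k K) (ι : k' →ₐ[k] A) (P : Place k K) (z : K') :
    (intHom A P).IsIntegralElem (theta h ι z) ↔ z ∈ IntP K' P := by
  haveI := bc_finite h
  letI : Algebra P.O K' := ((algebraMap K K').comp P.O.subtype).toAlgebra
  haveI : IsScalarTower P.O K K' := IsScalarTower.of_algebraMap_eq fun _ => rfl
  rw [← isIntegral_iff_mem_IntP hK z]
  have hc : intHom A P = (theta h ι).toRingHom.comp (algebraMap P.O K') :=
    RingHom.ext fun a => (theta_algebraMap h ι (a : K)).symm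
  rw [hc]
  exact RingHom.IsIntegralElem.map_iff (theta h ι).toRingHom.injective

lemma theta_mem_WS (h : IsBC k k' K K') (hK : IsFF k K) (ι : k' →ₐ[k] A) {P : Place k K} {z : K'}
    (hz : z ∈ IntP K' P) : theta h ι z ∈ WS P (RK K ι) :=
  Submodule.subset_span ⟨theta_mem_RK h ι z, (isIntegralElem_theta_iff h hK ι P z).2 hz⟩

end Theta

section Tower

variable {k k' k'' A K K' K'' : Type*} [Field k] [Field k'] [Field k''] [Field A] [Algebra k A]
  [Field K] [Field K'] [Field K'']
  [Algebra k k'] [Algebra k' k''] [Algebra k k''] [IsScalarTower k k' k'']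
  [FiniteDimensional k k'] [FiniteDimensional k' k''] [FiniteDimensional k k'']
  [Algebra k K] [Algebra K K'] [Algebra k' K'] [Algebra k K'] [IsScalarTower k k' K'] [IsScalarTower k K K']
  [Algebra K' K''] [Algebra k'' K''] [Algebra k' K''] [Algebra k K''] [Algebra K K'']
  [IsScalarTower k' k'' K''] [IsScalarTower k' K' K''] [IsScalarTower K K' K''] [IsScalarTower k K K'']
  [IsScalarTower k k'' K'']

lemma theta_tower (h1 : IsBC k k' K K') (h : IsBC k k'' K K'') (ι'' : k'' →ₐ[k] A) (y : K') :
    theta h ι'' (algebraMap K' K'' y) = theta h1 (ι''.comp (IsScalarTower.toAlgHom k k' k'')) y := by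
  obtain ⟨β, rfl⟩ := h1.2 y
  induction β using TensorProduct.induction_on with
  | zero => simp only [map_zero]
  | add x z hx hz => rw [map_add, map_add, map_add, map_add, hx, hz]
  | tmul a b =>
    simp only [Algebra.TensorProduct.productMap_apply_tmul, map_mul, IsScalarTower.toAlgHom_apply,
      ← IsScalarTower.algebraMap_apply K K' K'', theta_algebraMap, theta_const]
    rw [← IsScalarTower.algebraMap_apply k' K' K'', IsScalarTower.algebraMap_apply k' k'' K'', theta_const]
    rfl

/-- integral span only from below: integral coordinates -/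
theorem coord_mem_IntP (h1 : IsBC k k' K K') (h2 : IsBC k' k'' K' K'') (h : IsBC k k'' K K'') (hK : IsFF k K)
    (P : Place k K) (ι'' : k'' →ₐ[k] A)
    (hW : WS P (RK K ι'') ≤ WS P (RK K (ι''.comp (IsScalarTower.toAlgHom k k' k''))))
    {z : K''} (hz : z ∈ IntP K'' P) (l : Fin (Module.finrank k' k'')) :
    (bcBasis h2).repr z l ∈ IntP K' P := by
  classical
  haveI := bc_finite h1
  set ι := ι''.comp (IsScalarTower.toAlgHom k k' k'') with hι
  letI : Algebra k' A := ι.toRingHom.toAlgebra
  haveI : IsScalarTower k k' A := IsScalarTower.of_algebraMap_eq fun c => (ι.commutes c).symm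
  let ιl : k'' →ₗ[k'] A :=
    { toFun := ι''
      map_add' := fun a b => map_add ι'' a b
      map_smul' := fun c a => by
        rw [Algebra.smul_def, map_mul, RingHom.id_apply, Algebra.smul_def]
        rfl }
  obtain ⟨g, hg⟩ := ιl.exists_leftInverse_of_injective
    (LinearMap.ker_eq_bot.2 (RingHom.injective (ι'' : k'' →+* A)))
  let lam : A →ₗ[k'] k' := (Module.finBasis k' k'').coord l ∘ₗ g
  let Ψ : A ⊗[k] K →ₗ[k] K' :=
    (Algebra.TensorProduct.productMap (IsScalarTower.toAlgHom k k' K') (IsScalarTower.toAlgHom k K K')).toLinearMap ∘ₗ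
      TensorProduct.map (lam.restrictScalars k) LinearMap.id
  have hΨt : ∀ (a : A) (b : K), Ψ (a ⊗ₜ[k] b) = algebraMap k' K' (lam a) * algebraMap K K' b := fun a b => by
    simp [Ψ]
  have hΨ : ∀ (a : A) (y : K'), Ψ ((a ⊗ₜ[k] (1 : K)) * theta h1 ι y) = algebraMap k' K' (lam a) * y := by
    intro a y
    obtain ⟨β, rfl⟩ := h1.2 y
    rw [theta_productMap]
    induction β using TensorProduct.induction_on with
    | zero => simp only [map_zero, mul_zero]
    | add x z hx hz => simp only [map_add, mul_add, hx, hz]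
    | tmul c b =>
      rw [Algebra.TensorProduct.map_tmul, Algebra.TensorProduct.tmul_mul_tmul, one_mul, AlgHom.id_apply, hΨt,
        show a * ι c = c • a by rw [Algebra.smul_def, mul_comm]; rfl, map_smul, smul_eq_mul, map_mul]
      simp only [Algebra.TensorProduct.productMap_apply_tmul, IsScalarTower.toAlgHom_apply]
      ring
  have hcoord : Ψ (theta h ι'' z) = (bcBasis h2).repr z l := by
    conv_lhs => rw [← (bcBasis h2).sum_repr z]
    simp only [map_sum, Algebra.smul_def, map_mul, bcBasis_apply h2, theta_tower h1 h, theta_const]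
    have hterm : ∀ i, Ψ (theta h1 (ι''.comp (IsScalarTower.toAlgHom k k' k'')) ((bcBasis h2).repr z i) *
        (ι'' (Module.finBasis k' k'' i) ⊗ₜ[k] (1 : K))) = if i = l then (bcBasis h2).repr z i else 0 := by
      intro i
      rw [mul_comm, hΨ]
      have : lam (ι'' (Module.finBasis k' k'' i)) = if i = l then 1 else 0 := by
        have h3 : g (ι'' (Module.finBasis k' k'' i)) = Module.finBasis k' k'' i :=
          LinearMap.congr_fun hg (Module.finBasis k' k'' i)
        simp [lam, h3, Finsupp.single_apply]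
      rw [this]
      split_ifs <;> simp
    simp only [hterm, Finset.sum_ite_eq', Finset.mem_univ, if_true]
  rw [← hcoord]
  have hmem : ∀ y ∈ WS P (RK K ι), ∀ a : A, Ψ ((a ⊗ₜ[k] (1 : K)) * y) ∈ IntP K' P := by
    intro y hy
    induction hy using Submodule.span_induction with
    | mem y hy =>
      intro a
      obtain ⟨w, rfl⟩ := exists_theta_eq h1 ι hy.1
      rw [hΨ]
      exact mul_mem_Loc (mem_IntP_of_mem_BO h1 (const_mem_BO P _)) ((isIntegralElem_theta_iff h1 hK ι P w).1 hy.2)
    | zero => intro a; simp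
    | add x y _ _ hx hy => intro a; rw [mul_add, map_add]; exact add_mem (hx a) (hy a)
    | smul b x _ hx =>
      intro a
      rw [smul_eq_tmul_mul, ← mul_assoc, Algebra.TensorProduct.tmul_mul_tmul, one_mul]
      exact hx _
  have := hmem _ (hW (theta_mem_WS h hK ι'' hz)) 1
  rwa [← Algebra.TensorProduct.one_def, one_mul] at this

/-- integral coordinates give nonsingularity of every place in between -/
theorem nonsing_of_coord (h1 : IsBC k k' K K') (h2 : IsBC k' k'' K' K'') (hK : IsFF k K) (P : Place k K)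
    (hc : ∀ z ∈ IntP K'' P, ∀ l, (bcBasis h2).repr z l ∈ IntP K' P)
    {Q : Place k K'} (hQ : IsOver Q P) {z : K''} (hz : z ∈ IntP K'' (topPlace (k' := k') Q)) :
    z ∈ BO k'' K'' (topPlace (k' := k') Q) := by
  classical
  haveI := bc_finite h1
  haveI := bc_finite h2
  haveI : FiniteDimensional K K'' := Module.Finite.trans K' K''
  haveI : IsScalarTower k K' K'' := IsScalarTower.of_algebraMap_eq fun c => by
    rw [IsScalarTower.algebraMap_apply k K K', ← IsScalarTower.algebraMap_apply K K' K'', ← IsScalarTower.algebraMap_apply]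
  haveI : IsScalarTower k k' K'' := IsScalarTower.of_algebraMap_eq fun c => by
    rw [IsScalarTower.algebraMap_apply k k'' K'', IsScalarTower.algebraMap_apply k k' k'',
      ← IsScalarTower.algebraMap_apply k' k'' K'']
  have hK1 : IsFF k K' := isFF_ext hK
  refine (mem_BO_iff _ h2).2 fun l => ?_
  show Q.1 _ ≤ 1
  obtain ⟨M, hM⟩ : ∃ M : ℕ, ∀ R : Place k K'', R.1 z ≤ exp (M : ℤ) := by
    refine ⟨(finite_poles (isFF_ext hK) z).toFinset.sup fun R => (log (R.1 z)).toNat, fun R => ?_⟩
    by_cases hR : 1 < R.1 z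
    · rw [← log_le_iff_le_exp (ne_of_gt (zero_lt_one.trans hR))]
      have := Finset.le_sup (f := fun R : Place k K'' => (log (R.1 z)).toNat)
        ((finite_poles (isFF_ext hK) z).mem_toFinset.2 hR)
      omega
    · exact (not_lt.1 hR).trans ((exp_zero.symm.le).trans (exp_le_exp.2 (by omega)))
  obtain ⟨e, he⟩ := approx (finite_over (K' := K') hK P).toFinset
    (fun S => if S = Q then 1 else 0) (fun S => if S = Q then -1 else -(M : ℤ))
  have heQ : Q.1 e = 1 := by
    have h := he Q ((finite_over (K' := K') hK P).mem_toFinset.2 hQ)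
    rw [if_pos rfl, if_pos rfl] at h
    have h1 := Valuation.map_add_eq_of_lt_left Q.1 (x := (1 : K')) (y := e - 1) (by
      rw [map_one]; exact h.trans_lt ((exp_lt_exp.2 (by norm_num)).trans_eq exp_zero))
    rwa [add_sub_cancel, map_one] at h1
  have hez : e • z ∈ IntP K'' P := mem_IntP.2 fun R hR => by
    obtain ⟨S, hRS⟩ := exists_below hK1 R
    obtain ⟨P', hP'⟩ := exists_below hK S
    obtain rfl := isOver_unique hR (IsOver_trans hRS hP')
    rw [Algebra.smul_def, map_mul, (isOverWith_ramIdx hRS) e]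
    by_cases hSQ : S = Q
    · subst hSQ
      rw [heQ, one_pow, one_mul]
      exact mem_IntP.1 hz (topPlace R) (by obtain ⟨d, hd⟩ := hRS; exact ⟨d, hd⟩)
    · have h := he S ((finite_over (K' := K') hK P).mem_toFinset.2 hP')
      rw [if_neg hSQ, if_neg hSQ, sub_zero] at h
      have hS1 : S.1 e ≤ 1 := h.trans ((exp_le_exp.2 (by omega)).trans_eq exp_zero)
      refine (mul_le_mul' ((pow_le_of_le_one zero_le hS1 (ramIdx_pos hRS).ne').trans h) (hM R)).trans_eq ?_
      rw [← exp_add, neg_add_cancel, exp_zero]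
  have hcl := hc _ hez l
  rw [map_smul, Finsupp.smul_apply, smul_eq_mul] at hcl
  have := mem_IntP.1 hcl Q hQ
  rwa [map_mul, heQ, one_mul] at this

/-- separable step: the span does not grow -/
theorem WS_le_of_separable (h1 : IsBC k k' K K') (h2 : IsBC k' k'' K' K'') (h : IsBC k k'' K K'') (hK : IsFF k K)
    [Algebra.IsSeparable k' k''] (P : Place k K) (ι'' : k'' →ₐ[k] A) :
    WS P (RK K ι'') ≤ WS P (RK K (ι''.comp (IsScalarTower.toAlgHom k k' k''))) := by
  classical
  haveI := bc_finite h1
  haveI := bc_finite h2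
  haveI : IsScalarTower k K' K'' := IsScalarTower.of_algebraMap_eq fun c => by
    rw [IsScalarTower.algebraMap_apply k K K', ← IsScalarTower.algebraMap_apply K K' K'', ← IsScalarTower.algebraMap_apply]
  haveI : IsScalarTower k k' K'' := IsScalarTower.of_algebraMap_eq fun c => by
    rw [IsScalarTower.algebraMap_apply k k'' K'', IsScalarTower.algebraMap_apply k k' k'',
      ← IsScalarTower.algebraMap_apply k' k'' K'']
  refine Submodule.span_le.2 ?_
  rintro y ⟨hyR, hyI⟩
  obtain ⟨z, rfl⟩ := exists_theta_eq h ι'' hyR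
  have hz := (isIntegralElem_theta_iff h hK ι'' P z).1 hyI
  have hy : ∀ l, (bcBasis h2).repr z l ∈ IntP K' P := fun l => mem_IntP.2 fun Q hQ => by
    haveI : IsReduced (ResT k'' (topPlace (k' := k') Q)) := isReduced_ResT_of_sep_const
    have hzQ : z ∈ IntP K'' (topPlace (k' := k') Q) := mem_IntP.2 fun R hR => by
      refine mem_IntP.1 hz (botPlace R) (IsOver_trans (Q := Q) ?_ hQ)
      obtain ⟨d, hd⟩ := hR
      exact ⟨d, hd⟩
    exact (mem_BO_iff _ h2).1 (mem_BO_of_mem_IntP h2 (isFF_bc h1 hK) hzQ) l
  conv => arg 2; rw [← (bcBasis h2).sum_repr z]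
  rw [map_sum]
  refine Submodule.sum_mem _ fun l _ => ?_
  rw [Algebra.smul_def, map_mul, bcBasis_apply h2, theta_tower h1 h, theta_const, mul_comm, ← smul_eq_tmul_mul]
  exact Submodule.smul_mem _ _ (theta_mem_WS h1 hK _ (hy l))

end Tower

section BCTop

variable {k k' k'' K K' K'' : Type*} [Field k] [Field k'] [Field k''] [Field K] [Field K'] [Field K'']
  [Algebra k k'] [Algebra k' k''] [Algebra k k''] [IsScalarTower k k' k'']
  [FiniteDimensional k k'] [FiniteDimensional k k''] [FiniteDimensional k' k'']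
  [Algebra k K] [Algebra K K'] [Algebra k' K'] [Algebra k K'] [IsScalarTower k k' K'] [IsScalarTower k K K']
  [Algebra K' K''] [Algebra k'' K''] [Algebra k' K''] [Algebra k K''] [Algebra K K'']
  [IsScalarTower k' k'' K''] [IsScalarTower k' K' K''] [IsScalarTower K K' K''] [IsScalarTower k K K'']
  [IsScalarTower k k'' K'']

/-- cancel the lower step of a base change -/
lemma bc_of_tower (h1 : IsBC k k' K K') (h : IsBC k k'' K K'') : IsBC k' k'' K' K'' := by
  haveI := bc_finite h1
  haveI := bc_finite h
  haveI : FiniteDimensional K' K'' := Module.Finite.of_restrictScalars_finite K K' K''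
  let Φ : K' ⊗[k'] k'' →ₐ[K'] K'' :=
    Algebra.TensorProduct.lift (Algebra.ofId K' K'') (IsScalarTower.toAlgHom k' k'' K'') fun _ _ => Commute.all _ _
  have hΦ : ∀ z, Algebra.TensorProduct.productMap (IsScalarTower.toAlgHom k' k'' K'') (IsScalarTower.toAlgHom k' K' K'') z =
      Φ (Algebra.TensorProduct.comm k' k'' K' z) := by
    intro z
    induction z using TensorProduct.induction_on with
    | zero => simp
    | tmul a b => simp [Φ, mul_comm, Algebra.ofId_apply]
    | add x y hx hy => rw [map_add, map_add, map_add, hx, hy]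
  have hsurj : Function.Surjective Φ := by
    intro z
    obtain ⟨β, rfl⟩ := h.2 z
    change _ ∈ Φ.range
    induction β using TensorProduct.induction_on with
    | zero => simp only [map_zero, zero_mem]
    | tmul a b =>
      simp only [Algebra.TensorProduct.productMap_apply_tmul, IsScalarTower.toAlgHom_apply]
      refine Subalgebra.mul_mem _ ⟨1 ⊗ₜ a, by simp [Φ]⟩ ?_
      rw [IsScalarTower.algebraMap_apply K K' K'']
      exact Φ.range.algebraMap_mem _
    | add x y hx hy => rw [map_add]; exact add_mem hx hy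
  have hrank : Module.finrank K' (K' ⊗[k'] k'') = Module.finrank K' K'' := by
    refine Nat.eq_of_mul_eq_mul_left (Module.finrank_pos (R := K) (M := K')) ?_
    rw [Module.finrank_baseChange, Module.finrank_mul_finrank K K' K'', bc_finrank h, bc_finrank h1,
      Module.finrank_mul_finrank]
  have hinj : Function.Injective Φ :=
    (LinearMap.injective_iff_surjective_of_finrank_eq_finrank hrank (f := Φ.toLinearMap)).2 hsurj
  rw [IsBC, show ⇑(Algebra.TensorProduct.productMap (IsScalarTower.toAlgHom k' k'' K'')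
    (IsScalarTower.toAlgHom k' K' K'')) = Φ ∘ Algebra.TensorProduct.comm k' k'' K' from funext hΦ]
  exact Function.Bijective.comp ⟨hinj, hsurj⟩ (AlgEquiv.bijective _)

end BCTop

section Polar

variable {k K : Type*} [Field k] [Field K] [Algebra k K]

/-- bounded poles modulo `O_P`: finitely generated -/
lemma exists_polar (hK : IsFF k K) (P : Place k K) (M : ℕ) :
    ∃ V : Submodule k K, FiniteDimensional k V ∧
      ∀ c : K, P.1 c ≤ exp (M : ℤ) → ∃ b : K, P.1 b ≤ 1 ∧ c - b ∈ V := by
  classical
  obtain ⟨t, ht⟩ := exists_uniformizer P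
  have ht0 : t ≠ 0 := ne_zero_of_val_eq_exp P ht
  haveI : @Module.Finite k (IsLocalRing.ResidueField P.O) _ _ Algebra.toModule := finiteDimensional_residueField hK P
  induction M with
  | zero => exact ⟨⊥, inferInstance, fun c hc => ⟨c, by simpa using hc, by simp⟩⟩
  | succ n ih =>
    obtain ⟨V, hVfin, hV⟩ := ih
    haveI := hVfin
    haveI : FiniteDimensional k (IsLocalRing.ResidueField P.O) := finiteDimensional_residueField hK P
    let bF := Module.finBasis k (IsLocalRing.ResidueField P.O)
    choose e he using fun i => resHom_surjective P (bF i)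
    let W : Submodule k K := Submodule.span k (Set.range fun i => (t⁻¹) ^ (n + 1) * (e i : K))
    haveI : FiniteDimensional k W := FiniteDimensional.span_of_finite k (Set.finite_range _)
    refine ⟨V ⊔ W, inferInstance, fun a ha => ?_⟩
    have hat : P.1 (a * t ^ (n + 1)) ≤ 1 := by
      rw [map_mul, map_pow, ht, ← exp_nsmul]
      refine (mul_le_mul' ha le_rfl).trans_eq ?_
      rw [← exp_add, ← exp_zero]
      congr 1
      push_cast [nsmul_eq_mul]
      ring
    set c := bF.repr (resHom P ⟨_, (mem_O P).2 hat⟩)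
    set w : K := ∑ i, c i • (e i : K)
    have hw : P.1 (a * t ^ (n + 1) - w) < 1 := by
      have h0 : resHom P ((⟨_, (mem_O P).2 hat⟩ : P.O) - ∑ i, algebraMap k P.O (c i) * e i) = 0 := by
        rw [map_sub, map_sum, sub_eq_zero]
        refine (bF.sum_repr _).symm.trans (Finset.sum_congr rfl fun i _ => ?_)
        rw [map_mul (resHom P), he i]
        exact Algebra.smul_def (c i) (bF i)
      have := (resHom_eq_zero_iff P).1 h0
      have he2 : (((⟨_, (mem_O P).2 hat⟩ : P.O) - ∑ i, algebraMap k P.O (c i) * e i : P.O) : K) =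
          a * t ^ (n + 1) - w := by
        push_cast
        simp only [w, Algebra.smul_def]
        rfl
      rwa [he2] at this
    have ha' : P.1 (a - w * (t⁻¹) ^ (n + 1)) ≤ exp (n : ℤ) := by
      have h3 : a - w * (t⁻¹) ^ (n + 1) = (a * t ^ (n + 1) - w) * (t⁻¹) ^ (n + 1) := by
        rw [sub_mul, inv_pow, mul_assoc, mul_inv_cancel₀ (pow_ne_zero _ ht0), mul_one]
      rw [h3, map_mul, map_pow, map_inv₀, ht, ← exp_neg, ← exp_nsmul]
      refine (mul_le_mul' ((lt_exp_iff _ 0).1 (hw.trans_eq exp_zero.symm)) le_rfl).trans_eq ?_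
      rw [← exp_add]
      congr 1
      push_cast [nsmul_eq_mul]
      ring
    obtain ⟨b, hb, hbV⟩ := hV _ ha'
    refine ⟨b, hb, ?_⟩
    rw [show a - b = (a - w * (t⁻¹) ^ (n + 1) - b) + w * (t⁻¹) ^ (n + 1) by ring]
    refine Submodule.add_mem_sup hbV ?_
    simp only [w, Finset.sum_mul]
    refine Submodule.sum_mem _ fun i _ => ?_
    rw [smul_mul_assoc, mul_comm]
    exact Submodule.smul_mem _ _ (Submodule.subset_span ⟨i, rfl⟩)

end Polar

section Main

universe u v w w'

variable {k : Type u} {K : Type v} [Field k] [Field K] [Algebra k K]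

/-- `k'⊗K` as a field -/
noncomputable abbrev bcField (hg : FunFld.IsGeometric k K) (k' : Type u) [Field k'] [Algebra k k'] [FiniteDimensional k k'] :
    Field (k' ⊗[k] K) := (hg k' inferInstance).toField

lemma isBC_tensor (hg : FunFld.IsGeometric k K) (k' : Type u) [Field k'] [Algebra k k'] [FiniteDimensional k k'] :
    letI := bcField hg k'
    letI : Algebra K (k' ⊗[k] K) := Algebra.TensorProduct.rightAlgebra
    haveI : IsScalarTower k K (k' ⊗[k] K) := IsScalarTower.of_algebraMap_eq fun c =>
      ((Algebra.TensorProduct.includeRight : K →ₐ[k] k' ⊗[k] K).commutes c).symm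
    IsBC k k' K (k' ⊗[k] K) := by
  have hid : ∀ z : k' ⊗[k] K, Algebra.TensorProduct.lift (Algebra.ofId k' (k' ⊗[k] K))
      (Algebra.TensorProduct.includeRight : K →ₐ[k] k' ⊗[k] K) (fun _ _ => Commute.all _ _) z = z := by
    intro z
    induction z using TensorProduct.induction_on with
    | zero => rw [map_zero]
    | add a b ha hb => rw [map_add, ha, hb]
    | tmul a b =>
      rw [Algebra.TensorProduct.lift_tmul]
      show (a ⊗ₜ[k] (1 : K)) * ((1 : k') ⊗ₜ[k] b) = _
      rw [Algebra.TensorProduct.tmul_mul_tmul, mul_one, one_mul]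
  exact ⟨fun a b hab => (hid a).symm.trans (hab.trans (hid b)), fun z => ⟨z, hid z⟩⟩

lemma WS_le_polar (hK : IsFunctionField k K) (hg : FunFld.IsGeometric k K) (P : Place k K)
    (A : Type u) [Field A] [Algebra k A] :
    ∃ U : Submodule A (A ⊗[k] K), FiniteDimensional A U ∧
      ∀ (k' : Type u) [Field k'] [Algebra k k'] [FiniteDimensional k k'] (ι : k' →ₐ[k] A),
        WS P (RK K ι) ≤ AO A P ⊔ U := by
  classical
  obtain ⟨D, hD, hc⟩ := exists_place_conductor.{u, max u v} hK (good_of_geometric hg) P
  obtain ⟨V, hV, hV'⟩ := exists_polar hK.1 P (-(log (P.1 D))).toNat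
  haveI := hV
  refine ⟨Submodule.span A (Set.range fun i => (1 : A) ⊗ₜ[k] ((Module.finBasis k V i : V) : K)),
    FiniteDimensional.span_of_finite A (Set.finite_range _), ?_⟩
  intro k' _ _ _ ι
  letI := bcField hg k'
  letI : Algebra K (k' ⊗[k] K) := Algebra.TensorProduct.rightAlgebra
  haveI : IsScalarTower k K (k' ⊗[k] K) := IsScalarTower.of_algebraMap_eq fun c =>
    ((Algebra.TensorProduct.includeRight : K →ₐ[k] k' ⊗[k] K).commutes c).symm
  have h : IsBC k k' K (k' ⊗[k] K) := isBC_tensor hg k'
  refine Submodule.span_le.2 ?_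
  rintro y ⟨hyR, hyI⟩
  obtain ⟨z, rfl⟩ := exists_theta_eq h ι hyR
  have hz := (isIntegralElem_theta_iff h hK.1 ι P z).1 hyI
  have hDz := (mem_BO_iff P h).1 (hc k' _ h z hz)
  conv => arg 2; rw [← (bcBasis h).sum_repr z]
  rw [map_sum]
  refine Submodule.sum_mem _ fun j _ => ?_
  have hj : P.1 ((bcBasis h).repr z j) ≤ exp (((-(log (P.1 D))).toNat : ℕ) : ℤ) := by
    have := hDz j
    rw [map_smul, Finsupp.smul_apply, smul_eq_mul, map_mul] at this
    rcases eq_or_ne (P.1 ((bcBasis h).repr z j)) 0 with h0 | h0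
    · rw [h0]; exact zero_le
    · rw [← log_le_iff_le_exp h0]
      have hD' : P.1 D ≠ 0 := (map_ne_zero P.1).2 hD
      have h1 := (log_le_iff_le_exp (mul_ne_zero hD' h0)).2 (this.trans_eq exp_zero.symm)
      rw [log_mul hD' h0] at h1
      omega
  obtain ⟨b, hb, hbV⟩ := hV' _ hj
  rw [Algebra.smul_def, map_mul, bcBasis_apply h, theta_algebraMap, theta_const, mul_comm, ← smul_eq_tmul_mul]
  refine Submodule.smul_mem _ _ ?_
  rw [← add_sub_cancel b ((bcBasis h).repr z j), TensorProduct.tmul_add]
  refine Submodule.add_mem_sup (Submodule.subset_span ⟨⟨b, (mem_O P).2 hb⟩, rfl⟩) ?_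
  obtain ⟨v, hv⟩ : ∃ v : V, (v : K) = (bcBasis h).repr z j - b := ⟨⟨_, hbV⟩, rfl⟩
  rw [← hv, ← (Module.finBasis k V).sum_repr v, AddSubmonoidClass.coe_finsetSum, TensorProduct.tmul_sum]
  refine Submodule.sum_mem _ fun i _ => ?_
  rw [SetLike.val_smul, TensorProduct.tmul_smul, ← algebraMap_smul A]
  exact Submodule.smul_mem _ _ (Submodule.subset_span ⟨i, rfl⟩)

lemma WS_le_sep (hK : IsFunctionField k K) (hg : FunFld.IsGeometric k K) (P : Place k K)
    {A : Type*} [Field A] [Algebra k A] (L N : Type u) [Field L] [Field N] [Algebra k L] [Algebra k N]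
    [Algebra L N] [IsScalarTower k L N] [FiniteDimensional k L] [FiniteDimensional k N] [FiniteDimensional L N]
    [Algebra.IsSeparable L N] (ι : N →ₐ[k] A) :
    WS P (RK K ι) ≤ WS P (RK K (ι.comp (IsScalarTower.toAlgHom k L N))) := by
  letI := bcField hg N
  letI := bcField hg L
  letI aKL : Algebra K (L ⊗[k] K) := Algebra.TensorProduct.rightAlgebra
  letI aKN : Algebra K (N ⊗[k] K) := Algebra.TensorProduct.rightAlgebra
  haveI : IsScalarTower k K (L ⊗[k] K) := IsScalarTower.of_algebraMap_eq fun c =>
    ((Algebra.TensorProduct.includeRight : K →ₐ[k] L ⊗[k] K).commutes c).symm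
  haveI : IsScalarTower k K (N ⊗[k] K) := IsScalarTower.of_algebraMap_eq fun c =>
    ((Algebra.TensorProduct.includeRight : K →ₐ[k] N ⊗[k] K).commutes c).symm
  let f : L ⊗[k] K →ₐ[k] N ⊗[k] K := Algebra.TensorProduct.map (IsScalarTower.toAlgHom k L N) (AlgHom.id k K)
  letI : Algebra (L ⊗[k] K) (N ⊗[k] K) := f.toRingHom.toAlgebra
  haveI : IsScalarTower L (L ⊗[k] K) (N ⊗[k] K) := IsScalarTower.of_algebraMap_eq fun c =>
    (Algebra.TensorProduct.map_tmul (IsScalarTower.toAlgHom k L N) (AlgHom.id k K) c 1).symm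
  haveI : IsScalarTower K (L ⊗[k] K) (N ⊗[k] K) := IsScalarTower.of_algebraMap_eq fun c => by
    show (1 : N) ⊗ₜ[k] c = f ((1 : L) ⊗ₜ[k] c)
    simp [f]
  have hN : IsBC k N K (N ⊗[k] K) := isBC_tensor hg N
  have hL : IsBC k L K (L ⊗[k] K) := isBC_tensor hg L
  exact WS_le_of_separable hL (bc_of_tower hL hN) hN hK.1 P ι

/-- the largest span is reached at a finite purely inseparable level -/
lemma exists_pi_max (hK : IsFunctionField k K) (hg : FunFld.IsGeometric k K) (P : Place k K)
    (A : Type u) [Field A] [Algebra k A] :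
    ∃ E : IntermediateField k A, FiniteDimensional k E ∧ E ≤ perfectClosure k A ∧
      ∀ L : IntermediateField k A, FiniteDimensional k L → L ≤ perfectClosure k A →
        WS P (RK K L.val) ≤ WS P (RK K E.val) := by
  classical
  obtain ⟨U, hU, hUb⟩ := WS_le_polar hK hg P A
  haveI := hU
  let φ := (AO A P).mkQ
  let d : IntermediateField k A → ℕ := fun E => Module.finrank A ((WS P (RK K E.val)).map φ)
  have hle : ∀ E : IntermediateField k A, FiniteDimensional k E → (WS P (RK K E.val)).map φ ≤ U.map φ := by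
    intro E hE
    haveI := hE
    refine (Submodule.map_mono (hUb E E.val)).trans ?_
    rw [Submodule.map_sup, sup_le_iff]
    refine ⟨?_, le_rfl⟩
    rintro _ ⟨y, hy, rfl⟩
    rw [show φ y = 0 from (Submodule.Quotient.mk_eq_zero _).2 hy]
    exact zero_mem _
  set S := {n : ℕ | ∃ E : IntermediateField k A, FiniteDimensional k E ∧ E ≤ perfectClosure k A ∧ d E = n}
  have hbdd : BddAbove S := ⟨Module.finrank A (U.map φ), by
    rintro _ ⟨E, hE, -, rfl⟩
    exact Submodule.finrank_mono (hle E hE)⟩
  obtain ⟨E, hE, hEp, hd⟩ : sSup S ∈ S := Nat.sSup_mem ⟨_, ⊥, inferInstance, bot_le, rfl⟩ hbdd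
  refine ⟨E, hE, hEp, fun L hL hLp => ?_⟩
  haveI := hE
  haveI := hL
  haveI : FiniteDimensional k ↥(E ⊔ L) := IntermediateField.finiteDimensional_sup E L
  have h1 : WS P (RK K E.val) ≤ WS P (RK K (E ⊔ L).val) :=
    WS_mono P (RK_mono _ _ (by rw [IntermediateField.fieldRange_val, IntermediateField.fieldRange_val]; exact le_sup_left))
  have h2 : WS P (RK K L.val) ≤ WS P (RK K (E ⊔ L).val) :=
    WS_mono P (RK_mono _ _ (by rw [IntermediateField.fieldRange_val, IntermediateField.fieldRange_val]; exact le_sup_right))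
  refine h2.trans fun y hy => ?_
  haveI : FiniteDimensional A ((WS P (RK K (E ⊔ L).val)).map φ) :=
    Submodule.finiteDimensional_of_le (hle (E ⊔ L) inferInstance)
  have heq : (WS P (RK K E.val)).map φ = (WS P (RK K (E ⊔ L).val)).map φ :=
    Submodule.eq_of_le_of_finrank_le (Submodule.map_mono h1)
      (le_of_le_of_eq (le_csSup hbdd ⟨E ⊔ L, inferInstance, sup_le hEp hLp, rfl⟩) hd.symm)
  obtain ⟨w, hw, hwy⟩ : φ y ∈ (WS P (RK K E.val)).map φ := heq ▸ Submodule.mem_map_of_mem hy
  have h0 : w - y ∈ AO A P := (Submodule.Quotient.eq _).1 hwy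
  have := sub_mem hw (AO_le_WS P E.val h0)
  rwa [sub_sub_cancel] at this

/-- purely inseparable levels dominate all finite levels -/
lemma exists_pi_dominant (hK : IsFunctionField k K) (hg : FunFld.IsGeometric k K) :
    ∃ E : IntermediateField k (AlgebraicClosure k), FiniteDimensional k E ∧ E ≤ perfectClosure k (AlgebraicClosure k) ∧
      ∀ (P : Place k K) (F : IntermediateField k (AlgebraicClosure k)), FiniteDimensional k F →
        WS P (RK K F.val) ≤ WS P (RK K E.val) := by
  classical
  set A := AlgebraicClosure k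
  obtain ⟨S, hS, hns⟩ := exists_finite_singular.{u, max u v} hK (good_of_geometric hg)
  choose EP hEP hEPp hmax using fun P : Place k K => exists_pi_max hK hg P A
  let E : IntermediateField k A := ⨆ P : hS.toFinset, EP P
  haveI : ∀ P : hS.toFinset, FiniteDimensional k (EP P) := fun P => hEP _
  haveI : FiniteDimensional k E := IntermediateField.finiteDimensional_iSup_of_finite
  refine ⟨E, inferInstance, iSup_le fun P => hEPp _, fun P F hF => ?_⟩
  haveI := hF
  by_cases hP : P ∈ S
  · -- normal closure and its fixed field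
    let N : IntermediateField k A := IntermediateField.normalClosure k F A
    haveI : FiniteDimensional k N := inferInstance
    haveI : Normal k N := inferInstance
    let L : IntermediateField k N := IntermediateField.fixedField ⊤
    haveI : IsGalois L N := IsGalois.of_fixed_field N (⊤ : Subgroup Gal(N/k))
    let LA : IntermediateField k A := L.map N.val
    haveI : FiniteDimensional k LA := Module.Finite.equiv (L.equivMap N.val).toLinearEquiv
    have hLp : LA ≤ perfectClosure k A := by
      rintro _ ⟨x, hx, rfl⟩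
      show N.val x ∈ perfectClosure k A
      rw [mem_perfectClosure_iff_natSepDegree_eq_one, Polynomial.natSepDegree_eq_of_isAlgClosed A]
      have hint : IsIntegral k (N.val x) := Algebra.IsIntegral.isIntegral _
      have : ((minpoly k (N.val x)).aroots A).toFinset = {N.val x} := by
        refine Finset.ext fun y => ?_
        rw [Multiset.mem_toFinset, Polynomial.mem_aroots, Finset.mem_singleton]
        constructor
        · rintro ⟨-, hy⟩
          have h1 : minpoly k y = minpoly k (N.val x) := (minpoly.eq_of_irreducible_of_monic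
            (minpoly.irreducible hint) hy (minpoly.monic hint)).symm
          obtain ⟨σ, hσ⟩ := Normal.minpoly_eq_iff_mem_orbit A |>.1 h1
          rw [← hσ]
          show σ (algebraMap N A x) = _
          rw [← AlgEquiv.restrictNormal_commutes]
          exact congrArg _ ((IntermediateField.mem_fixedField_iff _ _).1 hx _ (Subgroup.mem_top _))
        · rintro rfl
          exact ⟨minpoly.ne_zero hint, minpoly.aeval _ _⟩
      rw [this, Finset.card_singleton]
    have h1 : WS P (RK K F.val) ≤ WS P (RK K N.val) := WS_mono P (RK_mono _ _ (by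
      rw [IntermediateField.fieldRange_val, IntermediateField.fieldRange_val]
      exact IntermediateField.le_normalClosure F))
    have h3 : WS P (RK K LA.val) ≤ WS P (RK K E.val) :=
      (hmax P LA inferInstance hLp).trans (WS_mono P (RK_mono _ _ (by
        rw [IntermediateField.fieldRange_val, IntermediateField.fieldRange_val]
        exact le_iSup (fun P : hS.toFinset => EP P) ⟨P, hS.mem_toFinset.2 hP⟩)))
    refine h1.trans (le_trans ?_ h3)
    haveI : FiniteDimensional L N := Module.Finite.of_restrictScalars_finite k L N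
    refine (WS_le_sep hK hg P L N N.val).trans (WS_mono P (RK_mono _ _ ?_))
    rw [IntermediateField.fieldRange_val]
    rintro _ ⟨c, rfl⟩
    exact ⟨(c : N), c.2, rfl⟩
  · refine Submodule.span_le.2 ?_
    rintro y ⟨hyR, hyI⟩
    letI := bcField hg F
    letI : Algebra K (F ⊗[k] K) := Algebra.TensorProduct.rightAlgebra
    haveI : IsScalarTower k K (F ⊗[k] K) := IsScalarTower.of_algebraMap_eq fun c =>
      ((Algebra.TensorProduct.includeRight : K →ₐ[k] F ⊗[k] K).commutes c).symm
    have h : IsBC k F K (F ⊗[k] K) := isBC_tensor hg F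
    obtain ⟨z, rfl⟩ := exists_theta_eq h F.val hyR
    have hz := hns F _ h P hP z ((isIntegralElem_theta_iff h hK.1 F.val P z).1 hyI)
    rw [mem_BO_iff P h] at hz
    conv => arg 2; rw [← (bcBasis h).sum_repr z]
    rw [map_sum]
    refine Submodule.sum_mem _ fun j _ => ?_
    rw [Algebra.smul_def, map_mul, bcBasis_apply h, theta_algebraMap, theta_const, mul_comm, ← smul_eq_tmul_mul]
    exact Submodule.smul_mem _ _ (AO_le_WS P E.val (Submodule.subset_span ⟨⟨_, (mem_O P).2 (hz j)⟩, rfl⟩))

/-- a finite purely inseparable extension after which everything is nonsingular -/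
theorem exists_pi_nonsingular (hK : IsFunctionField k K) (hg : FunFld.IsGeometric k K) :
    ∃ E : IntermediateField k (AlgebraicClosure k), FiniteDimensional k E ∧ IsPurelyInseparable k E ∧
      ∀ (K' : Type w) [Field K'] [Algebra K K'] [Algebra E K'] [Algebra k K']
        [IsScalarTower k E K'] [IsScalarTower k K K'], IsBC k E K K' →
        ∀ (Q : Place E K') (k'' : Type u) [Field k''] [Algebra E k''] [FiniteDimensional E k'']
          (K'' : Type w') [Field K''] [Algebra K' K''] [Algebra k'' K''] [Algebra E K'']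
          [IsScalarTower E k'' K''] [IsScalarTower E K' K''],
          IsBC E k'' K' K'' → ∀ z ∈ IntP K'' Q, z ∈ BO k'' K'' Q := by
  obtain ⟨E, hE, hEp, hmax⟩ := exists_pi_dominant hK hg
  haveI := hE
  refine ⟨E, hE, (le_perfectClosure_iff k _ E).1 hEp, ?_⟩
  intro K' _ _ _ _ _ _ h1 Q k'' _ _ _ K'' _ _ _ _ _ _ h2 z hz
  letI : Algebra k k'' := ((algebraMap E k'').comp (algebraMap k E)).toAlgebra
  haveI : IsScalarTower k E k'' := IsScalarTower.of_algebraMap_eq fun _ => rfl
  haveI : FiniteDimensional k k'' := Module.Finite.trans E k''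
  letI : Algebra k K'' := ((algebraMap k'' K'').comp (algebraMap k k'')).toAlgebra
  haveI : IsScalarTower k k'' K'' := IsScalarTower.of_algebraMap_eq fun _ => rfl
  letI : Algebra K K'' := ((algebraMap K' K'').comp (algebraMap K K')).toAlgebra
  haveI : IsScalarTower K K' K'' := IsScalarTower.of_algebraMap_eq fun _ => rfl
  haveI : IsScalarTower k K K'' := IsScalarTower.of_algebraMap_eq fun c => by
    show algebraMap k'' K'' (algebraMap E k'' (algebraMap k E c)) = algebraMap K' K'' (algebraMap K K' (algebraMap k K c))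
    rw [← IsScalarTower.algebraMap_apply k K K', IsScalarTower.algebraMap_apply k E K',
      ← IsScalarTower.algebraMap_apply E K' K'', ← IsScalarTower.algebraMap_apply E k'' K'']
  haveI := bc_finite h1
  obtain ⟨P, hP⟩ := exists_below hK.1 (botPlace (k := k) Q)
  let ιE : k'' →ₐ[E] AlgebraicClosure k := IsAlgClosed.lift
  let ι'' : k'' →ₐ[k] AlgebraicClosure k := ιE.restrictScalars k
  have hcomp : ι''.comp (IsScalarTower.toAlgHom k E k'') = E.val := AlgHom.ext fun c => ιE.commutes c
  haveI : FiniteDimensional k ι''.fieldRange :=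
    Module.Finite.equiv (AlgEquiv.ofInjectiveField ι'').toLinearEquiv
  have hW : WS P (RK K ι'') ≤ WS P (RK K (ι''.comp (IsScalarTower.toAlgHom k E k''))) := by
    rw [hcomp]
    exact (WS_mono P (RK_mono ι'' ι''.fieldRange.val (by rw [IntermediateField.fieldRange_val]))).trans
      (hmax P ι''.fieldRange inferInstance)
  have hc := fun z hz l => coord_mem_IntP h1 h2 (towerBC k h1 h2) hK.1 P ι'' hW (z := z) hz l
  exact nonsing_of_coord h1 h2 hK.1 P hc (Q := botPlace Q) hP hz

end Main

end Groth.Agent.FF
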