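import Groth.Agent.FF.UnifConductor
import Mathlib.FieldTheory.PrimitiveElement
import Mathlib.FieldTheory.Minpoly.IsIntegrallyClosed
import Mathlib.RingTheory.Polynomial.UniqueFactorization

/-! Absolutely irreducible plane models. -/

set_option autoImplicit false
set_option linter.style.haveILetI false
set_option linter.unusedSectionVars false

open FunFld
open scoped TensorProduct IntermediateField

namespace Groth.Agent.FF

universe u v

variable {k : Type u} {K : Type v} [Field k] [Field K] [Algebra k K]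

/-- `k[X,Y] → k[X][Y]` -/
noncomputable def toXY (k : Type*) [CommRing k] : MvPolynomial (Fin 2) k →ₐ[k] Polynomial (Polynomial k) :=
  MvPolynomial.aeval ![Polynomial.C Polynomial.X, Polynomial.X]

/-- `k[X][Y] → k[X,Y]` -/
noncomputable def ofXY (k : Type*) [CommRing k] : Polynomial (Polynomial k) →+* MvPolynomial (Fin 2) k :=
  Polynomial.eval₂RingHom (Polynomial.aeval (MvPolynomial.X 0 : MvPolynomial (Fin 2) k) : Polynomial k →ₐ[k] _).toRingHom
    (MvPolynomial.X 1)

lemma ofXY_toXY (g : MvPolynomial (Fin 2) k) : ofXY k (toXY k g) = g := by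
  have : (ofXY k).comp (toXY k).toRingHom = RingHom.id _ := by
    refine MvPolynomial.ringHom_ext (fun c => ?_) fun i => ?_
    · simp [ofXY, toXY, Polynomial.algebraMap_apply]
    · fin_cases i <;> simp [ofXY, toXY]
  exact RingHom.congr_fun this g

lemma toXY_ofXY (g : Polynomial (Polynomial k)) : toXY k (ofXY k g) = g := by
  have : (toXY k).toRingHom.comp (ofXY k) = RingHom.id _ := by
    refine Polynomial.ringHom_ext (fun p => ?_) ?_
    · have h2 : ((toXY k).toRingHom.comp (ofXY k)).comp Polynomial.C = Polynomial.C := by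
        refine Polynomial.ringHom_ext (fun c => ?_) ?_ <;> simp [ofXY, toXY, Polynomial.algebraMap_apply]
      exact RingHom.congr_fun h2 p
    · simp [ofXY, toXY]
  exact RingHom.congr_fun this g

lemma eval₂_toXY (x y : K) (g : MvPolynomial (Fin 2) k) :
    (toXY k g).eval₂ (Polynomial.aeval x : Polynomial k →ₐ[k] K).toRingHom y = MvPolynomial.aeval ![x, y] g := by
  have : (Polynomial.eval₂RingHom (Polynomial.aeval x : Polynomial k →ₐ[k] K).toRingHom y).comp (toXY k).toRingHom =
      (MvPolynomial.aeval ![x, y] : MvPolynomial (Fin 2) k →ₐ[k] K).toRingHom := by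
    refine MvPolynomial.ringHom_ext (fun c => ?_) fun i => ?_
    · simp [toXY, Polynomial.algebraMap_apply]
    · fin_cases i <;> simp [toXY]
  exact RingHom.congr_fun this g

/-- a plane model of a geometric function field -/
theorem exists_plane_model (hK : IsFunctionField k K) (hG : Good k K) :
    ∃ (x y : K) (f : MvPolynomial (Fin 2) k), k⟮x, y⟯ = (⊤ : IntermediateField k K) ∧ f ≠ 0 ∧ ¬ IsUnit f ∧
      RingHom.ker (MvPolynomial.aeval ![x, y] : MvPolynomial (Fin 2) k →ₐ[k] K) = Ideal.span {f} := by
  classical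
  obtain ⟨x, hx⟩ := exists_isSepVar hK hG
  obtain ⟨alg, htow, hX, hfin, hsep⟩ := exists_ratFunc_separable hx
  letI := alg
  haveI := htow
  haveI := hfin
  haveI := hsep
  obtain ⟨θ, hθ⟩ := Field.exists_primitive_element (RatFunc k) K
  letI : Algebra (Polynomial k) K := (Polynomial.aeval x : Polynomial k →ₐ[k] K).toRingHom.toAlgebra
  haveI : IsScalarTower (Polynomial k) (RatFunc k) K := IsScalarTower.of_algebraMap_eq fun q => by
    show Polynomial.aeval x q = _
    rw [algebraMap_poly_eq_aeval, hX]
  have hinj : Function.Injective (algebraMap (Polynomial k) K) := fun a b hab =>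
    transcendental_iff_injective.1 hx.transcendental hab
  haveI : Module.IsTorsionFree (Polynomial k) K := Module.isTorsionFree_iff_algebraMap_injective.2 hinj
  have halg : IsAlgebraic (Polynomial k) θ :=
    (IsFractionRing.isAlgebraic_iff (Polynomial k) (RatFunc k) K).2 (Algebra.IsAlgebraic.isAlgebraic θ)
  obtain ⟨d, hd, hint⟩ := halg.exists_integral_multiple
  set y := d • θ with hy
  set M := minpoly (Polynomial k) y
  refine ⟨x, y, ofXY k M, ?_, ?_, ?_, ?_⟩
  · refine eq_top_iff.2 fun z _ => ?_
    have hd0 : algebraMap (Polynomial k) K d ≠ 0 := fun h => hd (hinj (h.trans (map_zero _).symm))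
    have hxm : x ∈ k⟮x, y⟯ := IntermediateField.subset_adjoin _ _ (by simp)
    have hpoly : ∀ q : Polynomial k, algebraMap (Polynomial k) K q ∈ k⟮x, y⟯ := fun q => by
      show Polynomial.aeval x q ∈ _
      induction q using Polynomial.induction_on' with
      | add p q hp hq => rw [map_add]; exact add_mem hp hq
      | monomial n c =>
        rw [Polynomial.aeval_monomial]
        exact mul_mem (IntermediateField.algebraMap_mem _ c) (pow_mem hxm n)
    have hrat : ∀ r : RatFunc k, algebraMap (RatFunc k) K r ∈ k⟮x, y⟯ := fun r => by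
      rw [← RatFunc.num_div_denom r, map_div₀, ← IsScalarTower.algebraMap_apply, ← IsScalarTower.algebraMap_apply]
      exact div_mem (hpoly _) (hpoly _)
    have hz : z ∈ (⊤ : IntermediateField (RatFunc k) K) := trivial
    rw [← hθ] at hz
    induction hz using IntermediateField.adjoin_induction with
    | mem t ht =>
      rw [Set.mem_singleton_iff] at ht
      rw [ht, show θ = y / algebraMap (Polynomial k) K d by rw [hy, Algebra.smul_def, mul_div_cancel_left₀ _ hd0]]
      exact div_mem (IntermediateField.subset_adjoin _ _ (by simp)) (hpoly d)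
    | algebraMap r => exact hrat r
    | add s t _ _ hs ht => exact add_mem (hs trivial) (ht trivial)
    | inv s _ hs => exact inv_mem (hs trivial)
    | mul s t _ _ hs ht => exact mul_mem (hs trivial) (ht trivial)
  · intro h
    have := congrArg (toXY k) h
    rw [toXY_ofXY, map_zero] at this
    exact minpoly.ne_zero hint this
  · intro h
    have := h.map (toXY k)
    rw [toXY_ofXY] at this
    exact minpoly.not_isUnit (Polynomial k) y this
  · ext g
    rw [RingHom.mem_ker, Ideal.mem_span_singleton]
    have hev : MvPolynomial.aeval ![x, y] g = Polynomial.aeval y (toXY k g) := (eval₂_toXY x y g).symm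
    rw [hev, minpoly.isIntegrallyClosed_dvd_iff hint]
    exact ⟨fun h => by rw [← ofXY_toXY g]; exact map_dvd _ h, fun h => by
      have := map_dvd (toXY k) h
      rwa [toXY_ofXY] at this⟩

/-- `k'[X,Y] → k' ⊗ K` -/
noncomputable def tensorEval (k' : Type*) [Field k'] [Algebra k k'] (x y : K) :
    MvPolynomial (Fin 2) k' →ₐ[k'] k' ⊗[k] K :=
  MvPolynomial.aeval ![(1 : k') ⊗ₜ[k] x, (1 : k') ⊗ₜ[k] y]

lemma tensorEval_map (k' : Type*) [Field k'] [Algebra k k'] (x y : K) (g : MvPolynomial (Fin 2) k) :
    tensorEval (k := k) k' x y (MvPolynomial.map (algebraMap k k') g) = (1 : k') ⊗ₜ[k] MvPolynomial.aeval ![x, y] g := by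
  have : (tensorEval (k := k) k' x y).toRingHom.comp (MvPolynomial.map (algebraMap k k')) =
      (Algebra.TensorProduct.includeRight : K →ₐ[k] k' ⊗[k] K).toRingHom.comp
        (MvPolynomial.aeval ![x, y] : MvPolynomial (Fin 2) k →ₐ[k] K).toRingHom := by
    refine MvPolynomial.ringHom_ext (fun c => ?_) fun i => ?_
    · simp [tensorEval]
    · fin_cases i <;> simp [tensorEval]
  exact RingHom.congr_fun this g

/-- `ker (k'[X,Y] → k' ⊗ K) = (f)` -/
lemma tensorEval_ker (k' : Type*) [Field k'] [Algebra k k'] {x y : K} {f : MvPolynomial (Fin 2) k}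
    (hker : RingHom.ker (MvPolynomial.aeval ![x, y] : MvPolynomial (Fin 2) k →ₐ[k] K) = Ideal.span {f})
    (g : MvPolynomial (Fin 2) k') :
    tensorEval (k := k) k' x y g = 0 ↔ MvPolynomial.map (algebraMap k k') f ∣ g := by
  classical
  let b := Module.Basis.ofVectorSpace k k'
  constructor
  · intro hg
    -- coefficientwise coordinates
    let gj : _ → MvPolynomial (Fin 2) k := fun j =>
      ∑ m ∈ g.support, MvPolynomial.monomial m (b.repr (g.coeff m) j)
    have hexp : ∃ s : Finset (Module.Basis.ofVectorSpaceIndex k k'),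
        g = ∑ j ∈ s, MvPolynomial.C (b j) * MvPolynomial.map (algebraMap k k') (gj j) := by
      refine ⟨g.support.biUnion fun m => (b.repr (g.coeff m)).support, ?_⟩
      conv_lhs => rw [g.as_sum]
      simp only [gj, map_sum, Finset.mul_sum, MvPolynomial.map_monomial, MvPolynomial.C_mul_monomial]
      rw [Finset.sum_comm]
      refine Finset.sum_congr rfl fun m hm => ?_
      rw [← map_sum (MvPolynomial.monomial m)]
      congr 1
      conv_lhs => rw [← b.linearCombination_repr (g.coeff m), Finsupp.linearCombination_apply, Finsupp.sum]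
      refine Eq.trans (Finset.sum_subset (Finset.subset_biUnion_of_mem (fun m => (b.repr (g.coeff m)).support) hm) fun j _ hj => ?_) ?_
      · rw [Finsupp.notMem_support_iff.1 hj, zero_smul]
      · exact Finset.sum_congr rfl fun j _ => by rw [Algebra.smul_def, mul_comm]
    obtain ⟨s, hs⟩ := hexp
    rw [hs] at hg ⊢
    have h0 : ∀ j ∈ s, MvPolynomial.aeval ![x, y] (gj j) = 0 := by
      intro j hj
      have h1 : ∑ j ∈ s, b j ⊗ₜ[k] MvPolynomial.aeval ![x, y] (gj j) = 0 := by
        refine Eq.trans (Finset.sum_congr rfl fun i _ => ?_) ((map_sum (tensorEval (k := k) k' x y) _ _).symm.trans hg)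
        rw [map_mul, tensorEval_map]
        simp [tensorEval, Algebra.TensorProduct.tmul_mul_tmul]
      have h2 := congrArg (fun t => TensorProduct.equivFinsuppOfBasisLeft b t j) h1
      simp only [map_sum, Finsupp.finsetSum_apply, TensorProduct.equivFinsuppOfBasisLeft_apply_tmul_apply,
        map_zero, Finsupp.zero_apply, b.repr_self, Finsupp.single_apply] at h2
      rw [Finset.sum_eq_single j (fun i _ hne => by rw [if_neg hne, zero_smul]) (fun h => absurd hj h),
        if_pos rfl, one_smul] at h2
      exact h2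
    refine Finset.dvd_sum fun j hj => Dvd.dvd.mul_left (map_dvd _ ?_) _
    rw [← Ideal.mem_span_singleton, ← hker]
    exact h0 j hj
  · rintro ⟨q, rfl⟩
    have h0 : MvPolynomial.aeval ![x, y] f = 0 := by
      have : f ∈ RingHom.ker (MvPolynomial.aeval ![x, y] : MvPolynomial (Fin 2) k →ₐ[k] K) :=
        hker ▸ Ideal.mem_span_singleton_self f
      exact this
    rw [map_mul, tensorEval_map, h0, TensorProduct.tmul_zero, zero_mul]

lemma irreducible_map_of_field (k' : Type*) [Field k'] [Algebra k k'] (hf : IsField (k' ⊗[k] K))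
    {x y : K} {f : MvPolynomial (Fin 2) k} (hf0 : f ≠ 0)
    (hker : RingHom.ker (MvPolynomial.aeval ![x, y] : MvPolynomial (Fin 2) k →ₐ[k] K) = Ideal.span {f}) :
    Irreducible (MvPolynomial.map (algebraMap k k') f) := by
  haveI : IsDomain (k' ⊗[k] K) := hf.isDomain
  have hne : MvPolynomial.map (algebraMap k k') f ≠ 0 :=
    (map_ne_zero_iff _ (MvPolynomial.map_injective _ (algebraMap k k').injective)).2 hf0
  refine Prime.irreducible ((Ideal.span_singleton_prime hne).1 ?_)
  have : Ideal.span {MvPolynomial.map (algebraMap k k') f} = RingHom.ker (tensorEval (k := k) k' x y) := by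
    ext g
    rw [RingHom.mem_ker, Ideal.mem_span_singleton, tensorEval_ker k' hker]
  rw [this]
  exact RingHom.ker_isPrime _

lemma isField_of_irreducible (k' : Type*) [Field k'] [Algebra k k'] [FiniteDimensional k k'] {x y : K}
    {f : MvPolynomial (Fin 2) k} (hxy : k⟮x, y⟯ = (⊤ : IntermediateField k K))
    (hker : RingHom.ker (MvPolynomial.aeval ![x, y] : MvPolynomial (Fin 2) k →ₐ[k] K) = Ideal.span {f})
    (hirr : Irreducible (MvPolynomial.map (algebraMap k k') f)) : IsField (k' ⊗[k] K) := by
  classical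
  let R := (MvPolynomial.aeval ![x, y] : MvPolynomial (Fin 2) k →ₐ[k] K).range
  have hfrac : ∀ z : K, ∃ a ∈ R, ∃ b ∈ R, b ≠ 0 ∧ z = a / b := by
    intro z
    have hz : z ∈ k⟮x, y⟯ := hxy ▸ IntermediateField.mem_top
    induction hz using IntermediateField.adjoin_induction with
    | mem t ht =>
      rcases ht with rfl | rfl
      · exact ⟨_, ⟨MvPolynomial.X 0, by simp⟩, 1, one_mem _, one_ne_zero, (div_one _).symm⟩
      · exact ⟨_, ⟨MvPolynomial.X 1, by simp⟩, 1, one_mem _, one_ne_zero, (div_one _).symm⟩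
    | algebraMap c => exact ⟨_, R.algebraMap_mem c, 1, one_mem _, one_ne_zero, (div_one _).symm⟩
    | add s t _ _ hs ht =>
      obtain ⟨a, ha, b, hb, hb0, rfl⟩ := hs
      obtain ⟨c, hc, d, hd, hd0, rfl⟩ := ht
      exact ⟨_, add_mem (mul_mem ha hd) (mul_mem hb hc), _, mul_mem hb hd, mul_ne_zero hb0 hd0,
        div_add_div _ _ hb0 hd0⟩
    | inv s _ hs =>
      obtain ⟨a, ha, b, hb, hb0, rfl⟩ := hs
      rcases eq_or_ne a 0 with rfl | ha0
      · exact ⟨0, zero_mem _, 1, one_mem _, one_ne_zero, by simp⟩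
      · exact ⟨b, hb, a, ha, ha0, inv_div _ _⟩
    | mul s t _ _ hs ht =>
      obtain ⟨a, ha, b, hb, hb0, rfl⟩ := hs
      obtain ⟨c, hc, d, hd, hd0, rfl⟩ := ht
      exact ⟨_, mul_mem ha hc, _, mul_mem hb hd, mul_ne_zero hb0 hd0, div_mul_div_comm _ _ _ _⟩
  have hclear : ∀ z : k' ⊗[k] K, ∃ (d : K) (g : MvPolynomial (Fin 2) k'), d ∈ R ∧ d ≠ 0 ∧
      ((1 : k') ⊗ₜ[k] d) * z = tensorEval (k := k) k' x y g := by
    intro z
    induction z using TensorProduct.induction_on with
    | zero => exact ⟨1, 0, one_mem _, one_ne_zero, by rw [mul_zero, map_zero]⟩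
    | tmul c a =>
      obtain ⟨p, ⟨gp, hgp⟩, q, hq, hq0, rfl⟩ := hfrac a
      refine ⟨q, MvPolynomial.C c * MvPolynomial.map (algebraMap k k') gp, hq, hq0, ?_⟩
      have hgp' : MvPolynomial.aeval ![x, y] gp = p := hgp
      rw [map_mul, tensorEval_map, hgp', Algebra.TensorProduct.tmul_mul_tmul, one_mul, mul_div_cancel₀ _ hq0]
      simp [tensorEval, Algebra.TensorProduct.tmul_mul_tmul]
    | add s t hs ht =>
      obtain ⟨d, g, hd, hd0, hdg⟩ := hs
      obtain ⟨e, g', he, he0, heg⟩ := ht
      obtain ⟨gd, hgd⟩ := id hd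
      obtain ⟨ge, hge⟩ := id he
      have hgd' : MvPolynomial.aeval ![x, y] gd = d := hgd
      have hge' : MvPolynomial.aeval ![x, y] ge = e := hge
      refine ⟨d * e, MvPolynomial.map (algebraMap k k') ge * g + MvPolynomial.map (algebraMap k k') gd * g',
        mul_mem hd he, mul_ne_zero hd0 he0, ?_⟩
      rw [map_add, map_mul, map_mul, tensorEval_map, tensorEval_map, hgd', hge', ← hdg, ← heg,
        show ((1 : k') ⊗ₜ[k] (d * e)) = ((1 : k') ⊗ₜ[k] d) * ((1 : k') ⊗ₜ[k] e) by
          rw [Algebra.TensorProduct.tmul_mul_tmul, one_mul]]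
      ring
  have hunit : ∀ d : K, d ≠ 0 → IsUnit ((1 : k') ⊗ₜ[k] d) := fun d hd =>
    (isUnit_iff_ne_zero.2 hd).map (Algebra.TensorProduct.includeRight : K →ₐ[k] k' ⊗[k] K)
  haveI : Nontrivial (k' ⊗[k] K) :=
    (Algebra.TensorProduct.includeRight_injective (R := k) (A := k') (B := K) (algebraMap k k').injective).nontrivial
  haveI : NoZeroDivisors (k' ⊗[k] K) := ⟨fun {a b} hab => by
    obtain ⟨d, g, hd, hd0, hdg⟩ := hclear a
    obtain ⟨e, g', he, he0, heg⟩ := hclear b
    have h0 : tensorEval (k := k) k' x y (g * g') = 0 := by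
      rw [map_mul, ← hdg, ← heg, mul_mul_mul_comm, hab, mul_zero]
    rcases (hirr.prime.dvd_or_dvd ((tensorEval_ker k' hker _).1 h0)) with h | h
    · left
      rw [← (hunit d hd0).mul_right_eq_zero, hdg, (tensorEval_ker k' hker g).2 h]
    · right
      rw [← (hunit e he0).mul_right_eq_zero, heg, (tensorEval_ker k' hker g').2 h]⟩
  haveI : IsDomain (k' ⊗[k] K) := NoZeroDivisors.to_isDomain _
  let e : K ⊗[k] k' ≃ₐ[k] k' ⊗[k] K := Algebra.TensorProduct.comm k K k'
  haveI : IsDomain (K ⊗[k] k') := e.injective.isDomain e.toRingEquiv.toRingHom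
  haveI : Algebra.IsIntegral K (K ⊗[k] k') := inferInstance
  exact MulEquiv.isField (isField_of_isIntegral_of_isField' (R := K) (S := K ⊗[k] k') (Field.toIsField K))
    e.symm.toMulEquiv

lemma isFF_of_plane_model {x y : K} {f : MvPolynomial (Fin 2) k} (hxy : k⟮x, y⟯ = (⊤ : IntermediateField k K))
    (hf0 : f ≠ 0) (hfu : ¬ IsUnit f)
    (hker : RingHom.ker (MvPolynomial.aeval ![x, y] : MvPolynomial (Fin 2) k →ₐ[k] K) = Ideal.span {f}) :
    IsFF k K := by
  classical
  have hmem : ∀ g, MvPolynomial.aeval ![x, y] g = 0 ↔ f ∣ g := fun g => by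
    rw [← Ideal.mem_span_singleton, ← hker, RingHom.mem_ker]
  -- one of the generators is transcendental
  have htr : Transcendental k x ∨ Transcendental k y := by
    by_contra hcon
    push Not at hcon
    obtain ⟨h1, h2⟩ := hcon
    simp only [Transcendental, not_not] at h1 h2
    obtain ⟨g, hg0, hg⟩ := h1
    obtain ⟨h, hh0, hh⟩ := h2
    have e0 : ∀ (i : Fin 2) (q : Polynomial k),
        MvPolynomial.aeval ![x, y] (Polynomial.aeval (MvPolynomial.X i : MvPolynomial (Fin 2) k) q) =
          Polynomial.aeval (![x, y] i) q := fun i q => by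
      rw [← Polynomial.aeval_algHom_apply, MvPolynomial.aeval_X]
    have d0 := congrArg (toXY k) ((hmem (Polynomial.aeval (MvPolynomial.X 0 : MvPolynomial (Fin 2) k) g)).1 (by rw [e0]; simpa using hg)).choose_spec
    have d1 := congrArg (toXY k) ((hmem (Polynomial.aeval (MvPolynomial.X 1 : MvPolynomial (Fin 2) k) h)).1 (by rw [e0]; simpa using hh)).choose_spec
    rw [← Polynomial.aeval_algHom_apply, map_mul, toXY, MvPolynomial.aeval_X] at d0 d1
    change _ = toXY k f * _ at d0
    change _ = toXY k f * _ at d1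
    have hC : ∀ q : Polynomial k, Polynomial.aeval (Polynomial.C Polynomial.X : Polynomial (Polynomial k)) q = Polynomial.C q := by
      intro q
      induction q using Polynomial.induction_on' with
      | add p q hp hq => rw [map_add, map_add, hp, hq]
      | monomial n c =>
        rw [Polynomial.aeval_monomial, ← Polynomial.C_mul_X_pow_eq_monomial, Polynomial.algebraMap_apply]
        simp
    simp only [Matrix.cons_val_zero, hC] at d0
    simp only [Matrix.cons_val_one, Matrix.cons_val_fin_one] at d1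
    have hYmap : Polynomial.aeval (Polynomial.X : Polynomial (Polynomial k)) h = h.map Polynomial.C := by
      rw [Polynomial.aeval_def, show algebraMap k (Polynomial (Polynomial k)) = Polynomial.C.comp Polynomial.C from rfl,
        ← Polynomial.eval₂_map, Polynomial.eval₂_C_X]
    rw [hYmap] at d1
    have hdeg : (toXY k f).natDegree = 0 := by
      have h3 := congrArg Polynomial.natDegree d0
      rw [Polynomial.natDegree_C, Polynomial.natDegree_mul] at h3
      · omega
      · intro h4; rw [h4, zero_mul, Polynomial.C_eq_zero] at d0; exact hg0 d0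
      · intro h4; rw [h4, mul_zero, Polynomial.C_eq_zero] at d0; exact hg0 d0
    obtain ⟨c, hc⟩ := Polynomial.natDegree_eq_zero.1 hdeg
    rw [← hc] at d1
    have hcu : IsUnit c := by
      refine isUnit_of_dvd_unit (?_ : c ∣ Polynomial.C h.leadingCoeff)
        (Polynomial.isUnit_C.2 (isUnit_iff_ne_zero.2 (Polynomial.leadingCoeff_ne_zero.2 hh0)))
      have h5 := congrArg Polynomial.leadingCoeff d1
      rw [Polynomial.leadingCoeff_map_of_injective Polynomial.C_injective, Polynomial.leadingCoeff_mul,
        Polynomial.leadingCoeff_C] at h5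
      exact ⟨_, h5⟩
    apply hfu
    rw [← ofXY_toXY f, ← hc]
    exact (Polynomial.isUnit_C.2 hcu).map _
  have halg : ∀ {s t : K}, Transcendental k s → (∃ G : Polynomial (Polynomial k), G ≠ 0 ∧
      G.eval₂ (Polynomial.aeval s : Polynomial k →ₐ[k] K).toRingHom t = 0) → k⟮s, t⟯ = ⊤ → IsFF k K := by
    intro s t hs ⟨G, hG0, hG⟩ htop
    let φ : Polynomial k →+* k⟮s⟯ :=
      (Polynomial.aeval (IntermediateField.AdjoinSimple.gen k s) : Polynomial k →ₐ[k] k⟮s⟯).toRingHom
    have hφ : (algebraMap k⟮s⟯ K).comp φ = (Polynomial.aeval s : Polynomial k →ₐ[k] K).toRingHom :=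
      RingHom.ext fun q => (Polynomial.aeval_algHom_apply k⟮s⟯.val (IntermediateField.AdjoinSimple.gen k s) q).symm
    have hφi : Function.Injective φ := fun a b hab => transcendental_iff_injective.1 hs (by
      show (Polynomial.aeval s : Polynomial k →ₐ[k] K).toRingHom a = (Polynomial.aeval s : Polynomial k →ₐ[k] K).toRingHom b
      rw [← hφ, RingHom.comp_apply, RingHom.comp_apply, hab])
    have ht : IsIntegral k⟮s⟯ t := IsAlgebraic.isIntegral ⟨G.map φ, (Polynomial.map_ne_zero_iff hφi).2 hG0, by
      rw [Polynomial.aeval_def, Polynomial.eval₂_map, hφ]; exact hG⟩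
    refine ⟨s, hs, ?_⟩
    haveI := IntermediateField.adjoin.finiteDimensional ht
    have htop' : (k⟮s⟯⟮t⟯ : IntermediateField k⟮s⟯ K) = ⊤ := by
      have hr : (k⟮s⟯⟮t⟯).restrictScalars k = k⟮s, t⟯ := IntermediateField.adjoin_simple_adjoin_simple k s t
      rw [htop] at hr
      refine IntermediateField.restrictScalars_injective k (hr.trans ?_)
      simp
    exact Module.Finite.equiv ((IntermediateField.equivOfEq htop').trans IntermediateField.topEquiv).toLinearEquiv
  have hf : MvPolynomial.aeval ![x, y] f = 0 := (hmem f).2 dvd_rfl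
  rcases htr with htx | hty
  · refine halg htx ⟨toXY k f, fun h => hf0 ?_, (eval₂_toXY x y f).trans hf⟩ hxy
    rw [← ofXY_toXY f, h, map_zero]
  · refine halg hty ⟨toXY k (MvPolynomial.rename ![1, 0] f), fun h => hf0 ?_, ?_⟩ (by rw [Set.pair_comm]; exact hxy)
    · have h2 : MvPolynomial.rename (![1, 0] : Fin 2 → Fin 2) f = 0 := by rw [← ofXY_toXY (MvPolynomial.rename _ f), h, map_zero]
      exact MvPolynomial.rename_injective (![1, 0] : Fin 2 → Fin 2) (by decide) (h2.trans (map_zero _).symm)
    · rw [eval₂_toXY, MvPolynomial.aeval_rename]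
      convert hf using 3
      funext i
      fin_cases i <;> rfl

theorem isFunctionField_and_isGeometric_of_plane_model {x y : K} {f : MvPolynomial (Fin 2) k}
    (hxy : k⟮x, y⟯ = (⊤ : IntermediateField k K))
    (hirr : ∀ (k' : Type u) [Field k'] [Algebra k k'], FiniteDimensional k k' → Irreducible (MvPolynomial.map (algebraMap k k') f))
    (hker : RingHom.ker (MvPolynomial.aeval ![x, y] : MvPolynomial (Fin 2) k →ₐ[k] K) = Ideal.span {f}) :
    IsFunctionField k K ∧ FunFld.IsGeometric k K := by
  classical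
  have hg : FunFld.IsGeometric k K := fun k' _ _ hfin => by
    haveI := hfin
    exact isField_of_irreducible k' hxy hker (hirr k' hfin)
  have hbase := hirr k inferInstance
  rw [Algebra.algebraMap_self, MvPolynomial.map_id] at hbase
  refine ⟨⟨isFF_of_plane_model hxy hbase.ne_zero hbase.not_isUnit hker, fun z hz => ?_⟩, hg⟩
  let M : IntermediateField k K := k⟮z⟯
  haveI : FiniteDimensional k M := IntermediateField.adjoin.finiteDimensional hz.isIntegral
  have hfield : IsField (M ⊗[k] K) := by
    obtain ⟨σ⟩ : Nonempty (M →ₐ[k] AlgebraicClosure k) := ⟨IsAlgClosed.lift⟩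
    let eR : M ≃ₐ[k] σ.fieldRange := AlgEquiv.ofInjectiveField σ
    haveI : FiniteDimensional k σ.fieldRange := Module.Finite.equiv eR.toLinearEquiv
    exact MulEquiv.isField (hg σ.fieldRange inferInstance)
      (Algebra.TensorProduct.congr eR (AlgEquiv.refl : K ≃ₐ[k] K)).toMulEquiv
  letI : Field (M ⊗[k] K) := hfield.toField
  let Φ : M ⊗[k] K →ₐ[k] K := Algebra.TensorProduct.productMap M.val (AlgHom.id k K)
  have h0 : Φ ((⟨z, IntermediateField.mem_adjoin_simple_self k z⟩ : M) ⊗ₜ[k] (1 : K)) = Φ ((1 : M) ⊗ₜ[k] z) := by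
    simp [Φ]
  have heq := Φ.toRingHom.injective h0
  obtain ⟨g, hg'⟩ := Module.Projective.exists_dual_ne_zero k (one_ne_zero : (1 : K) ≠ 0)
  let L2 : M ⊗[k] K →ₗ[k] M := (TensorProduct.rid k M).toLinearMap ∘ₗ TensorProduct.map LinearMap.id g
  have := congrArg (fun t : M ⊗[k] K => L2 t) heq
  simp only [L2] at this
  simp at this
  refine ⟨g z / g 1, ?_⟩
  have hh := congrArg Subtype.val this
  simp [Algebra.smul_def] at hh
  rw [map_div₀, ← hh, mul_div_cancel_left₀ _ ((map_ne_zero _).2 hg')]

end Groth.Agent.FF
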