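import Groth.Agent.FF.LR.Hasse

/-! Weakly separable extensions are separable over the compositum with the constants. -/

set_option autoImplicit false
set_option linter.style.haveILetI false
set_option linter.unusedSectionVars false

open FunFld
open scoped IntermediateField

namespace Groth.Agent.FF

lemma isSeparable_of_mem_adjoin {k' K K' : Type*} [Field k'] [Field K] [Field K'] [Algebra K K'] [Algebra k' K']
    (x : K) [Algebra.IsSeparable k'⟮algebraMap K K' x⟯ K'] :
    Algebra.IsSeparable (IntermediateField.adjoin K (Set.range (algebraMap k' K'))) K' := by
  set M := IntermediateField.adjoin K (Set.range (algebraMap k' K'))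
  let L := k'⟮algebraMap K K' x⟯
  have hle : L.toSubfield ≤ M.toSubfield := by
    show Subfield.closure _ ≤ _
    rw [Subfield.closure_le]
    rintro z (hz | hz)
    · exact IntermediateField.subset_adjoin K _ hz
    · rw [Set.mem_singleton_iff] at hz
      subst hz
      exact M.algebraMap_mem x
  letI : Algebra L M := (Subfield.inclusion hle).toAlgebra
  haveI : IsScalarTower L M K' := IsScalarTower.of_algebraMap_eq fun _ => rfl
  exact Algebra.isSeparable_tower_top_of_isSeparable L M K'

end Groth.Agent.FF
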