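import Groth.Agent.FF.LimitLin

set_option linter.style.haveILetI false
set_option linter.unusedSectionVars false

namespace Groth.Agent.FF

open FunFld WithZero

variable {k K : Type*} [Field k] [Field K] [Algebra k K] (hK : IsFunctionField k K)
include hK

lemma eq_zero_of_nonneg_of_deg {E : Divisor k K} (hE : 0 ≤ E) (hd : E.deg = 0) : E = 0 := by
  classical
  refine le_antisymm (fun R => ?_) hE
  by_contra hR
  simp only [Finsupp.coe_zero, Pi.zero_apply, not_le] at hR
  have h1 : Finsupp.single R 1 ≤ E := by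
    intro Q
    rw [Finsupp.single_apply]
    split_ifs with e
    · subst e; omega
    · exact hE Q
  have := deg_mono h1
  rw [deg_single, hd] at this
  have := deg_pos hK.1 R
  omega

lemma principal_of_ell_pos {D : Divisor k K} (hd : D.deg = 0) (hl : 0 < ell D) :
    ∃ z : K, z ≠ 0 ∧ D + FunFld.div k z = 0 := by
  obtain ⟨z, hz, hnn⟩ := exists_nonneg_equiv hK hl
  exact ⟨z, hz, eq_zero_of_nonneg_of_deg hK hnn (by rw [deg_add, hd, deg_div hK.1, add_zero])⟩

lemma L_eq_of_le_of_ell {E F : Divisor k K} (h : E ≤ F) (hl : ell F ≤ ell E) : L E = L F := by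
  haveI := finiteDimensional_L hK.1 F
  exact Submodule.eq_of_le_of_finrank_le (L_mono h) hl

lemma one_mem_L {E : Divisor k K} (h : 0 ≤ E) : (1 : K) ∈ L E := by
  rw [mem_L_iff hK.1 one_ne_zero]
  have : FunFld.div k (1 : K) = 0 := by simpa using div_const hK.1 (1 : k)
  rwa [this, add_zero]

lemma eq_of_ell_eq_one {E F : Divisor k K} (hE : 0 ≤ E) (hl : ell E = 1) {z : K} (hz : z ≠ 0)
    (hF : 0 ≤ F) (h : F = E + FunFld.div k z) : F = E := by
  haveI := finiteDimensional_L hK.1 E
  have hle : (1 : Submodule k K) ≤ L E := by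
    rw [Submodule.one_le]; exact one_mem_L hK hE
  have heq : (1 : Submodule k K) = L E :=
    Submodule.eq_of_le_of_finrank_le hle (by rw [finrank_one (hK := hK.1)]; exact hl.le)
  have hmem : z ∈ L E := (mem_L_iff hK.1 hz).2 (h ▸ hF)
  rw [← heq, Submodule.mem_one] at hmem
  obtain ⟨c, rfl⟩ := hmem
  rw [h, div_const hK.1, add_zero]

omit hK in
lemma L_inf (E F : Divisor k K) : L E ⊓ L F = L (E ⊓ F) := by
  refine le_antisymm (fun x hx P => ?_) (le_inf (L_mono inf_le_left) (L_mono inf_le_right))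
  rw [Finsupp.inf_apply]
  rcases le_total (E P) (F P) with h | h
  · rw [min_eq_left h]; exact hx.1 P
  · rw [min_eq_right h]; exact hx.2 P

omit hK in
/-- Two conditions at different places. -/
lemma L_sub_sub_inf {D : Divisor k K} {P Q : Place k K} (hPQ : P ≠ Q) {a b a' b' : ℤ} (ha : a' ≤ a)
    (hb : b' ≤ b) :
    L (D - Finsupp.single P a - Finsupp.single Q b') ⊓ L (D - Finsupp.single P a' - Finsupp.single Q b) =
      L (D - Finsupp.single P a - Finsupp.single Q b) := by
  classical
  rw [L_inf]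
  congr 1
  ext R
  simp only [Finsupp.inf_apply, Finsupp.sub_apply, Finsupp.single_apply]
  by_cases h1 : P = R
  · subst h1
    rw [if_neg hPQ.symm, if_neg hPQ.symm, if_pos rfl, if_pos rfl]
    omega
  · by_cases h2 : Q = R
    · subst h2
      rw [if_neg h1, if_neg h1, if_pos rfl, if_pos rfl]
      omega
    · rw [if_neg h1, if_neg h1, if_neg h2, if_neg h2]
      omega

end Groth.Agent.FF

namespace Groth.Agent.FF

open FunFld WithZero

variable {k K : Type*} [Field k] [IsAlgClosed k] [Field K] [Algebra k K] (hK : IsFunctionField k K)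
include hK

lemma two_fold_of_ell_two (hg : genus k K = 2) {C : Divisor k K} (hC : IsCanonical k K C)
    {E : Divisor k K} (hd : E.deg = 2) (hl : ell E = 2) :
    ∃ w : K, w ≠ 0 ∧ C - E + FunFld.div k w = 0 := by
  have hrr := riemann_roch hK hC E
  have hdc := deg_canonical hK hC
  refine principal_of_ell_pos hK (by rw [deg_sub, hdc, hd, hg]; norm_num) ?_
  rw [hl, hd, hg] at hrr
  omega

lemma genus_two_a (hg : genus k K = 2) {C : Divisor k K} (hC : IsCanonical k K C) {A P Q : Place k K}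
    (hA : ell (Finsupp.single A (2 : ℤ)) = 1) (hQ : Q ≠ A)
    (h1 : ell (C + Finsupp.single A (2 : ℤ) - Finsupp.single P (1 : ℤ) - Finsupp.single Q (3 : ℤ)) = 1)
    (h2 : ell (C + Finsupp.single A (2 : ℤ) - Finsupp.single P (1 : ℤ) - Finsupp.single Q (1 : ℤ)) = 2) :
    False := by
  classical
  have hd : ∀ R : Place k K, R.deg = 1 := deg_eq_one hK
  have hdc := deg_canonical hK hC
  rw [hg] at hdc
  obtain ⟨z, hz, hze⟩ := principal_of_ell_pos hK
    (D := C + Finsupp.single A (2 : ℤ) - Finsupp.single P (1 : ℤ) - Finsupp.single Q (3 : ℤ))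
    (by simp only [deg_sub, deg_add, deg_single, hdc, hd]; norm_num) (by omega)
  have h2' : ell (Finsupp.single Q (2 : ℤ)) = 2 := by
    rw [← h2, ← ell_add_div hK (D := C + Finsupp.single A (2 : ℤ) - Finsupp.single P (1 : ℤ) -
      Finsupp.single Q (1 : ℤ)) hz]
    congr 1
    rw [← add_zero (Finsupp.single Q (2 : ℤ)), ← hze,
      show (3 : ℤ) = 2 + 1 by norm_num, Finsupp.single_add]
    abel
  obtain ⟨w, hw, hwe⟩ := two_fold_of_ell_two hK hg hC (by rw [deg_single, hd]; norm_num) h2'
  have hu : z * w⁻¹ ≠ 0 := mul_ne_zero hz (inv_ne_zero hw)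
  have key : Finsupp.single P (1 : ℤ) + Finsupp.single Q 1 =
      Finsupp.single A (2 : ℤ) + FunFld.div k (z * w⁻¹) := by
    rw [div_mul hK.1 hz (inv_ne_zero hw), div_inv hK.1,
      ← sub_eq_zero, show (0 : Divisor k K) =
        -((C + Finsupp.single A (2 : ℤ) - Finsupp.single P (1 : ℤ) - Finsupp.single Q (3 : ℤ)
          + FunFld.div k z) - (C - Finsupp.single Q (2 : ℤ) + FunFld.div k w)) by rw [hze, hwe]; simp,
      show (3 : ℤ) = 2 + 1 by norm_num, Finsupp.single_add]
    abel
  have := eq_of_ell_eq_one hK (Finsupp.single_nonneg.2 (by norm_num)) hA hu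
    (add_nonneg (Finsupp.single_nonneg.2 (by norm_num)) (Finsupp.single_nonneg.2 (by norm_num))) key
  have := DFunLike.congr_fun this Q
  rw [Finsupp.add_apply, Finsupp.single_eq_same, Finsupp.single_apply, Finsupp.single_apply,
    if_neg hQ.symm] at this
  split_ifs at this <;> omega

lemma genus_two_b (hg : genus k K = 2) {C : Divisor k K} (hC : IsCanonical k K C) {A P Q : Place k K}
    (hA : ell (Finsupp.single A (2 : ℤ)) = 1) (hP : P ≠ A)
    (h1 : ell (C + Finsupp.single A (3 : ℤ) - Finsupp.single P (1 : ℤ) - Finsupp.single Q (4 : ℤ)) = 1)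
    (h2 : ell (C + Finsupp.single A (3 : ℤ) - Finsupp.single P (1 : ℤ) - Finsupp.single Q (2 : ℤ)) = 2) :
    False := by
  classical
  have hd : ∀ R : Place k K, R.deg = 1 := deg_eq_one hK
  have hdc := deg_canonical hK hC
  rw [hg] at hdc
  obtain ⟨z, hz, hze⟩ := principal_of_ell_pos hK
    (D := C + Finsupp.single A (3 : ℤ) - Finsupp.single P (1 : ℤ) - Finsupp.single Q (4 : ℤ))
    (by simp only [deg_sub, deg_add, deg_single, hdc, hd]; norm_num) (by omega)
  have e4 : Finsupp.single Q (4 : ℤ) = Finsupp.single Q (2 : ℤ) + Finsupp.single Q 2 := by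
    rw [← Finsupp.single_add]; norm_num
  have h2' : ell (Finsupp.single Q (2 : ℤ)) = 2 := by
    rw [← h2, ← ell_add_div hK (D := C + Finsupp.single A (3 : ℤ) - Finsupp.single P (1 : ℤ) -
      Finsupp.single Q (2 : ℤ)) hz]
    congr 1
    rw [eq_comm, ← sub_eq_zero, ← hze, e4]
    abel
  obtain ⟨w, hw, hwe⟩ := two_fold_of_ell_two hK hg hC (by rw [deg_single, hd]; norm_num) h2'
  have h3 : ell (Finsupp.single A (3 : ℤ) - Finsupp.single P 1) = 2 := by
    rw [← h2', ← ell_add_div hK (D := Finsupp.single A (3 : ℤ) - Finsupp.single P 1)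
      (mul_ne_zero hz (inv_ne_zero hw))]
    congr 1
    rw [div_mul hK.1 hz (inv_ne_zero hw), div_inv hK.1, ← sub_eq_zero,
      show (0 : Divisor k K) =
        (C + Finsupp.single A (3 : ℤ) - Finsupp.single P (1 : ℤ) - Finsupp.single Q (4 : ℤ)
          + FunFld.div k z) - (C - Finsupp.single Q (2 : ℤ) + FunFld.div k w) by rw [hze, hwe]; simp,
      e4]
    abel
  have h4 := ell_eq_of_deg_ge hK (D := Finsupp.single A (3 : ℤ)) (by rw [deg_single, hd, hg]; norm_num)
  rw [deg_single, hd, hg] at h4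
  have heq := L_eq_of_le_of_ell hK (E := Finsupp.single A (3 : ℤ) - Finsupp.single P 1)
    (F := Finsupp.single A (3 : ℤ)) (sub_le_self _ (Finsupp.single_nonneg.2 zero_le_one)) (by omega)
  have h5 := (mem_L_iff hK.1 one_ne_zero).1
    (heq ▸ one_mem_L hK (Finsupp.single_nonneg.2 (by norm_num : (0:ℤ) ≤ 3))) P
  rw [Finsupp.add_apply, Finsupp.sub_apply, Finsupp.single_eq_same, Finsupp.single_eq_of_ne hP,
    show FunFld.div k (1 : K) = 0 by simpa using div_const hK.1 (1 : k)] at h5
  simp only [Finsupp.coe_zero, Pi.zero_apply] at h5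
  omega

lemma genus_two_c (hg : genus k K = 2) {C : Divisor k K} (hC : IsCanonical k K C) {B Q : Place k K}
    (hB : ell (Finsupp.single B (2 : ℤ)) = 1) (hQ : Q ≠ B)
    (h1 : ell (C + Finsupp.single B (1 : ℤ) - Finsupp.single Q (2 : ℤ)) = 1)
    (h2 : ell (C + Finsupp.single B (3 : ℤ) - Finsupp.single Q (4 : ℤ)) = 1) :
    False := by
  classical
  have hd : ∀ R : Place k K, R.deg = 1 := deg_eq_one hK
  have hdc := deg_canonical hK hC
  rw [hg] at hdc
  have hlc := ell_canonical hK hC
  rw [hg] at hlc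
  obtain ⟨z, hz, hnn⟩ := exists_nonneg_equiv hK
    (D := C + Finsupp.single B (1 : ℤ) - Finsupp.single Q (2 : ℤ)) (by omega)
  obtain ⟨R, -, hR⟩ := eq_single_of_deg_one hK hnn
    (by simp only [deg_sub, deg_add, deg_single, deg_div hK.1, hdc, hd]; norm_num)
  -- `B` is a base point of `C + B`
  have hCB := ell_eq_of_deg_ge hK (D := C + Finsupp.single B (1 : ℤ))
    (by simp only [deg_add, deg_single, hdc, hd, hg]; norm_num)
  simp only [deg_add, deg_single, hdc, hd, hg] at hCB
  have heq := L_eq_of_le_of_ell hK (E := C) (F := C + Finsupp.single B (1 : ℤ))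
    (le_add_of_nonneg_right (Finsupp.single_nonneg.2 zero_le_one)) (by omega)
  have hzB : z ∈ L (C + Finsupp.single B (1 : ℤ)) := (mem_L_iff hK.1 hz).2 (hnn.trans
    (add_le_add (sub_le_self _ (Finsupp.single_nonneg.2 (by norm_num))) le_rfl))
  rw [← heq] at hzB
  have hBR : R = B := by
    by_contra hne
    have h5 := (mem_L_iff hK.1 hz).1 hzB B
    have h6 := DFunLike.congr_fun hR B
    simp only [Finsupp.add_apply, Finsupp.sub_apply, Finsupp.single_eq_same,
      Finsupp.single_eq_of_ne hQ.symm, Finsupp.single_eq_of_ne (Ne.symm hne),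
      Finsupp.coe_zero, Pi.zero_apply] at h5 h6
    omega
  subst hBR
  -- hence `C ~ 2Q`
  have hCQ : C - Finsupp.single Q (2 : ℤ) + FunFld.div k z = 0 := by
    rw [← sub_self (Finsupp.single R (1 : ℤ))]
    nth_rewrite 1 [← hR]
    abel
  have h2' : ell (Finsupp.single R (3 : ℤ) - Finsupp.single Q (2 : ℤ)) = 1 := by
    rw [← h2, ← ell_add_div hK (D := C + Finsupp.single R (3 : ℤ) - Finsupp.single Q (4 : ℤ)) hz]
    congr 1
    rw [show (4 : ℤ) = 2 + 2 by norm_num, Finsupp.single_add,
      ← add_zero (Finsupp.single R (3 : ℤ) - Finsupp.single Q (2 : ℤ)), ← hCQ]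
    abel
  obtain ⟨w, hw, hnn'⟩ := exists_nonneg_equiv hK (D := Finsupp.single R (3 : ℤ) - Finsupp.single Q (2 : ℤ))
    (by omega)
  obtain ⟨R', -, hR'⟩ := eq_single_of_deg_one hK hnn'
    (by simp only [deg_sub, deg_add, deg_single, deg_div hK.1, hd]; norm_num)
  have hQ2 : ell (Finsupp.single Q (2 : ℤ)) = 2 := by
    rw [← hlc, ← ell_add_div hK (D := C) hz]
    congr 1
    rw [← sub_eq_zero, ← neg_eq_zero, ← hCQ]
    abel
  have h3 : ell (Finsupp.single R (3 : ℤ) - Finsupp.single R' 1) = 2 := by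
    rw [← hQ2, ← ell_add_div hK (D := Finsupp.single R (3 : ℤ) - Finsupp.single R' 1) hw, ← hR']
    congr 1
    abel
  have hR3 := ell_eq_of_deg_ge hK (D := Finsupp.single R (3 : ℤ)) (by rw [deg_single, hd, hg]; norm_num)
  rw [deg_single, hd, hg] at hR3
  have heq2 := L_eq_of_le_of_ell hK (E := Finsupp.single R (3 : ℤ) - Finsupp.single R' 1)
    (F := Finsupp.single R (3 : ℤ)) (sub_le_self _ (Finsupp.single_nonneg.2 zero_le_one)) (by omega)
  rcases eq_or_ne R' R with rfl | hne
  · rw [← Finsupp.single_sub] at h3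
    norm_num at h3
    omega
  · have h5 := (mem_L_iff hK.1 one_ne_zero).1
      (heq2 ▸ one_mem_L hK (Finsupp.single_nonneg.2 (by norm_num : (0:ℤ) ≤ 3))) R'
    rw [Finsupp.add_apply, Finsupp.sub_apply, Finsupp.single_eq_same, Finsupp.single_eq_of_ne hne,
      show FunFld.div k (1 : K) = 0 by simpa using div_const hK.1 (1 : k)] at h5
    simp only [Finsupp.coe_zero, Pi.zero_apply] at h5
    omega

end Groth.Agent.FF
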