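import Groth.Agent.FF.Small

set_option linter.style.haveILetI false
set_option linter.unusedSectionVars false

namespace Groth.Agent.FF

open FunFld WithZero

variable {k K : Type*} [Field k] [IsAlgClosed k] [Field K] [Algebra k K] (hK : IsFunctionField k K)
include hK

omit [IsAlgClosed k] in
lemma ord_eq_of_div_eq {x : K} {E : Divisor k K} (h : FunFld.div k x = E) (P : Place k K) :
    P.ord x = E P := by rw [← h, div_apply hK.1]

omit [IsAlgClosed k] in
lemma principal_of_large_weights {V : Submodule k K} {D : Divisor k K} {d r : ℕ}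
    (hg : IsGrd V D d r) {P Q : Place k K} (hP : P.deg = 1) (hQ : Q.deg = 1) (hPQ : P ≠ Q)
    (hw : (r + 1) * d + 1 ≤ vsum V D P d + vsum V D Q d + r) :
    ∃ m : ℕ, 1 ≤ m ∧ m ≤ d ∧ ∃ h : K, h ≠ 0 ∧
      FunFld.div k h = Finsupp.single Q (m : ℤ) - Finsupp.single P (m : ℤ) := by
  classical
  haveI := fin_sys hK hg
  let e : ℕ → ℤ := fun n => (vd V D P n : ℤ) + vd V D Q ((d : ℤ) - n) - (r + 1)
  have he1 : ∀ n, n ≤ d → e n ≤ 1 := fun n hn => by
    have h1 := vd_succ_le hK hg hP (n : ℤ)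
    have h2 := vd_add_vd_le hK hg hP hQ hPQ (n := n + 1) (by omega)
    push_cast at h2
    rw [show (d : ℤ) + 1 - (n + 1) = d - n by ring] at h2
    simp only [e]
    omega
  have hsum : 2 ≤ ∑ n ∈ Finset.range (d + 1), e n := by
    have hs1 : ∑ n ∈ Finset.range (d + 1), (vd V D P n : ℤ) = (r + 1 : ℕ) + (vsum V D P d : ℕ) := by
      rw [Finset.sum_range_succ', vsum, add_comm]
      simp [vd_zero hK hg P]
    have hs2 : ∑ n ∈ Finset.range (d + 1), (vd V D Q ((d : ℤ) - n) : ℤ) =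
        (r + 1 : ℕ) + (vsum V D Q d : ℕ) := by
      have hr := Finset.sum_range_reflect (fun n : ℕ => (vd V D Q n : ℤ)) (d + 1)
      rw [Finset.sum_range_succ' (fun n : ℕ => (vd V D Q n : ℤ))] at hr
      rw [vsum, Nat.cast_sum, ← vd_zero hK hg Q, add_comm (vd V D Q 0 : ℤ)]
      push_cast at hr
      rw [← hr]
      refine Finset.sum_congr rfl fun n hn => ?_
      rw [Finset.mem_range] at hn
      congr 2
      omega
    simp only [e, Finset.sum_sub_distrib, Finset.sum_add_distrib, hs1, hs2, Finset.sum_const,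
      Finset.card_range, nsmul_eq_mul]
    zify at hw
    push_cast
    linarith
  have hcard : 1 < ((Finset.range (d + 1)).filter fun n => 1 ≤ e n).card := by
    by_contra hc
    have hle : ∑ n ∈ Finset.range (d + 1), e n ≤
        ∑ n ∈ Finset.range (d + 1), (if 1 ≤ e n then (1 : ℤ) else 0) := by
      refine Finset.sum_le_sum fun n hn => ?_
      have := he1 n (by simpa [Nat.lt_succ_iff] using hn)
      split_ifs <;> omega
    rw [Finset.sum_boole] at hle
    omega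
  obtain ⟨a, ha, b, hb, hab⟩ := Finset.one_lt_card.1 hcard
  simp only [Finset.mem_filter, Finset.mem_range] at ha hb
  have mem : ∀ n, n < d + 1 → 1 ≤ e n → ∃ f : K, f ≠ 0 ∧
      FunFld.div k f + D = Finsupp.single P (n : ℤ) + Finsupp.single Q ((d : ℤ) - n) := by
    intro n hn hen
    simp only [e] at hen
    obtain ⟨f, -, hf0, hnn⟩ := vd_inf_le hK hg hP hQ hPQ (m := (n : ℤ)) (n := (d : ℤ) - n)
      (by omega) (by omega) (by omega)
    refine ⟨f, hf0, ?_⟩
    rw [← sub_eq_zero, ← sub_sub]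
    refine eq_zero_of_nonneg_of_deg hK hnn ?_
    rw [deg_sub, deg_sub, deg_add, deg_div hK.1, deg_single, deg_single, hg.deg_eq, hP, hQ]
    omega
  have main : ∀ a b, a < b → b < d + 1 → 1 ≤ e a → 1 ≤ e b → ∃ m : ℕ, 1 ≤ m ∧ m ≤ d ∧ ∃ h : K, h ≠ 0 ∧
      FunFld.div k h = Finsupp.single Q (m : ℤ) - Finsupp.single P (m : ℤ) := by
    intro a b hab hb hea heb
    obtain ⟨f, hf0, hf⟩ := mem a (by omega) hea
    obtain ⟨g, hg0, hgd⟩ := mem b hb heb
    refine ⟨b - a, by omega, by omega, f * g⁻¹, mul_ne_zero hf0 (inv_ne_zero hg0), ?_⟩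
    rw [div_mul hK.1 hf0 (inv_ne_zero hg0), div_inv hK.1, ← sub_eq_add_neg,
      ← add_sub_add_right_eq_sub (FunFld.div k f) (FunFld.div k g) D, hf, hgd, Nat.cast_sub hab.le,
      Finsupp.single_sub, Finsupp.single_sub, Finsupp.single_sub, Finsupp.single_sub]
    abel
  rcases lt_or_gt_of_ne hab with h | h
  · exact main a b h hb.1 ha.2 hb.2
  · exact main b a h ha.1 hb.2 ha.2

lemma subsingleton_exact_index [CharZero k] (h0 : genus k K = 0) {K' : Type*} [Field K'] [Algebra k K']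
    {VZ : Submodule k K'} {DZ : Divisor k K'} {V : Submodule k K} {D : Divisor k K} {d r : ℕ}
    (hgr : IsGrd V D d r) {P P' QY : Place k K} (hc : r ≤ vd V D QY 2) (hP : P ≠ QY) (hP' : P' ≠ QY)
    (hPP : P' ≠ P) {Q : Place k K'}
    (hcomp : ∀ n : ℕ, n ≤ d + 1 → vd V D P n + vd VZ DZ Q ((d : ℤ) + 1 - n) = r + 1) :
    {i : ℕ | i ≤ r ∧ ∃ m : ℕ, vd V D P' m = r + 1 - i ∧ vd V D P' ((m : ℤ) + 1) = r - i ∧
        vd VZ DZ Q m = r + 1 - i ∧ vd VZ DZ Q ((m : ℤ) + 1) = r - i}.Subsingleton := by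
  classical
  have hd : ∀ R : Place k K, R.deg = 1 := deg_eq_one hK
  have mem : ∀ i, i ≤ r → ∀ m : ℕ, vd V D P' m = r + 1 - i →
      vd VZ DZ Q ((m : ℤ) + 1) = r - i →
      m ≤ d ∧ ∃ f ∈ V, f ≠ 0 ∧ FunFld.div k f + D = Finsupp.single P' (m : ℤ) + Finsupp.single P ((d : ℤ) - m) := by
    intro i hi m h1 h2
    have hm : m ≤ d := by
      by_contra hm
      rw [vd_eq_zero hK hgr (hd P') (by omega)] at h1
      omega
    have h := hcomp (d - m) (by omega)
    rw [Nat.cast_sub hm, show (d : ℤ) + 1 - ((d : ℤ) - m) = m + 1 by ring, h2] at h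
    obtain ⟨f, hfV, hf0, hnn⟩ := vd_inf_le hK hgr (hd P') (hd P) hPP (m := (m : ℤ)) (n := (d : ℤ) - m)
      (by omega) (by omega) (by omega)
    refine ⟨hm, f, hfV, hf0, ?_⟩
    rw [← sub_eq_zero, ← sub_sub]
    refine eq_zero_of_nonneg_of_deg hK hnn ?_
    rw [deg_sub, deg_sub, deg_add, deg_div hK.1, deg_single, deg_single, hgr.deg_eq, hd, hd]
    omega
  rintro i ⟨hi, m, hm1, -, -, hm2⟩ j ⟨hj, n, hn1, -, -, hn2⟩
  obtain ⟨hmd, f, hf, hf0, hfd⟩ := mem i hi m hm1 hm2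
  obtain ⟨hnd, g, hg, hg0, hgd⟩ := mem j hj n hn1 hn2
  have hsupp : ∀ (a b : ℤ) (R : Place k K), R ≠ P → R ≠ P' →
      (Finsupp.single P' a + Finsupp.single P b) R = 0 := fun a b R h1 h2 => by
    rw [Finsupp.add_apply, Finsupp.single_eq_of_ne h2, Finsupp.single_eq_of_ne h1, add_zero]
  obtain ⟨c, rfl⟩ := unique_member_of_cusp hK h0 hgr hc hP hP' hf hg hf0 hg0
    (fun R h1 h2 => hfd ▸ hsupp _ _ R h1 h2) (fun R h1 h2 => hgd ▸ hsupp _ _ R h1 h2)
  have hc0 : algebraMap k K c ≠ 0 := fun e => hg0 (by rw [Algebra.smul_def, e, zero_mul])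
  rw [Algebra.smul_def, div_mul hK.1 hc0 hf0, div_const hK.1, zero_add, hfd] at hgd
  have := DFunLike.congr_fun hgd P'
  simp only [Finsupp.add_apply, Finsupp.single_eq_same, Finsupp.single_eq_of_ne hPP, add_zero] at this
  have hmn : m = n := by omega
  subst hmn
  omega

end Groth.Agent.FF
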