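import Groth.Agent.FF.Splitting
import Mathlib.FieldTheory.SeparableClosure

/-! Places over a nonsingular place in a splitting field. -/

set_option autoImplicit false
set_option linter.style.haveILetI false
set_option linter.unusedSectionVars false

open FunFld WithZero
open scoped TensorProduct

namespace Groth.Agent.FF

variable {k k' K K' : Type*} [Field k] [Field k'] [Field K] [Field K']
  [Algebra k k'] [FiniteDimensional k k'] [Algebra k K] [Algebra K K'] [Algebra k' K'] [Algebra k K']
  [IsScalarTower k k' K'] [IsScalarTower k K K'] {P : Place k K}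

/-- `Q` induces `σ` on the residue field of `P` -/
def Compat (σ : IsLocalRing.ResidueField P.O →ₐ[k] k') (Q : Place k K') : Prop :=
  ∀ a : P.O, Q.1 (algebraMap K K' (a : K) - algebraMap k' K' (σ (resHom P a))) < 1

lemma const_unique (Q : Place k K') {c d : k'} {z : K'} (hc : Q.1 (z - algebraMap k' K' c) < 1)
    (hd : Q.1 (z - algebraMap k' K' d) < 1) : c = d := by
  by_contra hne
  have h1 : Q.1 (algebraMap k' K' (d - c)) < 1 := by
    rw [map_sub, show algebraMap k' K' d - algebraMap k' K' c =
      (z - algebraMap k' K' c) - (z - algebraMap k' K' d) by ring]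
    exact (Q.1.map_sub _ _).trans_lt (max_lt hc hd)
  rw [val_const_k' Q (sub_ne_zero.2 (Ne.symm hne))] at h1
  exact lt_irrefl _ h1

/-- the character of `k' ⊗ O_P` at `σ` -/
noncomputable def chiO (σ : IsLocalRing.ResidueField P.O →ₐ[k] k') : k' ⊗[k] P.O →ₐ[k] k' :=
  Algebra.TensorProduct.productMap (AlgHom.id k k')
    (σ.comp { resHom P with commutes' := fun _ => rfl })

lemma chiO_tmul (σ : IsLocalRing.ResidueField P.O →ₐ[k] k') (c : k') (a : P.O) :
    chiO σ (c ⊗ₜ[k] a) = c * σ (resHom P a) :=
  Algebra.TensorProduct.productMap_apply_tmul _ _ c a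

lemma thO_tmul (c : k') (a : P.O) :
    thO k' K' P (c ⊗ₜ[k] a) = algebraMap k' K' c * algebraMap K K' (a : K) :=
  Algebra.TensorProduct.productMap_apply_tmul _ _ c a

lemma val_sub_chi_lt {σ : IsLocalRing.ResidueField P.O →ₐ[k] k'} {Q : Place k K'} (hc : Compat σ Q)
    (β : k' ⊗[k] P.O) : Q.1 (thO k' K' P β - algebraMap k' K' (chiO σ β)) < 1 := by
  induction β using TensorProduct.induction_on with
  | zero => simp
  | add x y hx hy =>
    rw [map_add, map_add, map_add, add_sub_add_comm]
    exact (Q.1.map_add _ _).trans_lt (max_lt hx hy)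
  | tmul c a =>
    rw [chiO_tmul, thO_tmul, map_mul, ← mul_sub, map_mul]
    exact (mul_le_of_le_one_left' (val_const_k'_le Q c)).trans_lt (hc a)

lemma exists_compat (h : IsBC k k' K K') (hK : IsFF k K) (hns : ∀ z ∈ IntP K' P, z ∈ BO k' K' P)
    (σ : IsLocalRing.ResidueField P.O →ₐ[k] k') : ∃ Q : Place k K', IsOver Q P ∧ Compat σ Q := by
  classical
  haveI := bc_finite h
  set S := (finite_over (K' := K') hK P).toFinset
  have hmS : ∀ {R : Place k K'}, R ∈ S ↔ IsOver R P := (finite_over (K' := K') hK P).mem_toFinset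
  have hle : ∀ (β : k' ⊗[k] P.O) {R : Place k K'}, IsOver R P → R.1 (thO k' K' P β) ≤ 1 := fun β R hR =>
    mem_IntP.1 (mem_IntP_of_mem_BO h ⟨β, rfl⟩) R hR
  by_contra hno
  push Not at hno
  have hy : ∀ R ∈ S, ∃ β : k' ⊗[k] P.O, chiO σ β = 0 ∧ R.1 (thO k' K' P β) = 1 := by
    intro R hR
    by_contra hcon
    push Not at hcon
    refine hno R (hmS.1 hR) fun a => ?_
    have h0 : chiO σ ((1 : k') ⊗ₜ[k] a - σ (resHom P a) ⊗ₜ[k] (1 : P.O)) = 0 := by
      rw [map_sub, chiO_tmul, chiO_tmul, map_one, map_one, one_mul, mul_one, sub_self]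
    have h1 := hcon _ h0
    have h2 := lt_of_le_of_ne (hle _ (hmS.1 hR)) h1
    rw [map_sub, thO_tmul, thO_tmul] at h2
    simpa using h2
  choose! y hy0 hy1 using hy
  have he : ∀ R ∈ S, ∃ ε : k' ⊗[k] P.O, R.1 (thO k' K' P ε) = 1 ∧
      ∀ R' ∈ S, R' ≠ R → R'.1 (thO k' K' P ε) < 1 := by
    intro R hR
    obtain ⟨z, hz⟩ := approx_eq S (fun _ => (0 : K')) (fun R' => if R' = R then 0 else -1)
    have hzv : ∀ R' ∈ S, R'.1 z = exp (if R' = R then (0 : ℤ) else -1) := fun R' hR' => by
      simpa using hz R' hR'
    obtain ⟨ε, hε⟩ := hns z (mem_IntP.2 fun R' hR' => by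
      rw [hzv R' (hmS.2 hR'), ← exp_zero, exp_le_exp]; split_ifs <;> norm_num)
    have hε' : thO k' K' P ε = z := hε
    refine ⟨ε, ?_, fun R' hR' hne => ?_⟩
    · rw [hε', hzv R hR, if_pos rfl, exp_zero]
    · rw [hε', hzv R' hR', if_neg hne, ← exp_zero, exp_lt_exp]; norm_num
  choose! ε hε1 hεlt using he
  set β := ∑ R ∈ S, ε R * y R
  have hχ : chiO σ β = 0 := by
    rw [map_sum]
    exact Finset.sum_eq_zero fun R hR => by rw [map_mul, hy0 R hR, mul_zero]
  have hval : ∀ R ∈ S, R.1 (thO k' K' P β) = 1 := by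
    intro R hR
    rw [map_sum, ← Finset.add_sum_erase _ _ hR, Valuation.map_add_eq_of_lt_left]
    · rw [map_mul, map_mul, hε1 R hR, hy1 R hR, mul_one]
    · rw [map_mul, map_mul, hε1 R hR, hy1 R hR, mul_one]
      refine Valuation.map_sum_lt _ one_ne_zero fun R' hR' => ?_
      rw [Finset.mem_erase] at hR'
      rw [map_mul, map_mul]
      exact (mul_le_of_le_one_right' (hle _ (hmS.1 hR))).trans_lt (hεlt R' hR'.2 R hR hR'.1.symm)
  obtain ⟨γ, hγ⟩ := hns (thO k' K' P β)⁻¹ (mem_IntP.2 fun R hR => by
    rw [map_inv₀, hval R (hmS.2 hR), inv_one])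
  have hγ' : thO k' K' P γ = (thO k' K' P β)⁻¹ := hγ
  obtain ⟨R0, hR0⟩ := exists_over (K' := K') hK P
  have hne : thO k' K' P β ≠ 0 := fun h0 => by
    have := hval R0 (hmS.2 hR0)
    rw [h0, map_zero] at this
    exact zero_ne_one this
  have hone : β * γ = 1 := thO_injective P h (by rw [map_mul, hγ', map_one, mul_inv_cancel₀ hne])
  have := congrArg (chiO σ) hone
  rw [map_mul, hχ, zero_mul, map_one] at this
  exact zero_ne_one this

lemma compat_unique (h : IsBC k k' K K') (hK : IsFF k K) (hns : ∀ z ∈ IntP K' P, z ∈ BO k' K' P)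
    {σ : IsLocalRing.ResidueField P.O →ₐ[k] k'} {Q R : Place k K'} (hQ : IsOver Q P) (hR : IsOver R P)
    (hQc : Compat σ Q) (hRc : Compat σ R) : Q = R := by
  classical
  haveI := bc_finite h
  by_contra hne
  obtain ⟨z, hz⟩ := approx_eq (finite_over (K' := K') hK P).toFinset (fun _ => (0 : K'))
    (fun S => if S = Q then 0 else -1)
  have hzv : ∀ S, IsOver S P → S.1 z = exp (if S = Q then (0 : ℤ) else -1) := fun S hS => by
    simpa using hz S ((finite_over (K' := K') hK P).mem_toFinset.2 hS)
  obtain ⟨β, hβ⟩ := hns z (mem_IntP.2 fun S hS => by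
    rw [hzv S hS, ← exp_zero, exp_le_exp]; split_ifs <;> norm_num)
  have hβ' : thO k' K' P β = z := hβ
  have h1 := val_sub_chi_lt hQc β
  have h2 := val_sub_chi_lt hRc β
  rw [hβ'] at h1 h2
  have hR1 : R.1 z < 1 := by rw [hzv R hR, if_neg (Ne.symm hne), ← exp_zero, exp_lt_exp]; norm_num
  have hQ1 : Q.1 z = 1 := by rw [hzv Q hQ, if_pos rfl, exp_zero]
  have h0 : chiO σ β = 0 := const_unique R h2 (by rwa [map_zero, sub_zero])
  rw [h0, map_zero, sub_zero, hQ1] at h1
  exact lt_irrefl _ h1

lemma exists_sigma {Q : Place k K'} (hQ : IsOver Q P)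
    (hres : ∀ z : K', Q.1 z ≤ 1 → ∃ c : k', Q.1 (z - algebraMap k' K' c) < 1) :
    ∃ σ : IsLocalRing.ResidueField P.O →ₐ[k] k', Compat σ Q := by
  choose c hc using fun a : P.O =>
    hres (algebraMap K K' (a : K)) ((val_algebraMap_le_one_iff hQ _).2 ((mem_O P).1 a.2))
  have hconst : ∀ d : k, c (algebraMap k P.O d) = algebraMap k k' d := fun d =>
    const_unique Q (hc _) (by
      rw [show ((algebraMap k P.O d : P.O) : K) = algebraMap k K d from rfl, ← IsScalarTower.algebraMap_apply,
        ← IsScalarTower.algebraMap_apply, sub_self, map_zero]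
      exact zero_lt_one)
  have hadd : ∀ a b, c (a + b) = c a + c b := fun a b => const_unique Q (hc _) (by
    rw [show ((a + b : P.O) : K) = (a : K) + b from rfl, map_add, map_add, add_sub_add_comm]
    exact (Q.1.map_add _ _).trans_lt (max_lt (hc a) (hc b)))
  have hmul : ∀ a b, c (a * b) = c a * c b := fun a b => const_unique Q (hc _) (by
    rw [show ((a * b : P.O) : K) = (a : K) * b from rfl, map_mul, map_mul,
      show algebraMap K K' (a : K) * algebraMap K K' (b : K) - algebraMap k' K' (c a) * algebraMap k' K' (c b) =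
        (algebraMap K K' (a : K) - algebraMap k' K' (c a)) * algebraMap K K' (b : K) +
          algebraMap k' K' (c a) * (algebraMap K K' (b : K) - algebraMap k' K' (c b)) by ring]
    refine (Q.1.map_add _ _).trans_lt (max_lt ?_ ?_)
    · rw [map_mul]
      exact (mul_le_of_le_one_right' ((val_algebraMap_le_one_iff hQ _).2 ((mem_O P).1 b.2))).trans_lt (hc a)
    · rw [map_mul]
      exact (mul_le_of_le_one_left' (val_const_k'_le Q _)).trans_lt (hc b))
  let g : P.O →ₐ[k] k' :=
    { toFun := c
      map_one' := by rw [← map_one (algebraMap k P.O), hconst, map_one]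
      map_mul' := hmul
      map_zero' := by rw [← map_zero (algebraMap k P.O), hconst, map_zero]
      map_add' := hadd
      commutes' := hconst }
  refine ⟨Ideal.Quotient.liftₐ _ g fun a ha => ?_, fun a => hc a⟩
  exact const_unique Q (hc a) (by
    rw [map_zero, sub_zero]; exact (val_algebraMap_lt_one_iff hQ _).2 ((mem_maximalIdeal P).1 ha))

/-- separable residues are congruent to their constants to order `e` -/
lemma val_sub_const_le {Q : Place k K'} (hQ : IsOver Q P)
    {σ : IsLocalRing.ResidueField P.O →ₐ[k] k'} (hσ : Compat σ Q) {a : P.O}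
    (ha : IsSeparable k (resHom P a)) :
    Q.1 (algebraMap K K' (a : K) - algebraMap k' K' (σ (resHom P a))) ≤ exp (-(ramIdx Q P : ℤ)) := by
  set c := σ (resHom P a) with hc
  set g := minpoly k (resHom P a) with hg
  set z := algebraMap K K' (a : K) with hz
  have hz1 : Q.1 z ≤ 1 := (val_algebraMap_le_one_iff hQ _).2 ((mem_O P).1 a.2)
  have hroot : (g.map (algebraMap k k')).IsRoot c := by
    rw [Polynomial.IsRoot.def, Polynomial.eval_map, ← Polynomial.aeval_def, hc, Polynomial.aeval_algHom_apply,
      hg, minpoly.aeval, map_zero]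
  obtain ⟨q, hq⟩ := Polynomial.dvd_iff_isRoot.2 hroot
  have hqc : q.eval c ≠ 0 := by
    have hd := ha.eval₂_derivative_ne_zero (algebraMap k k') (x := c)
      (by rw [← Polynomial.eval_map]; exact hroot)
    rw [← Polynomial.eval_map, ← Polynomial.derivative_map, hq] at hd
    simpa using hd
  have haev : ∀ r : Polynomial k', Q.1 (Polynomial.aeval z r) ≤ 1 := by
    intro r
    induction r using Polynomial.induction_on' with
    | add p q hp hq => rw [map_add]; exact (Q.1.map_add _ _).trans (max_le hp hq)
    | monomial n d =>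
      rw [Polynomial.aeval_monomial, map_mul, map_pow]
      exact mul_le_one' (val_const_k'_le Q d) (pow_le_one' hz1 n)
  have hq1 : Q.1 (Polynomial.aeval z q) = 1 := by
    obtain ⟨r, hr⟩ := Polynomial.X_sub_C_dvd_sub_C_eval (a := c) (p := q)
    have e : Polynomial.aeval z q = algebraMap k' K' (q.eval c) + (z - algebraMap k' K' c) * Polynomial.aeval z r := by
      rw [← sub_eq_iff_eq_add']
      have := congrArg (Polynomial.aeval z) hr
      simpa using this
    have hlt : Q.1 ((z - algebraMap k' K' c) * Polynomial.aeval z r) < 1 := by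
      rw [map_mul]
      exact (mul_le_of_le_one_right' (haev r)).trans_lt (hσ a)
    rw [e, Valuation.map_add_eq_of_lt_left]
    · exact val_const_k' Q hqc
    · rwa [val_const_k' Q hqc]
  have hga : P.1 ((Polynomial.aeval a g : P.O) : K) < 1 := by
    refine (resHom_eq_zero_iff P).1 ?_
    rw [← Polynomial.aeval_algHom_apply, hg, minpoly.aeval]
  have hzg : Polynomial.aeval z g = algebraMap K K' ((Polynomial.aeval a g : P.O) : K) :=
    Polynomial.aeval_algHom_apply ((IsScalarTower.toAlgHom k K K').comp (inclO P)) a g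
  have hfac : Polynomial.aeval z g = (z - algebraMap k' K' c) * Polynomial.aeval z q := by
    rw [← Polynomial.aeval_map_algebraMap k' z g, hq, map_mul, map_sub, Polynomial.aeval_X, Polynomial.aeval_C]
  have := congrArg Q.1 hfac
  rw [map_mul, hq1, mul_one, hzg, isOverWith_ramIdx hQ] at this
  rw [← this]
  refine (pow_le_pow_left' ((lt_exp_iff _ 0).1 (hga.trans_eq exp_zero.symm)) _).trans_eq ?_
  rw [← exp_nsmul]
  simp

/-- in the split situation `e ≤` the inseparable degree -/
theorem ramIdx_le_insep (h : IsBC k k' K K') (hK : IsFF k K) (hns : ∀ z ∈ IntP K' P, z ∈ BO k' K' P)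
    {Q : Place k K'} (hQ : IsOver Q P) {σ : IsLocalRing.ResidueField P.O →ₐ[k] k'} (hσ : Compat σ Q) :
    ramIdx Q P ≤ Module.finrank (separableClosure k (IsLocalRing.ResidueField P.O)) (IsLocalRing.ResidueField P.O) := by
  classical
  haveI := bc_finite h
  let F := IsLocalRing.ResidueField P.O
  haveI : @Module.Finite k F _ _ Algebra.toModule := finiteDimensional_residueField hK P
  set F0 := separableClosure k F
  haveI : FiniteDimensional F0 F := IntermediateField.finiteDimensional_right (F := F0)
  let f := Module.finBasis F0 F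
  choose u hu using fun l => resHom_surjective P (f l)
  set e := ramIdx Q P
  let Ball : ℤ → Submodule k' K' := fun n =>
    { carrier := {z | Q.1 z ≤ exp n}
      add_mem' := fun {x y} hx hy => (Q.1.map_add x y).trans (max_le hx hy)
      zero_mem' := by simp
      smul_mem' := fun c x hx => by
        show Q.1 (c • x) ≤ _
        rw [Algebra.smul_def, map_mul]
        exact (mul_le_of_le_one_left' (val_const_k'_le Q c)).trans hx }
  let W : Submodule k' K' := Submodule.span k' (Set.range fun l => algebraMap K K' (u l : K))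
  set L2 := Ball (-(e : ℤ))
  have hO : ∀ a : P.O, algebraMap K K' (a : K) ∈ W ⊔ L2 := by
    intro a
    choose al hal using fun l => resHom_surjective P ((f.repr (resHom P a) l : F0) : F)
    have h0 : resHom P (a - ∑ l, al l * u l) = 0 := by
      rw [map_sub, map_sum, sub_eq_zero]
      refine (f.sum_repr _).symm.trans (Finset.sum_congr rfl fun l _ => ?_)
      rw [map_mul, hal, hu]
      exact Algebra.smul_def _ _
    have h1 : algebraMap K K' ((a - ∑ l, al l * u l : P.O) : K) ∈ L2 := by
      show Q.1 _ ≤ _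
      rw [isOverWith_ramIdx hQ]
      refine (pow_le_pow_left' ((lt_exp_iff _ 0).1 (((resHom_eq_zero_iff P).1 h0).trans_eq exp_zero.symm)) _).trans_eq ?_
      rw [← exp_nsmul]
      simp [e]
    rw [show algebraMap K K' (a : K) = algebraMap K K' ((a - ∑ l, al l * u l : P.O) : K) +
        ∑ l, algebraMap K K' (al l : K) * algebraMap K K' (u l : K) by
      simp only [AddSubgroupClass.coe_sub, AddSubmonoidClass.coe_finsetSum, MulMemClass.coe_mul, map_sub, map_sum, map_mul]
      ring]
    refine add_mem (Submodule.mem_sup_right h1) (Submodule.sum_mem _ fun l _ => ?_)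
    set d := σ (resHom P (al l))
    rw [show algebraMap K K' (al l : K) * algebraMap K K' (u l : K) = d • algebraMap K K' (u l : K) +
      (algebraMap K K' (al l : K) - algebraMap k' K' d) * algebraMap K K' (u l : K) by rw [Algebra.smul_def]; ring]
    refine Submodule.add_mem_sup (Submodule.smul_mem _ _ (Submodule.subset_span ⟨l, rfl⟩)) ?_
    show Q.1 _ ≤ _
    rw [map_mul]
    refine (mul_le_of_le_one_right' ((val_algebraMap_le_one_iff hQ _).2 ((mem_O P).1 (u l).2))).trans ?_
    refine val_sub_const_le hQ hσ ?_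
    rw [hal]
    exact mem_separableClosure_iff.1 (f.repr (resHom P a) l).2
  have hBall0 : Ball 0 ≤ W ⊔ L2 := by
    intro z hz
    obtain ⟨w, hw⟩ := approx (finite_over (K' := K') hK P).toFinset (fun R => if R = Q then z else 0)
      (fun R => if R = Q then -(e : ℤ) else 0)
    have hwQ : Q.1 (w - z) ≤ exp (-(e : ℤ)) := by
      simpa using hw Q ((finite_over (K' := K') hK P).mem_toFinset.2 hQ)
    have hwI : w ∈ IntP K' P := mem_IntP.2 fun R hR => by
      have h1 := hw R ((finite_over (K' := K') hK P).mem_toFinset.2 hR)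
      by_cases hRQ : R = Q
      · subst hRQ
        rw [show w = (w - z) + z by ring]
        exact (R.1.map_add _ _).trans (max_le (hwQ.trans ((exp_le_exp.2 (by omega)).trans_eq exp_zero)) (hz.trans_eq exp_zero))
      · rw [if_neg hRQ, if_neg hRQ, sub_zero, exp_zero] at h1
        exact h1
    obtain ⟨β, hβ⟩ := hns w hwI
    have hwS : w ∈ W ⊔ L2 := by
      rw [← show thO k' K' P β = w from hβ]
      clear hβ
      induction β using TensorProduct.induction_on with
      | zero => rw [map_zero]; exact zero_mem _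
      | add x y hx hy => rw [map_add]; exact add_mem hx hy
      | tmul c a => rw [thO_tmul, ← Algebra.smul_def]; exact Submodule.smul_mem _ _ (hO a)
    rw [show z = w - (w - z) by ring]
    exact sub_mem hwS (Submodule.mem_sup_right hwQ)
  -- powers of a uniformizer are independent modulo `L2`
  obtain ⟨π, hπ⟩ := exists_uniformizer Q
  let φ := L2.mkQ
  have hind : LinearIndependent k' fun j : Fin e => φ (π ^ (j : ℕ)) := by
    rw [Fintype.linearIndependent_iff]
    intro c hc j
    have hmem : (∑ i, c i • π ^ (i : ℕ)) ∈ L2 := (Submodule.Quotient.mk_eq_zero _).1 (by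
      rw [← Submodule.mkQ_apply, map_sum]
      simpa [φ] using hc)
    have h1 : ∀ d : Fin 1 → k', ∑ a, d a • (1 : K') = algebraMap k' K' (d 0) := fun d => by
      rw [Fin.sum_univ_one, Algebra.smul_def, mul_one]
    have := eq_zero_of_val_sum_le (topPlace (k' := k') Q) hπ (fun _ : Fin 1 => (1 : K'))
      (fun d hd => by
        rw [h1]
        exact val_const_k' Q fun h0 => hd (funext fun a => by rw [Fin.fin_one_eq_zero a]; exact h0))
      (fun d => by rw [h1]; exact val_const_k'_le Q _)
      (fun i _ => c i) (by simpa using (show Q.1 (∑ i, c i • π ^ (i : ℕ)) ≤ exp (-(e : ℤ)) from hmem))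
    exact congrFun (congrFun this j) 0
  have hsub : ∀ j : Fin e, φ (π ^ (j : ℕ)) ∈ W.map φ := fun j => by
    have h1 : π ^ (j : ℕ) ∈ Ball 0 := by
      show Q.1 _ ≤ _
      rw [map_pow, hπ, exp_zero]
      exact pow_le_one' ((exp_le_exp.2 (by norm_num)).trans_eq exp_zero) _
    obtain ⟨a, ha, b, hb, hab⟩ := Submodule.mem_sup.1 (hBall0 h1)
    exact ⟨a, ha, by
      rw [← hab, map_add, show φ b = 0 from (Submodule.Quotient.mk_eq_zero _).2 hb, add_zero]⟩
  haveI : FiniteDimensional k' W := FiniteDimensional.span_of_finite k' (Set.finite_range _)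
  have hind' : LinearIndependent k' fun j : Fin e => (⟨_, hsub j⟩ : W.map φ) :=
    LinearIndependent.of_comp (W.map φ).subtype hind
  have h2 := hind'.fintype_card_le_finrank
  rw [Fintype.card_fin] at h2
  refine h2.trans ((Submodule.finrank_map_le φ W).trans ?_)
  exact (finrank_range_le_card _).trans_eq (Fintype.card_fin _)

universe u v

/-- over a nonsingular place all embeddings of the residue field land in a splitting field -/
theorem embedding_mem_range {k k' : Type u} {K K' : Type v} [Field k] [Field k'] [Field K] [Field K']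
    [Algebra k k'] [FiniteDimensional k k'] [Algebra k K] [Algebra K K'] [Algebra k' K'] [Algebra k K']
    [IsScalarTower k k' K'] [IsScalarTower k K K'] {P : Place k K}
    (h : IsBC k k' K K') (hK : IsFunctionField k K) (hg : FunFld.IsGeometric k K)
    (hns : ∀ (k'' : Type u) (K'' : Type v) [Field k''] [Field K''] [Algebra k k''] [FiniteDimensional k k'']
      [Algebra K K''] [Algebra k'' K''] [Algebra k K''] [IsScalarTower k k'' K''] [IsScalarTower k K K''],
      IsBC k k'' K K'' → ∀ z ∈ IntP K'' P, z ∈ BO k'' K'' P)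
    (hres : ∀ Q : Place k K', IsOver Q P → ∀ z : K', Q.1 z ≤ 1 → ∃ c : k', Q.1 (z - algebraMap k' K' c) < 1)
    (σ : IsLocalRing.ResidueField P.O →ₐ[k] AlgebraicClosure k') :
    ∃ σ' : IsLocalRing.ResidueField P.O →ₐ[k] k', (IsScalarTower.toAlgHom k k' (AlgebraicClosure k')).comp σ' = σ := by
  classical
  set A := AlgebraicClosure k'
  haveI := bc_finite h
  let F := IsLocalRing.ResidueField P.O
  haveI : @Module.Finite k F _ _ Algebra.toModule := finiteDimensional_residueField hK.1 P
  haveI : FiniteDimensional k F := finiteDimensional_residueField hK.1 P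
  let L : IntermediateField k' A := IntermediateField.adjoin k' (Set.range σ)
  haveI : Finite (Set.range (fun i => σ (Module.finBasis k F i))) := Set.finite_range _
  have hL : L = IntermediateField.adjoin k' (Set.range fun i => σ (Module.finBasis k F i)) := by
    refine le_antisymm (IntermediateField.adjoin_le_iff.2 ?_) (IntermediateField.adjoin.mono _ _ _ ?_)
    · rintro _ ⟨a, rfl⟩
      rw [← (Module.finBasis k F).sum_repr a, map_sum]
      refine IntermediateField.sum_mem _ fun i _ => ?_
      rw [map_smul, Algebra.smul_def, IsScalarTower.algebraMap_apply k k' A]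
      exact IntermediateField.mul_mem _ (IntermediateField.algebraMap_mem _ _)
        (IntermediateField.subset_adjoin _ _ ⟨i, rfl⟩)
    · rintro _ ⟨i, rfl⟩
      exact ⟨_, rfl⟩
  haveI : FiniteDimensional k' L := by
    rw [hL]
    exact IntermediateField.finiteDimensional_adjoin fun x _ => Algebra.IsIntegral.isIntegral x
  haveI : FiniteDimensional k L := Module.Finite.trans k' L
  have hg' := (isFunctionField_isGeometric_bc h hK hg).2
  let Ω := AlgebraicClosure K'
  let τ : L →ₐ[k'] Ω := IsAlgClosed.lift
  letI : Field (K' ⊗[k'] L) :=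
    (MulEquiv.isField (hg' L inferInstance) (Algebra.TensorProduct.comm k' K' L).toMulEquiv).toField
  let g : K' ⊗[k'] L →ₐ[K'] Ω :=
    Algebra.TensorProduct.lift (Algebra.ofId K' Ω) τ fun _ _ => Commute.all _ _
  let K'' : IntermediateField K' Ω := g.fieldRange
  letI : Algebra L K'' := ((g.rangeRestrict : K' ⊗[k'] L →ₐ[K'] g.range).toRingHom.comp
    (Algebra.TensorProduct.includeRight : L →ₐ[k'] K' ⊗[k'] L).toRingHom).toAlgebra
  haveI : IsScalarTower k' K' K'' := IsScalarTower.of_algebraMap_eq fun c => Subtype.ext rfl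
  haveI : IsScalarTower k' L K'' := IsScalarTower.of_algebraMap_eq fun c => Subtype.ext (by
    show algebraMap K' Ω (algebraMap k' K' c) = g (1 ⊗ₜ algebraMap k' L c)
    simp [g, τ]
    rfl)
  have h2 : IsBC k' L K' K'' := by
    let e : K' ⊗[k'] L →ₐ[K'] K'' := g.rangeRestrict
    have he : Function.Bijective e := ⟨RingHom.injective e.toRingHom, g.rangeRestrict_surjective⟩
    have hcomp : ∀ z, Algebra.TensorProduct.productMap (IsScalarTower.toAlgHom k' L K'') (IsScalarTower.toAlgHom k' K' K'') z =
        e (Algebra.TensorProduct.comm k' L K' z) := by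
      intro z
      induction z using TensorProduct.induction_on with
      | zero => simp
      | add x y hx hy => rw [map_add, map_add, map_add, hx, hy]
      | tmul a b =>
        refine Subtype.ext ?_
        show g ((1 : K') ⊗ₜ[k'] a) * algebraMap K' Ω b = g (b ⊗ₜ[k'] a)
        simp [g, Algebra.ofId_apply, mul_comm]
    rw [IsBC, show ⇑(Algebra.TensorProduct.productMap (IsScalarTower.toAlgHom k' L K'')
      (IsScalarTower.toAlgHom k' K' K'')) = e ∘ Algebra.TensorProduct.comm k' L K' from funext hcomp]
    exact he.comp (AlgEquiv.bijective _)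
  letI : Algebra k K'' := ((algebraMap L K'').comp (algebraMap k L)).toAlgebra
  haveI : IsScalarTower k L K'' := IsScalarTower.of_algebraMap_eq fun _ => rfl
  letI : Algebra K K'' := ((algebraMap K' K'').comp (algebraMap K K')).toAlgebra
  haveI : IsScalarTower K K' K'' := IsScalarTower.of_algebraMap_eq fun _ => rfl
  haveI : IsScalarTower k K K'' := IsScalarTower.of_algebraMap_eq fun c => by
    show algebraMap L K'' (algebraMap k L c) = algebraMap K' K'' (algebraMap K K' (algebraMap k K c))
    rw [← IsScalarTower.algebraMap_apply k K K', IsScalarTower.algebraMap_apply k k' K',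
      ← IsScalarTower.algebraMap_apply k' K' K'', IsScalarTower.algebraMap_apply k k' L,
      ← IsScalarTower.algebraMap_apply k' L K'']
  haveI : IsScalarTower k K' K'' := IsScalarTower.of_algebraMap_eq fun c => by
    rw [IsScalarTower.algebraMap_apply k K K', ← IsScalarTower.algebraMap_apply K K' K'', ← IsScalarTower.algebraMap_apply]
  haveI := bc_finite h2
  have hbc : IsBC k L K K'' := towerBC k h h2
  let σL : F →ₐ[k] L :=
    { toFun := fun a => ⟨σ a, IntermediateField.subset_adjoin _ _ ⟨a, rfl⟩⟩
      map_one' := Subtype.ext (map_one σ)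
      map_mul' := fun a b => Subtype.ext (map_mul σ a b)
      map_zero' := Subtype.ext (map_zero σ)
      map_add' := fun a b => Subtype.ext (map_add σ a b)
      commutes' := fun c => Subtype.ext (σ.commutes c) }
  obtain ⟨R, hR, hRc⟩ := exists_compat hbc hK.1 (hns L K'' hbc) σL
  obtain ⟨Q, hQR⟩ := exists_below (isFF_ext (K' := K') hK.1) R
  obtain ⟨P', hP'⟩ := exists_below hK.1 Q
  obtain rfl := isOver_unique hR (IsOver_trans hQR hP')
  obtain ⟨σ', hσ'⟩ := exists_sigma hP' (hres Q hP')
  refine ⟨σ', AlgHom.ext fun r => ?_⟩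
  obtain ⟨a, rfl⟩ := resHom_surjective P r
  have h1 : R.1 (algebraMap K K'' (a : K) - algebraMap L K'' (algebraMap k' L (σ' (resHom P a)))) < 1 := by
    rw [← IsScalarTower.algebraMap_apply k' L K'', IsScalarTower.algebraMap_apply K K' K'',
      IsScalarTower.algebraMap_apply k' K' K'', ← map_sub]
    exact (val_algebraMap_lt_one_iff hQR _).2 (hσ' a)
  exact (congrArg (Subtype.val : L → A) (const_unique R h1 (hRc a))).trans rfl

/-- places above a nonsingular place in a splitting field -/
theorem split_count {k k' : Type u} {K K' : Type v} [Field k] [Field k'] [Field K] [Field K']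
    [Algebra k k'] [FiniteDimensional k k'] [Algebra k K] [Algebra K K'] [Algebra k' K'] [Algebra k K']
    [IsScalarTower k k' K'] [IsScalarTower k K K'] {P : Place k K}
    (h : IsBC k k' K K') (hK : IsFunctionField k K) (hg : FunFld.IsGeometric k K)
    (hns : ∀ (k'' : Type u) (K'' : Type v) [Field k''] [Field K''] [Algebra k k''] [FiniteDimensional k k'']
      [Algebra K K''] [Algebra k'' K''] [Algebra k K''] [IsScalarTower k k'' K''] [IsScalarTower k K K''],
      IsBC k k'' K K'' → ∀ z ∈ IntP K'' P, z ∈ BO k'' K'' P)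
    (hres : ∀ Q : Place k K', IsOver Q P → ∀ z : K', Q.1 z ≤ 1 → ∃ c : k', Q.1 (z - algebraMap k' K' c) < 1) :
    Nat.card {Q : Place k K' // IsOver Q P} = Field.finSepDegree k (IsLocalRing.ResidueField P.O) ∧
    ∀ Q : Place k K', IsOver Q P →
      ramIdx Q P = Module.finrank (separableClosure k (IsLocalRing.ResidueField P.O)) (IsLocalRing.ResidueField P.O) := by
  classical
  haveI := bc_finite h
  let F := IsLocalRing.ResidueField P.O
  haveI : @Module.Finite k F _ _ Algebra.toModule := finiteDimensional_residueField hK.1 P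
  haveI : FiniteDimensional k F := finiteDimensional_residueField hK.1 P
  haveI : Algebra.IsAlgebraic k F := Algebra.IsAlgebraic.of_finite k F
  have hns' := hns k' K' h
  choose sig hsig using fun Q : {Q : Place k K' // IsOver Q P} => exists_sigma Q.2 (hres Q.1 Q.2)
  have hbij : Function.Bijective fun Q : {Q : Place k K' // IsOver Q P} =>
      (IsScalarTower.toAlgHom k k' (AlgebraicClosure k')).comp (sig Q) := by
    constructor
    · intro Q R hQR
      have : sig Q = sig R := AlgHom.ext fun a =>
        (algebraMap k' (AlgebraicClosure k')).injective (AlgHom.congr_fun hQR a)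
      exact Subtype.ext (compat_unique h hK.1 hns' Q.2 R.2 (hsig Q) (this ▸ hsig R))
    · intro σ
      obtain ⟨σ', rfl⟩ := embedding_mem_range h hK hg hns hres σ
      obtain ⟨Q, hQ, hQc⟩ := exists_compat h hK.1 hns' σ'
      refine ⟨⟨Q, hQ⟩, ?_⟩
      have he : sig ⟨Q, hQ⟩ = σ' := AlgHom.ext fun r => by
        obtain ⟨a, rfl⟩ := resHom_surjective P r
        exact const_unique Q (hsig ⟨Q, hQ⟩ a) (hQc a)
      show (IsScalarTower.toAlgHom k k' (AlgebraicClosure k')).comp (sig ⟨Q, hQ⟩) = _
      rw [he]
  have hcard : Nat.card {Q : Place k K' // IsOver Q P} = Field.finSepDegree k F := by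
    rw [Field.finSepDegree_eq_of_isAlgClosed k F (AlgebraicClosure k'), Nat.card_congr (Equiv.ofBijective _ hbij)]
  refine ⟨hcard, ?_⟩
  obtain ⟨hfin, hfund⟩ := fundamental (K' := K') hK.1 P
  set i := Module.finrank (separableClosure k F) F
  have hdeg : ∀ Q : Place k K', IsOver Q P → Q.deg = Module.finrank k k' := fun Q hQ => by
    let e : k' →ₐ[k] IsLocalRing.ResidueField Q.O :=
      { (IsLocalRing.residue Q.O).comp ((algebraMap k' K').codRestrict Q.O fun c => (mem_O Q).2 (val_const_k'_le Q c)) with
        commutes' := fun c => congrArg (IsLocalRing.residue Q.O) (Subtype.ext (IsScalarTower.algebraMap_apply k k' K' c).symm) }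
    have hsurj : Function.Surjective e := fun r => by
      obtain ⟨z, rfl⟩ := resHom_surjective Q r
      obtain ⟨c, hc⟩ := hres Q hQ (z : K') ((mem_O Q).1 z.2)
      refine ⟨c, (sub_eq_zero.1 ?_).symm⟩
      show resHom Q z - resHom Q ⟨algebraMap k' K' c, (mem_O Q).2 (val_const_k'_le Q c)⟩ = 0
      rw [← map_sub]
      exact (resHom_eq_zero_iff Q).2 hc
    exact (AlgEquiv.ofBijective e ⟨RingHom.injective e.toRingHom, hsurj⟩).toLinearEquiv.finrank_eq.symm
  set s := hfin.toFinset
  have hs : s.card = Field.finSepDegree k F := by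
    rw [← hcard]
    exact (Nat.card_eq_card_finite_toFinset hfin).symm
  have hsum := hfund s (fun Q => hfin.mem_toFinset)
  rw [Finset.sum_congr rfl fun Q hQ => by rw [hdeg Q (hfin.mem_toFinset.1 hQ)], ← Finset.sum_mul, bc_finrank h,
    mul_comm] at hsum
  have hsum' : ∑ Q ∈ s, ramIdx Q P = P.deg := Nat.eq_of_mul_eq_mul_left Module.finrank_pos hsum
  have hFdeg : P.deg = Field.finSepDegree k F * i := by
    show Module.finrank k F = Field.finSepDegree k F * Field.finInsepDegree k F
    rw [Field.finSepDegree_eq k F, Field.finInsepDegree_def', ← Cardinal.toNat_mul, Field.sepDegree_mul_insepDegree]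
    rfl
  have hle : ∀ Q ∈ s, ramIdx Q P ≤ i := fun Q hQ =>
    ramIdx_le_insep h hK.1 hns' (hfin.mem_toFinset.1 hQ) (hsig ⟨Q, hfin.mem_toFinset.1 hQ⟩)
  intro Q hQ
  refine (Finset.sum_eq_sum_iff_of_le hle).1 ?_ Q (hfin.mem_toFinset.2 hQ)
  rw [hsum', Finset.sum_const, hs, hFdeg, smul_eq_mul]

end Groth.Agent.FF

namespace Groth.Agent.FF

/-- degree one: residues are constants -/
lemma exists_const_of_deg_one {k K : Type*} [Field k] [Field K] [Algebra k K] (Q : Place k K) (hd : Q.deg = 1)
    {z : K} (hz : Q.1 z ≤ 1) : ∃ c : k, Q.1 (z - algebraMap k K c) < 1 := by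
  obtain ⟨c, hc⟩ := exists_smul_eq_of_finrank_eq_one (K := k) (V := IsLocalRing.ResidueField Q.O) hd one_ne_zero
    (resHom Q ⟨z, (mem_O Q).2 hz⟩)
  refine ⟨c, ?_⟩
  have h0 : resHom Q (⟨z, (mem_O Q).2 hz⟩ - algebraMap k Q.O c) = 0 := by
    rw [map_sub, sub_eq_zero, AlgHom.commutes, Algebra.algebraMap_eq_smul_one]
    exact hc.symm
  exact (resHom_eq_zero_iff Q).1 h0

end Groth.Agent.FF
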