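import Groth.Agent.FF.NonsingPI
import Mathlib.FieldTheory.Normal.Closure

/-! Finite splitting fields of places. -/

set_option autoImplicit false
set_option linter.style.haveILetI false
set_option linter.unusedSectionVars false

open FunFld WithZero
open scoped TensorProduct

namespace Groth.Agent.FF

lemma hasExtension_of_isOver {k K K' : Type*} [Field k] [Field K] [Field K'] [Algebra k K] [Algebra K K'] [Algebra k K']
    [IsScalarTower k K K'] {Q : Place k K'} {P : Place k K} (h : IsOver Q P) : P.1.HasExtension Q.1 :=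
  ⟨Valuation.isEquiv_iff_val_le_one.2 fun {x} => (val_algebraMap_le_one_iff h x).symm⟩

lemma isScalarTower_of_tmul {k L K M : Type*} [Field k] [Field L] [Field K] [Field M] [Algebra k L] [Algebra k K]
    [Algebra k M] [Algebra L M] [Algebra (L ⊗[k] K) M] (f : L ⊗[k] K →ₐ[k] M)
    (hf : algebraMap (L ⊗[k] K) M = f.toRingHom) (h : ∀ c : L, algebraMap L M c = f (c ⊗ₜ[k] 1)) :
    IsScalarTower L (L ⊗[k] K) M :=
  IsScalarTower.of_algebraMap_eq fun c => (h c).trans (RingHom.congr_fun hf (c ⊗ₜ[k] (1 : K))).symm

/-- nonsingular below, residue fields split in a normal field: degree one -/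
lemma residue_mem_range {k E A KE K' : Type*} [Field k] [Field E] [Field A] [Field KE] [Field K'] [Algebra k E] [Algebra k A]
    [Algebra k KE] [Algebra E KE] [IsScalarTower k E KE] {N : IntermediateField k A} [Normal k N]
    [Algebra E N] [FiniteDimensional E N] [Algebra N K'] [Algebra E K'] [Algebra k K'] [Algebra KE K']
    [IsScalarTower E N K'] [IsScalarTower E KE K'] [IsScalarTower k N K'] [IsScalarTower k E K']
    {P : Place E KE} {Q : Place N K'} (h : IsBC E N KE K') (hKE : IsFF E KE)
    (hns : ∀ z ∈ IntP K' P, z ∈ BO N K' P) (hQ : IsOver (botPlace (k := E) Q) P)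
    [P.1.HasExtension (botPlace (k := E) Q).1]
    (emb : IsLocalRing.ResidueField (botPlace (k := k) P).O →ₐ[k] A) (hemb : emb.fieldRange ≤ N)
    (hc : ∀ c : k, algebraMap KE K' (algebraMap k KE c) = algebraMap k K' c)
    (r : IsLocalRing.ResidueField Q.O) : ∃ c : N, algebraMap N _ c = r := by
  have hk' : ∀ c : N, (botPlace (k := E) Q).1 (algebraMap N K' c) ≤ 1 := fun c => Q.2.1 c
  have htop := residue_adjoin_eq_top h hKE hns hQ hk'
  let φ : IsLocalRing.ResidueField (botPlace (k := k) P).O →+* IsLocalRing.ResidueField Q.O :=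
    algebraMap (IsLocalRing.ResidueField P.O) (IsLocalRing.ResidueField (botPlace (k := E) Q).O)
  have hφ : φ.comp (algebraMap k _) = (algebraMap N (IsLocalRing.ResidueField Q.O)).comp (algebraMap k N) := by
    refine RingHom.ext fun c => ?_
    refine congrArg (IsLocalRing.residue Q.O) (Subtype.ext ?_)
    show algebraMap KE K' (algebraMap k KE c) = algebraMap N K' (algebraMap k N c)
    rw [← IsScalarTower.algebraMap_apply k N K']
    exact hc c
  have key : ∀ a, φ a ∈ (algebraMap N (IsLocalRing.ResidueField Q.O)).range := by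
    intro a
    have hNi : IsIntegral k (⟨emb a, hemb ⟨a, rfl⟩⟩ : N) := Algebra.IsIntegral.isIntegral _
    have hmp : minpoly k (⟨emb a, hemb ⟨a, rfl⟩⟩ : N) = minpoly k a := by
      rw [← minpoly.algHom_eq N.val Subtype.val_injective]
      exact minpoly.algHom_eq emb emb.injective a
    have hsp : ((minpoly k a).map (algebraMap k N)).Splits := hmp ▸ Normal.splits inferInstance _
    refine hsp.mem_range_of_isRoot (Polynomial.map_ne_zero (hmp ▸ minpoly.ne_zero hNi)) ?_
    rw [Polynomial.IsRoot.def, Polynomial.map_map, Polynomial.eval_map, ← hφ, ← Polynomial.hom_eval₂,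
      ← Polynomial.aeval_def, minpoly.aeval, map_zero]
  have hall : ∀ r' : IsLocalRing.ResidueField (botPlace (k := E) Q).O,
      r' ∈ (algebraMap N (IsLocalRing.ResidueField Q.O)).range := by
    intro r'
    have h0 : r' ∈ Algebra.adjoin (IsLocalRing.ResidueField P.O)
        (Set.range fun c : N => IsLocalRing.residue (botPlace (k := E) Q).O ⟨algebraMap N K' c, hk' c⟩) :=
      htop ▸ Algebra.mem_top
    induction h0 using Algebra.adjoin_induction with
    | mem x hx =>
      obtain ⟨c, rfl⟩ := hx
      exact ⟨c, rfl⟩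
    | algebraMap a => exact key a
    | add x y _ _ hx hy => exact add_mem hx hy
    | mul x y _ _ hx hy => exact mul_mem hx hy
  exact hall r

universe u v v'

/-- every place has a finite splitting field -/
theorem exists_splitting {k : Type u} {K : Type v} [Field k] [Field K] [Algebra k K]
    (hK : IsFunctionField k K) (hg : FunFld.IsGeometric k K) (P : Place k K) :
    ∃ k' : IntermediateField k (AlgebraicClosure k), FiniteDimensional k k' ∧
      ∀ (K' : Type v') [Field K'] [Algebra K K'] [Algebra k' K'] [Algebra k K']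
        [IsScalarTower k k' K'] [IsScalarTower k K K'], IsBC k k' K K' →
        ∀ Q : Place k' K', (∀ x : K, Q.1 (algebraMap K K' x) ≤ 1 ↔ P.1 x ≤ 1) →
          ∀ r : IsLocalRing.ResidueField Q.O, ∃ c : k', algebraMap k' _ c = r := by
  classical
  set A := AlgebraicClosure k
  obtain ⟨E, hE, -, hns⟩ := exists_pi_nonsingular.{u, v, max u v, v'} hK hg
  haveI := hE
  letI := bcField hg E
  letI : Algebra K (E ⊗[k] K) := Algebra.TensorProduct.rightAlgebra
  haveI : IsScalarTower k K (E ⊗[k] K) := IsScalarTower.of_algebraMap_eq fun c =>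
    ((Algebra.TensorProduct.includeRight : K →ₐ[k] E ⊗[k] K).commutes c).symm
  have h1 : IsBC k E K (E ⊗[k] K) := isBC_tensor hg E
  haveI := bc_finite h1
  have hKE := isFF_ext (K' := E ⊗[k] K) hK.1
  let s := (finite_over (K' := E ⊗[k] K) hK.1 P).toFinset
  have hlift : ∀ R : Place k (E ⊗[k] K), Nonempty (IsLocalRing.ResidueField R.O →ₐ[k] A) := fun R => by
    haveI : @Module.Finite k (IsLocalRing.ResidueField R.O) _ _ Algebra.toModule := finiteDimensional_residueField hKE R
    haveI : Algebra.IsAlgebraic k (IsLocalRing.ResidueField R.O) := Algebra.IsAlgebraic.of_finite k _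
    exact ⟨IsAlgClosed.lift⟩
  let emb := fun R => (hlift R).some
  haveI : ∀ R : s, FiniteDimensional k (emb R).fieldRange := fun R => by
    haveI : @Module.Finite k (IsLocalRing.ResidueField R.1.O) _ _ Algebra.toModule := finiteDimensional_residueField hKE R
    exact Module.Finite.equiv (AlgEquiv.ofInjectiveField (emb R)).toLinearEquiv
  let G : IntermediateField k A := E ⊔ ⨆ R : s, (emb R).fieldRange
  haveI : FiniteDimensional k G := IntermediateField.finiteDimensional_sup _ _
  let N : IntermediateField k A := IntermediateField.normalClosure k G A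
  haveI : Normal k N := inferInstance
  refine ⟨N, inferInstance, ?_⟩
  intro K' _ _ _ _ _ _ h Q hQ r
  haveI : FiniteDimensional k N := inferInstance
  have hEN : E ≤ N := le_sup_left.trans (IntermediateField.le_normalClosure G)
  letI : Algebra E N := (IntermediateField.inclusion hEN).toRingHom.toAlgebra
  haveI : IsScalarTower k E N := IsScalarTower.of_algebraMap_eq fun _ => rfl
  haveI : FiniteDimensional E N := Module.Finite.of_restrictScalars_finite k E N
  letI : Algebra E K' := ((algebraMap N K').comp (algebraMap E N)).toAlgebra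
  haveI : IsScalarTower E N K' := IsScalarTower.of_algebraMap_eq fun _ => rfl
  haveI : IsScalarTower k E K' := IsScalarTower.of_algebraMap_eq fun c => by
    show algebraMap k K' c = algebraMap N K' (algebraMap E N (algebraMap k E c))
    rw [← IsScalarTower.algebraMap_apply k E N, ← IsScalarTower.algebraMap_apply k N K']
  let f : E ⊗[k] K →ₐ[k] K' :=
    Algebra.TensorProduct.productMap (IsScalarTower.toAlgHom k E K') (IsScalarTower.toAlgHom k K K')
  letI : Algebra (E ⊗[k] K) K' := f.toRingHom.toAlgebra
  haveI : IsScalarTower E (E ⊗[k] K) K' := isScalarTower_of_tmul f rfl fun c => by simp [f]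
  haveI : IsScalarTower K (E ⊗[k] K) K' := IsScalarTower.of_algebraMap_eq fun c => by
    show _ = f (1 ⊗ₜ c)
    simp [f]
  have h2 : IsBC E N (E ⊗[k] K) K' := bc_of_tower h1 h
  have hKEff : IsFF E (E ⊗[k] K) := isFF_bc h1 hK.1
  haveI := bc_finite h2
  let QE' : Place E K' := botPlace Q
  obtain ⟨QE, hQE⟩ := exists_below hKEff QE'
  haveI := hasExtension_of_isOver hQE
  have hover : IsOver (botPlace (k := k) QE) P := by
    obtain ⟨P', hP'⟩ := exists_below hK.1 (botPlace (k := k) QE)
    suffices h' : P' = P by rw [← h']; exact hP'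
    refine ext_of_O fun x hx => (hQ x).1 ?_
    rw [IsScalarTower.algebraMap_apply K (E ⊗[k] K) K']
    exact (val_algebraMap_le_one_iff hQE _).2 ((val_algebraMap_le_one_iff hP' x).2 hx)
  have hemb : (emb (botPlace (k := k) QE)).fieldRange ≤ N := by
    refine le_trans ?_ (le_sup_right.trans (IntermediateField.le_normalClosure G))
    exact le_iSup (fun R : s => (emb R).fieldRange) ⟨_, (finite_over (K' := E ⊗[k] K) hK.1 P).mem_toFinset.2 hover⟩
  exact residue_mem_range (P := QE) (Q := Q) h2 hKEff (hns (E ⊗[k] K) h1 QE N K' h2) hQE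
    (emb (botPlace (k := k) QE)) hemb f.commutes r

end Groth.Agent.FF
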