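import Groth.Agent.FF.Small

set_option linter.style.haveILetI false
set_option linter.unusedSectionVars false

namespace Groth.Agent.FF

open FunFld WithZero

variable {k K : Type*} [Field k] [Field K] [Algebra k K] (hK : IsFunctionField k K)
variable {V : Submodule k K} {D : Divisor k K} {d r : ℕ}
include hK

omit hK in
lemma two_place_submod [FiniteDimensional k V] {P Q : Place k K} (hPQ : P ≠ Q) {a b a' b' : ℤ}
    (ha : a' ≤ a) (hb : b' ≤ b) :
    Module.finrank k ↥(V ⊓ L (D - Finsupp.single P a - Finsupp.single Q b')) +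
      Module.finrank k ↥(V ⊓ L (D - Finsupp.single P a' - Finsupp.single Q b)) ≤
    Module.finrank k ↥(V ⊓ L (D - Finsupp.single P a' - Finsupp.single Q b')) +
      Module.finrank k ↥(V ⊓ L (D - Finsupp.single P a - Finsupp.single Q b)) := by
  set A := V ⊓ L (D - Finsupp.single P a - Finsupp.single Q b')
  set B := V ⊓ L (D - Finsupp.single P a' - Finsupp.single Q b)
  haveI : FiniteDimensional k A := Submodule.finiteDimensional_of_le inf_le_left
  haveI : FiniteDimensional k B := Submodule.finiteDimensional_of_le inf_le_left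
  haveI : FiniteDimensional k ↥(V ⊓ L (D - Finsupp.single P a' - Finsupp.single Q b')) :=
    Submodule.finiteDimensional_of_le inf_le_left
  have hinf : A ⊓ B = V ⊓ L (D - Finsupp.single P a - Finsupp.single Q b) := by
    rw [show A ⊓ B = V ⊓ (L (D - Finsupp.single P a - Finsupp.single Q b') ⊓
      L (D - Finsupp.single P a' - Finsupp.single Q b)) from inf_inf_distrib_left .. |>.symm,
      L_sub_sub_inf hPQ ha hb]
  have hsup : A ⊔ B ≤ V ⊓ L (D - Finsupp.single P a' - Finsupp.single Q b') := by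
    refine sup_le (inf_le_inf_left _ (L_mono ?_)) (inf_le_inf_left _ (L_mono ?_))
    · exact sub_le_sub_right (sub_le_sub_left (Finsupp.single_le_single.2 ha) _) _
    · exact sub_le_sub_left (Finsupp.single_le_single.2 hb) _
  rw [← Submodule.finrank_sup_add_finrank_inf_eq A B, hinf]
  exact Nat.add_le_add_right (Submodule.finrank_mono hsup) _

lemma finrank_inf_L_step [FiniteDimensional k V] {P : Place k K} (hP : P.deg = 1) (E : Divisor k K) :
    Module.finrank k ↥(V ⊓ L E) ≤ Module.finrank k ↥(V ⊓ L (E - Finsupp.single P 1)) + 1 := by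
  obtain ⟨e, he, hR⟩ := relDim_L hK.1
    (show E - Finsupp.single P 1 ≤ E from sub_le_self _ (Finsupp.single_nonneg.2 zero_le_one))
  rw [deg_sub, deg_single, hP] at he
  obtain ⟨e', he', hR'⟩ := hR.inf V
  rw [inf_comm _ V, inf_comm _ V] at hR'
  haveI : FiniteDimensional k ↥(V ⊓ L (E - Finsupp.single P 1)) :=
    Submodule.finiteDimensional_inf_left _ _
  have h := hR'.finrank_eq
  omega

lemma special_pair_iff [FiniteDimensional k V] {P Q : Place k K} (hP : P.deg = 1) (hQ : Q.deg = 1) (hPQ : P ≠ Q) (a b : ℤ)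
    (F : ℤ → ℤ → ℕ) (hF : ∀ x y, F x y = Module.finrank k ↥(V ⊓ L (D - Finsupp.single P x - Finsupp.single Q y))) :
    ((2 ≤ F a (b - 1) ∨ 1 ≤ F a (b + 1)) ∧ (2 ≤ F (a - 1) b ∨ 1 ≤ F (a + 1) b)) ↔
    (1 ≤ F (a + 1) (b + 1) ∨ 3 ≤ F (a - 1) (b - 1) ∨
      (1 ≤ F a (b + 1) ∧ 2 ≤ F (a - 1) b) ∨ (1 ≤ F (a + 1) b ∧ 2 ≤ F a (b - 1))) := by
  have mono : ∀ x x' y y', x' ≤ x → y' ≤ y → F x y ≤ F x' y' := fun x x' y y' hx hy => by
    rw [hF, hF]
    haveI : FiniteDimensional k ↥(V ⊓ L (D - Finsupp.single P x' - Finsupp.single Q y')) :=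
      Submodule.finiteDimensional_of_le inf_le_left
    exact Submodule.finrank_mono (inf_le_inf_left _ (L_mono
      (sub_le_sub (sub_le_sub_left (Finsupp.single_le_single.2 hx) _) (Finsupp.single_le_single.2 hy))))
  have sm : ∀ x x' y y', x' ≤ x → y' ≤ y → F x y' + F x' y ≤ F x' y' + F x y := fun x x' y y' hx hy => by
    simp only [hF]; exact two_place_submod hPQ hx hy
  -- one-step drops
  have step : ∀ x y, F x y ≤ F (x + 1) y + 1 := fun x y => by
    have h := finrank_inf_L_step hK (V := V) hP (D - Finsupp.single P x - Finsupp.single Q y)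
    rw [sub_right_comm (D - Finsupp.single P x) (Finsupp.single Q y) (Finsupp.single P 1),
      sub_sub D (Finsupp.single P x) (Finsupp.single P 1), ← Finsupp.single_add] at h
    rw [hF, hF]; exact h
  constructor
  · rintro ⟨h1 | h1, h2 | h2⟩
    · by_cases h : 2 ≤ F a b
      · have := step a b
        exact Or.inr (Or.inr (Or.inr ⟨by omega, h1⟩))
      · have := sm a (a - 1) b (b - 1) (by omega) (by omega)
        exact Or.inr (Or.inl (by omega))
    · exact Or.inr (Or.inr (Or.inr ⟨h2, h1⟩))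
    · exact Or.inr (Or.inr (Or.inl ⟨h1, h2⟩))
    · by_cases h : 2 ≤ F a b
      · exact Or.inr (Or.inr (Or.inl ⟨h1, h.trans (mono _ _ _ _ (by omega) le_rfl)⟩))
      · have := sm (a + 1) a (b + 1) b (by omega) (by omega)
        exact Or.inl (by omega)
  · rintro (h | h | ⟨h1, h2⟩ | ⟨h1, h2⟩)
    · exact ⟨Or.inr (h.trans (mono _ _ _ _ (by omega) le_rfl)),
        Or.inr (h.trans (mono _ _ _ _ le_rfl (by omega)))⟩
    · have h3 := step (a - 1) (b - 1)
      rw [sub_add_cancel] at h3
      exact ⟨Or.inl (by omega), Or.inl (le_trans (by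
        have := finrank_inf_L_step hK (V := V) (P := Q) hQ
          (D - Finsupp.single P (a - 1) - Finsupp.single Q (b - 1))
        rw [sub_sub (D - Finsupp.single P (a - 1)) (Finsupp.single Q (b - 1)) (Finsupp.single Q 1),
          ← Finsupp.single_add, sub_add_cancel, ← hF, ← hF] at this
        omega) le_rfl)⟩
    · exact ⟨Or.inr h1, Or.inl h2⟩
    · exact ⟨Or.inl h2, Or.inr h1⟩

end Groth.Agent.FF
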