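import Groth.Agent.FF.Linear
import Groth.Prelude.Def_W4bk4goldsch45

/-! Finite constant field: effective divisors, class group. -/

set_option autoImplicit false
set_option linter.style.haveILetI false
set_option linter.unusedSectionVars false

open FunFld WithZero Polynomial

namespace Groth.Agent.FF.Zeta

variable {k K : Type*} [Field k] [Field K] [Algebra k K]

lemma finite_polys [Finite k] (n : ℕ) : {f : k[X] | f.natDegree ≤ n}.Finite := by
  refine (Set.finite_range fun c : Fin (n + 1) → k => ∑ i : Fin (n + 1), C (c i) * X ^ (i : ℕ)).subset ?_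
  intro f hf
  refine ⟨fun i => f.coeff i, ?_⟩
  show (∑ i : Fin (n + 1), C (f.coeff i) * X ^ (i : ℕ)) = f
  rw [Fin.sum_univ_eq_sum_range (fun i => C (f.coeff i) * X ^ i)]
  simp only [Polynomial.C_mul_X_pow_eq_monomial]
  exact (Polynomial.as_sum_range' f (n + 1) (Nat.lt_succ_of_le hf)).symm

lemma degHom_apply (D : Divisor k K) : degHom k K D = D.deg := rfl

section

variable [Finite k]

lemma finite_deg_le (hK : IsFF k K) (n : ℕ) : {P : Place k K | P.deg ≤ n}.Finite := by
  classical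
  obtain ⟨x, hx, hfin⟩ := id hK
  refine ((finite_poles hK x).union ((finite_polys (k := k) n).biUnion fun f _ =>
    finite_support_ord hK (Polynomial.aeval x f))).subset fun P hP => ?_
  by_cases hPx : 1 < P.1 x
  · exact Or.inl hPx
  refine Or.inr (Set.mem_iUnion₂.2 ?_)
  haveI := finiteDimensional_residueField hK P
  set xb := resHom P ⟨x, (mem_O P).2 (not_lt.1 hPx)⟩ with hxb
  haveI : Algebra.IsIntegral k (IsLocalRing.ResidueField P.O) :=
    @Algebra.IsIntegral.of_finite k _ _ _ _ (finiteDimensional_residueField hK P)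
  have hi : IsIntegral k xb := Algebra.IsIntegral.isIntegral xb
  refine ⟨minpoly k xb, ?_, ?_⟩
  · show (minpoly k xb).natDegree ≤ n
    refine le_trans ?_ (hP : P.deg ≤ n)
    letI : Module k (IsLocalRing.ResidueField P.O) := Algebra.toModule
    haveI : Module.Finite k (IsLocalRing.ResidueField P.O) := finiteDimensional_residueField hK P
    exact minpoly.natDegree_le xb
  · have h0 : resHom P (Polynomial.aeval (⟨x, (mem_O P).2 (not_lt.1 hPx)⟩ : P.O) (minpoly k xb)) = 0 := by
      rw [← Polynomial.aeval_algHom_apply, ← hxb, minpoly.aeval]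
    rw [resHom_eq_zero_iff] at h0
    have hne : Polynomial.aeval x (minpoly k xb) ≠ 0 := fun h => hx ⟨_, minpoly.ne_zero hi, h⟩
    have hco : ((Polynomial.aeval (⟨x, (mem_O P).2 (not_lt.1 hPx)⟩ : P.O) (minpoly k xb) : P.O) : K) =
        Polynomial.aeval x (minpoly k xb) := by
      let f : P.O →ₐ[k] K := { P.O.subtype with commutes' := fun _ => rfl }
      exact (Polynomial.aeval_algHom_apply f _ _).symm
    rw [hco] at h0
    exact ((val_lt_one_iff P hne).1 h0).ne'

lemma single_coeff_le {D : Divisor k K} (hD : 0 ≤ D) (P : Place k K) :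
    D P * P.deg ≤ D.deg := by
  classical
  rw [← deg_single P (D P)]
  refine deg_mono fun Q => ?_
  rw [Finsupp.single_apply]
  split_ifs with e
  · rw [e]
  · exact hD Q

lemma finite_effDiv (hK : IsFF k K) (n : ℕ) : Finite {D : Divisor k K // 0 ≤ D ∧ D.deg = n} := by
  classical
  have hfin := finite_deg_le hK n
  haveI := hfin.to_subtype
  let f : {D : Divisor k K // 0 ≤ D ∧ D.deg = n} → ({P : Place k K | P.deg ≤ n} → Fin (n + 1)) :=
    fun D P => ⟨min (D.1 P.1).toNat n, by omega⟩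
  refine Finite.of_injective f ?_
  rintro ⟨D, hD, hd⟩ ⟨E, hE, he⟩ h
  refine Subtype.ext (Finsupp.ext fun P => ?_)
  have bound : ∀ {D : Divisor k K}, 0 ≤ D → D.deg = n → (D P ≠ 0 → P.deg ≤ n) ∧ D P ≤ n := by
    intro D hD hd
    have h1 := single_coeff_le hD P
    have h2 := hD P
    have hp : (1 : ℤ) ≤ P.deg := by exact_mod_cast deg_pos hK P
    simp only [Finsupp.coe_zero, Pi.zero_apply] at h2
    constructor
    · intro hne
      have : (P.deg : ℤ) ≤ D P * P.deg := le_mul_of_one_le_left (by omega) (by omega)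
      omega
    · have : D P ≤ D P * P.deg := le_mul_of_one_le_right h2 hp
      omega
  obtain ⟨b1, b2⟩ := bound hD hd
  obtain ⟨c1, c2⟩ := bound hE he
  by_cases hPn : P.deg ≤ n
  · have h3 := congrArg Fin.val (congrFun h ⟨P, hPn⟩)
    have h4 := hD P; have h5 := hE P
    simp only [Finsupp.coe_zero, Pi.zero_apply, f] at h3 h4 h5
    show D P = E P
    omega
  · show D P = E P
    by_contra hne
    rcases ne_or_eq (D P) 0 with h0 | h0
    · exact hPn (b1 h0)
    · exact hPn (c1 (fun e => hne (h0.trans e.symm)))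

end

variable (hK : IsFunctionField k K)

include hK

lemma mem_prinDivs_iff (D : Divisor k K) : D ∈ prinDivs k K ↔ ∃ z : K, z ≠ 0 ∧ D = FunFld.div k z := by
  have h1 : FunFld.div k (1 : K) = 0 := by simpa using div_const hK.1 (1 : k)
  constructor
  · intro hD
    induction hD using AddSubgroup.closure_induction with
    | mem x hx =>
      obtain ⟨z, rfl⟩ := hx
      rcases eq_or_ne z 0 with rfl | hz
      · refine ⟨1, one_ne_zero, ?_⟩
        rw [h1]; ext P; simp [div_apply hK.1]
      · exact ⟨z, hz, rfl⟩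
    | zero => exact ⟨1, one_ne_zero, h1.symm⟩
    | add x y _ _ hx hy =>
      obtain ⟨a, ha, rfl⟩ := hx
      obtain ⟨b, hb, rfl⟩ := hy
      exact ⟨a * b, mul_ne_zero ha hb, (div_mul hK.1 ha hb).symm⟩
    | neg x _ hx =>
      obtain ⟨a, ha, rfl⟩ := hx
      exact ⟨a⁻¹, inv_ne_zero ha, (div_inv hK.1 a).symm⟩
  · rintro ⟨z, -, rfl⟩
    exact AddSubgroup.subset_closure ⟨z, rfl⟩

omit hK in
/-- The group of degree zero classes. -/
noncomputable abbrev Cl0 (k K : Type*) [Field k] [Field K] [Algebra k K] : Type _ :=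
  (degHom k K).ker ⧸ (prinDivs k K).addSubgroupOf (degHom k K).ker

omit hK in
/-- A representative of a class. -/
noncomputable def rep (c : Cl0 k K) : Divisor k K := (Quotient.out c : (degHom k K).ker)

omit hK in
lemma deg_rep (c : Cl0 k K) : (rep c).deg = 0 := (Quotient.out c : (degHom k K).ker).2

omit hK in
/-- The class of a divisor of degree zero. -/
noncomputable def cls (D : Divisor k K) (h : D.deg = 0) : Cl0 k K :=
  QuotientAddGroup.mk (⟨D, h⟩ : (degHom k K).ker)

lemma cls_eq_iff {D E : Divisor k K} (hD : D.deg = 0) (hE : E.deg = 0) :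
    cls D hD = cls E hE ↔ ∃ z : K, z ≠ 0 ∧ E = D + FunFld.div k z := by
  rw [cls, cls, QuotientAddGroup.eq, AddSubgroup.mem_addSubgroupOf]
  show -D + E ∈ prinDivs k K ↔ _
  rw [mem_prinDivs_iff hK]
  refine exists_congr fun z => and_congr_right fun _ => ?_
  rw [neg_add_eq_iff_eq_add]

omit hK in
lemma cls_rep (c : Cl0 k K) : cls (rep c) (deg_rep c) = c := Quotient.out_eq c

lemma exists_of_cls_eq {D : Divisor k K} (hD : D.deg = 0) {c : Cl0 k K} (h : cls D hD = c) :
    ∃ z : K, z ≠ 0 ∧ rep c = D + FunFld.div k z := by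
  refine (cls_eq_iff hK hD (deg_rep c)).1 ?_
  rw [h, cls_rep]

lemma ell_eq_of_cls_eq (D₀ : Divisor k K) {D : Divisor k K} (hD : D.deg = 0) {c : Cl0 k K}
    (h : cls D hD = c) : ell (D₀ + rep c) = ell (D₀ + D) := by
  obtain ⟨z, hz, he⟩ := exists_of_cls_eq hK hD h
  rw [he, ← add_assoc, ell_add_div hK hz]

variable [Finite k]

lemma finite_cl0 : Finite (Cl0 k K) := by
  obtain ⟨P⟩ := nonempty_place hK.1
  set g := genus k K
  set m : ℕ := g * P.deg
  haveI := finite_effDiv hK.1 m
  have hdeg : ∀ G : Divisor k K, G.deg = m → (G - Finsupp.single P (g : ℤ)).deg = 0 := fun G hG => by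
    rw [deg_sub, deg_single, hG]; simp [m]
  let f : {D : Divisor k K // 0 ≤ D ∧ D.deg = m} → Cl0 k K := fun G => cls _ (hdeg G.1 G.2.2)
  refine Finite.of_surjective f fun c => ?_
  have hd : Divisor.deg (Finsupp.single P (g : ℤ) + rep c) = m := by
    rw [deg_add, deg_single, deg_rep]; simp [m]
  have hpos : 0 < ell (Finsupp.single P (g : ℤ) + rep c) := by
    have h1 := spec_le_genus hK (Finsupp.single P (g : ℤ) + rep c)
    rw [spec, hd] at h1
    have h2 : (g : ℤ) ≤ m := by exact_mod_cast Nat.le_mul_of_pos_right g (deg_pos hK.1 P)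
    omega
  obtain ⟨z, hz, hnn⟩ := exists_nonneg_equiv hK hpos
  refine ⟨⟨_, hnn, by rw [deg_add, hd, deg_div hK.1, add_zero]⟩, ?_⟩
  refine (Eq.trans ?_ (cls_rep c))
  refine (cls_eq_iff hK (hdeg _ (by rw [deg_add, hd, deg_div hK.1, add_zero])) (deg_rep c)).2
    ⟨z⁻¹, inv_ne_zero hz, ?_⟩
  rw [div_inv hK.1]; ext R; simp only [Finsupp.add_apply, Finsupp.sub_apply, Finsupp.neg_apply]; ring

/-- Effective divisors linearly equivalent to `D`. -/
lemma card_linear_system (D : Divisor k K) :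
    ((Nat.card k : ℤ) - 1) * (Nat.card {G : Divisor k K // 0 ≤ G ∧ ∃ z : K, z ≠ 0 ∧ G = D + FunFld.div k z}) =
      (Nat.card k : ℤ) ^ ell D - 1 := by
  classical
  haveI := finiteDimensional_L hK.1 D
  haveI : Finite (L D) := Module.finite_of_finite k
  set F := {G : Divisor k K // 0 ≤ G ∧ ∃ z : K, z ≠ 0 ∧ G = D + FunFld.div k z}
  choose zf hzf using fun G : F => G.2.2
  let φ : F × kˣ → {z : L D // z ≠ 0} := fun p =>
    ⟨⟨(p.2 : k) • zf p.1, (L D).smul_mem _ ((mem_L_iff hK.1 (hzf p.1).1).2 ((hzf p.1).2 ▸ p.1.2.1))⟩,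
      fun e => (smul_ne_zero p.2.ne_zero (hzf p.1).1) (congrArg Subtype.val e)⟩
  have hdiv : ∀ p : F × kˣ, D + FunFld.div k (((φ p).1 : L D) : K) = (p.1 : Divisor k K) := fun p => by
    show D + FunFld.div k ((p.2 : k) • zf p.1) = _
    rw [Algebra.smul_def, div_mul hK.1 (by simp) (hzf p.1).1, div_const hK.1, zero_add]
    exact (hzf p.1).2.symm
  have hbij : Function.Bijective φ := by
    constructor
    · intro p p' h
      have h1 : p.1 = p'.1 := Subtype.ext (by rw [← hdiv p, ← hdiv p', h])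
      refine Prod.ext h1 (Units.ext ?_)
      have h2 : (p.2 : k) • zf p.1 = (p'.2 : k) • zf p'.1 := congrArg (fun z => ((z.1 : L D) : K)) h
      rw [← h1] at h2
      exact smul_left_injective k (hzf p.1).1 h2
    · rintro ⟨⟨z, hz⟩, hz0⟩
      have hzne : z ≠ 0 := fun e => hz0 (Subtype.ext e)
      let G : F := ⟨D + FunFld.div k z, (mem_L_iff hK.1 hzne).1 hz, z, hzne, rfl⟩
      have hd : FunFld.div k (z * (zf G)⁻¹) = 0 := by
        rw [div_mul hK.1 hzne (inv_ne_zero (hzf G).1), div_inv hK.1,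
          ← add_left_cancel (G := Divisor k K) ((hzf G).2 : D + FunFld.div k z = _), add_neg_cancel]
      have hmem : z * (zf G)⁻¹ ∈ L (0 : Divisor k K) :=
        (mem_L_iff hK.1 (mul_ne_zero hzne (inv_ne_zero (hzf G).1))).2 (by rw [hd, add_zero])
      rw [L_zero hK, Submodule.mem_one] at hmem
      obtain ⟨c, hc⟩ := hmem
      have hc0 : c ≠ 0 := fun e => by
        rw [e, map_zero] at hc
        exact mul_ne_zero hzne (inv_ne_zero (hzf G).1) hc.symm
      refine ⟨(G, Units.mk0 c hc0), Subtype.ext (Subtype.ext ?_)⟩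
      show (c : k) • zf G = z
      rw [Algebra.smul_def, hc, inv_mul_cancel_right₀ (hzf G).1]
  have h1 := Nat.card_eq_of_bijective φ hbij
  rw [Nat.card_prod, Nat.card_units] at h1
  have h2 : Nat.card {z : L D // z ≠ 0} + 1 = Nat.card (L D) := by
    rw [Nat.card_congr (Equiv.optionSubtypeNe (0 : L D)).symm, Finite.card_option]
  rw [Module.natCard_eq_pow_finrank (K := k) (V := L D)] at h2
  have hq : 1 ≤ Nat.card k := Nat.one_le_iff_ne_zero.2 Nat.card_pos.ne'
  have h3 : ((Nat.card {z : L D // z ≠ 0} : ℤ)) = (Nat.card k : ℤ) ^ ell D - 1 := by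
    rw [eq_sub_iff_add_eq]; exact_mod_cast h2
  rw [← h3, ← h1, Nat.cast_mul, Nat.cast_sub hq]
  push_cast; ring

/-- The count in terms of classes. -/
lemma card_effDiv_eq [Fintype (Cl0 k K)] {n : ℕ} (D₀ : Divisor k K) (hD₀ : D₀.deg = n) :
    ((Nat.card k : ℤ) - 1) * effDivCount k K n =
      ∑ c : Cl0 k K, ((Nat.card k : ℤ) ^ ell (D₀ + rep c) - 1) := by
  classical
  haveI := finite_effDiv hK.1 n
  haveI := Fintype.ofFinite {D : Divisor k K // 0 ≤ D ∧ D.deg = n}
  let f : {D : Divisor k K // 0 ≤ D ∧ D.deg = n} → Cl0 k K := fun G =>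
    cls (G.1 - D₀) (by rw [deg_sub, G.2.2, hD₀, sub_self])
  rw [effDivCount, ← Nat.card_congr (Equiv.sigmaFiberEquiv f), Nat.card_sigma, Nat.cast_sum,
    Finset.mul_sum]
  refine Finset.sum_congr rfl fun c _ => ?_
  rw [← card_linear_system hK (D₀ + rep c)]
  congr 2
  refine Nat.card_congr
    { toFun := fun G => ⟨G.1.1, G.1.2.1, by
        obtain ⟨z, hz, he⟩ := exists_of_cls_eq hK _ G.2
        exact ⟨z⁻¹, inv_ne_zero hz, by rw [he, div_inv hK.1]; abel⟩⟩
      invFun := fun G => ⟨⟨G.1, G.2.1, by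
          obtain ⟨z, _, he⟩ := G.2.2
          rw [he, deg_add, deg_add, deg_rep, hD₀, deg_div hK.1]; ring⟩, by
        obtain ⟨z, hz, he⟩ := G.2.2
        refine Eq.trans ?_ (cls_rep c)
        refine (cls_eq_iff hK _ (deg_rep c)).2 ⟨z⁻¹, inv_ne_zero hz, ?_⟩
        rw [he, div_inv hK.1]; abel⟩
      left_inv := fun G => Subtype.ext (Subtype.ext rfl)
      right_inv := fun G => Subtype.ext rfl }

end Groth.Agent.FF.Zeta
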