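import Groth.Agent.FF.ConstExtBuild

/-! The numerator of the zeta function. -/

set_option autoImplicit false
set_option linter.style.haveILetI false
set_option linter.unusedSectionVars false

open FunFld WithZero Polynomial

namespace Groth.Agent.FF.Zeta

variable {k K : Type*} [Field k] [Finite k] [Field K] [Algebra k K] (hK : IsFunctionField k K)

include hK

lemma exists_numer : ∃ p : ℤ[X], (p : PowerSeries ℤ) = numerZ k K ∧ p.eval 1 = (classNum k K : ℤ) := by
  obtain ⟨D, hD⟩ := period_eq_one hK
  obtain ⟨p, hp, hpe⟩ := exists_poly_period hK one_pos (D₁ := D) (by rw [hD]; rfl)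
  simp only [pow_one, one_mul] at hp hpe
  refine ⟨p, hp, ?_⟩
  have := card_ge_two k
  exact mul_left_cancel₀ (show (Nat.card k : ℤ) - 1 ≠ 0 by omega) (by rw [hpe]; ring)

lemma numer_eval_one {p : ℤ[X]} (hp : (p : PowerSeries ℤ) = numerZ k K) :
    p.eval 1 = (classNum k K : ℤ) := by
  obtain ⟨p₀, h₀, he⟩ := exists_numer hK
  rw [Polynomial.coe_injective ℤ (hp.trans h₀.symm), he]

/-- `(q-1) L_i`, all integers `i`. -/
noncomputable def Lc (k K : Type*) [Field k] [Field K] [Algebra k K] (i : ℤ) : ℚ :=
  genA k K i - ((Nat.card k : ℚ) + 1) * genA k K (i - 1) + (Nat.card k : ℚ) * genA k K (i - 2)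

omit hK in
lemma Lc_neg {i : ℤ} (hi : i < 0) : Lc k K i = 0 := by
  simp only [Lc, genA, if_neg (not_le.2 hi), if_neg (show ¬ 0 ≤ i - 1 by omega),
    if_neg (show ¬ 0 ≤ i - 2 by omega)]
  push_cast; ring

omit hK in
lemma Lc_nat (i : ℕ) :
    Lc k K i = ((Nat.card k : ℚ) - 1) * ((PowerSeries.coeff i (numerZ k K) : ℤ) : ℚ) := by
  have h := congrArg (Int.cast : ℤ → ℚ) (coeff_numerZ_mul (k := k) (K := K) i)
  push_cast at h
  rw [h, Lc]

lemma Lc_reflect (i : ℤ) :
    Lc k K (2 * genus k K - i) = (Nat.card k : ℚ) ^ ((genus k K : ℤ) - i) * Lc k K i := by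
  have hs := deg_surjective hK
  have hq : (Nat.card k : ℚ) ≠ 0 := by exact_mod_cast Nat.card_pos.ne'
  simp only [Lc]
  rw [genA_reflect hK hs (2 * genus k K - i), genA_reflect hK hs (2 * genus k K - i - 1),
    genA_reflect hK hs (2 * genus k K - i - 2)]
  rw [show (2 * (genus k K : ℤ) - 2 - (2 * genus k K - i)) = i - 2 by ring,
    show (2 * (genus k K : ℤ) - 2 - (2 * genus k K - i - 1)) = i - 1 by ring,
    show (2 * (genus k K : ℤ) - 2 - (2 * genus k K - i - 2)) = i by ring,
    show (2 * (genus k K : ℤ) - i + 1 - genus k K) = ((genus k K : ℤ) - i) + 1 by ring,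
    show (2 * (genus k K : ℤ) - i - 1 + 1 - genus k K) = ((genus k K : ℤ) - i) by ring,
    show (2 * (genus k K : ℤ) - i - 2 + 1 - genus k K) = ((genus k K : ℤ) - i) - 1 by ring,
    zpow_add_one₀ hq, zpow_sub_one₀ hq]
  field_simp
  ring

lemma coeff_numer_zero : PowerSeries.coeff 0 (numerZ k K) = 1 := by
  have h1 : PowerSeries.constantCoeff (zetaZ k K) = 1 := by
    rw [← PowerSeries.coeff_zero_eq_constantCoeff_apply, zetaZ, PowerSeries.coeff_mk, effDivCount_zero hK]
    rfl
  rw [PowerSeries.coeff_zero_eq_constantCoeff_apply, numerZ, map_mul, map_mul, h1]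
  simp

omit hK in
lemma qsub_ne (k : Type*) [Field k] [Finite k] : (Nat.card k : ℚ) - 1 ≠ 0 := by
  have h := card_ge_two k
  have : (2 : ℚ) ≤ (Nat.card k : ℚ) := by exact_mod_cast h
  linarith

lemma coeff_reflect {i : ℕ} (hi : i ≤ 2 * genus k K) :
    ((PowerSeries.coeff (2 * genus k K - i) (numerZ k K) : ℤ) : ℚ) =
      (Nat.card k : ℚ) ^ ((genus k K : ℤ) - i) * ((PowerSeries.coeff i (numerZ k K) : ℤ) : ℚ) := by
  have h := Lc_reflect hK (i : ℤ)
  rw [show (2 * (genus k K : ℤ) - i) = ((2 * genus k K - i : ℕ) : ℤ) by omega, Lc_nat, Lc_nat] at h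
  refine mul_left_cancel₀ (qsub_ne k) ?_
  rw [h]; ring

lemma coeff_vanish {n : ℕ} (hn : 2 * genus k K < n) : PowerSeries.coeff n (numerZ k K) = 0 := by
  have h := Lc_reflect hK (2 * genus k K - n : ℤ)
  rw [Lc_neg (show (2 * (genus k K : ℤ) - n) < 0 by omega), mul_zero, sub_sub_cancel, Lc_nat] at h
  rcases mul_eq_zero.1 h with h1 | h1
  · exact absurd h1 (qsub_ne k)
  · exact_mod_cast h1

lemma coeff_top : PowerSeries.coeff (2 * genus k K) (numerZ k K) = (Nat.card k : ℤ) ^ genus k K := by
  have h := coeff_reflect hK (i := 0) (Nat.zero_le _)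
  rw [Nat.sub_zero, coeff_numer_zero hK, Int.cast_one, mul_one, Nat.cast_zero, sub_zero, zpow_natCast] at h
  exact_mod_cast h

/-- `N_j = 1 + q^j - ∑ α^j` for a factorisation of the numerator. -/
lemma ptCount_eq (α : Fin (2 * genus k K) → ℂ)
    (hα : PowerSeries.map (Int.castRingHom ℂ) (numerZ k K) =
      ((∏ i, (1 - Polynomial.C (α i) * Polynomial.X) : Polynomial ℂ) : PowerSeries ℂ))
    {j : ℕ} (hj : 1 ≤ j) :
    (ptCount k K j : ℂ) = 1 + (Nat.card k : ℂ) ^ j - ∑ i, α i ^ j := by
  classical
  have h1 : LogRec (PowerSeries.map (Int.castRingHom ℂ) (numerZ k K))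
      (((fun j => -(1 : ℂ) ^ j) + fun j => -((Nat.card k : ℂ)) ^ j) + fun j => ((ptCount k K j : ℤ) : ℂ)) := by
    rw [numerZ, map_mul, map_mul]
    refine LogRec.mul (LogRec.mul ?_ ?_) ((logRec_zetaZ hK).map (Int.castRingHom ℂ))
    · have := LogRec.linear (1 : ℂ)
      simpa using this
    · have := LogRec.linear ((Nat.card k : ℂ))
      simpa using this
  have h2 : LogRec (PowerSeries.map (Int.castRingHom ℂ) (numerZ k K)) (∑ i, fun j => -(α i) ^ j) := by
    rw [hα, ← Polynomial.coeToPowerSeries.ringHom_apply, map_prod]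
    refine LogRec.prod _ _ _ fun i _ => ?_
    simpa [Polynomial.coeToPowerSeries.ringHom_apply] using LogRec.linear (α i)
  have h0 : PowerSeries.constantCoeff (PowerSeries.map (Int.castRingHom ℂ) (numerZ k K)) = 1 := by
    rw [← PowerSeries.coeff_zero_eq_constantCoeff_apply, PowerSeries.coeff_map, coeff_numer_zero hK, map_one]
  have h := LogRec.unique_log h1 h2 h0 hj
  simp only [Pi.add_apply, Finset.sum_apply, Finset.sum_neg_distrib, one_pow, Int.cast_natCast] at h
  linear_combination h

omit hK [Finite k] in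
lemma exists_pairing {q : ℂ} (hq : q ≠ 0) : ∀ (g : ℕ) (s : Multiset ℂ), Multiset.card s = 2 * g →
    (∀ a ∈ s, a ≠ 0) → s.map (fun a => q / a) = s → s.prod = q ^ g →
    ∃ β : Fin g → ℂ, s = (Finset.univ.val.map β) + (Finset.univ.val.map fun i => q / β i) := by
  intro g
  induction g with
  | zero =>
    intro s hc _ _ _
    exact ⟨Fin.elim0, by simpa using Multiset.card_eq_zero.1 hc⟩
  | succ g ih =>
    intro s hc h0 hmap hprod
    classical
    obtain ⟨a, ha, hb⟩ : ∃ a ∈ s, q / a ∈ s.erase a := by
      by_contra! hno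
      -- then every element is its own partner and occurs once
      have hself : ∀ a ∈ s, q / a = a := fun a ha => by
        by_contra hne
        refine hno a ha ((Multiset.mem_erase_of_ne hne).2 ?_)
        rw [← hmap]
        exact Multiset.mem_map.2 ⟨a, ha, rfl⟩
      have hnd : ∀ a ∈ s, a ∉ s.erase a := fun a ha h => hno a ha (by rwa [hself a ha])
      obtain ⟨a, ha⟩ := Multiset.card_pos_iff_exists_mem.1 (show 0 < Multiset.card s by omega)
      have hsq : ∀ b ∈ s, b * b = q := fun b hb => by
        have := hself b hb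
        rw [div_eq_iff (h0 b hb)] at this
        exact this.symm
      have hrest : ∀ b ∈ s.erase a, b = -a := fun b hb => by
        have hb' := Multiset.mem_of_mem_erase hb
        rcases mul_self_eq_mul_self_iff.1 ((hsq b hb').trans (hsq a ha).symm) with e | e
        · exact absurd (e ▸ hb) (hnd a ha)
        · exact e
      have hrep := Multiset.eq_replicate_card.2 hrest
      have hc2 : Multiset.card (s.erase a) = 2 * g + 1 := by
        rw [Multiset.card_erase_of_mem ha, hc, Nat.pred_eq_sub_one]; omega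
      rw [hc2] at hrep
      rcases Nat.eq_zero_or_pos g with rfl | hg
      · rw [← Multiset.cons_erase ha, hrep] at hprod
        simp only [Nat.mul_zero, zero_add, Multiset.replicate_one, Multiset.prod_cons,
          Multiset.prod_singleton, pow_one, mul_neg, hsq a ha] at hprod
        exact hq (by linear_combination (-1 / 2 : ℂ) * hprod)
      · have hmem : -a ∈ s.erase a := by
          rw [hrep]; exact Multiset.mem_replicate.2 ⟨by omega, rfl⟩
        refine hnd (-a) (Multiset.mem_of_mem_erase hmem) ?_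
        rw [← Multiset.count_pos, Multiset.count_erase_self]
        have h2 : Multiset.count (-a) (s.erase a) ≤ Multiset.count (-a) s :=
          Multiset.count_le_of_le _ (Multiset.erase_le _ _)
        rw [hrep, Multiset.count_replicate_self] at h2
        omega
    set t := (s.erase a).erase (q / a) with ht
    have hst : s = a ::ₘ (q / a) ::ₘ t := by
      rw [ht, Multiset.cons_erase hb, Multiset.cons_erase ha]
    have hinv : q / (q / a) = a := by field_simp
    obtain ⟨β, hβ⟩ := ih t (by rw [hst] at hc; simp at hc; omega)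
      (fun x hx => h0 x (hst ▸ Multiset.mem_cons_of_mem (Multiset.mem_cons_of_mem hx)))
      (by
        rw [hst, Multiset.map_cons, Multiset.map_cons, hinv, Multiset.cons_swap] at hmap
        exact (Multiset.cons_inj_right _).1 ((Multiset.cons_inj_right _).1 hmap))
      (by
        rw [hst, Multiset.prod_cons, Multiset.prod_cons, ← mul_assoc, mul_div_cancel₀ _ (h0 a ha), pow_succ',
          mul_right_inj' hq] at hprod
        exact hprod)
    refine ⟨Fin.cons a β, ?_⟩
    rw [hst, hβ]
    simp [Fin.univ_succ, Multiset.map_map, Function.comp_def, Multiset.cons_swap]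
    exact List.perm_middle.symm

lemma exists_roots :
    ∃ α : Fin (2 * genus k K) → ℂ, (∀ i, IsIntegral ℤ (α i)) ∧
      PowerSeries.map (Int.castRingHom ℂ) (numerZ k K) =
        ((∏ i, (1 - Polynomial.C (α i) * Polynomial.X) : Polynomial ℂ) : PowerSeries ℂ) ∧
      ∀ i, α i * α (Fin.rev i) = (Nat.card k : ℂ) := by
  classical
  obtain ⟨p, hp, -⟩ := exists_numer hK
  set g := genus k K
  set q : ℂ := (Nat.card k : ℂ)
  have hq : q ≠ 0 := by simp only [q]; exact_mod_cast Nat.card_pos.ne'
  set T : ℂ[X] := (p.reflect (2 * g)).map (Int.castRingHom ℂ) with hT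
  have hcoeff : ∀ i, p.coeff i = PowerSeries.coeff i (numerZ k K) := fun i => by
    rw [← hp, Polynomial.coeff_coe]
  have hpd : p.natDegree ≤ 2 * g := Polynomial.natDegree_le_iff_coeff_eq_zero.2 fun n hn => by
    rw [hcoeff, coeff_vanish hK hn]
  have hp0 : p.coeff 0 = 1 := by rw [hcoeff, coeff_numer_zero hK]
  have htop : (p.reflect (2 * g)).coeff (2 * g) = 1 := by
    rw [Polynomial.coeff_reflect, Polynomial.revAt_le le_rfl, Nat.sub_self, hp0]
  have hdR : (p.reflect (2 * g)).natDegree ≤ 2 * g := by
    refine Polynomial.natDegree_le_iff_coeff_eq_zero.2 fun n hn => ?_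
    rw [Polynomial.coeff_reflect, show Polynomial.revAt (2 * g) n = n from if_neg (by omega),
      Polynomial.coeff_eq_zero_of_natDegree_lt (by omega)]
  have hmon : (p.reflect (2 * g)).Monic := Polynomial.monic_of_natDegree_le_of_coeff_eq_one _ hdR htop
  have hdegR : (p.reflect (2 * g)).natDegree = 2 * g :=
    le_antisymm hdR (Polynomial.le_natDegree_of_ne_zero (by rw [htop]; norm_num))
  set s := T.roots with hs
  have hTd : T.natDegree = 2 * g := by rw [hT, hmon.natDegree_map, hdegR]
  have hsplit : T = (s.map fun a => X - C a).prod := (IsAlgClosed.splits T).eq_prod_roots_of_monic (hmon.map _)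
  have hcard : Multiset.card s = 2 * g := by
    rw [hs, ← hTd]; exact (IsAlgClosed.splits T).natDegree_eq_card_roots.symm
  -- reciprocal form
  have hP : p.map (Int.castRingHom ℂ) = (s.map fun a => 1 - C a * X).prod := by
    have h1 : T.reflect (2 * g) = p.map (Int.castRingHom ℂ) := by
      rw [hT, ← Polynomial.reflect_map, Polynomial.reflect_reflect]
    rw [← h1, hsplit, ← hcard]
    clear_value s
    clear hsplit hcard hs h1
    induction s using Multiset.induction with
    | empty => simp
    | cons a s ih =>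
      have hd : (s.map fun a => X - C a).prod.natDegree ≤ Multiset.card s := by
        refine (Polynomial.natDegree_multiset_prod_le _).trans ?_
        simp [Multiset.map_map, Function.comp_def]
      rw [Multiset.map_cons, Multiset.prod_cons, Multiset.map_cons, Multiset.prod_cons, Multiset.card_cons,
        add_comm (Multiset.card s) 1,
        Polynomial.reflect_mul _ _ (by rw [Polynomial.natDegree_X_sub_C]) hd, ih]
      congr 1
      rw [Polynomial.reflect_sub, Polynomial.reflect_C, ← pow_one (X : ℂ[X]), ← one_mul ((X : ℂ[X]) ^ 1),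
        ← Polynomial.C_1, Polynomial.reflect_C_mul_X_pow, Polynomial.revAt_le le_rfl]
      simp
  have hne : ∀ a ∈ s, a ≠ 0 := by
    rintro a ha rfl
    rw [hs, Polynomial.mem_roots', Polynomial.IsRoot, ← Polynomial.coeff_zero_eq_eval_zero, hT,
      Polynomial.coeff_map, Polynomial.coeff_reflect, Polynomial.revAt_le (Nat.zero_le _), Nat.sub_zero,
      hcoeff, coeff_top hK] at ha
    exact hq (by simpa [q] using pow_eq_zero_iff'.1 (show (q : ℂ) ^ g = 0 by simpa [q] using ha.2) |>.1)
  -- symmetry
  have hsym : s.map (fun a => q / a) = s := by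
    have hfun : p.map (Int.castRingHom ℂ) = C (q ^ g)⁻¹ * T.comp (C q * X) := by
      ext i
      rw [Polynomial.coeff_map, Polynomial.coeff_C_mul, Polynomial.comp_C_mul_X_coeff, hT,
        Polynomial.coeff_map, Polynomial.coeff_reflect]
      by_cases hi : i ≤ 2 * g
      · rw [Polynomial.revAt_le hi, hcoeff, hcoeff]
        have h := congrArg (Rat.cast : ℚ → ℂ) (coeff_reflect hK hi)
        push_cast at h
        simp only [eq_intCast]
        rw [h, zpow_sub₀ hq, zpow_natCast, zpow_natCast]
        have hqg : q ^ g ≠ 0 := pow_ne_zero _ hq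
        have hqi : q ^ i ≠ 0 := pow_ne_zero _ hq
        field_simp
        rfl
      · rw [show Polynomial.revAt (2 * g) i = i from if_neg hi, hcoeff,
          coeff_vanish hK (by omega)]
        simp
    have h3 : (p.map (Int.castRingHom ℂ)).roots = s.map (fun a => q⁻¹ * a) := by
      rw [hfun, Polynomial.roots_C_mul _ (inv_ne_zero (pow_ne_zero _ hq)),
        show C q * X = C q * X + C 0 by rw [C_0, add_zero],
        Polynomial.roots_comp_C_mul_X_add_C T q 0 (Ne.isUnit hq)]
      simp [hs, Ring.inverse_eq_inv']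
    have h4 : (p.map (Int.castRingHom ℂ)).roots = s.map (fun a => a⁻¹) := by
      have hz : (0 : ℂ[X]) ∉ s.map fun a => 1 - C a * X := by
        intro h
        obtain ⟨a, -, ha⟩ := Multiset.mem_map.1 h
        have := congrArg (Polynomial.eval 0) ha
        simp at this
      rw [hP, Polynomial.roots_multiset_prod _ hz, Multiset.bind_map]
      rw [Multiset.bind_congr fun a ha => ?_, Multiset.bind_singleton]
      rw [show (1 : ℂ[X]) - C a * X = C (-a) * (X - C a⁻¹) by
          rw [mul_sub, ← C_mul, neg_mul, mul_inv_cancel₀ (hne a ha), C_neg, C_neg, C_1]; ring,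
        Polynomial.roots_C_mul _ (neg_ne_zero.2 (hne a ha)), Polynomial.roots_X_sub_C]
    have h5 := congrArg (Multiset.map fun a => q * a) (h4.symm.trans h3)
    simp only [Multiset.map_map, Function.comp_def, mul_inv_cancel_left₀ hq, Multiset.map_id'] at h5
    simpa [div_eq_mul_inv] using h5
  have hprod : s.prod = q ^ g := by
    have h1 : T.coeff 0 = (-1) ^ (2 * g) * s.prod := by
      have := Polynomial.Splits.coeff_zero_eq_prod_roots_of_monic (IsAlgClosed.splits T) (hmon.map _)
      rwa [hTd] at this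
    rw [hT, Polynomial.coeff_map, Polynomial.coeff_reflect, Polynomial.revAt_le (Nat.zero_le _), Nat.sub_zero,
      hcoeff, coeff_top hK, pow_mul, neg_one_sq, one_pow, one_mul] at h1
    rw [← h1]; simp [q, g]
  obtain ⟨β, hβ⟩ := exists_pairing hq g s hcard hne hsym hprod
  let e : Fin g ⊕ Fin g ≃ Fin (2 * g) :=
    ((Equiv.refl _).sumCongr Fin.revPerm).trans (finSumFinEquiv.trans (finCongr (by ring)))
  let α : Fin (2 * g) → ℂ := fun i => Sum.elim β (fun j => q / β j) (e.symm i)
  have hαs : Finset.univ.val.map α = s := by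
    rw [hβ, ← Finset.map_univ_equiv e, Finset.map_val, Multiset.map_map]
    simp [α, Function.comp_def, Finset.univ, Fintype.elems, Multiset.disjSum]
  refine ⟨α, fun i => ?_, ?_, fun i => ?_⟩
  · have hmem : α i ∈ s := hαs ▸ Multiset.mem_map_of_mem _ (Finset.mem_univ_val i)
    rw [hs, Polynomial.mem_roots', hT, Polynomial.IsRoot, Polynomial.eval_map] at hmem
    exact ⟨_, hmon, by simpa [algebraMap_int_eq] using hmem.2⟩
  · rw [← hp, ← Polynomial.polynomial_map_coe, hP, ← hαs, Multiset.map_map]
    rfl
  · obtain ⟨x, rfl⟩ := e.surjective i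
    have hrev : Fin.rev (e x) = e x.swap := by
      rcases x with j | j <;> ext <;> simp [e, Fin.val_rev] <;> omega
    simp only [α, hrev, Equiv.symm_apply_apply]
    have hb : ∀ j, β j ≠ 0 := fun j => hne _ (hβ ▸ Multiset.mem_add.2
      (Or.inl (Multiset.mem_map_of_mem _ (Finset.mem_univ_val j))))
    rcases x with j | j
    · exact mul_div_cancel₀ _ (hb j)
    · exact div_mul_cancel₀ _ (hb j)

end Groth.Agent.FF.Zeta

namespace Groth.Agent.FF.Zeta

variable {k K k' K' : Type*} [Field k] [Finite k] [Field K] [Algebra k K] [Field k'] [Finite k']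
  [Field K'] [Algebra k k'] [Algebra K K'] [Algebra k' K']

lemma ptCount_ext_eq (hK : IsFunctionField k K) (hce : IsConstExt k K k' K')
    (α : Fin (2 * genus k K) → ℂ)
    (hα : PowerSeries.map (Int.castRingHom ℂ) (numerZ k K) =
      ((∏ i, (1 - Polynomial.C (α i) * Polynomial.X) : Polynomial ℂ) : PowerSeries ℂ))
    {j : ℕ} (hj : 1 ≤ j) :
    (ptCount k' K' j : ℂ) = 1 + (Nat.card k' : ℂ) ^ j - ∑ i, (α i ^ Module.finrank k k') ^ j := by
  letI : Algebra k K' := ((algebraMap K K').comp (algebraMap k K)).toAlgebra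
  haveI : IsScalarTower k K K' := IsScalarTower.of_algebraMap_eq fun _ => rfl
  haveI : IsScalarTower k k' K' := IsScalarTower.of_algebraMap_eq fun c => hce.1 c
  haveI : Module.Finite k k' := Module.Finite.of_finite
  have hn : 0 < Module.finrank k k' := Module.finrank_pos
  rw [CE.ptCount_constExt hK hce hj, ptCount_eq hK α hα (Nat.mul_pos hn hj),
    Module.natCard_eq_pow_finrank (K := k) (V := k'), Nat.cast_pow, pow_mul]
  simp only [pow_mul]

lemma numer_constExt (hK : IsFunctionField k K) (hK' : IsFunctionField k' K')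
    (hce : IsConstExt k K k' K') (α : Fin (2 * genus k K) → ℂ)
    (hα : PowerSeries.map (Int.castRingHom ℂ) (numerZ k K) =
      ((∏ i, (1 - Polynomial.C (α i) * Polynomial.X) : Polynomial ℂ) : PowerSeries ℂ)) :
    PowerSeries.map (Int.castRingHom ℂ) (numerZ k' K') =
      ((∏ i, (1 - Polynomial.C (α i ^ Module.finrank k k') * Polynomial.X) : Polynomial ℂ) :
        PowerSeries ℂ) := by
  classical
  have h1 : LogRec (PowerSeries.map (Int.castRingHom ℂ) (numerZ k' K'))
      (((fun j => -(1 : ℂ) ^ j) + fun j => -((Nat.card k' : ℂ)) ^ j) + fun j => ((ptCount k' K' j : ℤ) : ℂ)) := by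
    rw [numerZ, map_mul, map_mul]
    refine LogRec.mul (LogRec.mul ?_ ?_) ((logRec_zetaZ hK').map (Int.castRingHom ℂ))
    · have := LogRec.linear (1 : ℂ)
      simpa using this
    · have := LogRec.linear ((Nat.card k' : ℂ))
      simpa using this
  have h2 : LogRec ((∏ i, (1 - Polynomial.C (α i ^ Module.finrank k k') * Polynomial.X) : Polynomial ℂ) :
      PowerSeries ℂ) (∑ i, fun j => -(α i ^ Module.finrank k k') ^ j) := by
    rw [← Polynomial.coeToPowerSeries.ringHom_apply, map_prod]
    refine LogRec.prod _ _ _ fun i _ => ?_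
    simpa [Polynomial.coeToPowerSeries.ringHom_apply] using LogRec.linear (α i ^ Module.finrank k k')
  refine LogRec.unique (LogRec.congr h1 fun j hj => ?_) h2 ?_
  · simp only [Pi.add_apply, Finset.sum_apply, Finset.sum_neg_distrib, one_pow, Int.cast_natCast,
      ptCount_ext_eq hK hce α hα hj]
    ring
  · rw [← PowerSeries.coeff_zero_eq_constantCoeff_apply, PowerSeries.coeff_map, coeff_numer_zero hK', map_one,
      ← PowerSeries.coeff_zero_eq_constantCoeff_apply, Polynomial.coeff_coe, Polynomial.coeff_zero_eq_eval_zero,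
      Polynomial.eval_prod]
    simp

lemma card_deg_one (hK' : IsFunctionField k' K') :
    Nat.card {P : Place k' K' // P.deg = 1} = ptCount k' K' 1 := by
  classical
  have hfin : {P : Place k' K' | P.deg ∣ 1}.Finite :=
    (finite_deg_le hK'.1 1).subset fun P hP => Nat.le_of_dvd one_pos hP
  rw [ptCount, finsum_mem_eq_finite_toFinset_sum _ hfin,
    Finset.sum_congr rfl (g := fun _ => 1) fun P hP => Nat.dvd_one.1 (hfin.mem_toFinset.1 hP),
    Finset.sum_const, smul_eq_mul, mul_one, ← Nat.card_eq_finsetCard]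
  exact Nat.card_congr (Equiv.subtypeEquivRight fun P => by simp)

lemma card_deg_one_ext (hK : IsFunctionField k K) (hK' : IsFunctionField k' K')
    (hce : IsConstExt k K k' K') (α : Fin (2 * genus k K) → ℂ)
    (hα : PowerSeries.map (Int.castRingHom ℂ) (numerZ k K) =
      ((∏ i, (1 - Polynomial.C (α i) * Polynomial.X) : Polynomial ℂ) : PowerSeries ℂ)) :
    (Nat.card {P : Place k' K' // P.deg = 1} : ℂ) =
      1 + (Nat.card k : ℂ) ^ Module.finrank k k' - ∑ i, α i ^ Module.finrank k k' := by
  haveI : Module.Finite k k' := Module.Finite.of_finite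
  rw [card_deg_one hK', ptCount_ext_eq hK hce α hα le_rfl,
    Module.natCard_eq_pow_finrank (K := k) (V := k')]
  simp

end Groth.Agent.FF.Zeta
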